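import Mathlib.RingTheory.MvPolynomial.Basic
import Mathlib.RingTheory.MvPolynomial.Homogeneous
import Mathlib.RingTheory.Polynomial.Basic
import Mathlib.RingTheory.Nakayama
import Mathlib.RingTheory.Valuation.ValuationRing
import Mathlib.RingTheory.Flat.TorsionFree
import Mathlib.RingTheory.LocalRing.Module
import Mathlib.RingTheory.LocalRing.ResidueField.Basic
import Mathlib.RingTheory.FinitePresentation
import Mathlib.Algebra.Module.FinitePresentation

/-!
# Saturated submodules of free modules over polynomial rings over valuation rings are finitely generated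

The proof: the submodules `N ∩ (degree ≤ d)` are finitely generated over the valuation ring (their
quotient is finite torsion free), their reductions form a submodule of the free module over the
homogenised polynomial ring of the residue field, so stabilise by Noetherianity, and Nakayama's lemma
lifts the generators.
-/

set_option autoImplicit false
set_option linter.style.haveILetI false

universe u

open MvPolynomial IsLocalRing

noncomputable section

namespace Groth.L09.Nagata

section Poly

variable {σ : Type} {K : Type u} [CommRing K]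

/-- Dehomogenisation. -/
def dehom : MvPolynomial (Option σ) K →ₐ[K] MvPolynomial σ K :=
  aeval fun o => o.elim 1 X

/-- Homogenisation in degree `d`. -/
def hom (d : ℕ) (p : MvPolynomial σ K) : MvPolynomial (Option σ) K :=
  ∑ m ∈ p.support,
    monomial (Finsupp.mapDomain some m + Finsupp.single none (d - m.degree)) (coeff m p)

theorem dehom_monomial (m : σ →₀ ℕ) (e : ℕ) (c : K) :
    dehom (monomial (Finsupp.mapDomain some m + Finsupp.single none e) c) = monomial m c := by
  classical
  rw [dehom, aeval_monomial, Finsupp.prod_add_index' (fun a => pow_zero _) (fun a b₁ b₂ => pow_add _ _ _),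
    Finsupp.prod_mapDomain_index_inj (Option.some_injective σ)]
  simp [monomial_eq, Finsupp.prod_single_index]

theorem dehom_hom (d : ℕ) (p : MvPolynomial σ K) : dehom (hom d p) = p := by
  rw [hom, map_sum]
  simp only [dehom_monomial]
  exact (as_sum p).symm

theorem isHomogeneous_hom {d : ℕ} {p : MvPolynomial σ K} (hp : p.totalDegree ≤ d) :
    (hom d p).IsHomogeneous d := by
  refine IsHomogeneous.sum _ _ _ fun m hm => isHomogeneous_monomial _ ?_
  have h1 : m.degree ≤ d := (le_totalDegree (p := p) hm).trans hp
  rw [map_add, Finsupp.degree_single, Finsupp.degree_mapDomain]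
  omega

theorem totalDegree_dehom {g : MvPolynomial (Option σ) K} {d : ℕ} (hg : g.IsHomogeneous d) :
    (dehom g).totalDegree ≤ d := by
  classical
  rw [as_sum g, map_sum]
  refine totalDegree_finsetSum_le fun s hs => ?_
  rw [dehom, aeval_monomial, algebraMap_eq]
  refine (totalDegree_mul _ _).trans ?_
  rw [totalDegree_C, zero_add, Finsupp.prod]
  refine (totalDegree_finset_prod _ _).trans ?_
  refine le_trans (Finset.sum_le_sum (g := fun o => s o) fun o _ => (totalDegree_pow _ _).trans ?_)
    (hg.degree_eq_sum_deg_support hs).ge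
  cases o
  · simp
  · exact le_of_le_of_eq (Nat.mul_le_mul_left _ ((totalDegree_monomial_le _ _).trans
      (by simp))) (mul_one _)

theorem homogeneousComponent_mul {τ : Type} {r g : MvPolynomial τ K} {d' : ℕ}
    (hg : g.IsHomogeneous d') (d : ℕ) :
    homogeneousComponent d (r * g) =
      if d' ≤ d then homogeneousComponent (d - d') r * g else 0 := by
  classical
  conv_lhs => rw [← sum_homogeneousComponent r, Finset.sum_mul, map_sum]
  simp_rw [homogeneousComponent_of_mem
    ((homogeneousComponent_isHomogeneous (_ : ℕ) r).mul hg)]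
  split_ifs with h
  · rw [Finset.sum_eq_single (d - d')]
    · rw [if_pos (by omega)]
    · intro b _ hb; rw [if_neg (by omega)]
    · intro hb
      rw [Finset.mem_range, Nat.not_lt, Nat.succ_le_iff] at hb
      rw [if_pos (by omega), homogeneousComponent_eq_zero _ _ hb, zero_mul]
  · exact Finset.sum_eq_zero fun b _ => if_neg (by omega)

end Poly

variable {V : Type u} [CommRing V] [IsDomain V] [ValuationRing V] {σ : Type} [Finite σ]
  {ι : Type} [Finite ι]

variable (V σ ι) in
/-- The free module. -/
abbrev Free' : Type u := ι → MvPolynomial σ V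

/-- Tuples of polynomials of total degree at most `d`. -/
def degLE (d : ℕ) : Submodule V (Free' V σ ι) :=
  LinearMap.range (LinearMap.pi fun i =>
    (restrictTotalDegree σ V d).subtype ∘ₗ LinearMap.proj i :
      (ι → restrictTotalDegree σ V d) →ₗ[V] Free' V σ ι)

theorem mem_degLE {d : ℕ} {f : Free' V σ ι} :
    f ∈ degLE d ↔ ∀ i, (f i).totalDegree ≤ d := by
  constructor
  · rintro ⟨g, rfl⟩ i
    exact (mem_restrictTotalDegree σ d _).mp (g i).2
  · exact fun h => ⟨fun i => ⟨f i, (mem_restrictTotalDegree σ d _).mpr (h i)⟩, rfl⟩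

theorem degLE_mono {d e : ℕ} (h : d ≤ e) : (degLE d : Submodule V (Free' V σ ι)) ≤ degLE e :=
  fun _ hf => mem_degLE.mpr fun i => (mem_degLE.mp hf i).trans h

instance (d : ℕ) : Module.Finite V (degLE d : Submodule V (Free' V σ ι)) :=
  Module.Finite.range _

variable (N : Submodule (MvPolynomial σ V) (Free' V σ ι))

/-- The degree pieces of `N`. -/
def piece (d : ℕ) : Submodule V (Free' V σ ι) := N.restrictScalars V ⊓ degLE d

theorem piece_fg (hN : ∀ (a : V) (f : Free' V σ ι), a ≠ 0 → a • f ∈ N → f ∈ N) (d : ℕ) :
    (piece N d).FG := by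
  let F : Submodule V (Free' V σ ι) := degLE d
  let K : Submodule V F := (N.restrictScalars V).comap F.subtype
  have htf : Submodule.torsion V (F ⧸ K) = ⊥ := by
    rw [eq_bot_iff]
    rintro x ⟨⟨a, ha⟩, hx⟩
    obtain ⟨f, rfl⟩ := Submodule.mkQ_surjective K x
    rw [Submodule.mem_bot]
    refine (Submodule.Quotient.mk_eq_zero K).mpr (hN a f (nonZeroDivisors.ne_zero ha) ?_)
    have h0 : K.mkQ ((a : V) • f) = 0 := by rw [map_smul]; exact hx
    exact (Submodule.Quotient.mk_eq_zero K).mp h0
  haveI : Module.Flat V (F ⧸ K) :=
    Module.Flat.flat_iff_torsion_eq_bot_of_isBezout.mpr htf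
  haveI : Module.Free V (F ⧸ K) := Module.free_of_flat_of_isLocalRing
  haveI : Module.FinitePresentation V (F ⧸ K) := Module.finitePresentation_of_projective V _
  have hK : K.FG := by
    have := Module.FinitePresentation.fg_ker K.mkQ (Submodule.mkQ_surjective K)
    rwa [Submodule.ker_mkQ] at this
  have : piece N d = K.map F.subtype := by
    rw [Submodule.map_comap_subtype, inf_comm]
    rfl
  rw [this]
  exact hK.map _

/-- Reduction to the residue field. -/
def red (f : Free' V σ ι) : ι → MvPolynomial σ (ResidueField V) :=
  fun i => MvPolynomial.map (residue V) (f i)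

theorem exists_smul_of_red_eq_zero {d : ℕ} {f : Free' V σ ι} (hf : f ∈ degLE d) (h : red f = 0) :
    ∃ a ∈ maximalIdeal V, ∃ h ∈ (degLE d : Submodule V (Free' V σ ι)), f = a • h := by
  classical
  let _ := Fintype.ofFinite ι
  let I : Ideal V := Ideal.span (⋃ i, ((fun m => coeff m (f i)) '' ((f i).support : Set _)))
  have hIfg : I.FG := Submodule.fg_span (Set.finite_iUnion fun i => (Finset.finite_toSet _).image _)
  have hI : I ≤ maximalIdeal V := by
    rw [Ideal.span_le]
    simp only [Set.iUnion_subset_iff, Set.image_subset_iff]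
    intro i m _
    have h1 := congrArg (coeff m) (congrFun h i)
    simp only [red, Pi.zero_apply, coeff_map, coeff_zero] at h1
    exact (residue_eq_zero_iff _).mp h1
  obtain ⟨a, ha⟩ := (IsBezout.isPrincipal_of_FG I hIfg).principal
  have haI : a ∈ I := ha ▸ Submodule.mem_span_singleton_self a
  have hdvd : ∀ i, C a ∣ f i := fun i => by
    rw [C_dvd_iff_dvd_coeff]
    intro m
    by_cases hm : m ∈ (f i).support
    · have : coeff m (f i) ∈ I := Ideal.subset_span (Set.mem_iUnion.mpr ⟨i, m, hm, rfl⟩)
      rw [ha] at this
      exact Ideal.mem_span_singleton.mp this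
    · simp [notMem_support_iff.mp hm]
  choose g hg using hdvd
  by_cases ha0 : a = 0
  · refine ⟨0, zero_mem _, 0, zero_mem _, ?_⟩
    ext i : 1
    simp [hg i, ha0]
  refine ⟨a, hI haI, g, mem_degLE.mpr fun i => ?_, funext fun i => ?_⟩
  · refine le_trans (le_of_eq ?_) (mem_degLE.mp hf i)
    unfold totalDegree
    congr 1
    ext m
    simp [mem_support_iff, hg i, ha0]
  · rw [hg i, Pi.smul_apply, smul_eq_C_mul]

theorem exists_lift {e : ℕ} {p : MvPolynomial σ (ResidueField V)} (hp : p.totalDegree ≤ e) :
    ∃ q : MvPolynomial σ V, q.totalDegree ≤ e ∧ MvPolynomial.map (residue V) q = p := by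
  classical
  choose c hc using fun m => residue_surjective (R := V) (coeff m p)
  refine ⟨∑ m ∈ p.support, monomial m (c m), totalDegree_finsetSum_le fun m hm => ?_, ?_⟩
  · exact (totalDegree_monomial_le _ _).trans ((le_totalDegree hm).trans hp)
  · rw [map_sum]
    simp only [map_monomial, hc]
    exact (as_sum p).symm

/-- The homogenised reductions in degree at most `D`. -/
def stage (D : ℕ) :
    Submodule (MvPolynomial (Option σ) (ResidueField V))
      (ι → MvPolynomial (Option σ) (ResidueField V)) :=
  Submodule.span _ {g | ∃ d ≤ D, (∀ i, (g i).IsHomogeneous d) ∧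
    ∃ f ∈ piece N d, red f = fun i => dehom (g i)}

/-- **Finite generation of saturated submodules** of free modules over polynomial rings over
valuation rings. -/
theorem fg_of_saturated (hN : ∀ (a : V) (f : Free' V σ ι), a ≠ 0 → a • f ∈ N → f ∈ N) :
    N.FG := by
  classical
  obtain ⟨D, hD⟩ := monotone_stabilizes_iff_noetherian.mpr
    (inferInstance : IsNoetherian (MvPolynomial (Option σ) (ResidueField V))
      (ι → MvPolynomial (Option σ) (ResidueField V)))
    ⟨stage N, fun a b hab => Submodule.span_mono fun g ⟨d, hd, h⟩ => ⟨d, hd.trans hab, h⟩⟩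
  let N' : Submodule (MvPolynomial σ V) (Free' V σ ι) := Submodule.span _ (piece N D : Set _)
  have hN'N : N' ≤ N := Submodule.span_le.mpr fun f hf => hf.1
  have key : ∀ x ∈ stage N D, ∀ (r : MvPolynomial (Option σ) (ResidueField V)) (d : ℕ),
      ∃ f, f ∈ N' ∧ f ∈ degLE d ∧
        red f = fun i => dehom (homogeneousComponent d (r * x i)) := by
    intro x hx
    induction hx using Submodule.span_induction with
    | mem g hg =>
      obtain ⟨d', hd', hgh, f, hf, hfg⟩ := hg
      intro r d
      by_cases h : d' ≤ d
      · obtain ⟨q, hq, hqp⟩ := exists_lift (V := V)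
          (totalDegree_dehom (homogeneousComponent_isHomogeneous (d - d') r))
        refine ⟨q • f, Submodule.smul_mem _ _ (Submodule.subset_span
          ⟨hf.1, degLE_mono hd' hf.2⟩), mem_degLE.mpr fun i => ?_, funext fun i => ?_⟩
        · refine (totalDegree_mul _ _).trans ?_
          have := mem_degLE.mp hf.2 i
          omega
        · rw [homogeneousComponent_mul (hgh i), if_pos h, map_mul, ← congrFun hfg i]
          simp [red, hqp]
      · refine ⟨0, zero_mem _, zero_mem _, funext fun i => ?_⟩
        rw [homogeneousComponent_mul (hgh i), if_neg h]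
        simp [red]
    | zero => intro r d; exact ⟨0, zero_mem _, zero_mem _, funext fun i => by simp [red]⟩
    | add x y _ _ hx hy =>
      intro r d
      obtain ⟨f, hf, hf', e⟩ := hx r d
      obtain ⟨g, hg, hg', e'⟩ := hy r d
      refine ⟨f + g, add_mem hf hg, add_mem hf' hg', funext fun i => ?_⟩
      rw [Pi.add_apply, mul_add, map_add, map_add, ← congrFun e i, ← congrFun e' i]
      simp [red]
    | smul a x _ hx =>
      intro r d
      obtain ⟨f, hf, hf', e⟩ := hx (r * a) d
      exact ⟨f, hf, hf', by rw [e]; simp [mul_assoc]⟩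
  have step : ∀ d, piece N d ≤ N'.restrictScalars V := by
    intro d
    refine Submodule.le_of_le_smul_of_le_jacobson_bot (I := maximalIdeal V) (piece_fg N hN d)
      (maximalIdeal_le_jacobson ⊥) fun f hf => ?_
    let g : ι → MvPolynomial (Option σ) (ResidueField V) := fun i => hom d (red f i)
    have hdeg : ∀ i, (red f i).totalDegree ≤ d := fun i =>
      (Finset.sup_mono (support_map_subset _ _)).trans (mem_degLE.mp hf.2 i)
    have hgh : ∀ i, (g i).IsHomogeneous d := fun i => isHomogeneous_hom (hdeg i)
    have hmem : g ∈ stage N D := by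
      have h1 : g ∈ stage N (max D d) := Submodule.subset_span ⟨d, le_max_right _ _,
        hgh, f, hf, funext fun i => (dehom_hom d _).symm⟩
      rwa [← show stage N D = stage N (max D d) from hD _ (le_max_left _ _)] at h1
    obtain ⟨f', hf', hf'd, e⟩ := key g hmem 1 d
    have hz : red (f - f') = 0 := funext fun i => by
      have h1 := congrFun e i
      rw [one_mul, homogeneousComponent_of_mem (hgh i), if_pos rfl, dehom_hom] at h1
      simp only [red, Pi.sub_apply, map_sub, Pi.zero_apply] at h1 ⊢
      rw [h1, sub_self]
    obtain ⟨a, ha, h, hh, hfh⟩ := exists_smul_of_red_eq_zero (sub_mem hf.2 hf'd) hz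
    have hfN : a • h ∈ N := hfh ▸ sub_mem hf.1 (hN'N hf')
    rw [show f = f' + a • h by rw [← hfh]; abel]
    refine add_mem (Submodule.mem_sup_left hf') ?_
    by_cases ha0 : a = 0
    · rw [ha0, zero_smul]; exact zero_mem _
    exact Submodule.mem_sup_right (Submodule.smul_mem_smul ha ⟨hN a h ha0 hfN, hh⟩)
  have heq : N = N' := by
    refine le_antisymm (fun f hf => ?_) hN'N
    let _ := Fintype.ofFinite ι
    exact step _ ⟨hf, mem_degLE.mpr fun i => Finset.le_sup (f := fun i => (f i).totalDegree) (Finset.mem_univ i)⟩
  rw [heq]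
  obtain ⟨s, hs⟩ := piece_fg N hN D
  refine ⟨s, le_antisymm (Submodule.span_mono ?_) (Submodule.span_le.mpr ?_)⟩
  · rw [← hs]; exact Submodule.subset_span
  · rw [← hs]; exact Submodule.span_subset_span V _ _

/-- A finite module over a polynomial ring over a valuation ring which is torsion free over the
valuation ring is finitely presented. -/
theorem finitePresentation_of_torsionFree {M : Type*} [AddCommGroup M] [Module V M]
    [Module (MvPolynomial σ V) M] [IsScalarTower V (MvPolynomial σ V) M]
    [Module.Finite (MvPolynomial σ V) M]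
    (h : ∀ (a : V) (m : M), a • m = 0 → a = 0 ∨ m = 0) :
    Module.FinitePresentation (MvPolynomial σ V) M := by
  obtain ⟨n, φ, hφ⟩ := Module.Finite.exists_fin' (MvPolynomial σ V) M
  refine Module.finitePresentation_of_surjective φ hφ (fg_of_saturated _ fun a f ha hf => ?_)
  rw [LinearMap.mem_ker, LinearMap.map_smul_of_tower] at hf
  exact LinearMap.mem_ker.mpr ((h a _ hf).resolve_left ha)

end Groth.L09.Nagata

namespace Groth.L09.Nagata

variable {V : Type u} [CommRing V] [IsDomain V] [ValuationRing V]

/-- A finite module, torsion free over a valuation ring, over a finitely generated algebra is finitely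
presented. -/
theorem finitePresentation_of_torsionFree' {B : Type*} [CommRing B] [Algebra V B]
    [Algebra.FiniteType V B] {M : Type*} [AddCommGroup M] [Module V M] [Module B M]
    [IsScalarTower V B M] [Module.Finite B M] (h : ∀ (a : V) (m : M), a • m = 0 → a = 0 ∨ m = 0) :
    Module.FinitePresentation B M := by
  obtain ⟨n, π, hπ⟩ :=
    Algebra.FiniteType.iff_quotient_mvPolynomial''.mp ‹Algebra.FiniteType V B›
  let _ : Algebra (MvPolynomial (Fin n) V) B := π.toRingHom.toAlgebra
  let _ : Module (MvPolynomial (Fin n) V) M := Module.compHom M π.toRingHom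
  haveI : IsScalarTower V (MvPolynomial (Fin n) V) B := IsScalarTower.of_algebraMap_eq fun a =>
    (π.commutes a).symm
  haveI : IsScalarTower (MvPolynomial (Fin n) V) B M :=
    ⟨fun p b m => mul_smul (π p) b m⟩
  haveI : IsScalarTower V (MvPolynomial (Fin n) V) M := IsScalarTower.to₁₂₄ V _ B M
  haveI : Module.Finite (MvPolynomial (Fin n) V) B :=
    Module.Finite.of_surjective (Algebra.linearMap (MvPolynomial (Fin n) V) B) hπ
  haveI : Module.Finite (MvPolynomial (Fin n) V) M := Module.Finite.trans B M
  haveI := finitePresentation_of_torsionFree (σ := Fin n) h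
  obtain ⟨m, φ, hφ⟩ := Module.Finite.exists_fin' B M
  refine Module.finitePresentation_of_surjective φ hφ ?_
  obtain ⟨s, hs⟩ := Module.FinitePresentation.fg_ker
    (φ.restrictScalars (MvPolynomial (Fin n) V)) hφ
  refine ⟨s, le_antisymm (Submodule.span_le.mpr fun x hx => ?_) fun x hx => ?_⟩
  · exact (hs ▸ Submodule.subset_span hx : x ∈ LinearMap.ker (φ.restrictScalars (MvPolynomial (Fin n) V)))
  · have : x ∈ Submodule.span (MvPolynomial (Fin n) V) (s : Set (Fin m → B)) := hs.symm ▸ hx
    exact Submodule.span_subset_span (MvPolynomial (Fin n) V) B _ this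

/-- **Nagata**: a flat finitely generated algebra over a valuation ring is finitely presented. -/
theorem finitePresentation_of_flat {B : Type u} [CommRing B] [Algebra V B]
    [Algebra.FiniteType V B] [Module.Flat V B] : Algebra.FinitePresentation V B := by
  obtain ⟨n, π, hπ⟩ :=
    Algebra.FiniteType.iff_quotient_mvPolynomial''.mp ‹Algebra.FiniteType V B›
  let _ : Algebra (MvPolynomial (Fin n) V) B := π.toRingHom.toAlgebra
  haveI : IsScalarTower V (MvPolynomial (Fin n) V) B := IsScalarTower.of_algebraMap_eq fun a =>
    (π.commutes a).symm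
  haveI : Module.Finite (MvPolynomial (Fin n) V) B :=
    Module.Finite.of_surjective (Algebra.linearMap (MvPolynomial (Fin n) V) B) hπ
  haveI := finitePresentation_of_torsionFree (V := V) (σ := Fin n) (M := B) fun a b hab => by
    by_cases ha : a = 0
    · exact Or.inl ha
    · refine Or.inr (IsSMulRegular.of_flat (S := B) (isRegular_of_ne_zero ha).left ?_)
      show algebraMap V B a • b = algebraMap V B a • (0 : B)
      rw [smul_zero, smul_eq_mul, ← Algebra.smul_def, hab]
  exact Algebra.FinitePresentation.of_surjective hπ
    (Module.FinitePresentation.fg_ker (Algebra.linearMap (MvPolynomial (Fin n) V) B) hπ)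

end Groth.L09.Nagata
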