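import Groth.Agent.L09.UEffEpi
import Mathlib.CategoryTheory.EquivalenceRelation
import Mathlib.CategoryTheory.Sites.RegularEpi
import Mathlib.CategoryTheory.Sites.Limits
import Mathlib.CategoryTheory.Sites.LeftExact
import Mathlib.CategoryTheory.Sites.EpiMono
import Mathlib.CategoryTheory.Limits.Types.Coequalizers
import Mathlib.CategoryTheory.Limits.FunctorCategory.EpiMono

/-!
Epimorphisms and equivalence relations in categories of presheaves and sheaves of sets.
-/

set_option autoImplicit false
universe w v u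

open CategoryTheory Category Limits Opposite

namespace Groth.L09.ShfRel

variable {C : Type u} [Category.{v} C]

lemma app_surjective {F G : Cᵒᵖ ⥤ Type w} (f : F ⟶ G) [Epi f] (U : Cᵒᵖ) : Function.Surjective (f.app U) :=
  (epi_iff_surjective _).mp (inferInstance : Epi (f.app U))

lemma epi_of_surjective {F G : Cᵒᵖ ⥤ Type w} (f : F ⟶ G) (h : ∀ U, Function.Surjective (f.app U)) : Epi f := by
  have : ∀ U, Epi (f.app U) := fun U => (epi_iff_surjective _).mpr (h U)
  exact NatTrans.epi_of_epi_app _

lemma exists_pullback_elt {P X Y Z : Cᵒᵖ ⥤ Type w} {p : P ⟶ X} {q : P ⟶ Y} {f : X ⟶ Z} {g : Y ⟶ Z}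
    (h : IsPullback p q f g) (U : Cᵒᵖ) (x : X.obj U) (y : Y.obj U) (e : f.app U x = g.app U y) :
    ∃ z : P.obj U, p.app U z = x ∧ q.app U z = y :=
  Types.exists_of_isPullback (h.map ((evaluation _ _).obj U)) x y e

lemma psh_universally_effectiveEpi {X Y : Cᵒᵖ ⥤ Type w} (f : X ⟶ Y) [Epi f] : UEffEpi.UEE f := by
  intro X' Y' i₁ i₂ f' h
  have : Epi f' := epi_of_surjective f' fun U y => by
    obtain ⟨x, hx⟩ := app_surjective f U (i₂.app U y)
    obtain ⟨z, hz, -⟩ := exists_pullback_elt h U y x hx.symm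
    exact ⟨z, hz⟩
  show EffectiveEpi f'
  have := IsRegularEpiCategory.regularEpiOfEpi f'
  infer_instance

/-- Locally surjective morphisms of sheaves are stable under base change. -/
lemma isLocallySurjective_of_isPullback {J : GrothendieckTopology C} {P F H G : Sheaf J (Type w)}
    {p : P ⟶ F} {q : P ⟶ H} {f : F ⟶ G} {g : H ⟶ G} [HasLimitsOfShape WalkingCospan (Sheaf J (Type w))]
    [PreservesLimitsOfShape WalkingCospan (sheafToPresheaf J (Type w))]
    (h : IsPullback p q f g) [Sheaf.IsLocallySurjective f] : Sheaf.IsLocallySurjective q := by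
  refine ⟨fun {U} s => J.superset_covering ?_ (Presheaf.imageSieve_mem J f.hom (g.hom.app _ s))⟩
  rintro V i ⟨t, ht⟩
  obtain ⟨z, -, hz⟩ := exists_pullback_elt (h.map (sheafToPresheaf J (Type w))) (op V) t (H.obj.map i.op s)
    (ht.trans (NatTrans.naturality_apply g.hom i.op s).symm)
  exact ⟨z, hz⟩

lemma shf_universally_effectiveEpi {J : GrothendieckTopology C} [HasSheafify J (Type w)]
    {X Y : Sheaf J (Type w)} (f : X ⟶ Y) [Epi f] : UEffEpi.UEE f := by
  intro X' Y' i₁ i₂ f' h
  have : Sheaf.IsLocallySurjective f := (Sheaf.isLocallySurjective_iff_epi f).mpr inferInstance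
  have hl : Sheaf.IsLocallySurjective f' :=
    isLocallySurjective_of_isPullback (J := J) (P := X') (F := X) (H := Y') (G := Y) (f := f) h.flip
  show EffectiveEpi f'
  have : Epi f' := (Sheaf.isLocallySurjective_iff_epi f').mp hl
  have := IsRegularEpiCategory.regularEpiOfEpi f'
  infer_instance

section Rel

variable {R X : Cᵒᵖ ⥤ Type w} {p₁ p₂ : R ⟶ X}

lemma psh_injective_pair (e : EquivalenceRelation p₁ p₂) (U : Cᵒᵖ) (a b : R.obj U)
    (h₁ : p₁.app U a = p₁.app U b) (h₂ : p₂.app U a = p₂.app U b) : a = b := by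
  let K : Cᵒᵖ ⥤ Type w :=
    { obj V := {z : R.obj V × R.obj V // p₁.app V z.1 = p₁.app V z.2 ∧ p₂.app V z.1 = p₂.app V z.2}
      map {V W} i := ↾fun z => ⟨⟨R.map i z.1.1, R.map i z.1.2⟩, by
        rw [NatTrans.naturality_apply, NatTrans.naturality_apply, NatTrans.naturality_apply,
          NatTrans.naturality_apply, z.2.1, z.2.2]; exact ⟨rfl, rfl⟩⟩ }
  let k₁ : K ⟶ R := { app V := ↾fun z => z.1.1 }
  let k₂ : K ⟶ R := { app V := ↾fun z => z.1.2 }
  have : k₁ = k₂ := e.toReflexiveRelation.toJointlyMono₂.right_cancellation k₁ k₂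
    (by ext V z; exact z.2.1) (by ext V z; exact z.2.2)
  exact congrArg (fun k : K ⟶ R => k.app U ⟨(a, b), h₁, h₂⟩) this

lemma psh_equivalence (e : EquivalenceRelation p₁ p₂) (U : Cᵒᵖ) :
    Equivalence (fun x y : X.obj U => ∃ r, p₁.app U r = x ∧ p₂.app U r = y) where
  refl x := ⟨e.r.app U x, congrArg (fun k : X ⟶ X => k.app U x) e.reflexivity₁,
    congrArg (fun k : X ⟶ X => k.app U x) e.reflexivity₂⟩
  symm := fun ⟨r, h₁, h₂⟩ => ⟨e.s.app U r,
    (congrArg (fun k : R ⟶ X => k.app U r) e.symmetry₁).trans h₂,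
    (congrArg (fun k : R ⟶ X => k.app U r) e.symmetry₂).trans h₁⟩
  trans := fun ⟨r, h₁, h₂⟩ ⟨r', h₁', h₂'⟩ => by
    obtain ⟨z, hz, hz'⟩ := exists_pullback_elt (IsPullback.of_isLimit e.isLimit) U r r' (h₂.trans h₁'.symm)
    refine ⟨e.t.app U z, ?_, ?_⟩
    · rw [← h₁, ← hz]
      exact congrArg (fun k : e.c.pt ⟶ X => k.app U z) e.transitivity₁
    · rw [← h₂', ← hz']
      exact congrArg (fun k : e.c.pt ⟶ X => k.app U z) e.transitivity₂

/-- The quotient of a presheaf by an equivalence relation. -/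
noncomputable def quot (e : EquivalenceRelation p₁ p₂) : Cᵒᵖ ⥤ Type w where
  obj U := Quotient ⟨_, psh_equivalence e U⟩
  map {U V} i := ↾(Quotient.map (X.map i) (fun x y ⟨r, h₁, h₂⟩ => ⟨R.map i r,
    by rw [NatTrans.naturality_apply, h₁], by rw [NatTrans.naturality_apply, h₂]⟩))
  map_id U := by
    ext z
    induction z using Quotient.ind
    simp
  map_comp {U V W} i j := by
    ext z
    induction z using Quotient.ind
    simp

/-- The quotient map. -/
noncomputable def quotπ (e : EquivalenceRelation p₁ p₂) : X ⟶ quot e where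
  app U := ↾(fun x => Quotient.mk _ x)

instance (e : EquivalenceRelation p₁ p₂) : Epi (quotπ e) :=
  epi_of_surjective _ fun U z => Quotient.exists_rep z

lemma quot_w (e : EquivalenceRelation p₁ p₂) : p₁ ≫ quotπ e = p₂ ≫ quotπ e := by
  ext U r
  exact Quotient.sound ⟨r, rfl, rfl⟩

lemma quot_isKernelPair (e : EquivalenceRelation p₁ p₂) : IsKernelPair (quotπ e) p₁ p₂ := by
  refine ⟨⟨quot_w e⟩, ⟨evaluationJointlyReflectsLimits _ fun U => ?_⟩⟩
  refine (isLimitMapConePullbackConeEquiv _ (quot_w e)).symm ?_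
  refine ((Types.isPullback_iff _ _ _ _).mpr ⟨?_, fun a b h => ?_, fun x y h => ?_⟩).isLimit
  · exact congrArg (fun k => NatTrans.app k U) (quot_w e)
  · exact psh_injective_pair e U a b h.1 h.2
  · exact Quotient.exact h

lemma quot_isPushout (e : EquivalenceRelation p₁ p₂) : IsPushout p₁ p₂ (quotπ e) (quotπ e) := by
  refine ⟨⟨quot_w e⟩, ⟨PushoutCocone.isColimitAux' _ fun s => ?_⟩⟩
  have hs : s.inl = s.inr := by
    rw [← id_comp s.inl, ← id_comp s.inr]
    conv_lhs => rw [← e.reflexivity₁]
    conv_rhs => rw [← e.reflexivity₂]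
    rw [assoc, assoc, s.condition]
  refine ⟨{ app := fun U => ↾(Quotient.lift (s.inl.app U) (fun x y ⟨r, h₁, h₂⟩ => ?_)),
            naturality := fun U V i => ?_ }, ?_, ?_, fun {m} h₁ _ => ?_⟩
  · rw [← h₁, ← h₂]
    exact (congrArg (fun k : R ⟶ s.pt => k.app U r) s.condition).trans (by rw [← hs]; rfl)
  · ext z
    induction z using Quotient.ind
    exact NatTrans.naturality_apply s.inl i _
  · rfl
  · refine Eq.trans ?_ hs
    rfl
  · ext U z
    induction z using Quotient.ind with
    | _ x => exact congrArg (fun k : X ⟶ s.pt => k.app U x) h₁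

/-- An equivalence relation of presheaves of sets is universally effective. -/
noncomputable def pshUEER (e : EquivalenceRelation p₁ p₂) : UniversallyEffectiveEquivalenceRelation p₁ p₂ where
  toEquivalenceRelation := e
  B := quot e
  π := quotπ e
  isKernelPair := quot_isKernelPair e
  isPushout := quot_isPushout e
  universally_effectiveEpi_π := psh_universally_effectiveEpi _

end Rel

section Shf

variable {J : GrothendieckTopology C} [HasSheafify J (Type w)] {R X : Sheaf J (Type w)} {p₁ p₂ : R ⟶ X}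

/-- An equivalence relation of sheaves of sets is universally effective. -/
noncomputable def shfUEER (e : EquivalenceRelation p₁ p₂) : UniversallyEffectiveEquivalenceRelation p₁ p₂ := by
  let G := sheafToPresheaf J (Type w)
  let F := presheafToSheaf J (Type w)
  have : JointlyMono₂ (G.map p₁) (G.map p₂) := by
    refine ⟨fun Y f g h₁ h₂ => ?_⟩
    let a := sheafificationAdjunction J (Type w)
    apply (a.homEquiv Y R).symm.injective
    apply e.toReflexiveRelation.toJointlyMono₂.right_cancellation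
    · rw [← a.homEquiv_naturality_right_symm, ← a.homEquiv_naturality_right_symm, h₁]
    · rw [← a.homEquiv_naturality_right_symm, ← a.homEquiv_naturality_right_symm, h₂]
  let e' : EquivalenceRelation (G.map p₁) (G.map p₂) :=
    { e.toReflexiveRelation.map G, e.toSymmetricRelation.map G, e.toTransitiveRelation.map G with }
  let ε := asIso (sheafificationAdjunction J (Type w)).counit
  have hn : ∀ p : R ⟶ X, F.map (G.map p) ≫ (ε.app X).hom = (ε.app R).hom ≫ p := fun p => ε.hom.naturality p
  let π : X ⟶ F.obj (quot e') := (ε.app X).inv ≫ F.map (quotπ e')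
  have hπ : (ε.app X).hom ≫ π = F.map (quotπ e') ≫ (Iso.refl _).hom := by
    simp only [π, Iso.hom_inv_id_assoc, Iso.refl_hom, comp_id]
  have hk : IsKernelPair π p₁ p₂ :=
    ((quot_isKernelPair e').map F).of_iso (ε.app R) (ε.app X) (ε.app X) (Iso.refl _)
      (hn p₁) (hn p₂) hπ.symm hπ.symm
  have hp : IsPushout p₁ p₂ π π :=
    ((quot_isPushout e').map F).of_iso (ε.app R) (ε.app X) (ε.app X) (Iso.refl _)
      (hn p₁) (hn p₂) hπ.symm hπ.symm
  have : Epi (F.map (quotπ e')) := inferInstance
  have : Epi π := by simp only [π]; infer_instance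
  exact { toEquivalenceRelation := e, B := _, π := π, isKernelPair := hk, isPushout := hp,
          universally_effectiveEpi_π := shf_universally_effectiveEpi π }

end Shf

section Descend

variable {D : Type u} [Category.{v} D]

/-- Descend a factorisation through a monomorphism along an effective epimorphism. -/
lemma exists_lift_of_mono {A B X Z : D} (q : A ⟶ B) [EffectiveEpi q] (m : Z ⟶ X) [Mono m]
    (x : B ⟶ X) (l : A ⟶ Z) (h : l ≫ m = q ≫ x) : ∃ k : B ⟶ Z, k ≫ m = x := by
  refine ⟨EffectiveEpi.desc q l (fun g₁ g₂ e => ?_), ?_⟩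
  · rw [← cancel_mono m, assoc, assoc, h, reassoc_of% e]
  · rw [← cancel_epi q, EffectiveEpi.fac_assoc, h]

end Descend

end Groth.L09.ShfRel
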