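import Groth.Agent.L09.UEffEpi
import Groth.Agent.L09.ShfRel
import Mathlib.CategoryTheory.EquivalenceRelation
import Mathlib.CategoryTheory.Monoidal.Cartesian.Grp
import Mathlib.CategoryTheory.Subobject.Basic
import Mathlib.CategoryTheory.Subobject.FactorThru
import Mathlib.Tactic.Group

/-!
Quotients of group objects by subgroup objects.
-/

set_option autoImplicit false
universe w v u

open CategoryTheory Category Limits MonoidalCategory CartesianMonoidalCategory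
  SemiCartesianMonoidalCategory MonObj

namespace Groth.L09.GrpQuot

section Gen

variable {C : Type u} [Category.{v} C] [CartesianMonoidalCategory C]

lemma whiskerRight_uee {A B : C} {q : A ⟶ B} (hq : UEffEpi.UEE q) (Y : C) : UEffEpi.UEE (q ▷ Y) := by
  refine UEffEpi.of_isPullback hq (i₁ := fst A Y) (i₂ := fst B Y) ?_
  refine UEffEpi.isPullback_mk (whiskerRight_fst _ _) (fun {T} a b h => ?_) (fun {T} l m h₁ h₂ => ?_)
  · refine ⟨lift b (a ≫ snd B Y), ?_, lift_fst _ _⟩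
    rw [lift_whiskerRight]
    ext
    · rw [lift_fst, h]
    · rw [lift_snd]
  · ext
    · exact h₂
    · simpa using congrArg (· ≫ snd B Y) h₁

lemma whiskerLeft_uee {A B : C} {q : A ⟶ B} (hq : UEffEpi.UEE q) (X : C) : UEffEpi.UEE (X ◁ q) := by
  refine UEffEpi.of_isPullback hq (i₁ := snd X A) (i₂ := snd X B) ?_
  refine UEffEpi.isPullback_mk (whiskerLeft_snd _ _) (fun {T} a b h => ?_) (fun {T} l m h₁ h₂ => ?_)
  · refine ⟨lift (a ≫ fst X B) b, ?_, lift_snd _ _⟩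
    rw [lift_whiskerLeft]
    ext
    · rw [lift_fst]
    · rw [lift_snd, h]
  · ext
    · simpa using congrArg (· ≫ fst X B) h₁
    · exact h₂

lemma tensor_uee [HasPullbacks C] {A B A' B' : C} {q : A ⟶ B} {q' : A' ⟶ B'}
    (hq : UEffEpi.UEE q) (hq' : UEffEpi.UEE q') : UEffEpi.UEE (q ⊗ₘ q') := by
  rw [MonoidalCategory.tensorHom_def]
  exact UEffEpi.comp (whiskerRight_uee hq _) (whiskerLeft_uee hq' _)

/-- A monomorphism into a group object, closed under the operations, carries a group structure. -/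
@[implicit_reducible]
noncomputable def grpObjOfClosed {G K : C} [GrpObj G] (m : K ⟶ G) [Mono m]
    (h1 : ∃ e : 𝟙_ C ⟶ K, e ≫ m = η[G])
    (hm : ∀ (T : C) (a b : T ⟶ K), ∃ c : T ⟶ K, c ≫ m = (a ≫ m) * (b ≫ m))
    (hi : ∀ (T : C) (a : T ⟶ K), ∃ c : T ⟶ K, c ≫ m = (a ≫ m)⁻¹) : GrpObj K where
  one := h1.choose
  mul := (hm _ (fst K K) (snd K K)).choose
  inv := (hi _ (𝟙 K)).choose
  one_mul := by
    rw [← cancel_mono m, assoc, (hm _ (fst K K) (snd K K)).choose_spec, MonObj.comp_mul,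
      ← assoc, ← assoc, whiskerRight_fst, whiskerRight_snd, assoc, h1.choose_spec, leftUnitor_hom,
      show fst (𝟙_ C) K ≫ η[G] = (1 : 𝟙_ C ⊗ K ⟶ G) by
        rw [Hom.one_def, toUnit_unique (fst _ _) (toUnit _)],
      _root_.one_mul]
  mul_one := by
    rw [← cancel_mono m, assoc, (hm _ (fst K K) (snd K K)).choose_spec, MonObj.comp_mul,
      ← assoc, ← assoc, whiskerLeft_fst, whiskerLeft_snd, assoc, h1.choose_spec, rightUnitor_hom,
      show snd K (𝟙_ C) ≫ η[G] = (1 : K ⊗ 𝟙_ C ⟶ G) by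
        rw [Hom.one_def, toUnit_unique (snd _ _) (toUnit _)],
      _root_.mul_one]
  mul_assoc := by
    have hs := (hm _ (fst K K) (snd K K)).choose_spec
    rw [← cancel_mono m]
    simp only [assoc]
    rw [hs]
    simp only [MonObj.comp_mul, whiskerRight_fst_assoc, whiskerRight_snd_assoc, whiskerLeft_fst_assoc,
      whiskerLeft_snd_assoc, hs, associator_hom_fst_assoc, associator_hom_snd_fst_assoc,
      associator_hom_snd_snd_assoc, _root_.mul_assoc]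
  left_inv := by
    rw [← cancel_mono m, assoc, (hm _ (fst K K) (snd K K)).choose_spec, MonObj.comp_mul,
      ← assoc, ← assoc, lift_fst, lift_snd, (hi _ (𝟙 K)).choose_spec, assoc, h1.choose_spec,
      ← Hom.one_def, id_comp, inv_mul_cancel]
  right_inv := by
    rw [← cancel_mono m, assoc, (hm _ (fst K K) (snd K K)).choose_spec, MonObj.comp_mul,
      ← assoc, ← assoc, lift_fst, lift_snd, (hi _ (𝟙 K)).choose_spec, assoc, h1.choose_spec,
      ← Hom.one_def, id_comp, mul_inv_cancel]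

lemma grpObjOfClosed_isMonHom {G K : C} [GrpObj G] (m : K ⟶ G) [Mono m]
    (h1 : ∃ e : 𝟙_ C ⟶ K, e ≫ m = η[G])
    (hm : ∀ (T : C) (a b : T ⟶ K), ∃ c : T ⟶ K, c ≫ m = (a ≫ m) * (b ≫ m))
    (hi : ∀ (T : C) (a : T ⟶ K), ∃ c : T ⟶ K, c ≫ m = (a ≫ m)⁻¹) :
    letI := grpObjOfClosed m h1 hm hi
    IsMonHom m := by
  letI := grpObjOfClosed m h1 hm hi
  refine ⟨h1.choose_spec, ?_⟩
  show (hm _ (fst K K) (snd K K)).choose ≫ m = _
  rw [(hm _ (fst K K) (snd K K)).choose_spec, Hom.mul_def]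
  congr 1
  ext <;> simp

/-- A group structure transported along a universally effective epimorphism. -/
@[implicit_reducible]
def grpObjOfEpi [HasPullbacks C] {G Q : C} [GrpObj G] (π : G ⟶ Q) (hπ : UEffEpi.UEE π)
    (m : Q ⊗ Q ⟶ Q) (i : Q ⟶ Q) (hm : (π ⊗ₘ π) ≫ m = μ[G] ≫ π) (hi : π ≫ i = ι[G] ≫ π) : GrpObj Q where
  one := η[G] ≫ π
  mul := m
  inv := i
  one_mul := by
    have := UEffEpi.epi (whiskerLeft_uee hπ (𝟙_ C))
    rw [← cancel_epi (𝟙_ C ◁ π), leftUnitor_naturality]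
    calc (𝟙_ C ◁ π) ≫ ((η[G] ≫ π) ▷ Q) ≫ m = (η[G] ▷ G) ≫ (π ⊗ₘ π) ≫ m := by
          rw [← assoc, ← assoc]
          congr 1
          ext
          · simp [toUnit_unique (fst (𝟙_ C) G) (toUnit _)]
          · simp [leftUnitor_hom]
      _ = _ := by rw [hm, MonObj.one_mul_assoc]
  mul_one := by
    have := UEffEpi.epi (whiskerRight_uee hπ (𝟙_ C))
    rw [← cancel_epi (π ▷ 𝟙_ C), rightUnitor_naturality]
    calc (π ▷ 𝟙_ C) ≫ (Q ◁ (η[G] ≫ π)) ≫ m = (G ◁ η[G]) ≫ (π ⊗ₘ π) ≫ m := by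
          rw [← assoc, ← assoc]
          congr 1
          ext
          · simp [rightUnitor_hom]
          · simp [toUnit_unique (snd G (𝟙_ C)) (toUnit _)]
      _ = _ := by rw [hm, MonObj.mul_one_assoc]
  mul_assoc := by
    have := UEffEpi.epi (tensor_uee (tensor_uee hπ hπ) hπ)
    rw [← cancel_epi ((π ⊗ₘ π) ⊗ₘ π)]
    calc ((π ⊗ₘ π) ⊗ₘ π) ≫ (m ▷ Q) ≫ m = (μ[G] ▷ G) ≫ (π ⊗ₘ π) ≫ m := by
          rw [← assoc, ← assoc]
          congr 1
          rw [← tensorHom_id, tensorHom_comp_tensorHom, comp_id, hm, ← tensorHom_id,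
            tensorHom_comp_tensorHom, id_comp]
      _ = (α_ G G G).hom ≫ (G ◁ μ[G]) ≫ (π ⊗ₘ π) ≫ m := by rw [hm, MonObj.mul_assoc_assoc]
      _ = (α_ G G G).hom ≫ (π ⊗ₘ (π ⊗ₘ π)) ≫ (Q ◁ m) ≫ m := by
          congr 1
          rw [← assoc, ← assoc]
          congr 1
          rw [← id_tensorHom, tensorHom_comp_tensorHom, id_comp, ← id_tensorHom,
            tensorHom_comp_tensorHom, comp_id, hm]
      _ = _ := by rw [associator_naturality_assoc]
  left_inv := by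
    have := UEffEpi.epi hπ
    rw [← cancel_epi π]
    calc π ≫ lift i (𝟙 Q) ≫ m = lift ι[G] (𝟙 G) ≫ (π ⊗ₘ π) ≫ m := by
          rw [← assoc, ← assoc, comp_lift, comp_id, lift_map, id_comp, hi]
      _ = _ := by rw [hm, GrpObj.left_inv_assoc, ← assoc π, toUnit_unique (π ≫ toUnit Q) (toUnit G)]
  right_inv := by
    have := UEffEpi.epi hπ
    rw [← cancel_epi π]
    calc π ≫ lift (𝟙 Q) i ≫ m = lift (𝟙 G) ι[G] ≫ (π ⊗ₘ π) ≫ m := by
          rw [← assoc, ← assoc, comp_lift, comp_id, lift_map, id_comp, hi]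
      _ = _ := by rw [hm, GrpObj.right_inv_assoc, ← assoc π, toUnit_unique (π ≫ toUnit Q) (toUnit G)]

variable {H G : C} [GrpObj H] [GrpObj G] (u : H ⟶ G)

omit [GrpObj H] in
lemma comp_relSnd {T : C} (x : T ⟶ G ⊗ H) :
    x ≫ (G ◁ u) ≫ μ[G] = (x ≫ fst G H) * (x ≫ snd G H ≫ u) := by
  rw [Hom.mul_def, ← assoc]
  congr 1
  ext <;> simp

omit [GrpObj H] in
lemma lift_relSnd {T : C} (a : T ⟶ G) (b : T ⟶ H) :
    lift a b ≫ (G ◁ u) ≫ μ[G] = a * (b ≫ u) := by
  rw [comp_relSnd, lift_fst, lift_snd_assoc]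

variable [Mono u] [IsMonHom u]

lemma hom_ext_rel {T : C} (x y : T ⟶ G ⊗ H) (h₁ : x ≫ fst G H = y ≫ fst G H)
    (h₂ : x ≫ (G ◁ u) ≫ μ[G] = y ≫ (G ◁ u) ≫ μ[G]) : x = y := by
  rw [comp_relSnd, comp_relSnd, h₁, mul_left_cancel_iff, ← assoc, ← assoc, cancel_mono] at h₂
  exact CartesianMonoidalCategory.hom_ext _ _ h₁ h₂

/-- Translation by a subgroup object is an equivalence relation. -/
noncomputable def equivRel [HasPullbacks C] :
    EquivalenceRelation (fst G H) ((G ◁ u) ≫ μ[G]) where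
  right_cancellation _ f g h₁ h₂ := hom_ext_rel u f g h₁ h₂
  r := lift (𝟙 G) 1
  reflexivity₁ := lift_fst _ _
  reflexivity₂ := by rw [lift_relSnd, MonObj.one_comp, _root_.mul_one]
  s := lift ((G ◁ u) ≫ μ[G]) (snd G H)⁻¹
  symmetry₁ := lift_fst _ _
  symmetry₂ := by
    rw [lift_relSnd, GrpObj.inv_comp, ← id_comp ((G ◁ u) ≫ μ[G]), comp_relSnd, id_comp, id_comp,
      mul_inv_cancel_right]
  c := PullbackCone.mk (pullback.fst ((G ◁ u) ≫ μ[G]) (fst G H)) (pullback.snd ((G ◁ u) ≫ μ[G]) (fst G H))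
    pullback.condition
  isLimit := pullbackIsPullback _ _
  t := lift (pullback.fst ((G ◁ u) ≫ μ[G]) (fst G H) ≫ fst G H)
    ((pullback.fst ((G ◁ u) ≫ μ[G]) (fst G H) ≫ snd G H) * (pullback.snd ((G ◁ u) ≫ μ[G]) (fst G H) ≫ snd G H))
  transitivity₁ := lift_fst _ _
  transitivity₂ := by
    show lift (pullback.fst ((G ◁ u) ≫ μ[G]) (fst G H) ≫ fst G H)
      ((pullback.fst ((G ◁ u) ≫ μ[G]) (fst G H) ≫ snd G H) *
        (pullback.snd ((G ◁ u) ≫ μ[G]) (fst G H) ≫ snd G H)) ≫ (G ◁ u) ≫ μ[G] =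
      pullback.snd ((G ◁ u) ≫ μ[G]) (fst G H) ≫ (G ◁ u) ≫ μ[G]
    rw [lift_relSnd, MonObj.mul_comp, ← _root_.mul_assoc, comp_relSnd u (pullback.snd _ _)]
    simp only [assoc]
    rw [← comp_relSnd u, pullback.condition]

end Gen

section Eff

/-- Categories in which epimorphisms are universally effective and equivalence relations are
universally effective. -/
class ToposLike (C : Type u) [Category.{v} C] : Prop where
  uee_of_epi {X Y : C} (f : X ⟶ Y) [Epi f] : UEffEpi.UEE f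
  ueer {R X : C} {p₁ p₂ : R ⟶ X} (e : EquivalenceRelation p₁ p₂) :
    Nonempty (UniversallyEffectiveEquivalenceRelation p₁ p₂)

instance {C : Type u} [Category.{v} C] (J : GrothendieckTopology C) [HasSheafify J (Type w)] :
    ToposLike (Sheaf J (Type w)) where
  uee_of_epi f _ := ShfRel.shf_universally_effectiveEpi f
  ueer e := ⟨ShfRel.shfUEER e⟩

variable {C : Type u} [Category.{v} C] [CartesianMonoidalCategory C] [HasPullbacks C] [ToposLike C]
  {H G : C} [GrpObj H] [GrpObj G] (u : H ⟶ G) [Mono u] [IsMonHom u]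
  [HasCoequalizer (fst G H) ((G ◁ u) ≫ μ[G])]

/-- The quotient map of a group object by a subgroup object. -/
noncomputable abbrev qπ : G ⟶ coequalizer (fst G H) ((G ◁ u) ≫ μ[G]) :=
  coequalizer.π (fst G H) ((G ◁ u) ≫ μ[G])

omit [Mono u] [IsMonHom u] in
lemma qπ_uee : UEffEpi.UEE (qπ u) := ToposLike.uee_of_epi _

lemma qπ_isKernelPair : IsKernelPair (qπ u) (fst G H) ((G ◁ u) ≫ μ[G]) := by
  obtain ⟨e⟩ := ToposLike.ueer (equivRel u)
  let f : coequalizer (fst G H) ((G ◁ u) ≫ μ[G]) ⟶ e.B := coequalizer.desc e.π e.isKernelPair.w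
  let g : e.B ⟶ coequalizer (fst G H) ((G ◁ u) ≫ μ[G]) :=
    e.isPushout.desc (qπ u) (qπ u) (coequalizer.condition _ _)
  have hg : e.π ≫ g = qπ u := e.isPushout.inl_desc _ _ _
  have hf : qπ u ≫ f = e.π := coequalizer.π_desc _ _
  have := UEffEpi.epi e.universally_effectiveEpi_π
  let I : e.B ≅ coequalizer (fst G H) ((G ◁ u) ≫ μ[G]) :=
    ⟨g, f, by rw [← cancel_epi e.π, ← assoc, hg, hf, comp_id],
      coequalizer.hom_ext (by rw [← assoc, hf, hg, comp_id])⟩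
  exact e.isKernelPair.of_iso (Iso.refl _) (Iso.refl _) (Iso.refl _) I
    (by simp) (by simp) (by simp [I, hg]) (by simp [I, hg])

lemma qπ_eq_iff {T : C} (a b : T ⟶ G) :
    a ≫ qπ u = b ≫ qπ u ↔ ∃ h : T ⟶ H, a * (h ≫ u) = b := by
  constructor
  · intro e
    refine ⟨(qπ_isKernelPair u).lift a b e ≫ snd G H, ?_⟩
    have h₁ := (qπ_isKernelPair u).lift_fst a b e
    have h₂ := (qπ_isKernelPair u).lift_snd a b e
    rw [comp_relSnd, h₁] at h₂
    rw [assoc]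
    exact h₂
  · rintro ⟨h, rfl⟩
    rw [← lift_relSnd, assoc, ← coequalizer.condition, lift_fst_assoc]

omit [IsMonHom u] in
/-- Local lifting along a universally effective epimorphism. -/
lemma exists_local_lift {X Y T : C} {f : X ⟶ Y} (hf : UEffEpi.UEE f) (x : T ⟶ Y) :
    ∃ (T' : C) (c : T' ⟶ T) (_ : UEffEpi.UEE c) (a : T' ⟶ X), a ≫ f = c ≫ x :=
  ⟨_, pullback.fst x f, UEffEpi.pullback_fst hf x, pullback.snd x f, pullback.condition.symm⟩

lemma isKernelPair_comp {L : C} [GrpObj L] (l : L ⟶ G) [Mono l] [IsMonHom l] :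
    IsKernelPair (l ≫ qπ u) (fst L (pullback u l)) ((L ◁ pullback.snd u l) ≫ μ[L]) := by
  refine UEffEpi.isPullback_mk ?_ (fun {T} a b h => ?_) (fun {T} x y h₁ h₂ => ?_)
  · rw [← assoc, ← assoc, qπ_eq_iff]
    refine ⟨snd L _ ≫ pullback.fst u l, ?_⟩
    rw [← id_comp ((L ◁ pullback.snd u l) ≫ μ[L]), comp_relSnd, id_comp, id_comp, MonObj.mul_comp,
      assoc, assoc, pullback.condition]
  · rw [← assoc, ← assoc, qπ_eq_iff] at h
    obtain ⟨k, hk⟩ := h
    have hk' : k ≫ u = (a⁻¹ * b) ≫ l := by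
      rw [MonObj.mul_comp, GrpObj.inv_comp, ← hk, inv_mul_cancel_left]
    refine ⟨lift a (pullback.lift k _ hk'), lift_fst _ _, ?_⟩
    rw [lift_relSnd, pullback.lift_snd, mul_inv_cancel_left]
  · rw [comp_relSnd, comp_relSnd, h₁, mul_left_cancel_iff, ← assoc, ← assoc, cancel_mono] at h₂
    exact CartesianMonoidalCategory.hom_ext _ _ h₁ h₂

/-- The quotient by a normal subgroup object is a group object in exactly one way. -/
lemma existsUnique_grpObj
    (hn : ∀ (T : C) (g : T ⟶ G) (h : T ⟶ H), ∃ h' : T ⟶ H, g * (h ≫ u) * g⁻¹ = h' ≫ u) :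
    ∃! str : GrpObj (coequalizer (fst G H) ((G ◁ u) ≫ μ[G])),
      @IsMonHom C _ _ G _ _ str.toMonObj (qπ u) := by
  have hπ := qπ_uee u
  have := UEffEpi.effectiveEpi hπ
  have := UEffEpi.effectiveEpi (tensor_uee hπ hπ)
  let m := EffectiveEpi.desc (qπ u ⊗ₘ qπ u) (μ[G] ≫ qπ u) (fun {T} x y e => by
    have e₁ := congrArg (· ≫ fst _ _) e
    have e₂ := congrArg (· ≫ snd _ _) e
    simp only [assoc, tensorHom_fst, tensorHom_snd] at e₁ e₂
    rw [← assoc, ← assoc, qπ_eq_iff] at e₁ e₂ ⊢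
    obtain ⟨h, hh⟩ := e₁
    obtain ⟨k, hk⟩ := e₂
    obtain ⟨h', hh'⟩ := hn T (x ≫ snd G G)⁻¹ h
    rw [inv_inv] at hh'
    refine ⟨h' * k, ?_⟩
    have hx : ∀ z : T ⟶ G ⊗ G, z ≫ μ[G] = (z ≫ fst G G) * (z ≫ snd G G) := fun z => by
      rw [Hom.mul_def, ← comp_lift, lift_fst_snd, comp_id]
    rw [hx, hx, MonObj.mul_comp, ← hh', ← hh, ← hk]
    group)
  have hm : (qπ u ⊗ₘ qπ u) ≫ m = μ[G] ≫ qπ u := EffectiveEpi.fac _ _ _
  let i := EffectiveEpi.desc (qπ u) (ι[G] ≫ qπ u) (fun {T} x y e => by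
    rw [qπ_eq_iff] at e
    obtain ⟨h, hh⟩ := e
    rw [← assoc, ← assoc, ← Hom.inv_def, ← Hom.inv_def, qπ_eq_iff]
    obtain ⟨h', hh'⟩ := hn T x h⁻¹
    refine ⟨h', ?_⟩
    rw [← hh', ← hh, GrpObj.inv_comp]
    group)
  have hi : qπ u ≫ i = ι[G] ≫ qπ u := EffectiveEpi.fac _ _ _
  refine ⟨grpObjOfEpi _ hπ m i hm hi, @IsMonHom.mk C _ _ _ _ _ (grpObjOfEpi _ hπ m i hm hi).toMonObj _ rfl hm.symm, ?_⟩
  intro str hstr
  refine GrpObj.ext _ _ (MonObj.ext _ _ ?_)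
  exact (cancel_epi (qπ u ⊗ₘ qπ u)).mp ((@IsMonHom.mul_hom C _ _ _ _ _ str.toMonObj (qπ u) hstr).symm.trans hm.symm)

omit [Mono u] [IsMonHom u] in
lemma comp_mul' {T : C} (z : T ⟶ G ⊗ G) : z ≫ μ[G] = (z ≫ fst G G) * (z ≫ snd G G) := by
  rw [Hom.mul_def, ← comp_lift, lift_fst_snd, comp_id]

/-- The quotient by a subgroup object has a unique equivariant action. -/
lemma existsUnique_action :
    ∃! act : G ⊗ coequalizer (fst G H) ((G ◁ u) ≫ μ[G]) ⟶ coequalizer (fst G H) ((G ◁ u) ≫ μ[G]),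
      (η[G] ▷ coequalizer (fst G H) ((G ◁ u) ≫ μ[G])) ≫ act =
          (λ_ (coequalizer (fst G H) ((G ◁ u) ≫ μ[G]))).hom ∧
        (μ[G] ▷ coequalizer (fst G H) ((G ◁ u) ≫ μ[G])) ≫ act =
          (α_ G G (coequalizer (fst G H) ((G ◁ u) ≫ μ[G]))).hom ≫ (G ◁ act) ≫ act ∧
        μ[G] ≫ qπ u = (G ◁ qπ u) ≫ act := by
  have hπ := qπ_uee u
  have := UEffEpi.effectiveEpi (whiskerLeft_uee hπ G)
  let act := EffectiveEpi.desc (G ◁ qπ u) (μ[G] ≫ qπ u) (fun {T} x y e => by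
    have e₁ := congrArg (· ≫ fst _ _) e
    have e₂ := congrArg (· ≫ snd _ _) e
    simp only [assoc, whiskerLeft_fst, whiskerLeft_snd] at e₁ e₂
    rw [← assoc, ← assoc, qπ_eq_iff] at e₂
    rw [← assoc, ← assoc, qπ_eq_iff]
    obtain ⟨h, hh⟩ := e₂
    exact ⟨h, by rw [comp_mul', comp_mul', ← e₁, ← hh, _root_.mul_assoc]⟩)
  have ha : (G ◁ qπ u) ≫ act = μ[G] ≫ qπ u := EffectiveEpi.fac _ _ _
  refine ⟨act, ⟨?_, ?_, ha.symm⟩, fun a ⟨_, _, h⟩ => (cancel_epi (G ◁ qπ u)).mp (h.symm.trans ha.symm)⟩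
  · have := UEffEpi.epi (whiskerLeft_uee hπ (𝟙_ C))
    rw [← cancel_epi (𝟙_ C ◁ qπ u), ← assoc, whisker_exchange, assoc, ha, leftUnitor_naturality,
      MonObj.one_mul_assoc]
  · have := UEffEpi.epi (whiskerLeft_uee hπ (G ⊗ G))
    rw [← cancel_epi ((G ⊗ G) ◁ qπ u), ← assoc, whisker_exchange, assoc, ha, tensor_whiskerLeft]
    simp only [assoc, Iso.inv_hom_id_assoc]
    rw [← whiskerLeft_comp_assoc, ha, whiskerLeft_comp_assoc, ha, MonObj.mul_assoc_assoc]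

end Eff

section Third

variable {C : Type u} [Category.{v} C] [CartesianMonoidalCategory C] [HasPullbacks C] [ToposLike C]
  {H K G : C} [GrpObj H] [GrpObj K] [GrpObj G] (h : H ⟶ K) (k : K ⟶ G) [Mono h] [Mono k]
  [IsMonHom h] [IsMonHom k]
  [HasCoequalizer (fst G H) ((G ◁ (h ≫ k)) ≫ μ[G])] [HasCoequalizer (fst K H) ((K ◁ h) ≫ μ[K])]
  [HasCoequalizer (fst G K) ((G ◁ k) ≫ μ[G])]

lemma third_iso
    (act : coequalizer (fst G H) ((G ◁ (h ≫ k)) ≫ μ[G]) ⊗ coequalizer (fst K H) ((K ◁ h) ≫ μ[K]) ⟶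
      coequalizer (fst G H) ((G ◁ (h ≫ k)) ≫ μ[G]))
    (hact : (qπ (h ≫ k) ⊗ₘ qπ h) ≫ act = (G ◁ k) ≫ μ[G] ≫ qπ (h ≫ k))
    (qbar : coequalizer (fst G H) ((G ◁ (h ≫ k)) ≫ μ[G]) ⟶ coequalizer (fst G K) ((G ◁ k) ≫ μ[G]))
    (hq : qπ (h ≫ k) ≫ qbar = qπ k) :
    Mono (lift act (fst _ _)) ∧
    ∃ wq : fst _ _ ≫ qbar = act ≫ qbar, Nonempty (IsColimit (Cofork.ofπ qbar wq)) := by
  have hπ := qπ_uee (h ≫ k)
  have hπ' := qπ_uee h
  have ht := tensor_uee hπ hπ'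
  have := UEffEpi.epi ht
  have := UEffEpi.epi hπ
  constructor
  · refine ⟨fun {T} x y e => ?_⟩
    have e₁ := congrArg (· ≫ fst _ _) e
    have e₂ := congrArg (· ≫ snd _ _) e
    simp only [assoc, lift_fst, lift_snd] at e₁ e₂
    refine CartesianMonoidalCategory.hom_ext _ _ e₂ ?_
    obtain ⟨T₁, c₁, hc₁, a, ha⟩ := exists_local_lift ht x
    obtain ⟨T₂, c₂, hc₂, b, hb⟩ := exists_local_lift hπ' (c₁ ≫ y ≫ snd _ _)
    have := UEffEpi.epi hc₁
    have := UEffEpi.epi hc₂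
    rw [← cancel_epi c₁, ← cancel_epi c₂]
    have hx : (c₂ ≫ a) ≫ (qπ (h ≫ k) ⊗ₘ qπ h) = c₂ ≫ c₁ ≫ x := by rw [assoc, ha]
    have hy : lift (c₂ ≫ a ≫ fst G K) b ≫ (qπ (h ≫ k) ⊗ₘ qπ h) = c₂ ≫ c₁ ≫ y := by
      rw [lift_map]
      apply CartesianMonoidalCategory.hom_ext
      · rw [lift_fst, assoc, assoc, ← tensorHom_fst (qπ (h ≫ k)) (qπ h), reassoc_of% ha, e₂, assoc, assoc]
      · rw [lift_snd, hb, assoc, assoc]
    have hab : (c₂ ≫ a) ≫ (G ◁ k) ≫ μ[G] ≫ qπ (h ≫ k) =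
        lift (c₂ ≫ a ≫ fst G K) b ≫ (G ◁ k) ≫ μ[G] ≫ qπ (h ≫ k) := by
      rw [← hact, ← assoc (c₂ ≫ a), hx, ← assoc (lift _ _), hy]
      simp only [assoc, e₁]
    rw [← assoc (G ◁ k), ← assoc (c₂ ≫ a), ← assoc (lift _ _), lift_relSnd, comp_relSnd,
      qπ_eq_iff] at hab
    obtain ⟨z, hz⟩ := hab
    rw [assoc c₂ a, _root_.mul_assoc, mul_left_cancel_iff, ← assoc z, ← assoc (c₂ ≫ a), ← MonObj.mul_comp,
      cancel_mono] at hz
    have := (qπ_eq_iff h ((c₂ ≫ a) ≫ snd G K) b).mpr ⟨z, hz⟩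
    rw [hb, assoc, assoc, ← tensorHom_snd (qπ (h ≫ k)) (qπ h), reassoc_of% ha] at this
    exact this
  · have wq : fst _ _ ≫ qbar = act ≫ qbar := by
      rw [← cancel_epi (qπ (h ≫ k) ⊗ₘ qπ h), reassoc_of% hact, tensorHom_fst_assoc, hq]
      exact (coequalizer.condition _ _).trans (assoc _ _ _)
    have hs : ∀ s : Cofork (fst _ _) act,
        fst G K ≫ qπ (h ≫ k) ≫ s.π = ((G ◁ k) ≫ μ[G]) ≫ qπ (h ≫ k) ≫ s.π := fun s => by
      rw [assoc, ← reassoc_of% hact, ← s.condition, tensorHom_fst_assoc]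
    refine ⟨wq, ⟨Cofork.IsColimit.mk _ (fun s => coequalizer.desc _ (hs s)) (fun s => ?_) (fun s m hm => ?_)⟩⟩
    · rw [Cofork.π_ofπ, ← cancel_epi (qπ (h ≫ k)), reassoc_of% hq]
      exact coequalizer.π_desc _ _
    · refine (cancel_epi (qπ k)).mp ?_
      refine Eq.trans ?_ (coequalizer.π_desc _ _).symm
      rw [← hq, assoc]
      exact congrArg (qπ (h ≫ k) ≫ ·) hm

end Third

section Sub

variable {C : Type u} [Category.{v} C] [CartesianMonoidalCategory C]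

/-- A subobject of a group object closed under the group operations. -/
def IsClosedSub {G : C} [GrpObj G] (K : Subobject G) : Prop :=
  (∀ T : C, K.Factors (1 : T ⟶ G)) ∧ (∀ {T : C} (a b : T ⟶ G), K.Factors a → K.Factors b → K.Factors (a * b)) ∧
    ∀ {T : C} (a : T ⟶ G), K.Factors a → K.Factors a⁻¹

lemma isClosedSub_iff {G : C} [GrpObj G] (K : Subobject G) :
    IsClosedSub K ↔ ∃ str : GrpObj (K : C), @IsMonHom C _ _ _ _ str.toMonObj _ K.arrow := by
  constructor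
  · rintro ⟨h1, hm, hi⟩
    have h1' : ∃ e : 𝟙_ C ⟶ (K : C), e ≫ K.arrow = η[G] :=
      ⟨K.factorThru _ (h1 _), (K.factorThru_arrow _ _).trans (by rw [Hom.one_def, toUnit_unique (toUnit (𝟙_ C)) (𝟙 _), id_comp])⟩
    exact ⟨_, grpObjOfClosed_isMonHom K.arrow h1'
      (fun T a b => ⟨_, K.factorThru_arrow _ (hm _ _ (K.factors_comp_arrow a) (K.factors_comp_arrow b))⟩)
      (fun T a => ⟨_, K.factorThru_arrow _ (hi _ (K.factors_comp_arrow a))⟩)⟩
  · rintro ⟨str, hstr⟩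
    letI := str
    have := hstr
    refine ⟨fun T => ?_, fun {T} a b ha hb => ?_, fun {T} a ha => ?_⟩
    · rw [← MonObj.one_comp K.arrow]
      exact K.factors_comp_arrow _
    · rw [← K.factorThru_arrow a ha, ← K.factorThru_arrow b hb, ← MonObj.mul_comp]
      exact K.factors_comp_arrow _
    · rw [← K.factorThru_arrow a ha, ← GrpObj.inv_comp]
      exact K.factors_comp_arrow _

lemma le_iff_factors {X : C} (K L : Subobject X) : K ≤ L ↔ ∀ {T : C} (x : T ⟶ X), K.Factors x → L.Factors x :=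
  ⟨fun h _ x hx => Subobject.factors_of_le x h hx,
    fun h => Subobject.le_of_comm _ (L.factorThru_arrow K.arrow (h _ (K.factors_self)))⟩

lemma factors_mk_iff {X Y T : C} (f : Y ⟶ X) [Mono f] (x : T ⟶ X) :
    (Subobject.mk f).Factors x ↔ ∃ y : T ⟶ Y, y ≫ f = x := Iff.rfl

lemma mk_le_factors {X Y T : C} {f : Y ⟶ X} [Mono f] {K : Subobject X} (h : Subobject.mk f ≤ K) (x : T ⟶ Y) :
    K.Factors (x ≫ f) :=
  Subobject.factors_of_le _ h ((Subobject.mk_factors_iff _ _).mpr ⟨x, rfl⟩)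

variable [HasPullbacks C]

lemma pullback_factors_iff {X Y T : C} (f : X ⟶ Y) (K : Subobject Y) (x : T ⟶ X) :
    ((Subobject.pullback f).obj K).Factors x ↔ K.Factors (x ≫ f) := by
  have h := Subobject.isPullback f K
  constructor
  · intro hx
    rw [← Subobject.factorThru_arrow _ x hx, assoc, ← h.w, ← assoc]
    exact K.factors_comp_arrow _
  · intro hx
    exact (Subobject.factors_iff _ _).mpr ⟨h.lift (K.factorThru _ hx) x (K.factorThru_arrow _ _), h.lift_snd _ _ _⟩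

lemma factors_of_uee {X T T' : C} {c : T' ⟶ T} (hc : UEffEpi.UEE c) (K : Subobject X) (x : T ⟶ X)
    (h : K.Factors (c ≫ x)) : K.Factors x := by
  have := UEffEpi.effectiveEpi hc
  obtain ⟨l, hl⟩ := ShfRel.exists_lift_of_mono c K.arrow x _ (K.factorThru_arrow _ h)
  exact (Subobject.factors_iff _ _).mpr ⟨l, hl⟩

lemma normal_iff {X : C} [GrpObj X] (K : Subobject X) :
    (∀ (T : C) (g : T ⟶ X) (k : T ⟶ (K : C)), ∃ k' : T ⟶ (K : C), g * (k ≫ K.arrow) * g⁻¹ = k' ≫ K.arrow) ↔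
      ∀ {T : C} (g x : T ⟶ X), K.Factors x → K.Factors (g * x * g⁻¹) :=
  ⟨fun h T g x hx => by
    obtain ⟨k', hk'⟩ := h T g (K.factorThru x hx)
    rw [K.factorThru_arrow] at hk'
    rw [hk']
    exact K.factors_comp_arrow _,
   fun h T g k => ⟨_, (K.factorThru_arrow _ (h g _ (K.factors_comp_arrow k))).symm⟩⟩

variable [ToposLike C] {H G : C} [GrpObj H] [GrpObj G] (u : H ⟶ G) [Mono u] [IsMonHom u]
  [HasCoequalizer (fst G H) ((G ◁ u) ≫ μ[G])] [GrpObj (coequalizer (fst G H) ((G ◁ u) ≫ μ[G]))]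
  [IsMonHom (qπ u)]

lemma correspondence :
    Set.BijOn (Subobject.pullback (qπ u)).obj {K' | IsClosedSub K'}
      {K : Subobject G | Subobject.mk u ≤ K ∧ IsClosedSub K} ∧
    ∀ K' : Subobject (coequalizer (fst G H) ((G ◁ u) ≫ μ[G])),
      ((∀ {T : C} (g x : T ⟶ coequalizer (fst G H) ((G ◁ u) ≫ μ[G])), K'.Factors x → K'.Factors (g * x * g⁻¹)) ↔
        ∀ {T : C} (g x : T ⟶ G), ((Subobject.pullback (qπ u)).obj K').Factors x →
          ((Subobject.pullback (qπ u)).obj K').Factors (g * x * g⁻¹)) := by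
  have hπ := qπ_uee u
  refine ⟨⟨?_, ?_, ?_⟩, ?_⟩
  · rintro K' ⟨h1, hm, hi⟩
    refine ⟨Subobject.mk_le_of_comm _ (((Subobject.pullback (qπ u)).obj K').factorThru_arrow u
        ((pullback_factors_iff _ _ _).mpr ?_)), fun T => ?_, fun {T} a b ha hb => ?_, fun {T} a ha => ?_⟩
    · have : ((1 : H ⟶ G)) ≫ qπ u = u ≫ qπ u := (qπ_eq_iff u _ _).mpr ⟨𝟙 H, by rw [id_comp, _root_.one_mul]⟩
      rw [← this, MonObj.one_comp]
      exact h1 _
    · rw [pullback_factors_iff, MonObj.one_comp]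
      exact h1 _
    · rw [pullback_factors_iff] at ha hb ⊢
      rw [MonObj.mul_comp]
      exact hm _ _ ha hb
    · rw [pullback_factors_iff] at ha ⊢
      rw [GrpObj.inv_comp]
      exact hi _ ha
  · intro K _ L _ hKL
    have key : ∀ A B, (Subobject.pullback (qπ u)).obj A ≤ (Subobject.pullback (qπ u)).obj B → A ≤ B := by
      intro A B h
      rw [le_iff_factors]
      intro T x hx
      obtain ⟨T', c, hc, a, ha⟩ := exists_local_lift hπ x
      refine factors_of_uee hc _ _ (ha ▸ (pullback_factors_iff _ _ a).mp (Subobject.factors_of_le a h ?_))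
      exact (pullback_factors_iff _ _ a).mpr (ha.symm ▸ Subobject.factors_of_factors_right c hx)
    exact le_antisymm (key _ _ hKL.le) (key _ _ hKL.ge)
  · rintro K ⟨hle, h1, hm, hi⟩
    let f := K.arrow ≫ qπ u
    obtain ⟨e⟩ := ToposLike.ueer ((IsKernelPair.equivalenceRelation f (pullback.fst f f) (pullback.snd f f)
      (pullbackIsPullback _ _) (IsPullback.of_hasPullback f f)))
    have hp := e.universally_effectiveEpi_π
    let g := e.isPushout.desc f f pullback.condition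
    have hg : e.π ≫ g = f := e.isPushout.inl_desc _ _ _
    have : Mono g := ⟨fun {T} a b hab => by
      obtain ⟨T₁, c₁, hc₁, a', ha⟩ := exists_local_lift hp a
      obtain ⟨T₂, c₂, hc₂, b', hb⟩ := exists_local_lift hp (c₁ ≫ b)
      have := UEffEpi.epi hc₁
      have := UEffEpi.epi hc₂
      rw [← cancel_epi c₁, ← cancel_epi c₂, ← ha, ← hb]
      have hf : (c₂ ≫ a') ≫ f = b' ≫ f := by
        rw [← hg, assoc, reassoc_of% ha, reassoc_of% hb, hab]
      have := congrArg (pullback.lift _ _ hf ≫ ·) e.isKernelPair.w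
      simpa only [pullback.lift_fst_assoc, pullback.lift_snd_assoc, assoc] using this⟩
    have himg : ∀ {T : C} (x : T ⟶ coequalizer (fst G H) ((G ◁ u) ≫ μ[G])), (Subobject.mk g).Factors x →
        ∃ (T' : C) (c : T' ⟶ T) (_ : UEffEpi.UEE c) (a : T' ⟶ G), K.Factors a ∧ a ≫ qπ u = c ≫ x := by
      intro T x hx
      obtain ⟨y, rfl⟩ := (factors_mk_iff _ _).mp hx
      obtain ⟨T', c, hc, a, ha⟩ := exists_local_lift hp y
      exact ⟨T', c, hc, a ≫ K.arrow, K.factors_comp_arrow _, by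
        rw [assoc, ← reassoc_of% ha, hg]⟩
    have himg' : ∀ {T : C} (a : T ⟶ G), K.Factors a → (Subobject.mk g).Factors (a ≫ qπ u) := fun a ha =>
      (factors_mk_iff _ _).mpr ⟨K.factorThru a ha ≫ e.π, by
        rw [assoc, hg, ← assoc, K.factorThru_arrow]⟩
    refine ⟨Subobject.mk g, ⟨fun T => ?_, fun {T} x y hx hy => ?_, fun {T} x hx => ?_⟩, ?_⟩
    · rw [← MonObj.one_comp (qπ u)]
      exact himg' _ (h1 _)
    · obtain ⟨T₁, c₁, hc₁, a, haK, ha⟩ := himg x hx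
      obtain ⟨T₂, c₂, hc₂, b, hbK, hb⟩ := himg (c₁ ≫ y) (Subobject.factors_of_factors_right c₁ hy)
      refine factors_of_uee hc₁ _ _ (factors_of_uee hc₂ _ _ ?_)
      rw [MonObj.comp_mul, MonObj.comp_mul, ← hb, ← ha, ← assoc, ← MonObj.mul_comp]
      exact himg' _ (hm _ _ (Subobject.factors_of_factors_right c₂ haK) hbK)
    · obtain ⟨T₁, c₁, hc₁, a, haK, ha⟩ := himg x hx
      refine factors_of_uee hc₁ _ _ ?_
      rw [GrpObj.comp_inv, ← ha, ← GrpObj.inv_comp]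
      exact himg' _ (hi _ haK)
    · refine le_antisymm ((le_iff_factors _ _).mpr fun {T} x hx => ?_)
        ((le_iff_factors _ _).mpr fun {T} x hx => (pullback_factors_iff _ _ _).mpr (himg' x hx))
      rw [pullback_factors_iff] at hx
      obtain ⟨T₁, c₁, hc₁, a, haK, ha⟩ := himg _ hx
      refine factors_of_uee hc₁ _ _ ?_
      obtain ⟨z, hz⟩ := (qπ_eq_iff u a (c₁ ≫ x)).mp (ha.trans (assoc _ _ _).symm)
      rw [← hz]
      exact hm _ _ haK (mk_le_factors hle z)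
  · intro K'
    constructor
    · intro h T g x hx
      rw [pullback_factors_iff] at hx ⊢
      rw [MonObj.mul_comp, MonObj.mul_comp, GrpObj.inv_comp]
      exact h _ _ hx
    · intro h T g x hx
      obtain ⟨T₁, c₁, hc₁, a, ha⟩ := exists_local_lift hπ g
      obtain ⟨T₂, c₂, hc₂, b, hb⟩ := exists_local_lift hπ (c₁ ≫ x)
      refine factors_of_uee hc₁ _ _ (factors_of_uee hc₂ _ _ ?_)
      have := (pullback_factors_iff _ _ _).mp (h (c₂ ≫ a) b ((pullback_factors_iff _ _ _).mpr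
        (hb ▸ Subobject.factors_of_factors_right c₂ (Subobject.factors_of_factors_right c₁ hx))))
      simp only [MonObj.mul_comp, GrpObj.inv_comp, assoc, ha, hb] at this
      simpa only [MonObj.comp_mul, GrpObj.comp_inv] using this

end Sub

end Groth.L09.GrpQuot
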