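import Groth.Agent.L09.FibBasic

/-!
A functor over the base is fully faithful / an equivalence iff it is so on all fibres.
-/

set_option autoImplicit false
universe v₄ u₄ v₃ u₃ v₂ u₂ v u

open CategoryTheory Category Functor

namespace Groth.L09.Fib

variable {C : Type u} [Category.{v} C] {𝒳 : BasedCategory.{v₂, u₂} C} {𝒴 : BasedCategory.{v₃, u₃} C}

lemma preservesStronglyCartesian_of_isFibGrpd (G : 𝒳 ⥤ᵇ 𝒴) (h : FibCat.IsFibGrpd 𝒴.p) :
    FibCat.PreservesStronglyCartesian G := fun _ _ f _ _ φ hφ =>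
  have := hφ.toIsHomLift
  stronglyCartesian_of_isFibGrpd 𝒴.p h f (G.map φ)

lemma eq_fiberFunctor (G : 𝒳 ⥤ᵇ 𝒴) {U : C} (GU : 𝒳.p.Fiber U ⥤ 𝒴.p.Fiber U)
    (h : GU ⋙ Fiber.fiberInclusion = Fiber.fiberInclusion ⋙ G.toFunctor) :
    GU = FibCat.fiberFunctor G U := by
  refine CategoryTheory.Functor.ext (fun X => Subtype.ext (Functor.congr_obj h X)) (fun X Y f => ?_)
  apply Fiber.fiberInclusion.map_injective
  rw [Functor.map_comp, Functor.map_comp, eqToHom_map, eqToHom_map]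
  exact Functor.congr_hom h f

lemma exists_hom_fiber_comp (G : 𝒳 ⥤ᵇ 𝒴) (hG : FibCat.PreservesStronglyCartesian G) {R S : C} (f : R ⟶ S)
    {a b b' : 𝒳.obj} (π : b' ⟶ b) [𝒳.p.IsStronglyCartesian f π] (ha : 𝒳.p.obj a = R)
    (hf : ∀ U, (FibCat.fiberFunctor G U).Full) (g : G.obj a ⟶ G.obj b) [𝒴.p.IsHomLift f g] :
    ∃ φ : a ⟶ b, G.map φ = g := by
  have := hG f π inferInstance
  let χ := IsCartesian.map 𝒴.p f (G.map π) g
  have hb' : 𝒳.p.obj b' = R := IsHomLift.domain_eq 𝒳.p f π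
  let χ' : (FibCat.fiberFunctor G R).obj (Fiber.mk ha) ⟶ (FibCat.fiberFunctor G R).obj (Fiber.mk hb') :=
    ⟨χ, IsCartesian.map_isHomLift 𝒴.p f (G.map π) g⟩
  obtain ⟨ψ, hψ⟩ := (hf R).map_surjective χ'
  have h1 : G.map ψ.1 = χ := congrArg Subtype.val hψ
  let q : a ⟶ b' := ψ.1
  refine ⟨q ≫ π, ?_⟩
  rw [Functor.map_comp, show G.map q = χ from h1, IsCartesian.fac]

variable [𝒳.p.IsFibered]

lemma full_of_fiber (G : 𝒳 ⥤ᵇ 𝒴) (hG : FibCat.PreservesStronglyCartesian G)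
    (hf : ∀ U, (FibCat.fiberFunctor G U).Full) : G.toFunctor.Full := by
  refine ⟨fun {a b} g => ?_⟩
  let f : 𝒳.p.obj a ⟶ 𝒳.p.obj b := eqToHom (G.w_obj a).symm ≫ 𝒴.p.map g ≫ eqToHom (G.w_obj b)
  have : 𝒴.p.IsHomLift f g := by simp only [f]; infer_instance
  exact exists_hom_fiber_comp G hG f (IsPreFibered.pullbackMap (rfl : 𝒳.p.obj b = 𝒳.p.obj b) f) rfl hf g

lemma faithful_of_fiber (G : 𝒳 ⥤ᵇ 𝒴) (hG : FibCat.PreservesStronglyCartesian G)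
    (hf : ∀ U, (FibCat.fiberFunctor G U).Faithful) : G.toFunctor.Faithful := by
  refine ⟨fun {a b φ φ'} hφ => ?_⟩
  let f := 𝒳.p.map φ
  have h' : 𝒳.p.IsHomLift f φ' := by
    have : 𝒳.p.IsHomLift f φ := inferInstance
    rw [← BasedFunctor.isHomLift_iff G] at this ⊢
    rwa [← hφ]
  let π := IsPreFibered.pullbackMap (rfl : 𝒳.p.obj b = 𝒳.p.obj b) f
  have := hG f π inferInstance
  let χ := IsCartesian.map 𝒳.p f π φ
  let χ' := IsCartesian.map 𝒳.p f π φ'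
  have e : G.map χ = G.map χ' := by
    refine IsCartesian.ext 𝒴.p f (G.map π) _ _ ?_
    rw [← Functor.map_comp, ← Functor.map_comp, IsCartesian.fac, IsCartesian.fac]
    exact hφ
  have hb' := IsHomLift.domain_eq 𝒳.p f π
  let m : Fiber.mk (rfl : 𝒳.p.obj a = 𝒳.p.obj a) ⟶ Fiber.mk hb' := ⟨χ, IsCartesian.map_isHomLift 𝒳.p f π φ⟩
  let m' : Fiber.mk (rfl : 𝒳.p.obj a = 𝒳.p.obj a) ⟶ Fiber.mk hb' := ⟨χ', IsCartesian.map_isHomLift 𝒳.p f π φ'⟩
  have em : m = m' := (hf _).map_injective (Subtype.ext e)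
  have : χ = χ' := congrArg Subtype.val em
  calc φ = χ ≫ π := (IsCartesian.fac 𝒳.p f π φ).symm
    _ = χ' ≫ π := by rw [this]
    _ = φ' := IsCartesian.fac 𝒳.p f π φ'

omit [𝒳.p.IsFibered] in
lemma fiber_full (G : 𝒳 ⥤ᵇ 𝒴) [G.toFunctor.Full] (U : C) : (FibCat.fiberFunctor G U).Full := by
  refine ⟨fun {a b} g => ⟨⟨G.toFunctor.preimage g.1, ?_⟩, ?_⟩⟩
  · rw [← BasedFunctor.isHomLift_iff G, Functor.map_preimage]
    exact g.2
  · apply Subtype.ext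
    exact G.toFunctor.map_preimage g.1

omit [𝒳.p.IsFibered] in
lemma fiber_faithful (G : 𝒳 ⥤ᵇ 𝒴) [G.toFunctor.Faithful] (U : C) : (FibCat.fiberFunctor G U).Faithful :=
  ⟨fun {_ _ f g} h => Subtype.ext (G.toFunctor.map_injective (congrArg Subtype.val h))⟩

omit [𝒳.p.IsFibered] in
lemma fiber_essSurj (G : 𝒳 ⥤ᵇ 𝒴) (h : FibCat.IsEquivOver G) (U : C) :
    (FibCat.fiberFunctor G U).EssSurj := by
  refine ⟨fun η => ?_⟩
  obtain ⟨ξ, e, he⟩ := exists_iso_over_of_isEquivOver h η.1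
  have hU : 𝒴.p.obj η.1 = U := η.2
  rw [hU] at he
  have hξ : 𝒳.p.obj ξ = U := (G.w_obj ξ).symm.trans (IsHomLift.domain_eq 𝒴.p (𝟙 U) e.hom)
  exact ⟨Fiber.mk hξ, ⟨⟨⟨e.hom, he⟩, ⟨e.inv, @IsHomLift.lift_id_inv _ _ _ _ 𝒴.p U _ _ e he⟩, Fiber.hom_ext e.hom_inv_id, Fiber.hom_ext e.inv_hom_id⟩⟩⟩

lemma isEquivOver_iff_fiber (G : 𝒳 ⥤ᵇ 𝒴) (hG : FibCat.PreservesStronglyCartesian G) :
    FibCat.IsEquivOver G ↔ ∀ U, (FibCat.fiberFunctor G U).IsEquivalence := by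
  constructor
  · intro h U
    obtain ⟨⟨h1, h2⟩, -⟩ := (isEquivOver_iff G).1 h
    have := fiber_full G U
    have := fiber_faithful G U
    have := fiber_essSurj G h U
    exact Functor.IsEquivalence.mk
  · intro h
    have := full_of_fiber G hG (fun U => (h U).full)
    have := faithful_of_fiber G hG (fun U => (h U).faithful)
    refine isEquivOver_mk G fun η => ?_
    have := h (𝒴.p.obj η)
    let η' : 𝒴.p.Fiber (𝒴.p.obj η) := Fiber.mk rfl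
    let e := (FibCat.fiberFunctor G (𝒴.p.obj η)).objObjPreimageIso η'
    exact ⟨_, Fiber.fiberInclusion.mapIso e, e.hom.2⟩

end Groth.L09.Fib
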