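import Groth.Agent.L09.FibYoneda

/-!
Setoid fibrations: morphisms are determined by their image; based functors between slices.
-/

set_option autoImplicit false
universe v₂ u₂ v u

open CategoryTheory Category Functor

namespace Groth.L09.Fib

theorem setoid_ext {C : Type u} [Category.{v} C] {𝒳 : Type u₂} [Category.{v₂} 𝒳] {p : 𝒳 ⥤ C} (h : FibCat.IsFibSetoid p)
    {R S : C} (f : R ⟶ S) {a b : 𝒳} {φ ψ : a ⟶ b} [p.IsHomLift f φ] [p.IsHomLift f ψ] : φ = ψ := by
  obtain ⟨y, π, hπ⟩ := h.1.exists_lift (x := b) (f ≫ eqToHom (IsHomLift.codomain_eq p f φ).symm)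
  rw [IsHomLift.lift_comp_eqToHom_iff] at hπ
  have := stronglyCartesian_of_isFibGrpd p h.1 f π
  let χ := IsCartesian.map p f π φ
  let χ' := IsCartesian.map p f π ψ
  let za : p.Fiber R := Fiber.mk (IsHomLift.domain_eq p f φ)
  let zy : p.Fiber R := Fiber.mk (IsHomLift.domain_eq p f π)
  have : (⟨χ, IsCartesian.map_isHomLift p f π φ⟩ : za ⟶ zy) = ⟨χ', IsCartesian.map_isHomLift p f π ψ⟩ :=
    (h.2 R za zy).elim _ _
  rw [← IsCartesian.fac p f π φ, ← IsCartesian.fac p f π ψ]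
  exact congrArg (· ≫ π) (congrArg Subtype.val this)

theorem over_based_hom {C : Type u} [Category.{v} C] {X X' : C} (H : FibCat.overCat X' ⥤ᵇ FibCat.overCat X) (a : Over X') :
    (H.obj a).hom = eqToHom (H.w_obj a) ≫ a.hom ≫ eqToHom (H.w_obj (Over.mk (𝟙 X'))).symm ≫ (H.obj (Over.mk (𝟙 X'))).hom := by
  have e : (H.map (toTerm a)).left = eqToHom (H.w_obj a) ≫ a.hom ≫ eqToHom (H.w_obj (Over.mk (𝟙 X'))).symm :=
    Functor.congr_hom H.w (toTerm a)
  have w := Over.w (H.map (toTerm a))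
  rw [e] at w
  exact (w.symm).trans ((assoc _ _ _).trans (congrArg (eqToHom (H.w_obj a) ≫ ·) (assoc _ _ _)))

end Groth.L09.Fib
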