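import Groth.Agent.L09.FibEquiv

/-!
Cartesian morphisms and fibredness of the 2-fibre product over the base.
-/

set_option autoImplicit false
universe v₄ u₄ v₃ u₃ v₂ u₂ v u

open CategoryTheory CategoryTheory.Limits Category Functor

namespace Groth.L09.Fib

variable {C : Type u} [Category.{v} C] {𝒳 : BasedCategory.{v₂, u₂} C} {𝒴 : BasedCategory.{v₃, u₃} C}
  {𝒮 : BasedCategory.{v₄, u₄} C} {F : 𝒳 ⥤ᵇ 𝒮} {G : 𝒴 ⥤ᵇ 𝒮}

lemma fp_isHomLift_iff {x y : (FibCat.fp F G).obj} {R S : C} (f : R ⟶ S) (m : x ⟶ y) :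
    (FibCat.fp F G).p.IsHomLift f m ↔ 𝒳.p.IsHomLift f m.hom.fst := by
  constructor
  · intro h
    exact IsHomLift.of_fac' 𝒳.p f m.hom.fst (IsHomLift.domain_eq (FibCat.fp F G).p f m)
      (IsHomLift.codomain_eq (FibCat.fp F G).p f m) (IsHomLift.fac' (FibCat.fp F G).p f m)
  · intro h
    exact IsHomLift.of_fac' (FibCat.fp F G).p f m
      (@IsHomLift.domain_eq _ _ _ _ 𝒳.p _ _ _ _ f m.hom.fst h)
      (@IsHomLift.codomain_eq _ _ _ _ 𝒳.p _ _ _ _ f m.hom.fst h)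
      (@IsHomLift.fac' _ _ _ _ 𝒳.p _ _ _ _ f m.hom.fst h)

lemma fp_snd_obj (x : (FibCat.fp F G).obj) : 𝒴.p.obj x.obj.snd = 𝒳.p.obj x.obj.fst := by
  have : 𝒮.p.IsHomLift (𝟙 (𝒳.p.obj x.obj.fst)) x.obj.iso.hom := x.property
  exact (G.w_obj x.obj.snd).symm.trans (IsHomLift.codomain_eq 𝒮.p (𝟙 (𝒳.p.obj x.obj.fst)) x.obj.iso.hom)

lemma fp_snd_lift {x y : (FibCat.fp F G).obj} {R S : C} (f : R ⟶ S) (m : x ⟶ y)
    (h : (FibCat.fp F G).p.IsHomLift f m) : 𝒴.p.IsHomLift f m.hom.snd := by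
  have hd := IsHomLift.domain_eq (FibCat.fp F G).p f m
  have hc := IsHomLift.codomain_eq (FibCat.fp F G).p f m
  subst hd; subst hc
  have := IsHomLift.eq_of_isHomLift (FibCat.fp F G).p f m
  subst this
  exact FibCat.fp_isHomLift_snd F G m

lemma fp_iso_lift (x : (FibCat.fp F G).obj) {U : C} (h : 𝒳.p.obj x.obj.fst = U) :
    𝒮.p.IsHomLift (𝟙 U) x.obj.iso.hom := by
  subst h; exact x.property

lemma fp_stronglyCartesian {x y : (FibCat.fp F G).obj} {R S : C} (f : R ⟶ S) (m : x ⟶ y)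
    (h1 : 𝒳.p.IsStronglyCartesian f m.hom.fst) (h2 : 𝒴.p.IsStronglyCartesian f m.hom.snd)
    (h3 : 𝒮.p.IsStronglyCartesian f (G.map m.hom.snd)) :
    (FibCat.fp F G).p.IsStronglyCartesian f m := by
  have := (fp_isHomLift_iff f m).2 h1.toIsHomLift
  refine ⟨fun {z} g ψ hψ => ?_⟩
  have hψ1 : 𝒳.p.IsHomLift (g ≫ f) ψ.hom.fst := (fp_isHomLift_iff _ ψ).1 hψ
  have hψ2 : 𝒴.p.IsHomLift (g ≫ f) ψ.hom.snd := fp_snd_lift _ ψ hψ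
  obtain ⟨χ₁, ⟨hχ₁, hc₁⟩, hu₁⟩ :=
    IsStronglyCartesian.universal_property 𝒳.p f m.hom.fst g (g ≫ f) rfl ψ.hom.fst
  obtain ⟨χ₂, ⟨hχ₂, hc₂⟩, hu₂⟩ :=
    IsStronglyCartesian.universal_property 𝒴.p f m.hom.snd g (g ≫ f) rfl ψ.hom.snd
  have hzi := fp_iso_lift z (U := (FibCat.fp F G).p.obj z) rfl
  have hxi := fp_iso_lift x (IsHomLift.domain_eq 𝒳.p f m.hom.fst)
  have hw : F.map χ₁ ≫ x.obj.iso.hom = z.obj.iso.hom ≫ G.map χ₂ := by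
    apply IsStronglyCartesian.ext 𝒮.p f (G.map m.hom.snd) g
    rw [assoc, ← m.hom.w, ← assoc, ← Functor.map_comp, hc₁, assoc, ← Functor.map_comp, hc₂, ψ.hom.w]
  refine ⟨ObjectProperty.homMk ⟨χ₁, χ₂, hw⟩, ⟨(fp_isHomLift_iff _ _).2 hχ₁, ?_⟩, ?_⟩
  · exact ObjectProperty.hom_ext _ (CategoricalPullback.hom_ext hc₁ hc₂)
  · rintro χ ⟨hl, hc⟩
    refine ObjectProperty.hom_ext _ (CategoricalPullback.hom_ext ?_ ?_)
    · exact hu₁ _ ⟨(fp_isHomLift_iff _ χ).1 hl, by rw [← hc]; rfl⟩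
    · exact hu₂ _ ⟨fp_snd_lift _ χ hl, by rw [← hc]; rfl⟩

lemma fp_cartesian {x y : (FibCat.fp F G).obj} {R S : C} (f : R ⟶ S) (m : x ⟶ y)
    (h1 : 𝒳.p.IsCartesian f m.hom.fst) (h2 : 𝒴.p.IsCartesian f m.hom.snd)
    (h3 : 𝒮.p.IsCartesian f (G.map m.hom.snd)) :
    (FibCat.fp F G).p.IsCartesian f m := by
  have := (fp_isHomLift_iff f m).2 h1.toIsHomLift
  refine { universal_property := fun {z} ψ hψ => ?_ }
  have hψ1 : 𝒳.p.IsHomLift f ψ.hom.fst := (fp_isHomLift_iff _ ψ).1 hψ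
  have hψ2 : 𝒴.p.IsHomLift f ψ.hom.snd := fp_snd_lift _ ψ hψ
  obtain ⟨χ₁, ⟨hχ₁, hc₁⟩, hu₁⟩ := h1.universal_property ψ.hom.fst
  obtain ⟨χ₂, ⟨hχ₂, hc₂⟩, hu₂⟩ := h2.universal_property ψ.hom.snd
  have hzi := fp_iso_lift z (IsHomLift.domain_eq 𝒳.p f ψ.hom.fst)
  have hxi := fp_iso_lift x (IsHomLift.domain_eq 𝒳.p f m.hom.fst)
  have hw : F.map χ₁ ≫ x.obj.iso.hom = z.obj.iso.hom ≫ G.map χ₂ := by
    apply IsCartesian.ext 𝒮.p f (G.map m.hom.snd)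
    rw [assoc, ← m.hom.w, ← assoc, ← Functor.map_comp, hc₁, assoc, ← Functor.map_comp, hc₂, ψ.hom.w]
  refine ⟨ObjectProperty.homMk ⟨χ₁, χ₂, hw⟩, ⟨(fp_isHomLift_iff _ _).2 hχ₁, ?_⟩, ?_⟩
  · exact ObjectProperty.hom_ext _ (CategoricalPullback.hom_ext hc₁ hc₂)
  · rintro χ ⟨hl, hc⟩
    refine ObjectProperty.hom_ext _ (CategoricalPullback.hom_ext ?_ ?_)
    · exact hu₁ _ ⟨(fp_isHomLift_iff _ χ).1 hl, by rw [← hc]; rfl⟩
    · exact hu₂ _ ⟨fp_snd_lift _ χ hl, by rw [← hc]; rfl⟩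

/-- Two morphisms whose images are cartesian over the same morphism give a morphism of the fibre product. -/
lemma exists_fp_hom (x : (FibCat.fp F G).obj) {R : C} (f : R ⟶ 𝒳.p.obj x.obj.fst)
    {a : 𝒳.obj} (π₁ : a ⟶ x.obj.fst) [𝒳.p.IsHomLift f π₁]
    {b : 𝒴.obj} (π₂ : b ⟶ x.obj.snd) [𝒴.p.IsHomLift f π₂]
    [𝒮.p.IsCartesian f (F.map π₁)] [𝒮.p.IsCartesian f (G.map π₂)] :
    ∃ (w : (FibCat.fp F G).obj) (m : w ⟶ x) (ha : w.obj.fst = a) (hb : w.obj.snd = b),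
      m.hom.fst = eqToHom ha ≫ π₁ ∧ m.hom.snd = eqToHom hb ≫ π₂ := by
  have hi := fp_iso_lift x (U := 𝒳.p.obj x.obj.fst) rfl
  let φ' := F.map π₁ ≫ x.obj.iso.hom
  have : 𝒮.p.IsCartesian f φ' := inferInstance
  let e : F.obj a ≅ G.obj b := IsCartesian.domainUniqueUpToIso 𝒮.p f (G.map π₂) φ'
  have he : 𝒮.p.IsHomLift (𝟙 (𝒳.p.obj a)) e.hom := by
    rw [IsHomLift.domain_eq 𝒳.p f π₁]
    infer_instance
  let w : (FibCat.fp F G).obj := ⟨⟨a, b, e⟩, he⟩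
  refine ⟨w, ObjectProperty.homMk ⟨π₁, π₂, ?_⟩, rfl, rfl, by simp, by simp⟩
  show F.map π₁ ≫ x.obj.iso.hom = e.hom ≫ G.map π₂
  exact (IsCartesian.fac 𝒮.p f (G.map π₂) φ').symm

lemma fp_isFibered [𝒳.p.IsFibered] [𝒴.p.IsFibered]
    (hF : FibCat.PreservesStronglyCartesian F) (hG : FibCat.PreservesStronglyCartesian G) :
    (FibCat.fp F G).p.IsFibered :=
  IsFibered.of_exists_isStronglyCartesian fun x R (f : R ⟶ 𝒳.p.obj x.obj.fst) => by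
    let π₁ := IsPreFibered.pullbackMap (p := 𝒳.p) (rfl : 𝒳.p.obj x.obj.fst = _) f
    let π₂ := IsPreFibered.pullbackMap (p := 𝒴.p) (fp_snd_obj x) f
    have h1 : 𝒳.p.IsStronglyCartesian f π₁ := inferInstance
    have h2 : 𝒴.p.IsStronglyCartesian f π₂ := inferInstance
    have := hF f π₁ h1
    have := hG f π₂ h2
    obtain ⟨⟨⟨a, b, e⟩, he⟩, m, ha, hb, e1, e2⟩ := exists_fp_hom x f π₁ π₂
    dsimp only at ha hb
    subst ha; subst hb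
    rw [eqToHom_refl, id_comp] at e1 e2
    refine ⟨_, m, fp_stronglyCartesian f m ?_ ?_ ?_⟩
    · rw [e1]; infer_instance
    · rw [e2]; infer_instance
    · rw [e2]; exact hG f π₂ h2

lemma fp_isPreFibered [𝒳.p.IsPreFibered] [𝒴.p.IsPreFibered]
    (hF : ∀ ⦃R S : C⦄ (f : R ⟶ S) ⦃a b : 𝒳.obj⦄ (φ : a ⟶ b), 𝒳.p.IsCartesian f φ → 𝒮.p.IsCartesian f (F.map φ))
    (hG : ∀ ⦃R S : C⦄ (f : R ⟶ S) ⦃a b : 𝒴.obj⦄ (φ : a ⟶ b), 𝒴.p.IsCartesian f φ → 𝒮.p.IsCartesian f (G.map φ)) :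
    (FibCat.fp F G).p.IsPreFibered := by
  refine ⟨fun {x R} (f : R ⟶ 𝒳.p.obj x.obj.fst) => ?_⟩
  let π₁ := IsPreFibered.pullbackMap (p := 𝒳.p) (rfl : 𝒳.p.obj x.obj.fst = _) f
  let π₂ := IsPreFibered.pullbackMap (p := 𝒴.p) (fp_snd_obj x) f
  have h1 : 𝒳.p.IsCartesian f π₁ := inferInstance
  have h2 : 𝒴.p.IsCartesian f π₂ := inferInstance
  have := hF f π₁ h1
  have := hG f π₂ h2
  obtain ⟨⟨⟨a, b, e⟩, he⟩, m, ha, hb, e1, e2⟩ := exists_fp_hom x f π₁ π₂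
  dsimp only at ha hb
  subst ha; subst hb
  rw [eqToHom_refl, id_comp] at e1 e2
  refine ⟨_, m, fp_cartesian f m ?_ ?_ ?_⟩
  · rw [e1]; infer_instance
  · rw [e2]; infer_instance
  · rw [e2]; exact hG f π₂ h2

lemma fp_isFibGrpd (hX : FibCat.IsFibGrpd 𝒳.p) (hY : FibCat.IsFibGrpd 𝒴.p) (hS : FibCat.IsFibGrpd 𝒮.p) :
    FibCat.IsFibGrpd (FibCat.fp F G).p := by
  have := isFibered_of_isFibGrpd _ hX
  have := isFibered_of_isFibGrpd _ hY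
  have hf := fp_isFibered (preservesStronglyCartesian_of_isFibGrpd F hS) (preservesStronglyCartesian_of_isFibGrpd G hS)
  refine ⟨fun {x V} f => ⟨_, IsPreFibered.pullbackMap (p := (FibCat.fp F G).p) rfl f, inferInstance⟩,
    fun {y x} m => ?_⟩
  have : 𝒳.p.IsHomLift ((FibCat.fp F G).p.map m) m.hom.fst := (fp_isHomLift_iff _ m).1 inferInstance
  have := fp_snd_lift ((FibCat.fp F G).p.map m) m inferInstance
  exact fp_stronglyCartesian _ m (stronglyCartesian_of_isFibGrpd _ hX _ _)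
    (stronglyCartesian_of_isFibGrpd _ hY _ _) (stronglyCartesian_of_isFibGrpd _ hS _ _)

lemma selfOver_stronglyCartesian {R S : C} (f : R ⟶ S) {a b : (FibCat.selfOver C).obj} (φ : a ⟶ b)
    [(FibCat.selfOver C).p.IsHomLift f φ] : (FibCat.selfOver C).p.IsStronglyCartesian f φ :=
  stronglyCartesian_of_isFibGrpd (FibCat.selfOver C).p (isFibSet_id C).1 f φ

lemma selfOver_hom_ext {R S : C} (f : R ⟶ S) {a b : (FibCat.selfOver C).obj} {φ φ' : a ⟶ b}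
    [(FibCat.selfOver C).p.IsHomLift f φ] [(FibCat.selfOver C).p.IsHomLift f φ'] : φ = φ' :=
  (IsHomLift.fac' (FibCat.selfOver C).p f φ).trans (IsHomLift.fac' (FibCat.selfOver C).p f φ').symm

lemma fp_toSelf_fst_cartesian {x y : (FibCat.fp (FibCat.toSelf 𝒳) (FibCat.toSelf 𝒴)).obj} {R S : C} (f : R ⟶ S)
    (m : x ⟶ y) (h : (FibCat.fp (FibCat.toSelf 𝒳) (FibCat.toSelf 𝒴)).p.IsCartesian f m) :
    𝒳.p.IsCartesian f m.hom.fst ∧ 𝒴.p.IsCartesian f m.hom.snd := by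
  have hm1 : 𝒳.p.IsHomLift f m.hom.fst := (fp_isHomLift_iff _ m).1 h.toIsHomLift
  have hm2 : 𝒴.p.IsHomLift f m.hom.snd := fp_snd_lift _ m h.toIsHomLift
  have hdx : 𝒳.p.obj x.obj.fst = R := IsHomLift.domain_eq 𝒳.p f m.hom.fst
  have hdy : 𝒴.p.obj x.obj.snd = R := IsHomLift.domain_eq 𝒴.p f m.hom.snd
  have key : ∀ {a : 𝒳.obj} {b : 𝒴.obj} (φ : a ⟶ y.obj.fst) (ψ : b ⟶ y.obj.snd),
      𝒳.p.IsHomLift f φ → 𝒴.p.IsHomLift f ψ →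
      ∃ (z : (FibCat.fp (FibCat.toSelf 𝒳) (FibCat.toSelf 𝒴)).obj) (μ : z ⟶ y) (ha : z.obj.fst = a) (hb : z.obj.snd = b),
        μ.hom.fst = eqToHom ha ≫ φ ∧ μ.hom.snd = eqToHom hb ≫ ψ ∧
          (FibCat.fp (FibCat.toSelf 𝒳) (FibCat.toSelf 𝒴)).p.IsHomLift f μ := by
    intro a b φ ψ h1 h2
    have ha : 𝒳.p.obj a = R := IsHomLift.domain_eq 𝒳.p f φ
    have hb : 𝒴.p.obj b = R := IsHomLift.domain_eq 𝒴.p f ψ
    let e : (FibCat.toSelf 𝒳).obj a ≅ (FibCat.toSelf 𝒴).obj b := eqToIso (ha.trans hb.symm)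
    have he : (FibCat.selfOver C).p.IsHomLift (𝟙 (𝒳.p.obj a)) e.hom :=
      IsHomLift.eqToHom_domain_lift_id (p := (FibCat.selfOver C).p) (ha.trans hb.symm) rfl
    have := fp_iso_lift y (IsHomLift.codomain_eq 𝒳.p f φ)
    have he' : (FibCat.selfOver C).p.IsHomLift (𝟙 R) e.hom := ha ▸ he
    let z : (FibCat.fp (FibCat.toSelf 𝒳) (FibCat.toSelf 𝒴)).obj := ⟨⟨a, b, e⟩, he⟩
    refine ⟨z, ObjectProperty.homMk ⟨φ, ψ, ?_⟩, rfl, rfl, by simp, by simp, (fp_isHomLift_iff _ _).2 h1⟩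
    exact selfOver_hom_ext f
  constructor
  · refine { universal_property := fun {a} φ hφ => ?_ }
    obtain ⟨⟨⟨a', b', e⟩, he⟩, μ, ha, hb, e1, e2, hl⟩ := key φ m.hom.snd hφ hm2
    dsimp only at ha hb
    subst ha; subst hb
    rw [eqToHom_refl, id_comp] at e1 e2
    obtain ⟨χ, ⟨hχ, hc⟩, hu⟩ := h.universal_property μ
    refine ⟨χ.hom.fst, ⟨(fp_isHomLift_iff _ χ).1 hχ, by rw [← e1, ← hc]; rfl⟩, ?_⟩
    rintro χ₁ ⟨h1, h2⟩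
    have h3 : 𝒴.p.IsHomLift (𝟙 R) (𝟙 x.obj.snd) := IsHomLift.id hdy
    have := fp_iso_lift x hdx
    have := fp_iso_lift (⟨⟨a', x.obj.snd, e⟩, he⟩ : (FibCat.fp (FibCat.toSelf 𝒳) (FibCat.toSelf 𝒴)).obj) (IsHomLift.domain_eq 𝒳.p f φ)
    let χ' : (⟨⟨a', x.obj.snd, e⟩, he⟩ : (FibCat.fp (FibCat.toSelf 𝒳) (FibCat.toSelf 𝒴)).obj) ⟶ x :=
      ObjectProperty.homMk ⟨χ₁, 𝟙 _, selfOver_hom_ext (𝟙 R)⟩
    have := hu χ' ⟨(fp_isHomLift_iff _ _).2 h1,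
      ObjectProperty.hom_ext _ (CategoricalPullback.hom_ext (h2.trans e1.symm) ((id_comp _).trans e2.symm))⟩
    exact congrArg (fun t => t.hom.fst) this
  · refine { universal_property := fun {b} ψ hψ => ?_ }
    obtain ⟨⟨⟨a', b', e⟩, he⟩, μ, ha, hb, e1, e2, hl⟩ := key m.hom.fst ψ hm1 hψ
    dsimp only at ha hb
    subst ha; subst hb
    rw [eqToHom_refl, id_comp] at e1 e2
    obtain ⟨χ, ⟨hχ, hc⟩, hu⟩ := h.universal_property μ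
    refine ⟨χ.hom.snd, ⟨fp_snd_lift _ χ hχ, by rw [← e2, ← hc]; rfl⟩, ?_⟩
    rintro χ₂ ⟨h1, h2⟩
    have h3 : 𝒳.p.IsHomLift (𝟙 R) (𝟙 x.obj.fst) := IsHomLift.id hdx
    have := fp_iso_lift x hdx
    have := fp_iso_lift (⟨⟨x.obj.fst, b', e⟩, he⟩ : (FibCat.fp (FibCat.toSelf 𝒳) (FibCat.toSelf 𝒴)).obj) hdx
    let χ' : (⟨⟨x.obj.fst, b', e⟩, he⟩ : (FibCat.fp (FibCat.toSelf 𝒳) (FibCat.toSelf 𝒴)).obj) ⟶ x :=
      ObjectProperty.homMk ⟨𝟙 _, χ₂, selfOver_hom_ext (𝟙 R)⟩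
    have := hu χ' ⟨(fp_isHomLift_iff _ _).2 h3,
      ObjectProperty.hom_ext _ (CategoricalPullback.hom_ext ((id_comp _).trans e1.symm) (h2.trans e2.symm))⟩
    exact congrArg (fun t => t.hom.snd) this

end Groth.L09.Fib

namespace Groth.L09.Fib

variable {C : Type u} [Category.{v} C]

lemma cartesian_map_iff_of_lift {𝒳 : Type u₂} [Category.{v₂} 𝒳] (p : 𝒳 ⥤ C) {R S : C} (f : R ⟶ S)
    {a b : 𝒳} (φ : a ⟶ b) [p.IsHomLift f φ] : p.IsCartesian f φ ↔ p.IsCartesian (p.map φ) φ := by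
  have hd := IsHomLift.domain_eq p f φ
  have hc := IsHomLift.codomain_eq p f φ
  subst hd; subst hc
  have := IsHomLift.eq_of_isHomLift p f φ
  subst this
  exact Iff.rfl

variable {𝒳 : BasedCategory.{v₂, u₂} C} {𝒴 : BasedCategory.{v₃, u₃} C}
  {𝒮 : BasedCategory.{v₄, u₄} C} {F : 𝒳 ⥤ᵇ 𝒮} {G : 𝒴 ⥤ᵇ 𝒮}

/-- Every morphism is strongly cartesian for a based functor into a category fibred in groupoids. -/
lemma based_stronglyCartesian (K : 𝒳 ⥤ᵇ 𝒴) (hX : FibCat.IsFibGrpd 𝒳.p) (hY : FibCat.IsFibGrpd 𝒴.p)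
    {a b : 𝒳.obj} (φ : a ⟶ b) : K.toFunctor.IsStronglyCartesian (K.toFunctor.map φ) φ := by
  rw [stronglyCartesian_map_iff]
  intro z g ψ e
  have : 𝒳.p.IsStronglyCartesian (𝒳.p.map φ) φ := hX.isStronglyCartesian φ
  let g₀ : 𝒳.p.obj z ⟶ 𝒳.p.obj a := eqToHom (K.w_obj z).symm ≫ 𝒴.p.map g ≫ eqToHom (K.w_obj a)
  have hg : 𝒴.p.IsHomLift g₀ g := by simp only [g₀]; infer_instance
  have hψ : 𝒳.p.IsHomLift (g₀ ≫ 𝒳.p.map φ) ψ := by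
    rw [← BasedFunctor.isHomLift_iff K, e]; infer_instance
  obtain ⟨χ, ⟨hχ, hc⟩, hu⟩ :=
    IsStronglyCartesian.universal_property 𝒳.p (𝒳.p.map φ) φ g₀ (g₀ ≫ 𝒳.p.map φ) rfl ψ
  have := stronglyCartesian_of_isFibGrpd _ hY (𝒳.p.map φ) (K.map φ)
  refine ⟨χ, ⟨?_, hc⟩, ?_⟩
  · refine IsStronglyCartesian.ext 𝒴.p (𝒳.p.map φ) (K.map φ) g₀ ?_
    rw [← Functor.map_comp, hc, e]
  · rintro χ' ⟨h1, h2⟩
    refine hu χ' ⟨?_, h2⟩
    rw [← BasedFunctor.isHomLift_iff K, h1]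
    exact hg

lemma fpFst_isFibGrpd (hX : FibCat.IsFibGrpd 𝒳.p) (hY : FibCat.IsFibGrpd 𝒴.p) (hS : FibCat.IsFibGrpd 𝒮.p) :
    FibCat.IsFibGrpd (FibCat.fpFst F G).toFunctor := by
  have hP := fp_isFibGrpd (F := F) (G := G) hX hY hS
  refine ⟨fun {x y} g => ?_, fun {_ _} φ => based_stronglyCartesian _ hP hX φ⟩
  have g' : y ⟶ x.obj.fst := g
  let f : 𝒳.p.obj y ⟶ 𝒳.p.obj x.obj.fst := 𝒳.p.map g
  obtain ⟨b, φ₂, hφ₂⟩ := hY.exists_lift (x := x.obj.snd) (f ≫ eqToHom (fp_snd_obj x).symm)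
  have : 𝒴.p.IsHomLift f φ₂ := by
    rw [IsHomLift.lift_comp_eqToHom_iff] at hφ₂; exact hφ₂
  have := stronglyCartesian_of_isFibGrpd _ hS f (F.map (show y ⟶ x.obj.fst from g))
  have := stronglyCartesian_of_isFibGrpd _ hS f (G.map φ₂)
  obtain ⟨⟨⟨a', b', e⟩, he⟩, m, ha, hb, e1, e2⟩ := exists_fp_hom x f (show y ⟶ x.obj.fst from g) φ₂
  refine ⟨_, m, ?_⟩
  rw [isHomLift_cod_iff]
  exact ⟨ha, e1⟩

lemma fpSnd_isFibGrpd (hX : FibCat.IsFibGrpd 𝒳.p) (hY : FibCat.IsFibGrpd 𝒴.p) (hS : FibCat.IsFibGrpd 𝒮.p) :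
    FibCat.IsFibGrpd (FibCat.fpSnd F G).toFunctor := by
  have hP := fp_isFibGrpd (F := F) (G := G) hX hY hS
  refine ⟨fun {x y} g => ?_, fun {_ _} φ => based_stronglyCartesian _ hP hY φ⟩
  let f : 𝒴.p.obj y ⟶ 𝒳.p.obj x.obj.fst := 𝒴.p.map (show y ⟶ x.obj.snd from g) ≫ eqToHom (fp_snd_obj x)
  obtain ⟨a, φ₁, hφ₁⟩ := hX.exists_lift (x := x.obj.fst) f
  have : 𝒴.p.IsHomLift f (show y ⟶ x.obj.snd from g) := by simp only [f]; infer_instance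
  have := stronglyCartesian_of_isFibGrpd _ hS f (F.map φ₁)
  have := stronglyCartesian_of_isFibGrpd _ hS f (G.map (show y ⟶ x.obj.snd from g))
  obtain ⟨⟨⟨a', b', e⟩, he⟩, m, ha, hb, e1, e2⟩ := exists_fp_hom x f φ₁ (show y ⟶ x.obj.snd from g)
  refine ⟨_, m, ?_⟩
  rw [isHomLift_cod_iff]
  exact ⟨hb, e2⟩

lemma fp_isFibSetoid_of_faithful (hX : FibCat.IsFibGrpd 𝒳.p) (hY : FibCat.IsFibSetoid 𝒴.p)
    (hS : FibCat.IsFibGrpd 𝒮.p) [F.toFunctor.Faithful] : FibCat.IsFibSetoid (FibCat.fp F G).p := by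
  refine ⟨fp_isFibGrpd hX hY.1 hS, fun U a b => ⟨fun m m' => ?_⟩⟩
  have h2 : m.1.hom.snd = m'.1.hom.snd := by
    let za : 𝒴.p.Fiber U := Fiber.mk ((fp_snd_obj a.1).trans a.2)
    let zb : 𝒴.p.Fiber U := Fiber.mk ((fp_snd_obj b.1).trans b.2)
    let n : za ⟶ zb := ⟨m.1.hom.snd, fp_snd_lift _ m.1 m.2⟩
    let n' : za ⟶ zb := ⟨m'.1.hom.snd, fp_snd_lift _ m'.1 m'.2⟩
    exact congrArg Subtype.val ((hY.2 U za zb).elim n n')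
  refine Subtype.ext (ObjectProperty.hom_ext _ (CategoricalPullback.hom_ext (F.toFunctor.map_injective ?_) h2))
  rw [← cancel_mono b.1.obj.iso.hom, m.1.hom.w, m'.1.hom.w, h2]

end Groth.L09.Fib
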