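import Groth.Agent.L09.FibSets
import Groth.Agent.L09.FibFiberwise

/-!
Transport of (strongly) cartesian morphisms, fibredness, fibredness in groupoids / setoids along an equivalence over the base.
-/

set_option autoImplicit false
universe v₄ u₄ v₃ u₃ v₂ u₂ v u

open CategoryTheory Category Functor

namespace Groth.L09.Fib

variable {C : Type u} [Category.{v} C] {𝒳 : BasedCategory.{v₂, u₂} C} {𝒴 : BasedCategory.{v₃, u₃} C}

lemma isEquivOver_symm {F : 𝒳 ⥤ᵇ 𝒴} (h : FibCat.IsEquivOver F) :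
    ∃ G : 𝒴 ⥤ᵇ 𝒳, FibCat.IsEquivOver G := by
  obtain ⟨G, hα, hβ⟩ := h
  exact ⟨G, F, hβ, hα⟩

variable {F : 𝒳 ⥤ᵇ 𝒴} (hF : FibCat.IsEquivOver F)
include hF

lemma stronglyCartesian_map {R S : C} (f : R ⟶ S) {a b : 𝒳.obj} (φ : a ⟶ b)
    [h : 𝒳.p.IsStronglyCartesian f φ] : 𝒴.p.IsStronglyCartesian f (F.map φ) := by
  obtain ⟨⟨_, _⟩, hs⟩ := (isEquivOver_iff F).1 hF
  refine ⟨fun {η} g ψ hψ => ?_⟩
  obtain ⟨ξ, e, he⟩ := hs η
  have hξ : 𝒳.p.obj ξ = 𝒴.p.obj η :=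
    (F.w_obj ξ).symm.trans (IsHomLift.domain_eq 𝒴.p (𝟙 (𝒴.p.obj η)) e.hom)
  have hl : 𝒳.p.IsHomLift (g ≫ f) (F.toFunctor.preimage (e.hom ≫ ψ)) := by
    rw [← BasedFunctor.isHomLift_iff F, Functor.map_preimage]; infer_instance
  obtain ⟨χ, ⟨hχ, hχ'⟩, hu⟩ :=
    IsStronglyCartesian.universal_property 𝒳.p f φ g (g ≫ f) rfl (F.toFunctor.preimage (e.hom ≫ ψ))
  refine ⟨e.inv ≫ F.map χ, ⟨inferInstance, ?_⟩, ?_⟩
  · rw [assoc, ← Functor.map_comp, hχ', Functor.map_preimage, Iso.inv_hom_id_assoc]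
  · rintro χ' ⟨h1, h2⟩
    have := hu (F.toFunctor.preimage (e.hom ≫ χ')) ⟨?_, F.toFunctor.map_injective (by simp [h2])⟩
    · rw [← this, Functor.map_preimage, Iso.inv_hom_id_assoc]
    · rw [← BasedFunctor.isHomLift_iff F, Functor.map_preimage]; infer_instance

lemma cartesian_map_iff {R S : C} (f : R ⟶ S) {a b : 𝒳.obj} (φ : a ⟶ b) :
    𝒴.p.IsCartesian f (F.map φ) ↔ 𝒳.p.IsCartesian f φ := by
  obtain ⟨⟨_, _⟩, hs⟩ := (isEquivOver_iff F).1 hF
  constructor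
  · intro h
    have : 𝒳.p.IsHomLift f φ := (BasedFunctor.isHomLift_iff F f φ).1 h.toIsHomLift
    refine { universal_property := fun {a'} ψ hψ => ?_ }
    obtain ⟨χ, ⟨h1, h2⟩, hu⟩ := h.universal_property (F.map ψ)
    refine ⟨F.toFunctor.preimage χ, ⟨?_, F.toFunctor.map_injective (by simp [h2])⟩, ?_⟩
    · rw [← BasedFunctor.isHomLift_iff F, Functor.map_preimage]; exact h1
    · rintro χ' ⟨h3, h4⟩
      exact F.toFunctor.map_injective (by
        rw [Functor.map_preimage]; exact hu _ ⟨inferInstance, by rw [← Functor.map_comp, h4]⟩)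
  · intro h
    refine { universal_property := fun {η} ψ hψ => ?_ }
    obtain ⟨ξ, e, he⟩ := hs η
    have hη : 𝒴.p.obj η = R := IsHomLift.domain_eq 𝒴.p f ψ
    rw [hη] at he
    have : 𝒳.p.IsHomLift f (F.toFunctor.preimage (e.hom ≫ ψ)) := by
      rw [← BasedFunctor.isHomLift_iff F, Functor.map_preimage]; infer_instance
    obtain ⟨χ, ⟨hχ, hχ'⟩, hu⟩ := h.universal_property (F.toFunctor.preimage (e.hom ≫ ψ))
    refine ⟨e.inv ≫ F.map χ, ⟨inferInstance, ?_⟩, ?_⟩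
    · rw [assoc, ← Functor.map_comp, hχ', Functor.map_preimage, Iso.inv_hom_id_assoc]
    · rintro χ' ⟨h1, h2⟩
      have := hu (F.toFunctor.preimage (e.hom ≫ χ')) ⟨?_, F.toFunctor.map_injective (by simp [h2])⟩
      · rw [← this, Functor.map_preimage, Iso.inv_hom_id_assoc]
      · rw [← BasedFunctor.isHomLift_iff F, Functor.map_preimage]; infer_instance

lemma isFibered_of_isEquivOver [𝒳.p.IsFibered] : 𝒴.p.IsFibered :=
  IsFibered.of_exists_isStronglyCartesian fun η R f => by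
    obtain ⟨ξ, e, he⟩ := exists_iso_over_of_isEquivOver hF η
    have hξ : 𝒳.p.obj ξ = 𝒴.p.obj η :=
      (F.w_obj ξ).symm.trans (IsHomLift.domain_eq 𝒴.p (𝟙 (𝒴.p.obj η)) e.hom)
    let π := IsPreFibered.pullbackMap hξ f
    have := stronglyCartesian_map hF f π
    have : 𝒴.p.IsStronglyCartesian (f ≫ 𝟙 _) (F.map π ≫ e.hom) := inferInstance
    rw [comp_id] at this
    exact ⟨_, _, this⟩

lemma isFibered_iff_of_isEquivOver : 𝒳.p.IsFibered ↔ 𝒴.p.IsFibered := by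
  refine ⟨fun _ => isFibered_of_isEquivOver hF, fun _ => ?_⟩
  obtain ⟨G, hG⟩ := isEquivOver_symm hF
  exact isFibered_of_isEquivOver hG

lemma isGroupoid_fiber_iff (U : C) : IsGroupoid (𝒳.p.Fiber U) ↔ IsGroupoid (𝒴.p.Fiber U) := by
  obtain ⟨⟨_, _⟩, -⟩ := (isEquivOver_iff F).1 hF
  have := fiber_full F U
  have := fiber_faithful F U
  have := fiber_essSurj F hF U
  have : (FibCat.fiberFunctor F U).IsEquivalence := Functor.IsEquivalence.mk
  constructor <;> intro h <;> refine ⟨fun {a b} f => ?_⟩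
  · exact isIso_of_reflects_iso f (FibCat.fiberFunctor F U).inv
  · exact isIso_of_reflects_iso f (FibCat.fiberFunctor F U)

lemma isFibGrpd_iff_of_isEquivOver : FibCat.IsFibGrpd 𝒳.p ↔ FibCat.IsFibGrpd 𝒴.p := by
  constructor
  · intro h
    have := isFibered_of_isFibGrpd _ h
    have := isFibered_of_isEquivOver hF
    exact isFibGrpd_of_isFibered _ fun U => (isGroupoid_fiber_iff hF U).1 (isGroupoid_fiber_of_isFibGrpd _ h U)
  · intro h
    have := isFibered_of_isFibGrpd _ h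
    have := (isFibered_iff_of_isEquivOver hF).2 inferInstance
    exact isFibGrpd_of_isFibered _ fun U => (isGroupoid_fiber_iff hF U).2 (isGroupoid_fiber_of_isFibGrpd _ h U)

lemma isFibSetoid_of_isEquivOver (h : FibCat.IsFibSetoid 𝒴.p) : FibCat.IsFibSetoid 𝒳.p := by
  refine ⟨(isFibGrpd_iff_of_isEquivOver hF).2 h.1, fun U a b => ⟨fun f g => ?_⟩⟩
  obtain ⟨⟨_, _⟩, -⟩ := (isEquivOver_iff F).1 hF
  have := fiber_faithful F U
  exact (FibCat.fiberFunctor F U).map_injective ((h.2 U _ _).elim _ _)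

end Groth.L09.Fib

namespace Groth.L09.Fib

variable {C : Type u} [Category.{v} C] {𝒳 : Type u₂} [Category.{v₂} 𝒳] (p : 𝒳 ⥤ C)

lemma isFibSetoid_of_isFibSet (h : FibCat.IsFibSet p) : FibCat.IsFibSetoid p :=
  ⟨h.1, fun U a b => ⟨fun f g =>
    Subtype.ext (fibSet_eq_of_map_eq p h (by
      have := f.2; have := g.2
      rw [IsHomLift.fac' p (𝟙 U) f.1, IsHomLift.fac' p (𝟙 U) g.1]))⟩⟩

lemma isFibSet_id (C : Type u) [Category.{v} C] : FibCat.IsFibSet (𝟭 C) := by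
  rw [isFibSet_iff]
  intro η U f
  refine ⟨⟨U, f⟩, (isHomLift_same_iff (𝟭 C) f f).2 rfl, ?_⟩
  rintro ⟨ξ, φ⟩ h
  obtain ⟨hd, he⟩ := (isHomLift_cod_iff (𝟭 C) _ _).1 h
  change ξ = U at hd
  subst hd
  refine Sigma.mk.inj_iff.2 ⟨rfl, heq_of_eq ?_⟩
  exact he.trans (id_comp f)

end Groth.L09.Fib
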