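import Groth.Prelude.Def_AlgSt
import Groth.Agent.L09.FibEquiv

/-!
Hom categories of based categories: pre- and postcomposition with equivalences over the base;
invariance of the (pre)stack conditions.
-/

set_option autoImplicit false
universe v₅ u₅ v₄ u₄ v₃ u₃ v₂ u₂ v u

open CategoryTheory Category Functor

namespace Groth.L09.Fib

variable {C : Type u} [Category.{v} C] {𝒳 : BasedCategory.{v₂, u₂} C} {𝒴 : BasedCategory.{v₃, u₃} C}
  (𝒜 : BasedCategory.{v₄, u₄} C)

/-- Postcomposition with a based functor, on hom categories. -/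
def postF (F : 𝒳 ⥤ᵇ 𝒴) : (𝒜 ⥤ᵇ 𝒳) ⥤ (𝒜 ⥤ᵇ 𝒴) where
  obj a := BasedFunctor.comp a F
  map α := BasedCategory.whiskerRight α F
  map_id a := by
    apply BasedNatTrans.homCategory.ext; ext x; exact F.toFunctor.map_id _
  map_comp α β := by
    apply BasedNatTrans.homCategory.ext; ext x; exact F.toFunctor.map_comp _ _

lemma postF_faithful (F : 𝒳 ⥤ᵇ 𝒴) [F.toFunctor.Faithful] : (postF 𝒜 F).Faithful :=
  ⟨fun {a b α β} h => BasedNatTrans.homCategory.ext _ _ (by
    ext x
    exact F.toFunctor.map_injective (congrArg (fun t => t.toNatTrans.app x) h))⟩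

lemma postF_full (F : 𝒳 ⥤ᵇ 𝒴) [F.toFunctor.Full] [F.toFunctor.Faithful] : (postF 𝒜 F).Full := by
  refine ⟨fun {a b} γ => ⟨⟨⟨fun x => F.toFunctor.preimage (γ.toNatTrans.app x), fun x y f => ?_⟩, fun x => ?_⟩, ?_⟩⟩
  · apply F.toFunctor.map_injective
    rw [Functor.map_comp, Functor.map_comp, Functor.map_preimage, Functor.map_preimage]
    exact γ.toNatTrans.naturality f
  · rw [← BasedFunctor.isHomLift_iff F, Functor.map_preimage]
    exact γ.isHomLift' x
  · apply BasedNatTrans.homCategory.ext; ext x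
    exact F.toFunctor.map_preimage _

lemma postF_isEquivalence {F : 𝒳 ⥤ᵇ 𝒴} (h : FibCat.IsEquivOver F) : (postF 𝒜 F).IsEquivalence := by
  obtain ⟨⟨_, _⟩, -⟩ := (isEquivOver_iff F).1 h
  have := postF_full 𝒜 F
  have := postF_faithful 𝒜 F
  obtain ⟨G, -, ⟨β⟩⟩ := h
  have : (postF 𝒜 F).EssSurj := ⟨fun b => ⟨BasedFunctor.comp b G, ⟨by
    exact ⟨BasedCategory.whiskerLeft b β.hom, BasedCategory.whiskerLeft b β.inv,
      BasedNatTrans.homCategory.ext _ _ (by
        ext x; exact congrArg (fun t => t.toNatTrans.app (b.obj x)) β.hom_inv_id),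
      BasedNatTrans.homCategory.ext _ _ (by
        ext x; exact congrArg (fun t => t.toNatTrans.app (b.obj x)) β.inv_hom_id)⟩⟩⟩⟩
  exact Functor.IsEquivalence.mk

variable {𝒜} {ℬ : BasedCategory.{v₅, u₅} C}

/-- Whiskering an isomorphism of based endofunctors, on hom categories. -/
lemma restr_isEquivalence {ι : 𝒜 ⥤ᵇ ℬ} (h : FibCat.IsEquivOver ι) :
    (Stk.restr ι 𝒳).IsEquivalence := by
  obtain ⟨G, ⟨α⟩, ⟨β⟩⟩ := h
  let η : 𝟭 (ℬ ⥤ᵇ 𝒳) ≅ Stk.restr ι 𝒳 ⋙ Stk.restr G 𝒳 :=
    NatIso.ofComponents (fun a =>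
      { hom := BasedCategory.whiskerRight β.inv a
        inv := BasedCategory.whiskerRight β.hom a
        hom_inv_id := BasedNatTrans.homCategory.ext _ _ (by
          ext x
          show a.map _ ≫ a.map _ = 𝟙 _
          rw [← Functor.map_comp]
          have : β.inv.toNatTrans.app x ≫ β.hom.toNatTrans.app x = 𝟙 _ := congrArg (fun t => t.toNatTrans.app x) β.inv_hom_id
          rw [this, CategoryTheory.Functor.map_id])
        inv_hom_id := BasedNatTrans.homCategory.ext _ _ (by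
          ext x
          show a.map _ ≫ a.map _ = 𝟙 _
          rw [← Functor.map_comp]
          have : β.hom.toNatTrans.app x ≫ β.inv.toNatTrans.app x = 𝟙 _ := congrArg (fun t => t.toNatTrans.app x) β.hom_inv_id
          rw [this, CategoryTheory.Functor.map_id]) })
      (fun {a b} γ => BasedNatTrans.homCategory.ext _ _ (by
        ext x
        exact (γ.toNatTrans.naturality (β.inv.toNatTrans.app x)).symm))
  let ε : Stk.restr G 𝒳 ⋙ Stk.restr ι 𝒳 ≅ 𝟭 (𝒜 ⥤ᵇ 𝒳) :=
    NatIso.ofComponents (fun a =>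
      { hom := BasedCategory.whiskerRight α.hom a
        inv := BasedCategory.whiskerRight α.inv a
        hom_inv_id := BasedNatTrans.homCategory.ext _ _ (by
          ext x
          show a.map _ ≫ a.map _ = 𝟙 _
          rw [← Functor.map_comp]
          have : α.hom.toNatTrans.app x ≫ α.inv.toNatTrans.app x = 𝟙 _ := congrArg (fun t => t.toNatTrans.app x) α.hom_inv_id
          rw [this, CategoryTheory.Functor.map_id])
        inv_hom_id := BasedNatTrans.homCategory.ext _ _ (by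
          ext x
          show a.map _ ≫ a.map _ = 𝟙 _
          rw [← Functor.map_comp]
          have : α.inv.toNatTrans.app x ≫ α.hom.toNatTrans.app x = 𝟙 _ := congrArg (fun t => t.toNatTrans.app x) α.inv_hom_id
          rw [this, CategoryTheory.Functor.map_id]) })
      (fun {a b} γ => BasedNatTrans.homCategory.ext _ _ (by
        ext x
        exact (γ.toNatTrans.naturality (α.hom.toNatTrans.app x)).symm))
  exact (CategoryTheory.Equivalence.mk _ _ η ε).isEquivalence_functor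

lemma postF_restr (F : 𝒳 ⥤ᵇ 𝒴) (ι : 𝒜 ⥤ᵇ ℬ) :
    postF ℬ F ⋙ Stk.restr ι 𝒴 = Stk.restr ι 𝒳 ⋙ postF 𝒜 F := rfl

lemma isPrestackFor_iff {F : 𝒳 ⥤ᵇ 𝒴} (h : FibCat.IsEquivOver F) {U : C} (R : Sieve U) :
    Stk.IsPrestackFor R 𝒳 ↔ Stk.IsPrestackFor R 𝒴 := by
  unfold Stk.IsPrestackFor
  have h1 := postF_isEquivalence (FibCat.overCat U) h
  have h2 := postF_isEquivalence (Stk.sieveCat R) h
  let P := postF (FibCat.overCat U) F
  let P' := postF (Stk.sieveCat R) F
  have key : P ⋙ Stk.resSieve R 𝒴 = Stk.resSieve R 𝒳 ⋙ P' := rfl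
  constructor
  · rintro ⟨hf, hf'⟩
    have e : Stk.resSieve R 𝒴 ≅ P.inv ⋙ (Stk.resSieve R 𝒳 ⋙ P') :=
      (Functor.leftUnitor _).symm ≪≫ Functor.isoWhiskerRight P.asEquivalence.counitIso.symm _ ≪≫
        Functor.associator _ _ _ ≪≫ Functor.isoWhiskerLeft P.inv (eqToIso key)
    exact ⟨Functor.Full.of_iso e.symm, Functor.Faithful.of_iso e.symm⟩
  · rintro ⟨hf, hf'⟩
    have f1 : (Stk.resSieve R 𝒳 ⋙ P').Full := by rw [← key]; infer_instance
    have f2 : (Stk.resSieve R 𝒳 ⋙ P').Faithful := by rw [← key]; infer_instance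
    exact ⟨Functor.Full.of_comp_faithful (Stk.resSieve R 𝒳) P', Functor.Faithful.of_comp (Stk.resSieve R 𝒳) P'⟩

lemma isStackFor_iff {F : 𝒳 ⥤ᵇ 𝒴} (h : FibCat.IsEquivOver F) {U : C} (R : Sieve U) :
    Stk.IsStackFor R 𝒳 ↔ Stk.IsStackFor R 𝒴 := by
  unfold Stk.IsStackFor
  have h1 := postF_isEquivalence (FibCat.overCat U) h
  have h2 := postF_isEquivalence (Stk.sieveCat R) h
  let P := postF (FibCat.overCat U) F
  let P' := postF (Stk.sieveCat R) F
  have key : P ⋙ Stk.resSieve R 𝒴 = Stk.resSieve R 𝒳 ⋙ P' := rfl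
  constructor
  · intro hf
    have : (P ⋙ Stk.resSieve R 𝒴).IsEquivalence := by rw [key]; infer_instance
    exact Functor.isEquivalence_of_comp_left P (Stk.resSieve R 𝒴)
  · intro hf
    have : (Stk.resSieve R 𝒳 ⋙ P').IsEquivalence := by rw [← key]; infer_instance
    exact Functor.isEquivalence_of_comp_right (Stk.resSieve R 𝒳) P'

lemma isPrestack_iff (J : GrothendieckTopology C) {F : 𝒳 ⥤ᵇ 𝒴} (h : FibCat.IsEquivOver F) :
    Stk.IsPrestack J 𝒳 ↔ Stk.IsPrestack J 𝒴 :=
  and_congr (isFibGrpd_iff_of_isEquivOver h)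
    (forall_congr' fun _ => forall_congr' fun R => forall_congr' fun _ => isPrestackFor_iff h R)

lemma isStack_iff (J : GrothendieckTopology C) {F : 𝒳 ⥤ᵇ 𝒴} (h : FibCat.IsEquivOver F) :
    Stk.IsStack J 𝒳 ↔ Stk.IsStack J 𝒴 :=
  and_congr (isFibGrpd_iff_of_isEquivOver h)
    (forall_congr' fun _ => forall_congr' fun R => forall_congr' fun _ => isStackFor_iff h R)

end Groth.L09.Fib
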