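import Groth.Prelude.Def_FibCat2
import Groth.Prelude.Def_W4stkcategoriessitesFib

/-!
Basic lemmas on fibred categories and equivalences over a base.
-/

set_option autoImplicit false
universe v₄ u₄ v₃ u₃ v₂ u₂ v u

open CategoryTheory Category Functor

namespace Groth.L09.Fib

section Plain
variable {C : Type u} [Category.{v} C] {𝒳 : Type u₂} [Category.{v₂} 𝒳] (p : 𝒳 ⥤ C)

lemma stronglyCartesian_of_isFibGrpd (h : FibCat.IsFibGrpd p) {R S : C} (f : R ⟶ S) {a b : 𝒳} (φ : a ⟶ b)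
    [p.IsHomLift f φ] : p.IsStronglyCartesian f φ := by
  have hd := IsHomLift.domain_eq p f φ
  have hc := IsHomLift.codomain_eq p f φ
  subst hd; subst hc
  have := IsHomLift.eq_of_isHomLift p f φ
  subst this
  exact h.isStronglyCartesian φ

lemma isFibered_of_isFibGrpd (h : FibCat.IsFibGrpd p) : p.IsFibered :=
  IsFibered.of_exists_isStronglyCartesian fun a R f => by
    obtain ⟨y, φ, hφ⟩ := h.exists_lift f
    exact ⟨y, φ, stronglyCartesian_of_isFibGrpd p h f φ⟩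

/-- In a category fibred in groupoids a morphism over an isomorphism is an isomorphism. -/
lemma isIso_of_isFibGrpd (h : FibCat.IsFibGrpd p) {R S : C} (f : R ⟶ S) [IsIso f] {a b : 𝒳} (φ : a ⟶ b)
    [p.IsHomLift f φ] : IsIso φ := by
  have := stronglyCartesian_of_isFibGrpd p h f φ
  exact IsStronglyCartesian.isIso_of_base_isIso p f φ

lemma isGroupoid_fiber_of_isFibGrpd (h : FibCat.IsFibGrpd p) (U : C) : IsGroupoid (p.Fiber U) := by
  refine ⟨fun {a b} φ => ?_⟩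
  have : p.IsHomLift (𝟙 U) φ.1 := φ.2
  have : IsIso φ.1 := isIso_of_isFibGrpd p h (𝟙 U) φ.1
  have hinv : p.IsHomLift (𝟙 U) (CategoryTheory.inv φ.1) := IsHomLift.lift_id_inv_isIso p U _
  exact ⟨⟨CategoryTheory.inv φ.1, hinv⟩,
    Fiber.hom_ext (IsIso.hom_inv_id φ.1), Fiber.hom_ext (IsIso.inv_hom_id φ.1)⟩

lemma isFibGrpd_of_isFibered [p.IsFibered] (h : ∀ U : C, IsGroupoid (p.Fiber U)) : FibCat.IsFibGrpd p := by
  refine ⟨fun {x V} f => ?_, fun {y x} φ => ?_⟩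
  · exact ⟨_, IsPreFibered.pullbackMap (rfl : p.obj x = p.obj x) f, inferInstance⟩
  · let π := IsPreFibered.pullbackMap (rfl : p.obj x = p.obj x) (p.map φ)
    have : p.IsStronglyCartesian (p.map φ) π := inferInstance
    let χ := IsCartesian.map p (p.map φ) π φ
    have hz : p.obj (IsPreFibered.pullbackObj (rfl : p.obj x = p.obj x) (p.map φ)) = p.obj y :=
      IsPreFibered.pullbackObj_proj _ _
    let χ' : Fiber.mk (rfl : p.obj y = p.obj y) ⟶ Fiber.mk hz := ⟨χ, IsCartesian.map_isHomLift p (p.map φ) π φ⟩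
    have := (h (p.obj y)).all_isIso χ'
    have : IsIso χ := by
      have := Functor.map_isIso Fiber.fiberInclusion χ'
      exact this
    have : p.IsHomLift (𝟙 (p.obj y)) χ := IsCartesian.map_isHomLift p (p.map φ) π φ
    have hc : p.IsStronglyCartesian (𝟙 (p.obj y) ≫ p.map φ) (χ ≫ π) := inferInstance
    rw [id_comp, IsCartesian.fac] at hc
    exact hc

/-- Isomorphisms of the base lift along a fibred functor. -/
lemma exists_iso_lift {T S : C} (α : T ≅ S) (ξ : 𝒳) (hξ : p.obj ξ = T) [p.IsFibered] :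
    ∃ (ξ' : 𝒳) (e : ξ ≅ ξ'), p.IsHomLift α.hom e.hom := by
  let π := IsPreFibered.pullbackMap hξ α.inv
  have : IsIso π := IsStronglyCartesian.isIso_of_base_isIso p α.inv π
  refine ⟨_, (asIso π).symm, ?_⟩
  have : p.IsHomLift (CategoryTheory.inv α.inv) (CategoryTheory.inv π) := IsHomLift.inv p α.inv π
  simpa using this

end Plain

section Based
variable {C : Type u} [Category.{v} C] {𝒳 : BasedCategory.{v₂, u₂} C} {𝒴 : BasedCategory.{v₃, u₃} C}

lemma isEquivalence_of_isEquivOver {F : 𝒳 ⥤ᵇ 𝒴} (h : FibCat.IsEquivOver F) :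
    F.toFunctor.IsEquivalence := by
  obtain ⟨G, ⟨α⟩, ⟨β⟩⟩ := h
  exact (CategoryTheory.Equivalence.mk F.toFunctor G.toFunctor ((BasedNatTrans.forgetful _ _).mapIso α.symm)
    ((BasedNatTrans.forgetful _ _).mapIso β)).isEquivalence_functor

lemma exists_iso_over_of_isEquivOver {F : 𝒳 ⥤ᵇ 𝒴} (h : FibCat.IsEquivOver F) (η : 𝒴.obj) :
    ∃ (ξ : 𝒳.obj) (e : F.toFunctor.obj ξ ≅ η), 𝒴.p.IsHomLift (𝟙 (𝒴.p.obj η)) e.hom := by
  obtain ⟨G, -, ⟨β⟩⟩ := h
  exact ⟨G.obj η, ((BasedNatTrans.forgetful _ _).mapIso β).app η,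
    BasedNatTrans.isHomLift β.hom rfl⟩

/-- Criterion for an equivalence over the base. -/
lemma isEquivOver_mk (F : 𝒳 ⥤ᵇ 𝒴) [F.toFunctor.Full] [F.toFunctor.Faithful]
    (h : ∀ η : 𝒴.obj, ∃ (ξ : 𝒳.obj) (e : F.toFunctor.obj ξ ≅ η), 𝒴.p.IsHomLift (𝟙 (𝒴.p.obj η)) e.hom) :
    FibCat.IsEquivOver F := by
  choose ξ e he using h
  have hobj : ∀ η, 𝒳.p.obj (ξ η) = 𝒴.p.obj η := fun η =>
    (F.w_obj (ξ η)).symm.trans (IsHomLift.domain_eq 𝒴.p (𝟙 (𝒴.p.obj η)) (e η).hom)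
  let G₀ : 𝒴.obj ⥤ 𝒳.obj :=
    { obj := ξ
      map := fun {a b} f => F.toFunctor.preimage ((e a).hom ≫ f ≫ (e b).inv)
      map_id := fun a => F.toFunctor.map_injective (by simp)
      map_comp := fun f g => F.toFunctor.map_injective (by simp) }
  have hlift : ∀ {a b : 𝒴.obj} (f : a ⟶ b), 𝒳.p.IsHomLift (𝒴.p.map f) (G₀.map f) := by
    intro a b f
    rw [← BasedFunctor.isHomLift_iff F]
    simp only [G₀, Functor.map_preimage]
    have := he a
    have := he b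
    infer_instance
  let G : 𝒴 ⥤ᵇ 𝒳 :=
    { toFunctor := G₀
      w := Functor.ext hobj (fun a b f => by
        have := hlift f
        exact IsHomLift.fac' 𝒳.p (𝒴.p.map f) (G₀.map f)) }
  refine ⟨G, ⟨BasedNatIso.mkNatIso (NatIso.ofComponents
      (fun x => F.toFunctor.preimageIso (e (F.toFunctor.obj x)))
      (fun {x y} f => F.toFunctor.map_injective (by simp [G, G₀, BasedFunctor.comp, BasedFunctor.id]))) (fun x => ?_)⟩,
    ⟨BasedNatIso.mkNatIso (NatIso.ofComponents (fun x => e x)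
      (fun {x y} f => by simp [G, G₀, BasedFunctor.comp, BasedFunctor.id])) (fun x => ?_)⟩⟩
  · rw [← BasedFunctor.isHomLift_iff F]
    simp only [NatIso.ofComponents_hom_app, Functor.preimageIso_hom, Functor.map_preimage]
    have h := he (F.obj x)
    rw [F.w_obj] at h
    exact h
  · simp only [NatIso.ofComponents_hom_app]
    exact he x

lemma isEquivOver_iff (F : 𝒳 ⥤ᵇ 𝒴) : FibCat.IsEquivOver F ↔
      (F.toFunctor.Full ∧ F.toFunctor.Faithful) ∧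
        ∀ η : 𝒴.obj, ∃ (ξ : 𝒳.obj) (e : F.toFunctor.obj ξ ≅ η), 𝒴.p.IsHomLift (𝟙 (𝒴.p.obj η)) e.hom := by
  refine ⟨fun h => ?_, fun ⟨⟨h1, h2⟩, h3⟩ => isEquivOver_mk F h3⟩
  have := isEquivalence_of_isEquivOver h
  exact ⟨⟨inferInstance, inferInstance⟩, exists_iso_over_of_isEquivOver h⟩

lemma isEquivOver_of_isEquivalence_of_transport
    (h𝒳 : ∀ ⦃T S : C⦄ (α : T ≅ S) (ξ : 𝒳.obj), 𝒳.p.obj ξ = T →
      ∃ (ξ' : 𝒳.obj) (e : ξ ≅ ξ'), 𝒳.p.IsHomLift α.hom e.hom)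
    (F : 𝒳 ⥤ᵇ 𝒴) [F.toFunctor.IsEquivalence] : FibCat.IsEquivOver F := by
  refine isEquivOver_mk F fun η => ?_
  let ξ₀ := F.toFunctor.objPreimage η
  let e₀ : F.toFunctor.obj ξ₀ ≅ η := F.toFunctor.objObjPreimageIso η
  let α : 𝒳.p.obj ξ₀ ≅ 𝒴.p.obj η := eqToIso (F.w_obj ξ₀).symm ≪≫ 𝒴.p.mapIso e₀
  obtain ⟨ξ', e, he⟩ := h𝒳 α ξ₀ rfl
  refine ⟨ξ', (F.toFunctor.mapIso e).symm ≪≫ e₀, ?_⟩
  have h1 : 𝒴.p.IsHomLift α.inv (F.toFunctor.map e.inv) := inferInstance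
  have h2 : 𝒴.p.IsHomLift α.hom e₀.hom := by
    show 𝒴.p.IsHomLift (eqToHom (F.w_obj ξ₀).symm ≫ 𝒴.p.map e₀.hom) e₀.hom
    infer_instance
  have h3 : 𝒴.p.IsHomLift (α.inv ≫ α.hom) (F.toFunctor.map e.inv ≫ e₀.hom) := inferInstance
  simpa using h3

lemma isEquivOver_of_isFibered [𝒳.p.IsFibered] (F : 𝒳 ⥤ᵇ 𝒴) [F.toFunctor.IsEquivalence] :
    FibCat.IsEquivOver F :=
  isEquivOver_of_isEquivalence_of_transport (fun _ _ α ξ hξ => exists_iso_lift 𝒳.p α ξ hξ) F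

end Based

end Groth.L09.Fib
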