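import Groth.Agent.L09.FibBasic

/-!
Composition of (strongly) cartesian morphisms along composites of functors; categories fibred in sets.
-/

set_option autoImplicit false
universe v₄ u₄ v₃ u₃ v₂ u₂ v u

open CategoryTheory Category Functor

namespace Groth.L09.Fib

section
variable {C : Type u} [Category.{v} C] {𝒳 : Type u₂} [Category.{v₂} 𝒳] (p : 𝒳 ⥤ C)

lemma isHomLift_same_iff {a b : 𝒳} (f : p.obj a ⟶ p.obj b) (φ : a ⟶ b) :
    p.IsHomLift f φ ↔ p.map φ = f :=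
  ⟨fun _ => (IsHomLift.eq_of_isHomLift p f φ).symm, fun h => h ▸ inferInstance⟩

lemma isHomLift_cod_iff {a b : 𝒳} {U : C} (f : U ⟶ p.obj b) (φ : a ⟶ b) :
    p.IsHomLift f φ ↔ ∃ h : p.obj a = U, p.map φ = eqToHom h ≫ f := by
  constructor
  · intro _
    refine ⟨IsHomLift.domain_eq p f φ, ?_⟩
    simpa using IsHomLift.fac' p f φ
  · rintro ⟨h, e⟩
    subst h
    rw [eqToHom_refl, id_comp] at e
    rw [isHomLift_same_iff]
    exact e

lemma stronglyCartesian_map_iff {a b : 𝒳} (φ : a ⟶ b) :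
    p.IsStronglyCartesian (p.map φ) φ ↔
      ∀ {z : 𝒳} (g : p.obj z ⟶ p.obj a) (ψ : z ⟶ b), p.map ψ = g ≫ p.map φ →
        ∃! χ : z ⟶ a, p.map χ = g ∧ χ ≫ φ = ψ := by
  constructor
  · intro h z g ψ e
    have : p.IsHomLift (g ≫ p.map φ) ψ := (isHomLift_same_iff p _ _).2 e
    simpa only [isHomLift_same_iff] using h.universal_property' g ψ
  · intro h
    refine ⟨fun g ψ hψ => ?_⟩
    have := h g ψ ((isHomLift_same_iff p _ _).1 hψ)
    simpa only [isHomLift_same_iff] using this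

end

section
variable {C : Type u} [Category.{v} C] {ℬ : Type u₃} [Category.{v₃} ℬ] {𝒜 : Type u₂} [Category.{v₂} 𝒜]
  (F : 𝒜 ⥤ ℬ) (G : ℬ ⥤ C)

lemma stronglyCartesian_comp {x y : 𝒜} (φ : x ⟶ y) (hF : F.IsStronglyCartesian (F.map φ) φ)
    (hG : G.IsStronglyCartesian (G.map (F.map φ)) (F.map φ)) :
    (F ⋙ G).IsStronglyCartesian ((F ⋙ G).map φ) φ := by
  rw [stronglyCartesian_map_iff] at hF hG ⊢
  intro z g ψ e
  obtain ⟨m, ⟨hm1, hm2⟩, hm3⟩ := hG g (F.map ψ) e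
  obtain ⟨χ, ⟨hc1, hc2⟩, hc3⟩ := hF m ψ hm2.symm
  refine ⟨χ, ⟨by simp [hc1, hm1], hc2⟩, fun χ' ⟨h1, h2⟩ => hc3 χ' ⟨?_, h2⟩⟩
  exact hm3 _ ⟨h1, by rw [← F.map_comp, h2]⟩

lemma isFibered_comp [F.IsFibered] [G.IsFibered] : (F ⋙ G).IsFibered :=
  IsFibered.of_exists_isStronglyCartesian fun a R f => by
    obtain ⟨w, π, h2⟩ : ∃ (w : ℬ) (π : w ⟶ F.obj a), G.IsStronglyCartesian f π :=
      ⟨_, IsPreFibered.pullbackMap (p := G) (rfl : G.obj (F.obj a) = _) f, inferInstance⟩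
    obtain ⟨b, ρ, h1⟩ : ∃ (b : 𝒜) (ρ : b ⟶ a), F.IsStronglyCartesian π ρ :=
      ⟨_, IsPreFibered.pullbackMap (p := F) (rfl : F.obj a = _) π, inferInstance⟩
    have hd : F.obj b = w := IsHomLift.domain_eq F π ρ
    subst hd
    have hd2 : G.obj (F.obj b) = R := IsHomLift.domain_eq G f π
    subst hd2
    have e1 : F.map ρ = π := (IsHomLift.eq_of_isHomLift F π ρ).symm
    subst e1
    have e2 : G.map (F.map ρ) = f := (IsHomLift.eq_of_isHomLift G f _).symm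
    subst e2
    exact ⟨b, ρ, stronglyCartesian_comp F G ρ h1 h2⟩

end

section
variable {C : Type u} [Category.{v} C] {𝒳 : Type u₂} [Category.{v₂} 𝒳] (p : 𝒳 ⥤ C)

lemma isFibSet_iff :
    FibCat.IsFibSet p ↔
      ∀ (η : 𝒳) (U : C) (f : U ⟶ p.obj η), ∃! φ : (Σ ξ : 𝒳, (ξ ⟶ η)), p.IsHomLift f φ.2 := by
  constructor
  · rintro ⟨h, hd⟩ η U f
    obtain ⟨y, φ, hφ⟩ := h.exists_lift f
    refine ⟨⟨y, φ⟩, hφ, ?_⟩
    rintro ⟨ξ, ψ⟩ (hψ : p.IsHomLift f ψ)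
    have := stronglyCartesian_of_isFibGrpd p h f φ
    let χ := IsCartesian.map p f φ ψ
    have hy : p.obj y = U := IsHomLift.domain_eq p f φ
    have hξ : p.obj ξ = U := IsHomLift.domain_eq p f ψ
    let m : Fiber.mk hξ ⟶ Fiber.mk hy := ⟨χ, IsCartesian.map_isHomLift p f φ ψ⟩
    have : IsDiscrete (p.Fiber U) := hd U
    have heq : ξ = y := congrArg Subtype.val (@IsDiscrete.eq_of_hom (p.Fiber U) _ _ _ _ m)
    subst heq
    have : m = 𝟙 _ := Subsingleton.elim _ _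
    have : χ = 𝟙 _ := congrArg Subtype.val this
    have := IsCartesian.fac p f φ ψ
    simp_all [χ]
  · intro h
    have key : ∀ {a a' b : 𝒳} (φ : a ⟶ b) (φ' : a' ⟶ b) (e : p.obj a = p.obj a'),
        p.map φ = eqToHom e ≫ p.map φ' → (⟨a, φ⟩ : Σ ξ, (ξ ⟶ b)) = ⟨a', φ'⟩ := fun φ φ' e he =>
      (h _ _ (p.map φ')).unique ((isHomLift_cod_iff p _ _).2 ⟨e, he⟩) (IsHomLift.map p φ')
    refine ⟨⟨fun {x V} f => ?_, fun {y x} φ => ?_⟩, fun U => ?_⟩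
    · obtain ⟨⟨y, φ⟩, hφ, -⟩ := h x V f
      exact ⟨y, φ, hφ⟩
    · rw [stronglyCartesian_map_iff]
      intro z g ψ e
      obtain ⟨⟨z', χ⟩, hχ, huniq⟩ := h y _ g
      obtain ⟨hz, hχ'⟩ := (isHomLift_cod_iff p _ _).1 hχ
      obtain ⟨hzz, hh⟩ := Sigma.mk.inj_iff.1 (key (χ ≫ φ) ψ hz (by simp [hχ', e]))
      subst hzz
      rw [eqToHom_refl, id_comp] at hχ'
      refine ⟨χ, ⟨hχ', eq_of_heq hh⟩, fun χ' ⟨h1, _⟩ => ?_⟩
      exact eq_of_heq (Sigma.mk.inj_iff.1 (key χ' χ rfl (by simp [h1, hχ']))).2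
    · have key2 : ∀ {a b : p.Fiber U} (φ : a ⟶ b), (⟨a.1, φ.1⟩ : Σ ξ, (ξ ⟶ b.1)) = ⟨b.1, 𝟙 b.1⟩ := by
        intro a b φ
        refine key φ.1 (𝟙 b.1) (a.2.trans b.2.symm) ?_
        have := φ.2
        simpa using IsHomLift.fac' p (𝟙 U) φ.1
      refine IsDiscrete.mk (subsingleton := fun a b => ⟨fun φ ψ => ?_⟩) (eq_of_hom := fun {a b} φ => Subtype.ext (congrArg Sigma.fst (key2 φ)))
      exact Subtype.ext (eq_of_heq (Sigma.mk.inj_iff.1 ((key2 φ).trans (key2 ψ).symm)).2)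

lemma fibSet_eq_of_map_eq (h : FibCat.IsFibSet p) {a b : 𝒳} {f g : a ⟶ b} (e : p.map f = p.map g) : f = g := by
  have := ((isFibSet_iff p).1 h b _ (p.map g)).unique (y₁ := ⟨a, f⟩) (y₂ := ⟨a, g⟩)
    ((isHomLift_same_iff p _ _).2 e) ((isHomLift_same_iff p _ _).2 rfl)
  exact eq_of_heq (Sigma.mk.inj_iff.1 this).2

end

section
variable {C : Type u} [Category.{v} C] {ℬ : Type u₃} [Category.{v₃} ℬ] {𝒜 : Type u₂} [Category.{v₂} 𝒜]
  (F : 𝒜 ⥤ ℬ) (G : ℬ ⥤ C)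

lemma stronglyCartesian_comp_iff (hG : FibCat.IsFibSet G) {x y : 𝒜} (φ : x ⟶ y) :
    (F ⋙ G).IsStronglyCartesian ((F ⋙ G).map φ) φ ↔ F.IsStronglyCartesian (F.map φ) φ := by
  refine ⟨fun h => ?_, fun h => stronglyCartesian_comp F G φ h (hG.1.isStronglyCartesian _)⟩
  rw [stronglyCartesian_map_iff] at h ⊢
  intro z g ψ e
  obtain ⟨χ, ⟨h1, h2⟩, h3⟩ := h (G.map g) ψ (by simp [e])
  exact ⟨χ, ⟨fibSet_eq_of_map_eq G hG h1, h2⟩, fun χ' ⟨h1', h2'⟩ => h3 χ' ⟨by simp [h1'], h2'⟩⟩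

lemma isHomLift_comp_iff (hG : FibCat.IsFibSet G) {a b : 𝒜} {w : ℬ} (g : w ⟶ F.obj b) (φ : a ⟶ b) :
    (F ⋙ G).IsHomLift (G.map g) φ ↔ F.IsHomLift g φ := by
  constructor
  · intro h
    obtain ⟨hd, he⟩ := (isHomLift_cod_iff (F ⋙ G) _ _).1 h
    have hu := ((isFibSet_iff G).1 hG (F.obj b) _ (G.map g)).unique (y₁ := ⟨F.obj a, F.map φ⟩) (y₂ := ⟨w, g⟩)
      ((isHomLift_cod_iff G _ _).2 ⟨hd, he⟩) (IsHomLift.map G g)
    obtain ⟨hw, hh⟩ := Sigma.mk.inj_iff.1 hu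
    subst hw
    rw [isHomLift_same_iff]
    exact eq_of_heq hh
  · intro h
    obtain ⟨hd, he⟩ := (isHomLift_cod_iff F _ _).1 h
    subst hd
    rw [eqToHom_refl, id_comp] at he
    subst he
    exact IsHomLift.map (F ⋙ G) φ

lemma isFibered_iff_comp (hG : FibCat.IsFibSet G) : F.IsFibered ↔ (F ⋙ G).IsFibered := by
  constructor
  · intro h
    have := isFibered_of_isFibGrpd G hG.1
    exact isFibered_comp F G
  · intro h
    refine IsFibered.of_exists_isStronglyCartesian fun a w g => ?_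
    obtain ⟨b, φ, hφ⟩ : ∃ (b : 𝒜) (φ : b ⟶ a), (F ⋙ G).IsStronglyCartesian (G.map g) φ :=
      ⟨_, IsPreFibered.pullbackMap (p := F ⋙ G) (rfl : (F ⋙ G).obj a = _) (G.map g), inferInstance⟩
    have hl := (isHomLift_comp_iff F G hG g φ).1 hφ.toIsHomLift
    have hd : F.obj b = w := IsHomLift.domain_eq F g φ
    subst hd
    have e : F.map φ = g := (IsHomLift.eq_of_isHomLift F g φ).symm
    subst e
    exact ⟨b, φ, (stronglyCartesian_comp_iff F G hG φ).1 hφ⟩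

lemma isFibGrpd_comp (hF : FibCat.IsFibGrpd F) (hG : FibCat.IsFibGrpd G) : FibCat.IsFibGrpd (F ⋙ G) := by
  refine ⟨fun {x V} f => ?_, fun {y x} φ => stronglyCartesian_comp F G φ (hF.isStronglyCartesian φ) (hG.isStronglyCartesian _)⟩
  obtain ⟨w, g, hg⟩ := hG.exists_lift f
  obtain ⟨y, φ, hφ⟩ := hF.exists_lift g
  have hd : F.obj y = w := IsHomLift.domain_eq F g φ
  subst hd
  have e : F.map φ = g := (IsHomLift.eq_of_isHomLift F g φ).symm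
  subst e
  obtain ⟨hd2, he⟩ := (isHomLift_cod_iff G _ _).1 hg
  exact ⟨y, φ, (isHomLift_cod_iff (F ⋙ G) _ _).2 ⟨hd2, he⟩⟩

lemma isFibGrpd_iff_comp (hG : FibCat.IsFibSet G) : FibCat.IsFibGrpd F ↔ FibCat.IsFibGrpd (F ⋙ G) := by
  refine ⟨fun h => isFibGrpd_comp F G h hG.1, fun h => ⟨fun {x w} g => ?_, fun φ => (stronglyCartesian_comp_iff F G hG φ).1 (h.isStronglyCartesian φ)⟩⟩
  obtain ⟨y, φ, hφ⟩ := h.exists_lift (x := x) (G.map g)
  exact ⟨y, φ, (isHomLift_comp_iff F G hG g φ).1 hφ⟩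

lemma isFibSet_iff_comp (hG : FibCat.IsFibSet G) : FibCat.IsFibSet F ↔ FibCat.IsFibSet (F ⋙ G) := by
  rw [isFibSet_iff, isFibSet_iff]
  constructor
  · intro h η U f
    obtain ⟨⟨w, g⟩, hg, -⟩ := (isFibSet_iff G).1 hG (F.obj η) U f
    obtain ⟨hd, he⟩ := (isHomLift_cod_iff G _ _).1 hg
    subst hd
    rw [eqToHom_refl, id_comp] at he
    subst he
    obtain ⟨s, hs, hs'⟩ := h η w g
    exact ⟨s, (isHomLift_comp_iff F G hG g s.2).2 hs, fun t ht => hs' t ((isHomLift_comp_iff F G hG g t.2).1 ht)⟩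
  · intro h η w g
    obtain ⟨s, hs, hs'⟩ := h η _ (G.map g)
    exact ⟨s, (isHomLift_comp_iff F G hG g s.2).1 hs, fun t ht => hs' t ((isHomLift_comp_iff F G hG g t.2).2 ht)⟩

end

section
variable {C : Type u} [Category.{v} C] {U : C}

lemma isFibSet_overForget : FibCat.IsFibSet (Over.forget U) := by
  rw [isFibSet_iff]
  intro η V f
  refine ⟨⟨Over.mk (f ≫ η.hom), Over.homMk f⟩, ?_, ?_⟩
  · exact (isHomLift_cod_iff (Over.forget U) _ _).2 ⟨rfl, by simp⟩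
  · rintro ⟨ξ, φ⟩ h
    obtain ⟨hd, he⟩ := (isHomLift_cod_iff (Over.forget U) _ _).1 h
    obtain ⟨l, r, m⟩ := ξ
    obtain ⟨⟨⟩⟩ := r
    change l = V at hd
    subst hd
    replace he : φ.left = f := he.trans (id_comp f)
    have hm : m = f ≫ η.hom := by
      have := Over.w φ
      rw [he] at this
      exact this.symm
    subst hm
    refine Sigma.mk.inj_iff.2 ⟨rfl, heq_of_eq ?_⟩
    exact Over.OverMorphism.ext he

end

end Groth.L09.Fib
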