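import Groth.Agent.L09.FibHom

/-!
The 2-Yoneda lemma: evaluation at the identity.
-/

set_option autoImplicit false
universe v₂ u₂ v u

open CategoryTheory Category Functor

namespace Groth.L09.Fib

variable {C : Type u} [Category.{v} C] {𝒳 : BasedCategory.{v₂, u₂} C} {U : C}

/-- The canonical morphism of `a` to the identity of `U`. -/
def toTerm (a : Over U) : a ⟶ Over.mk (𝟙 U) := Over.homMk a.hom (comp_id _)

lemma overCat_stronglyCartesian {R S : C} (f : R ⟶ S) {a b : (FibCat.overCat U).obj} (φ : a ⟶ b)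
    [(FibCat.overCat U).p.IsHomLift f φ] : (FibCat.overCat U).p.IsStronglyCartesian f φ :=
  stronglyCartesian_of_isFibGrpd (FibCat.overCat U).p (isFibSet_overForget (U := U)).1 f φ

lemma toTerm_lift (a : Over U) : (FibCat.overCat U).p.IsHomLift a.hom (toTerm a) :=
  IsHomLift.map (FibCat.overCat U).p (toTerm a)

lemma map_toTerm_sc (H : FibCat.overCat U ⥤ᵇ 𝒳) (hH : FibCat.PreservesStronglyCartesian H) (a : Over U) :
    𝒳.p.IsStronglyCartesian a.hom (H.map (toTerm a)) :=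
  have := toTerm_lift a
  hH a.hom (toTerm a) (overCat_stronglyCartesian a.hom (toTerm a))

lemma evalAtId_injective {G H : FibCat.overCat U ⥤ᵇ 𝒳} (hH : FibCat.PreservesStronglyCartesian H)
    {α β : G ⟶ H} (h : (FibCat.evalAtId 𝒳 U).map α = (FibCat.evalAtId 𝒳 U).map β) : α = β := by
  apply BasedNatTrans.homCategory.ext
  ext a
  have h0 : α.toNatTrans.app (Over.mk (𝟙 U)) = β.toNatTrans.app (Over.mk (𝟙 U)) := congrArg Subtype.val h
  have := map_toTerm_sc H hH a
  have : 𝒳.p.IsHomLift (𝟙 a.left) (α.toNatTrans.app a) := α.isHomLift' a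
  have : 𝒳.p.IsHomLift (𝟙 a.left) (β.toNatTrans.app a) := β.isHomLift' a
  apply IsCartesian.ext 𝒳.p a.hom (H.map (toTerm a))
  rw [← α.toNatTrans.naturality, ← β.toNatTrans.naturality, h0]

lemma exists_evalAtId_map {G H : FibCat.overCat U ⥤ᵇ 𝒳} (hH : FibCat.PreservesStronglyCartesian H)
    (φ : (FibCat.evalAtId 𝒳 U).obj G ⟶ (FibCat.evalAtId 𝒳 U).obj H) :
    ∃ α, (FibCat.evalAtId 𝒳 U).map α = φ := by
  let φ₀ : G.obj (Over.mk (𝟙 U)) ⟶ H.obj (Over.mk (𝟙 U)) := φ.1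
  have hφ : 𝒳.p.IsHomLift (𝟙 U) φ₀ := φ.2
  have hl : ∀ a : Over U, 𝒳.p.IsHomLift a.hom (G.map (toTerm a) ≫ φ₀) := fun a => by
    have := toTerm_lift a
    infer_instance
  let app : ∀ a : Over U, G.obj a ⟶ H.obj a := fun a =>
    have := map_toTerm_sc H hH a
    have := hl a
    IsCartesian.map 𝒳.p a.hom (H.map (toTerm a)) (G.map (toTerm a) ≫ φ₀)
  have app_fac : ∀ a, app a ≫ H.map (toTerm a) = G.map (toTerm a) ≫ φ₀ := fun a =>
    have := map_toTerm_sc H hH a
    have := hl a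
    IsCartesian.fac 𝒳.p a.hom (H.map (toTerm a)) (G.map (toTerm a) ≫ φ₀)
  have app_lift : ∀ a : Over U, 𝒳.p.IsHomLift (𝟙 a.left) (app a) := fun a =>
    have := map_toTerm_sc H hH a
    have := hl a
    IsCartesian.map_isHomLift 𝒳.p a.hom (H.map (toTerm a)) (G.map (toTerm a) ≫ φ₀)
  refine ⟨⟨⟨app, fun a b m => ?_⟩, app_lift⟩, ?_⟩
  · have := map_toTerm_sc H hH b
    have := app_lift a
    have := app_lift b
    have e : m ≫ toTerm b = toTerm a := Over.OverMorphism.ext (Over.w m)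
    have : (FibCat.overCat U).p.IsHomLift m.left m := IsHomLift.map (FibCat.overCat U).p m
    apply IsStronglyCartesian.ext 𝒳.p b.hom (H.map (toTerm b)) m.left
    rw [assoc, app_fac, assoc, ← H.map_comp, e, app_fac, ← assoc, ← G.map_comp, e]
  · apply Subtype.ext
    show app (Over.mk (𝟙 U)) = φ₀
    have e : toTerm (Over.mk (𝟙 U)) = 𝟙 _ := Over.OverMorphism.ext rfl
    have := app_fac (Over.mk (𝟙 U))
    rw [e, show H.map (𝟙 (Over.mk (𝟙 U))) = 𝟙 _ from H.toFunctor.map_id _,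
      show G.map (𝟙 (Over.mk (𝟙 U))) = 𝟙 _ from G.toFunctor.map_id _] at this
    exact (comp_id _).symm.trans (this.trans (id_comp _))

variable [𝒳.p.IsFibered]

/-- The functor out of the slice attached to an object over `U`. -/
noncomputable def ofObjF {x : 𝒳.obj} (hx : 𝒳.p.obj x = U) : Over U ⥤ 𝒳.obj where
  obj a := IsPreFibered.pullbackObj (p := 𝒳.p) hx a.hom
  map {a b} m := IsStronglyCartesian.map 𝒳.p b.hom (IsPreFibered.pullbackMap (p := 𝒳.p) hx b.hom)
    (g := m.left) (f' := a.hom) (Over.w m).symm (IsPreFibered.pullbackMap (p := 𝒳.p) hx a.hom)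
  map_id a := by
    have : 𝒳.p.IsHomLift (Over.Hom.left (𝟙 a)) (𝟙 (IsPreFibered.pullbackObj (p := 𝒳.p) hx a.hom)) :=
      IsHomLift.id (IsPreFibered.pullbackObj_proj _ _)
    exact (IsStronglyCartesian.map_uniq 𝒳.p _ _ _ _ (𝟙 _) (id_comp _)).symm
  map_comp {a b c} m n := by
    have : 𝒳.p.IsHomLift (Over.Hom.left (m ≫ n))
      (IsStronglyCartesian.map 𝒳.p b.hom (IsPreFibered.pullbackMap (p := 𝒳.p) hx b.hom)
        (g := m.left) (f' := a.hom) (Over.w m).symm (IsPreFibered.pullbackMap (p := 𝒳.p) hx a.hom) ≫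
      IsStronglyCartesian.map 𝒳.p c.hom (IsPreFibered.pullbackMap (p := 𝒳.p) hx c.hom)
        (g := n.left) (f' := b.hom) (Over.w n).symm (IsPreFibered.pullbackMap (p := 𝒳.p) hx b.hom)) := by
      rw [Over.comp_left]; infer_instance
    refine (IsStronglyCartesian.map_uniq 𝒳.p _ _ _ _ _ ?_).symm
    rw [assoc, IsStronglyCartesian.fac, IsStronglyCartesian.fac]

/-- The based functor out of the slice attached to an object over `U`. -/
noncomputable def ofObj {x : 𝒳.obj} (hx : 𝒳.p.obj x = U) : FibCat.overCat U ⥤ᵇ 𝒳 where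
  toFunctor := ofObjF hx
  w := CategoryTheory.Functor.ext (fun (a : Over U) => IsPreFibered.pullbackObj_proj (p := 𝒳.p) hx a.hom) (fun (a b : Over U) (m : a ⟶ b) =>
    IsHomLift.fac' 𝒳.p m.left (IsStronglyCartesian.map 𝒳.p b.hom (IsPreFibered.pullbackMap (p := 𝒳.p) hx b.hom)
        (g := m.left) (f' := a.hom) (Over.w m).symm (IsPreFibered.pullbackMap (p := 𝒳.p) hx a.hom)))

lemma ofObj_preserves {x : 𝒳.obj} (hx : 𝒳.p.obj x = U) : FibCat.PreservesStronglyCartesian (ofObj hx) := by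
  intro R S f a b m hm
  have := hm.toIsHomLift
  have hd : a.left = R := @IsHomLift.domain_eq _ _ _ _ (FibCat.overCat U).p _ _ a b f m hm.toIsHomLift
  have hc : b.left = S := @IsHomLift.codomain_eq _ _ _ _ (FibCat.overCat U).p _ _ a b f m hm.toIsHomLift
  subst hd; subst hc
  have he : f = m.left := @IsHomLift.eq_of_isHomLift _ _ _ _ (FibCat.overCat U).p a b f m hm.toIsHomLift
  subst he
  have h : 𝒳.p.IsStronglyCartesian a.hom (IsPreFibered.pullbackMap (p := 𝒳.p) hx a.hom) := inferInstance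
  let n := IsStronglyCartesian.map 𝒳.p b.hom (IsPreFibered.pullbackMap (p := 𝒳.p) hx b.hom)
        (g := m.left) (f' := a.hom) (Over.w m).symm (IsPreFibered.pullbackMap (p := 𝒳.p) hx a.hom)
  have h' : 𝒳.p.IsStronglyCartesian (m.left ≫ b.hom) (n ≫ IsPreFibered.pullbackMap (p := 𝒳.p) hx b.hom) := by
    rw [IsStronglyCartesian.fac, Over.w m]; exact h
  exact IsStronglyCartesian.of_comp 𝒳.p (g := b.hom) (ψ := IsPreFibered.pullbackMap (p := 𝒳.p) hx b.hom) (φ := n)

lemma evalAtId_ofObj (x : 𝒳.p.Fiber U) : Nonempty ((FibCat.evalAtId 𝒳 U).obj (ofObj x.2) ≅ x) := by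
  let π := IsPreFibered.pullbackMap (p := 𝒳.p) x.2 (𝟙 U)
  have : IsIso π := IsStronglyCartesian.isIso_of_base_isIso 𝒳.p (𝟙 U) π
  exact ⟨⟨⟨π, inferInstanceAs (𝒳.p.IsHomLift (𝟙 U) π)⟩,
    ⟨@CategoryTheory.inv _ _ _ _ π this, @IsHomLift.lift_id_inv_isIso _ _ _ _ 𝒳.p U _ _ π this inferInstance⟩,
    Fiber.hom_ext (@IsIso.hom_inv_id _ _ _ _ π this), Fiber.hom_ext (@IsIso.inv_hom_id _ _ _ _ π this)⟩⟩

lemma evalAtId_preserving_isEquivalence (U : C) :
    ((ObjectProperty.ι (FibCat.PreservesStronglyCartesian (𝒳 := FibCat.overCat U) (𝒴 := 𝒳))) ⋙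
      FibCat.evalAtId 𝒳 U).IsEquivalence where
  faithful := ⟨fun {G H α β} h => ObjectProperty.hom_ext _ (evalAtId_injective H.property h)⟩
  full := ⟨fun {G H} φ => by
    obtain ⟨α, hα⟩ := exists_evalAtId_map H.property φ
    exact ⟨ObjectProperty.homMk α, hα⟩⟩
  essSurj := ⟨fun x => ⟨⟨ofObj x.2, ofObj_preserves x.2⟩, evalAtId_ofObj x⟩⟩

omit [𝒳.p.IsFibered] in
lemma evalAtId_isEquivalence (h : FibCat.IsFibGrpd 𝒳.p) (U : C) :
    (FibCat.evalAtId 𝒳 U).IsEquivalence :=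
  have := isFibered_of_isFibGrpd _ h
  { faithful := ⟨fun {_ H _ _} e => evalAtId_injective (preservesStronglyCartesian_of_isFibGrpd H h) e⟩
    full := ⟨fun {_ H} φ => exists_evalAtId_map (preservesStronglyCartesian_of_isFibGrpd H h) φ⟩
    essSurj := ⟨fun x => ⟨ofObj x.2, evalAtId_ofObj x⟩⟩ }

end Groth.L09.Fib
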