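import Groth.Prelude.Def_W4c2submetdescSubtr
import Groth.Agent.L18.ValCrit2
import Groth.Agent.L18.KerReduced
import Groth.Agent.L06.ProCons
import Mathlib.RingTheory.Flat.TorsionFree
import Mathlib.RingTheory.Flat.FaithfullyFlat.Algebra
import Mathlib.AlgebraicGeometry.Morphisms.UniversallyOpen
import Mathlib.AlgebraicGeometry.FunctionField

/-!
# S-subtrusive morphisms and valuation rings
-/

set_option autoImplicit false
set_option linter.style.haveILetI false
set_option backward.isDefEq.respectTransparency.types false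

universe u

open CategoryTheory CategoryTheory.Limits AlgebraicGeometry IsLocalRing TopologicalSpace

noncomputable section

namespace Groth.L09.Subtr

variable {X Y : Scheme.{u}}

theorem ssub_surjective {f : X ⟶ Y} (hf : Subtr.IsSSubtrusive f) : Function.Surjective f :=
  fun y => let ⟨x, _, _, hx, _⟩ := hf (specializes_refl y); ⟨x, hx⟩

theorem univ_le {f : X ⟶ Y} (hf : Subtr.UnivSSubtrusive f) : Subtr.IsSSubtrusive f :=
  MorphismProperty.universally_le _ _ hf

theorem univ_snd {f : X ⟶ Y} (hf : Subtr.UnivSSubtrusive f) {T : Scheme.{u}} (g : T ⟶ Y) :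
    Subtr.IsSSubtrusive (pullback.snd f g) :=
  hf _ _ _ (IsPullback.of_hasPullback f g).flip

/-- The generic point of the spectrum of a domain. -/
abbrev genPt (V : Type u) [CommRing V] [IsDomain V] : Spec (CommRingCat.of V) :=
  (⟨⊥, Ideal.isPrime_bot⟩ : PrimeSpectrum V)

theorem genPt_specializes {V : Type u} [CommRing V] [IsDomain V] (p : Spec (CommRingCat.of V)) :
    genPt V ⤳ p :=
  (PrimeSpectrum.le_iff_specializes _ _).mp bot_le

theorem specializes_closedPt {V : Type u} [CommRing V] [IsLocalRing V]
    (p : Spec (CommRingCat.of V)) : p ⤳ closedPoint V :=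
  (PrimeSpectrum.le_iff_specializes _ _).mp (IsLocalRing.le_maximalIdeal p.2.ne_top)

theorem eq_genPt_of_specializes {V : Type u} [CommRing V] [IsDomain V]
    {p : Spec (CommRingCat.of V)} (h : p ⤳ genPt V) : p = genPt V :=
  (h.antisymm (genPt_specializes p)).eq

theorem eq_closedPt_of_specializes {V : Type u} [CommRing V] [IsLocalRing V]
    {p : Spec (CommRingCat.of V)} (h : closedPoint V ⤳ p) : p = closedPoint V :=
  ((specializes_closedPt p).antisymm h).eq

/-- A morphism between spectra of valuation rings matching generic and closed points is surjective. -/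
theorem surjective_of_genPt_of_closedPt {V W : Type u} [CommRing V] [IsDomain V] [ValuationRing V]
    [CommRing W] [IsDomain W] [IsLocalRing W]
    (b : Spec (CommRingCat.of W) ⟶ Spec (CommRingCat.of V))
    (hg : b (genPt W) = genPt V) (hc : b (closedPoint W) = closedPoint V) : Surjective b := by
  obtain ⟨φ, rfl⟩ := Spec.map_surjective b
  algebraize [φ.hom]
  have hinj : Function.Injective (algebraMap V W) := by
    rw [RingHom.injective_iff_ker_eq_bot]
    exact congrArg PrimeSpectrum.asIdeal hg
  have : Module.IsTorsionFree V W := Module.isTorsionFree_iff_algebraMap_injective.mpr hinj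
  have : Module.Flat V W :=
    Module.Flat.flat_iff_torsion_eq_bot_of_isBezout.mpr
      (Submodule.isTorsionFree_iff_torsion_eq_bot.mp inferInstance)
  have : IsLocalHom (algebraMap V W) :=
    ((IsLocalRing.local_hom_TFAE (algebraMap V W)).out 0 4).mpr (congrArg PrimeSpectrum.asIdeal hc)
  have := Module.FaithfullyFlat.of_flat_of_isLocalHom (A := V) (B := W)
  exact ⟨PrimeSpectrum.comap_surjective_of_faithfullyFlat (A := V) (B := W)⟩

theorem apply_genPt_of_surjective {V W : Type u} [CommRing V] [IsDomain V] [CommRing W] [IsDomain W]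
    (b : Spec (CommRingCat.of W) ⟶ Spec (CommRingCat.of V)) [Surjective b] :
    b (genPt W) = genPt V := by
  obtain ⟨w, hw⟩ := b.surjective (genPt V)
  exact eq_genPt_of_specializes (hw ▸ (genPt_specializes w).map b.continuous)

theorem apply_closedPt_of_surjective {V W : Type u} [CommRing V] [IsLocalRing V] [CommRing W]
    [IsLocalRing W] (b : Spec (CommRingCat.of W) ⟶ Spec (CommRingCat.of V)) [Surjective b] :
    b (closedPoint W) = closedPoint V := by
  obtain ⟨w, hw⟩ := b.surjective (closedPoint V)
  exact eq_closedPt_of_specializes (hw ▸ (specializes_closedPt w).map b.continuous)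

theorem subtype_genPt {K : Type u} [Field K] (W : ValuationSubring K)
    (k : Spec (CommRingCat.of K)) : Spec.map (CommRingCat.ofHom W.subtype) k = genPt W := by
  refine eq_genPt_of_specializes (V := W) ((PrimeSpectrum.le_iff_specializes _ _).mp ?_)
  intro a ha
  have hk : (k : PrimeSpectrum K).asIdeal = ⊥ := (Ideal.eq_bot_or_top _).resolve_right k.2.ne_top
  have ha' : (a : K) ∈ (k : PrimeSpectrum K).asIdeal := ha
  rw [hk, Ideal.mem_bot] at ha'
  exact Ideal.mem_bot.mpr (Subtype.ext ha')

/-- A specialization is realised by a valuation ring. -/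
theorem exists_valuation {x' x : X} (h : x' ⤳ x) :
    ∃ (V : Type u) (_ : CommRing V) (_ : IsDomain V) (_ : ValuationRing V)
      (g : Spec (CommRingCat.of V) ⟶ X), g (genPt V) = x' ∧ g (closedPoint V) = x := by
  obtain ⟨W, g, -, hg, -, hc⟩ := Groth.L18.exists_valuation_through (p := 𝟙 X) x' x h
  refine ⟨W, inferInstance, inferInstance, inferInstance, g, ?_, hc⟩
  rw [Category.comp_id] at hg
  have e1 := subtype_genPt W (closedPoint (X.residueField x'))
  have e2 := congrArg (fun m : Spec (CommRingCat.of (X.residueField x')) ⟶ X =>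
    m (closedPoint (X.residueField x'))) hg
  exact ((congrArg (fun p => g p) e1).symm.trans ((Scheme.Hom.comp_apply _ _ _).symm.trans e2)).trans
    (Scheme.fromSpecResidueField_apply x' _)

/-- Lifting the pair (closed point, generic point) gives a valuation ring surjecting to the base. -/
theorem exists_surjective_of_lift {V : Type u} [CommRing V] [IsDomain V] [ValuationRing V]
    (f : X ⟶ Spec (CommRingCat.of V)) {x' x : X} (h : x' ⤳ x) (hx : f x = closedPoint V)
    (hx' : f x' = genPt V) :
    ∃ (W : Type u) (_ : CommRing W) (_ : IsDomain W) (_ : ValuationRing W)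
      (g : Spec (CommRingCat.of W) ⟶ X), Surjective (g ≫ f) ∧ g (genPt W) = x' ∧
        g (closedPoint W) = x := by
  obtain ⟨W, _, _, _, g, hg, hc⟩ := exists_valuation h
  refine ⟨W, ‹_›, ‹_›, ‹_›, g, surjective_of_genPt_of_closedPt _ ?_ ?_, hg, hc⟩
  · rw [Scheme.Hom.comp_apply, hg, hx']
  · rw [Scheme.Hom.comp_apply, hc, hx]

/-- Lifting of valuation rings along an S-subtrusive base change. -/
theorem exists_lift_valuation {f : X ⟶ Y} {V : Type u} [CommRing V] [IsDomain V] [ValuationRing V]
    (g : Spec (CommRingCat.of V) ⟶ Y) (h : Subtr.IsSSubtrusive (pullback.snd f g)) :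
    ∃ (V' : Type u) (_ : CommRing V') (_ : IsDomain V') (_ : ValuationRing V')
      (a : Spec (CommRingCat.of V') ⟶ X) (b : Spec (CommRingCat.of V') ⟶ Spec (CommRingCat.of V)),
      Surjective b ∧ a ≫ f = b ≫ g := by
  obtain ⟨x, x', hxx, hx, hx'⟩ := h (genPt_specializes (closedPoint V))
  obtain ⟨W, _, _, _, l, hl, -⟩ := exists_surjective_of_lift _ hxx hx hx'
  exact ⟨W, ‹_›, ‹_›, ‹_›, l ≫ pullback.fst f g, l ≫ pullback.snd f g, hl, by
    rw [Category.assoc, Category.assoc, pullback.condition]⟩

/-- Valuation ring lifting implies universal S-subtrusiveness. -/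
theorem univ_of_valuation_lift {f : X ⟶ Y}
    (h : ∀ (V : Type u) [CommRing V] [IsDomain V] [ValuationRing V]
      (g : Spec (CommRingCat.of V) ⟶ Y),
      ∃ (V' : Type u) (_ : CommRing V') (_ : IsDomain V') (_ : ValuationRing V')
        (a : Spec (CommRingCat.of V') ⟶ X) (b : Spec (CommRingCat.of V') ⟶ Spec (CommRingCat.of V)),
        Surjective b ∧ a ≫ f = b ≫ g) :
    Subtr.UnivSSubtrusive f := by
  intro X' Y' i₁ i₂ f' H y y' hy
  obtain ⟨V, _, _, _, g, hg, hc⟩ := exists_valuation hy
  obtain ⟨W, _, _, _, a, b, hb, hab⟩ := h V (g ≫ i₂)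
  let l := H.lift (b ≫ g) a (by rw [Category.assoc]; exact hab.symm)
  refine ⟨l (closedPoint W), l (genPt W), (genPt_specializes _).map l.continuous, ?_, ?_⟩
  · rw [← Scheme.Hom.comp_apply, H.lift_fst, Scheme.Hom.comp_apply,
      apply_closedPt_of_surjective b, hc]
  · rw [← Scheme.Hom.comp_apply, H.lift_fst, Scheme.Hom.comp_apply,
      apply_genPt_of_surjective b, hg]

theorem univ_of_forall_valuationRing {f : X ⟶ Y}
    (h : ∀ (V : Type u) [CommRing V] [IsDomain V] [ValuationRing V]
      (g : Spec (CommRingCat.of V) ⟶ Y), Subtr.IsSSubtrusive (pullback.snd f g)) :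
    Subtr.UnivSSubtrusive f :=
  univ_of_valuation_lift fun V _ _ _ g => exists_lift_valuation g (h V g)

theorem ssub_of_comp {Z : Scheme.{u}} (i : Z ⟶ X) (f : X ⟶ Y)
    (h : Subtr.IsSSubtrusive (i ≫ f)) : Subtr.IsSSubtrusive f := by
  intro y y' hy
  obtain ⟨z, z', hz, rfl, rfl⟩ := h hy
  exact ⟨i z, i z', hz.map i.continuous, rfl, rfl⟩

theorem ssub_of_generalizing {f : X ⟶ Y} (hf : GeneralizingMap f) [Surjective f] :
    Subtr.IsSSubtrusive f := by
  intro y y' hy
  obtain ⟨x, rfl⟩ := f.surjective y
  obtain ⟨x', hx, hx'⟩ := hf hy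
  exact ⟨x, x', hx, rfl, hx'⟩

theorem ssub_of_flat {f : X ⟶ Y} [Flat f] [Surjective f] : Subtr.IsSSubtrusive f :=
  ssub_of_generalizing (Flat.generalizingMap f)

theorem univ_of_flat (f : X ⟶ Y) [Flat f] [Surjective f] : Subtr.UnivSSubtrusive f :=
  univ_of_forall_valuationRing fun _ _ _ _ _ => ssub_of_flat

/-- A closed subscheme flat and surjective over the base forces universal S-subtrusiveness. -/
theorem univ_of_factor {Z : Scheme.{u}} (i : Z ⟶ X) (f : X ⟶ Y) [Flat (i ≫ f)] [Surjective (i ≫ f)] :
    Subtr.UnivSSubtrusive f := by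
  refine univ_of_forall_valuationRing fun V _ _ _ g => ?_
  refine ssub_of_comp (pullback.map (i ≫ f) g f g i (𝟙 _) (𝟙 _) (by simp) (by simp)) _ ?_
  rw [pullback.map, pullback.lift_snd, Category.comp_id]
  exact ssub_of_flat

/-- The generic fibre over a domain is constructibly closed. -/
theorem exists_specializes_genFibre {V : Type u} [CommRing V] [IsDomain V]
    (f : X ⟶ Spec (CommRingCat.of V)) {x : X} (hx : x ∈ closure (f ⁻¹' {genPt V})) :
    ∃ x', f x' = genPt V ∧ x' ⤳ x := by
  let j := Spec.map (CommRingCat.ofHom (algebraMap V (FractionRing V)))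
  have hr : Set.range j = {genPt V} := by
    have hk : ∀ k, j k = genPt V := fun k => by
      refine eq_genPt_of_specializes (V := V) ((PrimeSpectrum.le_iff_specializes _ _).mp ?_)
      intro a ha
      have hk : (k : PrimeSpectrum (FractionRing V)).asIdeal = ⊥ :=
        (Ideal.eq_bot_or_top _).resolve_right k.2.ne_top
      have ha' : algebraMap V (FractionRing V) a ∈ (k : PrimeSpectrum (FractionRing V)).asIdeal := ha
      rw [hk, Ideal.mem_bot] at ha'
      exact Ideal.mem_bot.mpr (IsFractionRing.to_map_eq_zero_iff.mp ha')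
    exact Set.eq_singleton_iff_unique_mem.mpr
      ⟨⟨closedPoint (FractionRing V), hk _⟩, fun _ ⟨k, hk'⟩ => hk' ▸ hk k⟩
  rw [← hr] at hx
  obtain ⟨e, ⟨k, hk⟩, hex⟩ :=
    ((Groth.L19.Limit.cc_range j).preimage f).exists_specializes_of_mem_closure hx
  refine ⟨e, ?_, hex⟩
  have : f e ∈ Set.range j := ⟨k, hk⟩
  rw [hr] at this
  exact this

theorem flat_Spec_of_genPt {V : Type u} [CommRing V] [IsDomain V] [ValuationRing V]
    {Z : Scheme.{u}} [AlgebraicGeometry.IsIntegral Z] {f : Z ⟶ Spec (CommRingCat.of V)}
    (h : f (genericPoint Z) = genPt V) {A : CommRingCat.{u}} (j : Spec A ⟶ Z) [IsOpenImmersion j] :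
    Flat (j ≫ f) := by
  obtain ⟨φ, hφ⟩ := Spec.map_surjective (j ≫ f)
  rw [← hφ, HasRingHomProperty.Spec_iff (P := @Flat)]
  rcases subsingleton_or_nontrivial A with hA | hA
  · let : Algebra V A := φ.hom.toAlgebra
    exact (inferInstance : Module.Flat V A)
  haveI : AlgebraicGeometry.IsIntegral (Spec A) := isIntegral_of_isOpenImmersion j
  haveI : IsDomain A :=
    (Scheme.ΓSpecIso A).commRingCatIsoToRingEquiv.symm.toMulEquiv.isDomain Γ(Spec A, ⊤)
  have hinj : Function.Injective φ.hom := by
    rw [RingHom.injective_iff_ker_eq_bot, eq_bot_iff]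
    intro a ha
    have hgen : Spec.map φ (genericPoint (Spec A)) = genPt V := by
      rw [hφ, Scheme.Hom.comp_apply, genericPoint_eq_of_isOpenImmersion, h]
    have h2 : ((genericPoint (Spec A) : PrimeSpectrum A).asIdeal).comap φ.hom = (⊥ : Ideal V) :=
      congrArg PrimeSpectrum.asIdeal hgen
    refine h2.le (Ideal.mem_comap.mpr ?_)
    rw [RingHom.mem_ker.mp ha]
    exact zero_mem _
  let : Algebra V A := φ.hom.toAlgebra
  exact (Module.Flat.flat_iff_torsion_eq_bot_of_isBezout (R := V) (M := A)).mpr
    (Submodule.isTorsionFree_iff_torsion_eq_bot.mp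
      (Module.isTorsionFree_iff_algebraMap_injective.mpr hinj))

/-- An integral scheme over a valuation ring is flat as soon as its generic point lies over the
generic point. -/
theorem flat_of_genPt {V : Type u} [CommRing V] [IsDomain V] [ValuationRing V] {Z : Scheme.{u}}
    [AlgebraicGeometry.IsIntegral Z] (f : Z ⟶ Spec (CommRingCat.of V))
    (h : f (genericPoint Z) = genPt V) : Flat f :=
  IsZariskiLocalAtSource.of_openCover (P := @Flat) Z.affineCover fun i =>
    @flat_Spec_of_genPt V _ _ _ Z _ f h _ (Z.affineCover.f i) (Z.affineCover.map_prop i)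

/-- The closed subscheme witnessing universal S-subtrusiveness over a valuation ring. -/
theorem exists_flat_closed {V : Type u} [CommRing V] [IsDomain V] [ValuationRing V]
    {W : Type u} [CommRing W] [IsDomain W]
    (f : X ⟶ Spec (CommRingCat.of V)) (g : Spec (CommRingCat.of W) ⟶ X) [Surjective (g ≫ f)] :
    ∃ (Z : Scheme.{u}) (i : Z ⟶ X),
      IsClosedImmersion i ∧ Flat (i ≫ f) ∧ Surjective (i ≫ f) := by
  let S : Closeds X := ⟨closure {g (genPt W)}, isClosed_closure⟩
  let I := Scheme.IdealSheafData.vanishingIdeal S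
  let i := I.subschemeι
  haveI : IsReduced I.subscheme := Groth.L18.isReduced_vanishingIdeal_subscheme S
  have hrange : Set.range i = (S : Set X) := by
    rw [Scheme.IdealSheafData.range_subschemeι, Groth.L18.support_vanishingIdeal]
  obtain ⟨z₀, hz₀⟩ : g (genPt W) ∈ Set.range i := by
    rw [hrange]; exact subset_closure rfl
  have hgen : ∀ z, z₀ ⤳ z := fun z => by
    refine i.isClosedEmbedding.isInducing.specializes_iff.mp ?_
    rw [hz₀, specializes_iff_mem_closure]
    exact hrange.le ⟨z, rfl⟩
  haveI : IrreducibleSpace I.subscheme := by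
    refine irreducibleSpace_def _ |>.mpr ?_
    have : (⊤ : Set I.subscheme) = closure {z₀} :=
      (Set.eq_univ_of_forall fun z => (hgen z).mem_closure).symm
    rw [this]
    exact isIrreducible_singleton.closure
  haveI : AlgebraicGeometry.IsIntegral I.subscheme := isIntegral_of_irreducibleSpace_of_isReduced _
  have hgp : genericPoint I.subscheme = z₀ :=
    ((genericPoint_specializes z₀).antisymm (hgen _)).eq
  refine ⟨_, i, inferInstance, flat_of_genPt _ ?_, ⟨fun v => ?_⟩⟩
  · rw [hgp, Scheme.Hom.comp_apply, hz₀, ← Scheme.Hom.comp_apply]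
    exact apply_genPt_of_surjective (g ≫ f)
  · obtain ⟨w, rfl⟩ := (g ≫ f).surjective v
    obtain ⟨z, hz⟩ : g w ∈ Set.range i := by
      rw [hrange]
      exact specializes_iff_mem_closure.mp ((genPt_specializes w).map g.continuous)
    exact ⟨z, by rw [Scheme.Hom.comp_apply, hz, Scheme.Hom.comp_apply]⟩

theorem cc_singleton (y : Y) : Groth.L19.Limit.CC ({y} : Set Y) := by
  have : Subsingleton (Spec (Y.residueField y)) :=
    inferInstanceAs (Subsingleton (PrimeSpectrum (Y.residueField y)))
  haveI : QuasiCompact (Y.fromSpecResidueField y) := ⟨fun U _ _ => (Set.toFinite _).isCompact⟩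
  have h := Groth.L19.Limit.cc_range (Y.fromSpecResidueField y)
  rwa [Scheme.range_fromSpecResidueField] at h

theorem exists_specializes_fibre (f : X ⟶ Y) {y : Y} {x : X} (hx : x ∈ closure (f ⁻¹' {y})) :
    ∃ x', f x' = y ∧ x' ⤳ x :=
  ((cc_singleton y).preimage f).exists_specializes_of_mem_closure hx

/-- Every point is a specialization of a maximal point. -/
theorem exists_maximal_generization (y : Y) :
    ∃ η : Y, η ⤳ y ∧ ∀ y' : Y, y' ⤳ η → y' = η := by
  obtain ⟨C, hC, hyC, hmax⟩ := exists_preirreducible {y} isPreirreducible_singleton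
  have hy : y ∈ C := hyC (Set.mem_singleton y)
  have hirr : IsIrreducible C := ⟨⟨y, hy⟩, hC⟩
  have hcl : closure C = C := hmax _ hC.closure subset_closure
  obtain ⟨η, hη⟩ := QuasiSober.sober hirr (closure_eq_iff_isClosed.mp hcl)
  refine ⟨η, hη.specializes hy, fun y' hy' => (hy'.antisymm ?_).eq⟩
  have h : closure {y'} = C := hmax _ (isPreirreducible_singleton.closure) (by
    rw [← hη.def]
    exact closure_minimal (Set.singleton_subset_iff.mpr hy'.mem_closure) isClosed_closure)
  exact specializes_iff_mem_closure.mpr (by rw [hη.def, ← h]; exact subset_closure rfl)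

end Groth.L09.Subtr
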