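import Mathlib.RingTheory.TensorProduct.DirectLimitFG
import Mathlib.RingTheory.TensorProduct.Maps
import Mathlib.RingTheory.Ideal.MinimalPrime.Localization

/-!
# Descending the existence of pairs of primes over a directed union of subalgebras
-/

set_option autoImplicit false

universe u v

open scoped TensorProduct

noncomputable section

namespace Groth.L09.Subtr

variable {A : Type u} [CommRing A] (R : Type u) [CommRing R] [Algebra A R]

/-- There are primes `q ≤ q'` of `P ⊗ R` over `⊥` and over `m`. -/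
def PrimePair (P : Type u) [CommRing P] [Algebra A P] (m : Ideal P) : Prop :=
  ∃ q q' : Ideal (P ⊗[A] R), q.IsPrime ∧ q'.IsPrime ∧ q ≤ q' ∧
    q.comap (Algebra.TensorProduct.includeLeft (S := A) : P →ₐ[A] P ⊗[A] R) = ⊥ ∧
    q'.comap (Algebra.TensorProduct.includeLeft (S := A) : P →ₐ[A] P ⊗[A] R) = m

variable {R} {P : Type u} [CommRing P] [Algebra A P]

local notation "ιP" => (Algebra.TensorProduct.includeLeft (S := A) : P →ₐ[A] P ⊗[A] R)

/-- The base change of the inclusion of a subalgebra. -/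
abbrev incR (C : Subalgebra A P) : C ⊗[A] R →ₐ[A] P ⊗[A] R :=
  Algebra.TensorProduct.map C.val (AlgHom.id A R)

variable (R) in
/-- The inclusion `C ⊗ R → B ⊗ R`. -/
abbrev incB {C B : Subalgebra A P} (h : C ≤ B) : C ⊗[A] R →ₐ[A] B ⊗[A] R :=
  Algebra.TensorProduct.map (Subalgebra.inclusion h) (AlgHom.id A R)

theorem incR_incB {C B : Subalgebra A P} (h : C ≤ B) (x : C ⊗[A] R) :
    incR B (incB R h x) = incR C x := by
  induction x with
  | zero => simp only [map_zero]
  | tmul a b => rfl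
  | add x y hx hy => simp only [map_add, hx, hy]

theorem incR_includeLeft (C : Subalgebra A P) (c : C) :
    incR (R := R) C (Algebra.TensorProduct.includeLeft (S := A) c) = ιP (c : P) := rfl

theorem exists_incR (z : P ⊗[A] R) :
    ∃ (C : Subalgebra A P) (_ : C.FG) (zC : C ⊗[A] R), incR C zC = z := by
  obtain ⟨C, hC, zC, hz⟩ := TensorProduct.Algebra.exists_of_fg z
  exact ⟨C, hC, zC, hz⟩

theorem exists_incB_eq_zero {C : Subalgebra A P} (hC : C.FG) {x : C ⊗[A] R} (hx : incR C x = 0) :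
    ∃ (B : Subalgebra A P) (h : C ≤ B), B.FG ∧ incB R h x = 0 := by
  obtain ⟨B, h, hB, e⟩ := TensorProduct.Algebra.eq_of_fg_of_subtype_eq (t := x) (t' := 0) hC
    (hx.trans (map_zero _).symm)
  exact ⟨B, h, hB, e.trans (map_zero _)⟩

theorem exists_mem_map (m : Ideal P) {z : P ⊗[A] R} (hz : z ∈ m.map ιP) :
    ∃ (C : Subalgebra A P) (_ : C.FG) (zC : C ⊗[A] R), incR C zC = z ∧
      zC ∈ (m.comap C.val).map (Algebra.TensorProduct.includeLeft (S := A)) := by
  refine Submodule.span_induction ?_ ?_ ?_ ?_ hz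
  · rintro _ ⟨b, hb, rfl⟩
    refine ⟨Algebra.adjoin A {b}, Subalgebra.fg_def.mpr ⟨{b}, Set.finite_singleton b, rfl⟩,
      Algebra.TensorProduct.includeLeft (S := A)
        ⟨b, Algebra.self_mem_adjoin_singleton A b⟩, rfl, ?_⟩
    exact Ideal.mem_map_of_mem _ hb
  · exact ⟨⊥, Subalgebra.fg_bot, 0, map_zero _, zero_mem _⟩
  · rintro x y - - ⟨C, hC, xC, rfl, hxm⟩ ⟨C', hC', yC, rfl, hym⟩
    refine ⟨C ⊔ C', hC.sup hC', incB R (le_sup_left : C ≤ C ⊔ C') xC + incB R (le_sup_right : C' ≤ C ⊔ C') yC, ?_, add_mem ?_ ?_⟩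
    · rw [map_add, incR_incB, incR_incB]
    · have := Ideal.mem_map_of_mem (incB R (le_sup_left : C ≤ C ⊔ C')) hxm
      rw [Ideal.map_mapₐ] at this
      refine Ideal.map_le_iff_le_comap.mpr (fun c hc => ?_) this
      exact Ideal.mem_map_of_mem (Algebra.TensorProduct.includeLeft (S := A))
        (x := Subalgebra.inclusion (le_sup_left : C ≤ C ⊔ C') c) hc
    · have := Ideal.mem_map_of_mem (incB R (le_sup_right : C' ≤ C ⊔ C')) hym
      rw [Ideal.map_mapₐ] at this
      refine Ideal.map_le_iff_le_comap.mpr (fun c hc => ?_) this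
      exact Ideal.mem_map_of_mem (Algebra.TensorProduct.includeLeft (S := A))
        (x := Subalgebra.inclusion (le_sup_right : C' ≤ C ⊔ C') c) hc
  · rintro r x - ⟨C, hC, xC, rfl, hxm⟩
    obtain ⟨C', hC', rC, rfl⟩ := exists_incR r
    refine ⟨C ⊔ C', hC.sup hC', incB R (le_sup_right : C' ≤ C ⊔ C') rC * incB R (le_sup_left : C ≤ C ⊔ C') xC, ?_,
      Ideal.mul_mem_left _ _ ?_⟩
    · rw [map_mul, incR_incB, incR_incB]; rfl
    · have := Ideal.mem_map_of_mem (incB R (le_sup_left : C ≤ C ⊔ C')) hxm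
      rw [Ideal.map_mapₐ] at this
      refine Ideal.map_le_iff_le_comap.mpr (fun c hc => ?_) this
      exact Ideal.mem_map_of_mem (Algebra.TensorProduct.includeLeft (S := A))
        (x := Subalgebra.inclusion (le_sup_left : C ≤ C ⊔ C') c) hc

theorem PrimePair.mono {C B : Subalgebra A P} (h : C ≤ B) {m : Ideal P}
    (hB : PrimePair (A := A) R B (m.comap B.val)) : PrimePair (A := A) R C (m.comap C.val) := by
  obtain ⟨q, q', hq, hq', hle, h0, hm⟩ := hB
  refine ⟨q.comap (incB R h), q'.comap (incB R h), Ideal.IsPrime.comap _, Ideal.IsPrime.comap _,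
    Ideal.comap_mono hle, ?_, ?_⟩
  · ext c
    rw [Ideal.mem_bot]
    refine ⟨fun hc => ?_, fun hc => by rw [hc]; exact zero_mem _⟩
    have : Subalgebra.inclusion h c ∈ (⊥ : Ideal B) := h0.le hc
    have e := (Ideal.mem_bot (x := Subalgebra.inclusion h c)).mp this
    exact Subtype.ext (congrArg Subtype.val e :)
  · ext c
    exact SetLike.ext_iff.mp hm (Subalgebra.inclusion h c)

/-- If the pairs exist over all finitely generated subalgebras, they exist over the union. -/
theorem primePair_of_forall_fg [IsDomain P] (m : Ideal P) [m.IsPrime]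
    (h : ∀ C : Subalgebra A P, C.FG → PrimePair (A := A) R C (m.comap C.val)) :
    PrimePair (A := A) R P m := by
  let tor : Ideal (P ⊗[A] R) :=
    { carrier := {t | ∃ a : P, a ≠ 0 ∧ ιP a * t = 0}
      zero_mem' := ⟨1, one_ne_zero, mul_zero _⟩
      add_mem' := fun {x y} ⟨a, ha, hax⟩ ⟨b, hb, hby⟩ => ⟨a * b, mul_ne_zero ha hb, by
        rw [map_mul, mul_add, mul_assoc, mul_comm (ιP b) x, ← mul_assoc, hax, zero_mul,
          mul_assoc, hby, mul_zero, add_zero]⟩
      smul_mem' := fun r x ⟨a, ha, hax⟩ => ⟨a, ha, by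
        rw [smul_eq_mul, mul_comm r, ← mul_assoc, hax, zero_mul]⟩ }
  have hdis : Disjoint (↑(tor ⊔ m.map ιP) : Set (P ⊗[A] R))
      (m.primeCompl.map (ιP : P →* P ⊗[A] R) : Submonoid (P ⊗[A] R)) := by
    rw [Set.disjoint_left]
    rintro _ hz ⟨s, hs, rfl⟩
    obtain ⟨t, ⟨a, ha, hat⟩, u, hu, htu⟩ := Submodule.mem_sup.mp hz
    obtain ⟨C, hC, uC, rfl, huC⟩ := exists_mem_map m hu
    let C' := C ⊔ Algebra.adjoin A {s, a}
    have hC' : C'.FG := hC.sup (Subalgebra.fg_def.mpr ⟨{s, a}, Set.toFinite _, rfl⟩)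
    have hs' : s ∈ C' := (le_sup_right : _ ≤ C') (Algebra.subset_adjoin (Set.mem_insert _ _))
    have ha' : a ∈ C' :=
      (le_sup_right : _ ≤ C') (Algebra.subset_adjoin (Set.mem_insert_of_mem _ rfl))
    let ι' : C' →ₐ[A] C' ⊗[A] R := Algebra.TensorProduct.includeLeft (S := A)
    let x : C' ⊗[A] R := ι' ⟨a, ha'⟩ * (ι' ⟨s, hs'⟩ - incB R (le_sup_left : C ≤ C') uC)
    have hx : incR C' x = 0 := by
      rw [map_mul, map_sub, incR_incB]
      erw [incR_includeLeft, incR_includeLeft]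
      rw [show ιP s - incR C uC = t from sub_eq_iff_eq_add.mpr htu.symm]
      exact hat
    obtain ⟨B, hle, hB, hxB⟩ := exists_incB_eq_zero hC' hx
    obtain ⟨q, q', hq, hq', hqq, h0, hm⟩ := PrimePair.mono (R := R) le_rfl (h B hB)
    rw [map_mul] at hxB
    rcases hq.mem_or_mem (hxB.symm ▸ zero_mem q) with h1 | h1
    · have : Subalgebra.inclusion hle ⟨a, ha'⟩ ∈ (⊥ : Ideal B) := h0.le h1
      exact ha (congrArg Subtype.val (Ideal.mem_bot.mp this))
    · rw [map_sub] at h1
      have h2 : incB R hle (incB R (le_sup_left : C ≤ C') uC) ∈ q' := by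
        refine (Ideal.map_le_iff_le_comap (K := q'.comap ((incB R hle).comp
          (incB R (le_sup_left : C ≤ C'))))).mpr (fun c hc => ?_) huC
        exact hm.ge (x := Subalgebra.inclusion hle (Subalgebra.inclusion le_sup_left c)) hc
      have h3 : incB R hle (ι' ⟨s, hs'⟩) ∈ q' := by simpa using add_mem (hqq h1) h2
      exact hs (hm.le (x := Subalgebra.inclusion hle ⟨s, hs'⟩) h3)
  obtain ⟨q', hq', hJ, hd⟩ := Ideal.exists_le_prime_disjoint _ _ hdis
  obtain ⟨q, hq, hqq⟩ := Ideal.exists_minimalPrimes_le ((le_sup_left : tor ≤ _).trans hJ)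
  refine ⟨q, q', hq.isPrime, hq', hqq, eq_bot_iff.mpr fun a ha => ?_, le_antisymm (fun a ha => ?_)
    (fun a ha => hJ (Ideal.mem_sup_right (Ideal.mem_map_of_mem _ ha)))⟩
  · by_contra hne
    obtain ⟨y, hy, b, hb, hby⟩ := Ideal.exists_mul_mem_of_mem_minimalPrimes hq ha
    refine hy ⟨b * a, mul_ne_zero hb (fun e => hne (Ideal.mem_bot.mpr e)), ?_⟩
    rw [map_mul, mul_assoc]
    exact hby
  · by_contra hne
    exact Set.disjoint_left.mp hd ha ⟨a, hne, rfl⟩

end Groth.L09.Subtr
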