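import Groth.Agent.L09.Subtr
import Groth.Agent.L09.SubtrPrimePair
import Mathlib.AlgebraicGeometry.Morphisms.Preimmersion
import Mathlib.AlgebraicGeometry.PullbackCarrier

/-!
# Lifting pairs of points through a directed union of rings
-/

set_option autoImplicit false
set_option linter.style.haveILetI false
set_option backward.isDefEq.respectTransparency.types false

universe u

open CategoryTheory CategoryTheory.Limits AlgebraicGeometry TopologicalSpace
open scoped TensorProduct

noncomputable section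

namespace Groth.L09.Subtr

variable {X T T' : Scheme.{u}}

/-- The pair `t' ⤳ t` lifts along `f`. -/
def HasPair (f : X ⟶ T) (t' t : T) : Prop :=
  ∃ x x' : X, x' ⤳ x ∧ f x = t ∧ f x' = t'

theorem HasPair.map {X' : Scheme.{u}} {f : X ⟶ T} {f' : X' ⟶ T'} {k : X ⟶ X'} {b : T ⟶ T'}
    (e : k ≫ f' = f ≫ b) {t' t : T} (h : HasPair f t' t) : HasPair f' (b t') (b t) := by
  obtain ⟨x, x', hxx, rfl, rfl⟩ := h
  refine ⟨k x, k x', hxx.map k.continuous, ?_, ?_⟩ <;>
    rw [← Scheme.Hom.comp_apply, ← Scheme.Hom.comp_apply, e]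

theorem HasPair.of_iso {X' : Scheme.{u}} {f : X ⟶ T} {f' : X' ⟶ T} (e : X ≅ X')
    (he : e.hom ≫ f' = f) {t' t : T} (h : HasPair f t' t) : HasPair f' t' t :=
  h.map (k := e.hom) (b := 𝟙 T) (by rw [Category.comp_id]; exact he)

/-- Pairs lift to the base change along a preimmersion. -/
theorem HasPair.of_preimmersion {f : X ⟶ T} (b : T' ⟶ T) [IsPreimmersion b] {t' t : T'}
    (h : HasPair f (b t') (b t)) : HasPair (pullback.snd f b) t' t := by
  obtain ⟨x, x', hxx, hx, hx'⟩ := h
  haveI : IsPreimmersion (pullback.fst f b) :=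
    MorphismProperty.pullback_fst (P := @IsPreimmersion) _ _ inferInstance
  obtain ⟨z, rfl⟩ : x ∈ Set.range (pullback.fst f b) := by
    rw [Scheme.Pullback.range_fst]; exact ⟨t, hx.symm⟩
  obtain ⟨z', rfl⟩ : x' ∈ Set.range (pullback.fst f b) := by
    rw [Scheme.Pullback.range_fst]; exact ⟨t', hx'.symm⟩
  refine ⟨z, z', (pullback.fst f b).isEmbedding.isInducing.specializes_iff.mp hxx, ?_, ?_⟩ <;>
    refine b.isEmbedding.injective ?_
  · rw [← hx, ← Scheme.Hom.comp_apply, ← Scheme.Hom.comp_apply, pullback.condition]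
  · rw [← hx', ← Scheme.Hom.comp_apply, ← Scheme.Hom.comp_apply, pullback.condition]

theorem HasPair.snd_comp {Y : Scheme.{u}} (f : X ⟶ Y) (g : T ⟶ Y) (b : T' ⟶ T) [IsPreimmersion b]
    {t' t : T'} (h : HasPair (pullback.snd f g) (b t') (b t)) :
    HasPair (pullback.snd f (b ≫ g)) t' t :=
  h.of_preimmersion.of_iso (pullbackLeftPullbackSndIso f g b)
    (pullbackLeftPullbackSndIso_hom_snd f g b)

theorem HasPair.of_comp {Y : Scheme.{u}} (f : X ⟶ Y) (g : T ⟶ Y) (b : T' ⟶ T)
    {t' t : T'} (h : HasPair (pullback.snd f (b ≫ g)) t' t) :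
    HasPair (pullback.snd f g) (b t') (b t) :=
  h.map (k := pullback.lift (pullback.fst _ _) (pullback.snd _ _ ≫ b)
    (by rw [pullback.condition, Category.assoc])) (pullback.lift_snd _ _ _)

theorem HasPair.of_source {Y X' : Scheme.{u}} (f : X ⟶ Y) (g : T ⟶ Y) (j : X' ⟶ X)
    {t' t : T} (h : HasPair (pullback.snd (j ≫ f) g) t' t) : HasPair (pullback.snd f g) t' t := by
  have := h.map (f' := pullback.snd f g)
    (k := pullback.map (j ≫ f) g f g j (𝟙 T) (𝟙 Y) (by simp) (by simp)) (b := 𝟙 T)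
    (pullback.lift_snd _ _ _)
  exact this

theorem hasPair_snd_snd_iff {Y U : Scheme.{u}} (f : X ⟶ Y) (u : U ⟶ Y) (g : T ⟶ U) {t' t : T} :
    HasPair (pullback.snd (pullback.snd f u) g) t' t ↔ HasPair (pullback.snd f (g ≫ u)) t' t :=
  ⟨fun h => h.of_iso (pullbackLeftPullbackSndIso f u g) (pullbackLeftPullbackSndIso_hom_snd f u g),
    fun h => h.of_iso (pullbackLeftPullbackSndIso f u g).symm (by
      rw [Iso.symm_hom, Iso.inv_comp_eq, pullbackLeftPullbackSndIso_hom_snd])⟩

section Spec

variable {A R P : Type u} [CommRing A] [CommRing R] [Algebra A R] [CommRing P] [Algebra A P]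

theorem primePair_iff_hasPair [IsDomain P] (m : PrimeSpectrum P) :
    PrimePair (A := A) R P m.asIdeal ↔
      HasPair (pullback.snd (Spec.map (CommRingCat.ofHom (algebraMap A R)))
        (Spec.map (CommRingCat.ofHom (algebraMap A P)))) (genPt P) m := by
  have key : PrimePair (A := A) R P m.asIdeal ↔
      HasPair (Spec.map (CommRingCat.ofHom
        (Algebra.TensorProduct.includeLeftRingHom : P →+* P ⊗[A] R))) (genPt P) m := by
    constructor
    · rintro ⟨q, q', hq, hq', hle, h0, hm⟩
      exact ⟨(⟨q', hq'⟩ : PrimeSpectrum _), (⟨q, hq⟩ : PrimeSpectrum _),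
        (PrimeSpectrum.le_iff_specializes _ _).mp hle, PrimeSpectrum.ext hm, PrimeSpectrum.ext h0⟩
    · rintro ⟨x, x', hxx, hx, hx'⟩
      exact ⟨_, _, (x' : PrimeSpectrum _).2, (x : PrimeSpectrum _).2,
        (PrimeSpectrum.le_iff_specializes _ _).mpr hxx, congrArg PrimeSpectrum.asIdeal hx',
        congrArg PrimeSpectrum.asIdeal hx⟩
  let e := pullbackSymmetry (Spec.map (CommRingCat.ofHom (algebraMap A R)))
    (Spec.map (CommRingCat.ofHom (algebraMap A P))) ≪≫ pullbackSpecIso A P R
  have he : e.hom ≫ Spec.map (CommRingCat.ofHom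
      (Algebra.TensorProduct.includeLeftRingHom : P →+* P ⊗[A] R)) = pullback.snd _ _ := by
    rw [Iso.trans_hom, Category.assoc, pullbackSpecIso_hom_fst, pullbackSymmetry_hom_comp_fst]
  rw [key]
  exact ⟨fun h => h.of_iso e.symm (by rw [Iso.symm_hom, Iso.inv_comp_eq, he]),
    fun h => h.of_iso e he⟩

/-- Pairs descend to the union of the finitely generated subalgebras. -/
theorem hasPair_of_forall_fg [IsDomain P] (f : X ⟶ Spec (CommRingCat.of A)) [QuasiCompact f]
    (m : PrimeSpectrum P)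
    (h : ∀ C : Subalgebra A P, C.FG → HasPair
      (pullback.snd f (Spec.map (CommRingCat.ofHom (algebraMap A C)))) (genPt C)
      (PrimeSpectrum.comap C.val.toRingHom m)) :
    HasPair (pullback.snd f (Spec.map (CommRingCat.ofHom (algebraMap A P)))) (genPt P) m := by
  classical
  haveI : CompactSpace X := QuasiCompact.compactSpace_of_compactSpace f
  obtain ⟨s, hs⟩ := isCompact_univ.elim_finite_subcover (fun U : X.affineOpens => (U.1 : Set X))
    (fun U => U.1.2) fun x _ => by
      obtain ⟨_, ⟨(U : X.Opens), hU, rfl⟩, hxU, -⟩ :=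
        X.isBasis_affineOpens.exists_subset_of_mem_open (Set.mem_univ x) isOpen_univ
      exact Set.mem_iUnion.mpr ⟨⟨U, hU⟩, hxU⟩
  by_contra hcon
  have hbad : ∀ U : X.affineOpens, ∃ C : Subalgebra A P, C.FG ∧
      ¬ HasPair (pullback.snd (U.2.fromSpec ≫ f) (Spec.map (CommRingCat.ofHom (algebraMap A C))))
        (genPt C) (PrimeSpectrum.comap C.val.toRingHom m) := fun U => by
    obtain ⟨φ, hφ⟩ := Spec.map_surjective (U.2.fromSpec ≫ f)
    letI : Algebra A Γ(X, U.1) := φ.hom.toAlgebra
    have hφ' : Spec.map (CommRingCat.ofHom (algebraMap A Γ(X, U.1))) = U.2.fromSpec ≫ f := hφ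
    by_contra hC
    push Not at hC
    refine hcon (HasPair.of_source _ _ U.2.fromSpec ?_)
    rw [← hφ'] at hC ⊢
    exact (primePair_iff_hasPair m).mp (primePair_of_forall_fg m.asIdeal fun C hCfg =>
      (primePair_iff_hasPair (PrimeSpectrum.comap C.val.toRingHom m)).mpr (hC C hCfg))
  choose C hC hno using hbad
  let D := s.sup C
  have hD : D.FG := Finset.sup_induction Subalgebra.fg_bot (fun a ha b hb => ha.sup hb) fun U _ => hC U
  obtain ⟨z, z', hzz, hz, hz'⟩ := h D hD
  obtain ⟨U, hUs, hzU⟩ := Set.mem_iUnion₂.mp (hs (Set.mem_univ (pullback.fst f _ z)))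
  let g := Spec.map (CommRingCat.ofHom (algebraMap A D))
  have hmem : pullback.fst f g z' ∈ U.1 :=
    (hzz.map (pullback.fst f g).continuous).mem_open U.1.2 hzU
  let l := pullback.snd U.2.fromSpec (pullback.fst f g)
  have hr : ∀ w : (pullback f g : Scheme.{u}), pullback.fst f g w ∈ U.1 → w ∈ Set.range l :=
    fun w hw => by
      rw [Scheme.Pullback.range_snd, U.2.range_fromSpec]; exact hw
  obtain ⟨w, rfl⟩ := hr z hzU
  obtain ⟨w', rfl⟩ := hr z' hmem
  have h1 : HasPair (pullback.snd (U.2.fromSpec ≫ f) g) (genPt D)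
      (PrimeSpectrum.comap D.val.toRingHom m) :=
    HasPair.of_iso (f := l ≫ pullback.snd f g) (pullbackRightPullbackFstIso f g U.2.fromSpec)
      (pullbackRightPullbackFstIso_hom_snd _ _ _)
      ⟨w, w', l.isOpenEmbedding.isInducing.specializes_iff.mp hzz,
        (Scheme.Hom.comp_apply _ _ _).trans hz, (Scheme.Hom.comp_apply _ _ _).trans hz'⟩
  refine hno U ?_
  have hle : C U ≤ D := Finset.le_sup hUs
  let b := Spec.map (CommRingCat.ofHom (Subalgebra.inclusion hle).toRingHom)
  have hb : b ≫ Spec.map (CommRingCat.ofHom (algebraMap A (C U))) = g := by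
    rw [← Spec.map_comp]; rfl
  have h2 := HasPair.of_comp _ _ b (t' := genPt D) (t := PrimeSpectrum.comap D.val.toRingHom m)
    (by rw [hb]; exact h1)
  have hbg : b (genPt D) = genPt (C U) :=
    PrimeSpectrum.ext (Ideal.comap_bot_of_injective _ (Subalgebra.inclusion_injective hle))
  rw [hbg] at h2
  exact h2

end Spec

end Groth.L09.Subtr
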