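import Groth.Agent.L09.SubtrPairs
import Groth.Agent.L19.MonoValuative
import Groth.Prelude.Def_SGA1
import Groth.Agent.S14766
import Groth.Agent.S14772
import Mathlib.AlgebraicGeometry.AffineSpace
import Mathlib.RingTheory.PowerSeries.Inverse
import Mathlib.Topology.LocalAtTarget
import Mathlib.AlgebraicGeometry.ResidueField
import Mathlib.RingTheory.Valuation.ValuationRing

/-!
# Submersive morphisms, S-subtrusive morphisms and discrete valuation rings
-/

set_option autoImplicit false
set_option linter.style.haveILetI false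
set_option backward.isDefEq.respectTransparency.types false

universe u

open CategoryTheory CategoryTheory.Limits AlgebraicGeometry IsLocalRing TopologicalSpace

noncomputable section

namespace Groth.L09.Subtr

variable {X Y T : Scheme.{u}}

/-- The image of a closed set under a quasi-compact morphism to an affine scheme is closed as soon
as it is stable under specialization. -/
theorem isClosed_image_affine {R : CommRingCat.{u}} (f : X ⟶ Spec R) [QuasiCompact f] {Z : Set X}
    (hZ : IsClosed Z) (H : StableUnderSpecialization (f '' Z)) : IsClosed (f '' Z) := by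
  wlog hX : ∃ R', X = Spec R'
  · obtain ⟨R', g, hg⟩ := compactSpace_iff_exists.mp (QuasiCompact.compactSpace_of_compactSpace f)
    have inst : QuasiCompact (g ≫ f) := HasAffineProperty.iff_of_isAffine.mpr (by infer_instance)
    have := this (g ≫ f) (hZ.preimage g.continuous)
    simp_rw [Scheme.Hom.comp_base, TopCat.comp_app, ← Set.image_image,
      Set.image_preimage_eq _ hg] at this
    exact this H ⟨_, rfl⟩
  obtain ⟨R', rfl⟩ := hX
  obtain ⟨φ, rfl⟩ := Spec.homEquiv.symm.surjective f
  exact PrimeSpectrum.isClosed_image_of_stableUnderSpecialization φ.hom Z hZ H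

/-- A subset with closed preimage under a quasi-compact surjection is closed if it is stable under
specialization. -/
theorem isClosed_of_stable (f : X ⟶ Y) [QuasiCompact f] (hs : Function.Surjective f) {E : Set Y}
    (hE : IsClosed (f ⁻¹' E)) (H : StableUnderSpecialization E) : IsClosed E := by
  refine isClosed_of_closure_subset fun y hy => ?_
  obtain ⟨_, ⟨(U : Y.Opens), hU, rfl⟩, hyU, -⟩ :=
    Y.isBasis_affineOpens.exists_subset_of_mem_open (Set.mem_univ y) isOpen_univ
  replace hU : IsAffineOpen U := hU
  have hcl : IsClosed (hU.fromSpec ⁻¹' E) := by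
    have himg : pullback.snd f hU.fromSpec '' (pullback.fst f hU.fromSpec ⁻¹' (f ⁻¹' E)) =
        hU.fromSpec ⁻¹' E := by
      ext p
      constructor
      · rintro ⟨z, hz, rfl⟩
        show hU.fromSpec (pullback.snd f hU.fromSpec z) ∈ E
        rw [← Scheme.Hom.comp_apply, ← pullback.condition, Scheme.Hom.comp_apply]
        exact hz
      · intro hp
        obtain ⟨x, hx⟩ := hs (hU.fromSpec p)
        obtain ⟨z, hz1, hz2⟩ := Scheme.Pullback.exists_preimage_pullback x p hx
        refine ⟨z, ?_, hz2⟩
        show f (pullback.fst f hU.fromSpec z) ∈ E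
        rw [hz1, hx]
        exact hp
    rw [← himg]
    refine isClosed_image_affine _ (hE.preimage (pullback.fst f hU.fromSpec).continuous) ?_
    rw [himg]
    exact fun a b hab ha => H (hab.map hU.fromSpec.continuous) ha
  obtain ⟨p, rfl⟩ : y ∈ Set.range hU.fromSpec := hU.range_fromSpec.ge hyU
  have : p ∈ closure (hU.fromSpec ⁻¹' E) :=
    (hU.fromSpec.isOpenEmbedding.isOpenMap.preimage_closure_eq_closure_preimage
      hU.fromSpec.continuous E).le hy
  exact hcl.closure_eq.le this

/-- A quasi-compact surjection is submersive if sets with closed preimage are stable under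
specialization. -/
theorem isQuotientMap_of_stable (f : X ⟶ Y) [QuasiCompact f] (hs : Function.Surjective f)
    (H : ∀ E : Set Y, IsClosed (f ⁻¹' E) → StableUnderSpecialization E) :
    Topology.IsQuotientMap f :=
  Topology.isQuotientMap_iff_isClosed.mpr
    ⟨hs, fun E => ⟨fun h => h.preimage f.continuous, fun h => isClosed_of_stable f hs h (H E h)⟩⟩

theorem isQuotientMap_of_ssub (f : X ⟶ Y) [QuasiCompact f] (hf : Subtr.IsSSubtrusive f) :
    Topology.IsQuotientMap f :=
  isQuotientMap_of_stable f (ssub_surjective hf) fun E hE y' y hy hy' => by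
    obtain ⟨x, x', hxx, rfl, rfl⟩ := hf hy
    exact hxx.mem_closed hE hy'

theorem univSubmersive_of_univSSubtrusive (f : X ⟶ Y) [QuasiCompact f]
    (hf : Subtr.UnivSSubtrusive f) : SGA1.UnivSubmersive f := fun X' Y' i₁ i₂ f' H => by
  haveI : QuasiCompact f' := MorphismProperty.of_isPullback H.flip inferInstance
  exact isQuotientMap_of_ssub f' (hf _ _ _ H)

theorem univSubmersive_snd {f : X ⟶ Y} (hf : SGA1.UnivSubmersive f) (g : T ⟶ Y) :
    Topology.IsQuotientMap (pullback.snd f g) :=
  hf _ _ _ (IsPullback.of_hasPullback f g).flip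

theorem surjective_of_forall_field (f : X ⟶ Y)
    (h : ∀ y : Y, ∃ (Z : Scheme.{u}) (g : Z ⟶ Y), y ∈ Set.range g ∧
      Function.Surjective (pullback.snd f g)) : Function.Surjective f := fun y => by
  obtain ⟨Z, g, ⟨z, rfl⟩, hg⟩ := h y
  obtain ⟨w, rfl⟩ := hg z
  exact ⟨pullback.fst f g w, by rw [← Scheme.Hom.comp_apply, pullback.condition, Scheme.Hom.comp_apply]⟩

/-- Submersiveness over all valuation rings gives universal submersiveness. -/
theorem univSubmersive_of_valuationRing (f : X ⟶ Y) [QuasiCompact f]
    (h : ∀ (V : Type u) [CommRing V] [IsDomain V] [ValuationRing V] (g : Spec (CommRingCat.of V) ⟶ Y),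
      Topology.IsQuotientMap (pullback.snd f g)) : SGA1.UnivSubmersive f := fun X' Y' i₁ i₂ f' H => by
  haveI : QuasiCompact f' := MorphismProperty.of_isPullback H.flip inferInstance
  have hsf : Function.Surjective f := surjective_of_forall_field f fun y =>
    ⟨_, Y.fromSpecResidueField y, ⟨closedPoint _, Scheme.fromSpecResidueField_apply y _⟩,
      (@h (Y.residueField y) _ Field.isDomain (ValuationRing.of_field _)
        (Y.fromSpecResidueField y)).surjective⟩
  haveI : Surjective f := ⟨hsf⟩
  haveI : Surjective f' := MorphismProperty.of_isPullback H.flip inferInstance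
  refine isQuotientMap_of_stable f' f'.surjective fun E hE y' y hy hy' => ?_
  obtain ⟨V, _, _, _, g, hg, hc⟩ := exists_valuation hy
  let l : pullback f (g ≫ i₂) ⟶ X' := H.lift (pullback.snd f (g ≫ i₂) ≫ g) (pullback.fst f (g ≫ i₂))
    (by rw [Category.assoc]; exact pullback.condition.symm)
  have hl : l ≫ f' = pullback.snd f (g ≫ i₂) ≫ g := H.lift_fst _ _ _
  have hcl : IsClosed (g ⁻¹' E) := by
    refine (h V (g ≫ i₂)).isClosed_preimage.mp ?_
    convert hE.preimage l.continuous using 1
    ext z
    show g (pullback.snd f (g ≫ i₂) z) ∈ E ↔ f' (l z) ∈ E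
    rw [← Scheme.Hom.comp_apply, ← Scheme.Hom.comp_apply, hl]
  have hgen : genPt V ∈ g ⁻¹' E := by
    show g (genPt V) ∈ E
    rw [hg]; exact hy'
  have hcp : closedPoint V ∈ g ⁻¹' E := (genPt_specializes (closedPoint V)).mem_closed hcl hgen
  rw [← hc]
  exact hcp

/-- Discrete valuation rings realise specializations in locally Noetherian schemes. -/
theorem exists_dvr [IsLocallyNoetherian T] {y' y : T} (h : y' ⤳ y) (hne : y' ≠ y) :
    ∃ (D : Type u) (_ : CommRing D) (_ : IsDomain D) (_ : IsDiscreteValuationRing D)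
      (g : Spec (CommRingCat.of D) ⟶ T), g (genPt D) = y' ∧ g (closedPoint D) = y := by
  obtain ⟨W, t, hW, hc, hg⟩ := Groth.L19.exists_dvr_through h hne
  refine ⟨W, inferInstance, inferInstance, hW, t, ?_, hc⟩
  rw [← subtype_genPt W (closedPoint (T.residueField y'))]
  exact (Scheme.Hom.comp_apply _ _ _).symm.trans hg

/-- The pair of points of every discrete valuation ring lifts. -/
def DVRPair (f : X ⟶ Y) : Prop :=
  ∀ (D : Type u) [CommRing D] [IsDomain D] [IsDiscreteValuationRing D]
    (g : Spec (CommRingCat.of D) ⟶ Y), HasPair (pullback.snd f g) (genPt D) (closedPoint D)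

theorem DVRPair.surjective {f : X ⟶ Y} (h : DVRPair f) : Function.Surjective f := fun y => by
  let K := Y.residueField y
  obtain ⟨x, -, -, hx, -⟩ := h (PowerSeries K)
    (Spec.map (CommRingCat.ofHom (PowerSeries.C (R := K))) ≫ Y.fromSpecResidueField y)
  refine ⟨pullback.fst f _ x, ?_⟩
  rw [← Scheme.Hom.comp_apply, pullback.condition, Scheme.Hom.comp_apply, Scheme.Hom.comp_apply,
    Scheme.fromSpecResidueField_apply]

/-- Over locally Noetherian schemes, pairs lift as soon as they lift over discrete valuation rings. -/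
theorem DVRPair.ssub {f : X ⟶ Y} (h : DVRPair f) [IsLocallyNoetherian T] (g : T ⟶ Y) :
    Subtr.IsSSubtrusive (pullback.snd f g) := by
  intro y y' hy
  by_cases hne : y' = y
  · subst hne
    obtain ⟨x, hx⟩ := h.surjective (g y')
    obtain ⟨z, -, hz⟩ := Scheme.Pullback.exists_preimage_pullback x y' hx
    exact ⟨z, z, specializes_refl z, hz, hz⟩
  obtain ⟨D, _, _, _, d, hd', hd⟩ := exists_dvr hy hne
  have := (h D (d ≫ g)).map (f' := pullback.snd f g)
    (k := pullback.lift (pullback.fst f (d ≫ g)) (pullback.snd f (d ≫ g) ≫ d)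
      (by rw [Category.assoc]; exact pullback.condition)) (b := d) (pullback.lift_snd _ _ _)
  rw [hd, hd'] at this
  exact this

theorem DVRPair.univSSubtrusive {f : X ⟶ Y} (h : DVRPair f) [IsLocallyNoetherian Y]
    [QuasiCompact f] : Subtr.UnivSSubtrusive f :=
  (Groth.Agent.S14772.result f).mpr fun n _ => by
    haveI : IsLocallyNoetherian (AffineSpace (ULift.{u} (Fin n)) Y) :=
      LocallyOfFiniteType.isLocallyNoetherian (AffineSpace (ULift.{u} (Fin n)) Y ↘ Y)
    exact h.ssub _

theorem dvrPair_of_univSubmersive {f : X ⟶ Y} (hf : SGA1.UnivSubmersive f) : DVRPair f :=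
  fun D _ _ _ g =>
    (Groth.Agent.S14766.result D _).mp (univSubmersive_snd hf g) (genPt_specializes (closedPoint D))

/-- Lifting of discrete valuation rings gives the pair lifting. -/
theorem dvrPair_of_lift {f : X ⟶ Y}
    (h : ∀ (D : Type u) [CommRing D] [IsDomain D] [IsDiscreteValuationRing D]
      (g : Spec (CommRingCat.of D) ⟶ Y),
      ∃ (D' : Type u) (_ : CommRing D') (_ : IsDomain D') (_ : IsDiscreteValuationRing D')
        (a : Spec (CommRingCat.of D') ⟶ X) (b : Spec (CommRingCat.of D') ⟶ Spec (CommRingCat.of D)),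
        Surjective b ∧ a ≫ f = b ≫ g) : DVRPair f := fun D _ _ _ g => by
  obtain ⟨D', _, _, _, a, b, hb, hab⟩ := h D g
  let l := pullback.lift a b hab
  refine ⟨l (closedPoint D'), l (genPt D'), (genPt_specializes _).map l.continuous, ?_, ?_⟩
  · rw [← Scheme.Hom.comp_apply, pullback.lift_snd, apply_closedPt_of_surjective b]
  · rw [← Scheme.Hom.comp_apply, pullback.lift_snd, apply_genPt_of_surjective b]

/-- For morphisms of finite type, universally S-subtrusive morphisms lift discrete valuation rings. -/
theorem exists_dvr_lift {f : X ⟶ Y} [LocallyOfFiniteType f] (hf : Subtr.UnivSSubtrusive f)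
    (D : Type u) [CommRing D] [IsDomain D] [IsDiscreteValuationRing D]
    (g : Spec (CommRingCat.of D) ⟶ Y) :
    ∃ (D' : Type u) (_ : CommRing D') (_ : IsDomain D') (_ : IsDiscreteValuationRing D')
      (a : Spec (CommRingCat.of D') ⟶ X) (b : Spec (CommRingCat.of D') ⟶ Spec (CommRingCat.of D)),
      Surjective b ∧ a ≫ f = b ≫ g := by
  obtain ⟨x, x', hxx, hx, hx'⟩ := univ_snd hf g (genPt_specializes (closedPoint D))
  haveI : LocallyOfFiniteType (pullback.snd f g) :=
    MorphismProperty.pullback_snd (P := @LocallyOfFiniteType) _ _ inferInstance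
  haveI : IsLocallyNoetherian (pullback f g) :=
    LocallyOfFiniteType.isLocallyNoetherian (pullback.snd f g)
  have hne : x' ≠ x := fun e => by
    subst e
    exact IsDiscreteValuationRing.not_isField D (IsLocalRing.isField_iff_maximalIdeal_eq.mpr
      (congrArg PrimeSpectrum.asIdeal (hx.symm.trans hx')))
  obtain ⟨W, _, _, _, t, ht', ht⟩ := exists_dvr hxx hne
  refine ⟨W, ‹_›, ‹_›, ‹_›, t ≫ pullback.fst f g, t ≫ pullback.snd f g,
    surjective_of_genPt_of_closedPt _ ?_ ?_, by rw [Category.assoc, Category.assoc, pullback.condition]⟩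
  · rw [Scheme.Hom.comp_apply, ht', hx']
  · rw [Scheme.Hom.comp_apply, ht, hx]

end Groth.L09.Subtr
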