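import Groth.Agent.L09.RInvBasic
import Mathlib.LinearAlgebra.Matrix.NonsingularInverse
import Mathlib.LinearAlgebra.Matrix.ToLin
import Mathlib.GroupTheory.Perm.Cycle.Type
import Mathlib.RingTheory.Ideal.Quotient.Basic

/-!
Diagonalisation of hermitian matrices over a ring with involution with local fixed ring.
-/

set_option autoImplicit false
universe u v

open Matrix Finset

namespace Groth.L09.RInvHerm
open Groth.L09.RInvBasic

variable {B : Type u} {A : Type v} [CommRing B] [CommRing A] [Algebra B A] [IsLocalRing B] {lam : A ≃+* A}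
  (hlam : Function.Involutive lam) (hB : RInv.IsFixedRing B A lam)
  {M : Ideal A} [M.IsMaximal] {ε : A}

/-- the sesquilinear form. -/
def hf {n : ℕ} (lam : A ≃+* A) (h : Matrix (Fin n) (Fin n) A) (x y : Fin n → A) : A :=
  ∑ i, ∑ j, lam (x i) * h i j * y j

section
variable {n : ℕ} (h : Matrix (Fin n) (Fin n) A)

lemma hf_add_left (x x' y : Fin n → A) : hf lam h (x + x') y = hf lam h x y + hf lam h x' y := by
  simp [hf, ← Finset.sum_add_distrib, add_mul]

lemma hf_add_right (x y y' : Fin n → A) : hf lam h x (y + y') = hf lam h x y + hf lam h x y' := by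
  simp [hf, ← Finset.sum_add_distrib, mul_add]

lemma hf_smul_left (c : A) (x y : Fin n → A) : hf lam h (c • x) y = lam c * hf lam h x y := by
  simp [hf, Finset.mul_sum, mul_assoc]

lemma hf_smul_right (c : A) (x y : Fin n → A) : hf lam h x (c • y) = c * hf lam h x y := by
  simp only [hf, Finset.mul_sum, Pi.smul_apply, smul_eq_mul]
  refine Finset.sum_congr rfl fun i _ => Finset.sum_congr rfl fun j _ => ?_
  ring

lemma hf_single (i j : Fin n) : hf lam h (Pi.single i 1) (Pi.single j 1) = h i j := by
  simp [hf, Pi.single_apply, Finset.sum_ite_eq', ite_mul, mul_ite, apply_ite (f := lam)]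

lemma congr_apply (P : Matrix (Fin n) (Fin n) A) (a b : Fin n) :
    ((P.map lam).transpose * h * P) a b = hf lam h (fun i => P i a) (fun j => P j b) := by
  simp only [hf, Matrix.mul_apply, Matrix.transpose_apply, Matrix.map_apply, Finset.sum_mul]
  exact Finset.sum_comm

include hlam in
lemma herm_congr (herm : ε • (h.map lam).transpose = h) (hlε : lam ε = ε) (P : Matrix (Fin n) (Fin n) A) :
    ε • (((P.map lam).transpose * h * P).map lam).transpose = (P.map lam).transpose * h * P := by
  have h1 : ((P.map lam).transpose).map lam = P.transpose := by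
    ext i j; simp [hlam (P j i)]
  rw [Matrix.map_mul, Matrix.map_mul, h1, Matrix.transpose_mul, Matrix.transpose_mul,
    Matrix.transpose_transpose, ← Matrix.mul_assoc]
  conv_rhs => rw [← herm]
  rw [Matrix.mul_smul, Matrix.smul_mul]

lemma herm_apply (herm : ε • (h.map lam).transpose = h) (i j : Fin n) : ε * lam (h j i) = h i j :=
  congrFun (congrFun herm i) j

lemma isUnit_of_span (P : Matrix (Fin n) (Fin n) A) (hs : ∀ a, ∃ v, P *ᵥ v = Pi.single a 1) : IsUnit P := by
  choose v hv using hs
  refine IsUnit.of_mul_eq_one (Matrix.of fun i a => v a i) ?_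
  ext i a
  have := congrFun (hv a) i
  simpa [Matrix.mul_apply, Matrix.mulVec, dotProduct, Matrix.one_apply, Pi.single_apply, eq_comm] using this

include hlam in
lemma isUnit_congr (hh : IsUnit h) {P : Matrix (Fin n) (Fin n) A} (hP : IsUnit P) :
    IsUnit ((P.map lam).transpose * h * P) :=
  (((Matrix.isUnit_transpose _).2 (hP.map (lam : A →+* A).mapMatrix)).mul hh).mul hP

end

/-- Non alternating modulo the maximal ideal. -/
def NonAlt (lam : A ≃+* A) (M : Ideal A) {n : ℕ} (h : Matrix (Fin n) (Fin n) A) : Prop :=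
  ∃ x, hf lam h x x ∉ M

lemma exists_not_mem {n : ℕ} {h : Matrix (Fin n) (Fin n) A} (hh : IsUnit h) (i : Fin n) :
    ∃ j, h i j ∉ M := by
  by_contra h'
  push Not at h'
  obtain ⟨u, rfl⟩ := hh
  have h1 : ((↑u : Matrix (Fin n) (Fin n) A) * (↑u⁻¹ : Matrix (Fin n) (Fin n) A)) i i ∈ M := by
    rw [Matrix.mul_apply]
    exact M.sum_mem fun j _ => M.mul_mem_right _ (h' j)
  rw [u.mul_inv, Matrix.one_apply_eq] at h1
  exact Ideal.IsMaximal.ne_top inferInstance (M.eq_top_iff_one.2 h1)

/-- the standard vectors. -/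
abbrev e {n : ℕ} (i : Fin n) : Fin n → A := Pi.single i 1

lemma sum_pairs {n : ℕ} {h : Matrix (Fin n) (Fin n) A} (herm : ε • (h.map lam).transpose = h)
    (hdiag : ∀ i, h i i ∈ M) (hoff : ∀ i j (a : A), a * h i j + ε * lam (a * h i j) ∈ M)
    (hinv : Function.Involutive lam) (x : Fin n → A) (s : Finset (Fin n)) :
    ∑ i ∈ s, ∑ j ∈ s, lam (x i) * h i j * x j ∈ M := by
  induction s using Finset.induction_on with
  | empty => simp
  | insert a s ha ih =>
    simp only [Finset.sum_insert ha, Finset.sum_add_distrib]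
    have key : ∑ j ∈ s, lam (x a) * h a j * x j + ∑ i ∈ s, lam (x i) * h i a * x a ∈ M := by
      rw [← Finset.sum_add_distrib]
      refine M.sum_mem fun j _ => ?_
      have e2 : ε * lam (lam (x a) * x j * h a j) = lam (x j) * h j a * x a := by
        rw [← herm_apply h herm j a, map_mul, map_mul, hinv (x a)]; ring
      have := hoff a j (lam (x a) * x j)
      rw [e2, show lam (x a) * x j * h a j = lam (x a) * h a j * x j by ring] at this
      exact this
    have := M.add_mem (M.add_mem (M.mul_mem_right (x a) (M.mul_mem_left (lam (x a)) (hdiag a))) key) ih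
    convert this using 1
    ring

include hlam in
lemma nonAlt_cases {n : ℕ} {h : Matrix (Fin n) (Fin n) A} (herm : ε • (h.map lam).transpose = h)
    (hn : NonAlt lam M h) :
    (∃ i, h i i ∉ M) ∨ ∃ (i j : Fin n) (a : A), i ≠ j ∧ hf lam h (e i + a • e j) (e i + a • e j) ∉ M := by
  by_contra h'
  push Not at h'
  obtain ⟨x, hx⟩ := hn
  refine hx (sum_pairs (M := M) (ε := ε) herm h'.1 (fun i j (a : A) => ?_) hlam x Finset.univ)
  rcases eq_or_ne i j with rfl | hij
  · have : ε * lam (a * h i i) = lam a * h i i := by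
      conv_rhs => rw [← herm_apply h herm i i]
      rw [map_mul]; ring
    rw [this]
    exact M.add_mem (M.mul_mem_left _ (h'.1 i)) (M.mul_mem_left _ (h'.1 i))
  · have h2 := h'.2 i j a hij
    rw [hf_add_left, hf_add_right, hf_add_right, hf_smul_left, hf_smul_left, hf_smul_right,
      hf_smul_right, hf_single, hf_single, hf_single, hf_single] at h2
    have e2 : ε * lam (a * h i j) = lam a * h j i := by
      rw [← herm_apply h herm j i, map_mul]; ring
    rw [e2]
    have h3 := M.sub_mem (M.sub_mem h2 (h'.1 i)) (M.mul_mem_left (lam a) (M.mul_mem_left a (h'.1 j)))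
    convert h3 using 1
    ring

lemma exists_first {m : ℕ} {h : Matrix (Fin (m + 1)) (Fin (m + 1)) A} (v : Fin (m + 1) → A) (i : Fin (m + 1))
    (hv : v i = 1) (hq : hf lam h v v ∉ M) :
    ∃ P : Matrix (Fin (m + 1)) (Fin (m + 1)) A, IsUnit P ∧ ((P.map lam).transpose * h * P) 0 0 ∉ M := by
  let w : Fin (m + 1) → Fin (m + 1) → A := fun b => if b = 0 then v else e (Equiv.swap 0 i b)
  refine ⟨Matrix.of fun a b => w b a, isUnit_of_span _ fun a => ?_, by simpa [congr_apply, w] using hq⟩
  have hcol : ∀ b, (Matrix.of fun a b => w b a) *ᵥ e b = w b := fun b => by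
    ext c; simp [Matrix.mulVec_single]
  by_cases ha : a = i
  · refine ⟨e 0 - ∑ c ∈ univ.erase i, v c • e (Equiv.swap 0 i c), ?_⟩
    rw [Matrix.mulVec_sub, Matrix.mulVec_sum, hcol, ha]
    simp only [Matrix.mulVec_smul, hcol]
    have hw : ∀ c ∈ univ.erase i, v c • w (Equiv.swap 0 i c) = v c • e c := fun c hc => by
      have : Equiv.swap 0 i c ≠ 0 := fun h0 => (Finset.mem_erase.1 hc).1 (by
        simpa using congrArg (Equiv.swap 0 i) h0)
      simp [w, this]
    rw [Finset.sum_congr rfl hw]
    have hsum : v = v i • e i + ∑ c ∈ univ.erase i, v c • e c := by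
      rw [Finset.add_sum_erase _ (fun c => v c • (e c : Fin (m + 1) → A)) (Finset.mem_univ i)]
      ext c; simp [Finset.sum_apply, Pi.single_apply]
    conv_lhs => arg 1; simp [w]; rw [hsum]
    simp [hv]
  · refine ⟨e (Equiv.swap 0 i a), ?_⟩
    have : Equiv.swap 0 i a ≠ 0 := fun h0 => ha (by
      simpa using congrArg (Equiv.swap 0 i) h0)
    rw [hcol]
    simp [w, this]

include hlam in
lemma exists_unit_corner {m : ℕ} {h : Matrix (Fin (m + 1)) (Fin (m + 1)) A}
    (herm : ε • (h.map lam).transpose = h) (hn : NonAlt lam M h) :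
    ∃ P : Matrix (Fin (m + 1)) (Fin (m + 1)) A, IsUnit P ∧ ((P.map lam).transpose * h * P) 0 0 ∉ M := by
  rcases nonAlt_cases hlam herm hn with ⟨i, hi⟩ | ⟨i, j, a, hij, hq⟩
  · exact exists_first (e i) i (by simp) (by rwa [hf_single])
  · exact exists_first _ i (by simp [Pi.single_apply, hij]) hq

include hlam hB in
lemma corner_isUnit {n : ℕ} {h : Matrix (Fin n) (Fin n) A} (herm : ε • (h.map lam).transpose = h)
    {i : Fin n} (hi : h i i ∉ M) : IsUnit (h i i) :=
  (isUnit_iff hlam hB M _).2 ⟨hi, fun hl => hi (by rw [← herm_apply h herm i i]; exact M.mul_mem_left _ hl)⟩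

/-- columns clearing the first row. -/
def clearMat {m : ℕ} (t : Fin m → A) : Matrix (Fin (m + 1)) (Fin (m + 1)) A :=
  Matrix.of fun a b => (if a = b then 1 else 0) + (if a = 0 then (Fin.cons 0 t : Fin (m + 1) → A) b else 0)

lemma clearMat_col_zero {m : ℕ} (t : Fin m → A) : (fun a => clearMat t a 0) = e 0 := by
  ext a; simp [clearMat, Pi.single_apply]

lemma clearMat_col_succ {m : ℕ} (t : Fin m → A) (k : Fin m) :
    (fun a => clearMat t a k.succ) = e k.succ + t k • e 0 := by
  ext a; simp [clearMat, Pi.single_apply]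

lemma clearMat_isUnit {m : ℕ} (t : Fin m → A) : IsUnit (clearMat t) := by
  refine isUnit_of_span _ fun a => ?_
  have hcol : ∀ b, clearMat t *ᵥ e b = fun c => clearMat t c b := fun b => by
    ext c; simp [Matrix.mulVec_single]
  induction a using Fin.cases with
  | zero => exact ⟨e 0, by rw [hcol, clearMat_col_zero]⟩
  | succ k =>
    refine ⟨e k.succ - t k • e 0, ?_⟩
    rw [Matrix.mulVec_sub, Matrix.mulVec_smul, hcol, hcol, clearMat_col_zero, clearMat_col_succ, add_sub_cancel_right]

/-- block sum with a scalar. -/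
def cornerMat {m : ℕ} (q : A) (H : Matrix (Fin m) (Fin m) A) : Matrix (Fin (m + 1)) (Fin (m + 1)) A :=
  Matrix.of fun a b => Fin.cases (Fin.cases q (fun _ => 0) b) (fun a' => Fin.cases 0 (fun b' => H a' b') b) a

lemma cornerMat_zero_zero {m : ℕ} (q : A) (H : Matrix (Fin m) (Fin m) A) :
    cornerMat q H 0 0 = q := rfl

lemma cornerMat_zero_succ {m : ℕ} (q : A) (H : Matrix (Fin m) (Fin m) A) (b : Fin m) :
    cornerMat q H 0 b.succ = 0 := rfl

lemma cornerMat_succ_zero {m : ℕ} (q : A) (H : Matrix (Fin m) (Fin m) A) (a : Fin m) :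
    cornerMat q H a.succ 0 = 0 := rfl

lemma cornerMat_succ_succ {m : ℕ} (q : A) (H : Matrix (Fin m) (Fin m) A) (a b : Fin m) :
    cornerMat q H a.succ b.succ = H a b := rfl

lemma cornerMat_mul {m : ℕ} (q q' : A) (H H' : Matrix (Fin m) (Fin m) A) :
    cornerMat q H * cornerMat q' H' = cornerMat (q * q') (H * H') := by
  ext a b
  induction a using Fin.cases <;> induction b using Fin.cases <;>
    simp [cornerMat, Matrix.mul_apply, Fin.sum_univ_succ]

lemma cornerMat_one {m : ℕ} : cornerMat (1 : A) (1 : Matrix (Fin m) (Fin m) A) = 1 := by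
  ext a b
  induction a using Fin.cases <;> induction b using Fin.cases <;>
    simp [cornerMat, Matrix.one_apply, Fin.succ_ne_zero, (Fin.succ_ne_zero _).symm]

lemma cornerMat_diagonal {m : ℕ} (q : A) (d : Fin m → A) :
    cornerMat q (Matrix.diagonal d) = Matrix.diagonal (Fin.cons q d : Fin (m + 1) → A) := by
  ext a b
  induction a using Fin.cases <;> induction b using Fin.cases <;>
    simp [cornerMat, Matrix.diagonal_apply, Fin.succ_ne_zero, (Fin.succ_ne_zero _).symm]

lemma cornerMat_map {m : ℕ} (q : A) (H : Matrix (Fin m) (Fin m) A) :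
    ((cornerMat q H).map lam).transpose = cornerMat (lam q) (H.map lam).transpose := by
  ext a b
  induction a using Fin.cases <;> induction b using Fin.cases <;> simp [cornerMat]

lemma isUnit_cornerMat_iff {m : ℕ} (q : A) (hq : IsUnit q) (H : Matrix (Fin m) (Fin m) A) :
    IsUnit (cornerMat q H) ↔ IsUnit H := by
  constructor
  · rintro ⟨u, hu⟩
    refine IsUnit.of_mul_eq_one (Matrix.of fun a b => (↑u⁻¹ : Matrix _ _ A) a.succ b.succ) ?_
    ext a b
    have h1 := congrFun (congrFun u.mul_inv a.succ) b.succ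
    rw [hu] at h1
    simpa [cornerMat, Matrix.mul_apply, Fin.sum_univ_succ, Matrix.one_apply] using h1
  · rintro ⟨u, rfl⟩
    obtain ⟨w, rfl⟩ := hq
    exact IsUnit.of_mul_eq_one (cornerMat (↑w⁻¹ : A) (↑u⁻¹ : Matrix _ _ A))
      (by rw [cornerMat_mul, w.mul_inv, u.mul_inv, cornerMat_one])

include hlam hB in
/-- split off a unit corner. -/
lemma exists_split {m : ℕ} {h : Matrix (Fin (m + 1)) (Fin (m + 1)) A}
    (herm : ε • (h.map lam).transpose = h) (hlε : lam ε = ε) (hh : IsUnit h) (h0 : h 0 0 ∉ M) :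
    ∃ P : Matrix (Fin (m + 1)) (Fin (m + 1)) A, IsUnit P ∧ ∃ H : Matrix (Fin m) (Fin m) A,
      (P.map lam).transpose * h * P = cornerMat (h 0 0) H ∧ IsUnit H ∧ ε • (H.map lam).transpose = H ∧
      ∀ k, h 0 k.succ = 0 → H k k = h k.succ k.succ := by
  obtain ⟨w, hw⟩ := corner_isUnit hlam hB herm h0
  let t : Fin m → A := fun k => -((↑w⁻¹ : A) * h 0 k.succ)
  let h' := ((clearMat t).map lam).transpose * h * clearMat t
  let H : Matrix (Fin m) (Fin m) A := Matrix.of fun a b => h' a.succ b.succ
  have he' : ε • (h'.map lam).transpose = h' := herm_congr hlam h herm hlε _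
  have h0k : ∀ k : Fin m, h' 0 k.succ = 0 := fun k => by
    simp only [h', congr_apply, clearMat_col_zero, clearMat_col_succ, hf_add_right, hf_smul_right, hf_single]
    simp only [t, neg_mul, ← hw]
    rw [mul_right_comm, Units.inv_mul, one_mul, add_neg_cancel]
  have e1 : h' = cornerMat (h 0 0) H := by
    ext a b
    induction a using Fin.cases with
    | zero =>
      induction b using Fin.cases with
      | zero => simp [cornerMat, h', congr_apply, clearMat_col_zero, hf_single]
      | succ b => simp [cornerMat, h0k]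
    | succ a =>
      induction b using Fin.cases with
      | zero =>
        rw [← herm_apply h' he' a.succ 0, h0k]
        simp [cornerMat]
      | succ b => simp [cornerMat, H]
  refine ⟨clearMat t, clearMat_isUnit t, H, e1, ?_, ?_, ?_⟩
  · rw [← isUnit_cornerMat_iff (h 0 0) ⟨w, hw⟩, ← e1]
    exact isUnit_congr hlam h hh (clearMat_isUnit t)
  · ext a b
    exact herm_apply h' he' a.succ b.succ
  · intro k hk
    have : t k = 0 := by simp [t, hk]
    simp [H, h', congr_apply, clearMat_col_succ, this, hf_single]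

include hlam hB in
lemma nonAlt_of_ne {n : ℕ} {h : Matrix (Fin n) (Fin n) A} (herm : ε • (h.map lam).transpose = h)
    (hh : IsUnit h) (i : Fin n) (hc : (∃ a : A, lam a - a ∉ M) ∨ ε + 1 ∉ M) : NonAlt lam M h := by
  by_contra hn
  simp only [NonAlt, not_exists, not_not] at hn
  obtain ⟨j, hj⟩ := exists_not_mem (M := M) hh i
  have hij : i ≠ j := fun h' => hj (by subst h'; simpa [hf_single] using hn (e i))
  have hoff : ∀ a : A, a * h i j + ε * lam (a * h i j) ∈ M := fun a => by
    have h2 := hn (e i + a • e j)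
    rw [hf_add_left, hf_add_right, hf_add_right, hf_smul_left, hf_smul_left, hf_smul_right,
      hf_smul_right, hf_single, hf_single, hf_single, hf_single] at h2
    have hi' := hn (e i)
    have hj' := hn (e j)
    rw [hf_single] at hi' hj'
    have h3 := M.sub_mem (M.sub_mem h2 hi') (M.mul_mem_left (lam a) (M.mul_mem_left a hj'))
    have e2 : ε * lam (a * h i j) = lam a * h j i := by
      rw [← herm_apply h herm j i, map_mul]; ring
    rw [e2]
    convert h3 using 1
    ring
  by_cases hM : conj lam M = M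
  · obtain ⟨w, hw⟩ := (isUnit_iff hlam hB M (h i j)).2 ⟨hj, fun hl => hj (by
      rw [← hM]; exact hl)⟩
    have hb : ∀ b : A, b + ε * lam b ∈ M := fun b => by
      have := hoff (b * ↑w⁻¹)
      rwa [mul_assoc, ← hw, w.inv_mul, mul_one] at this
    have h1 : ε + 1 ∈ M := by simpa [add_comm] using hb 1
    rcases hc with ⟨a, ha⟩ | hc
    · refine ha ?_
      have := M.sub_mem (M.mul_mem_right (lam a) h1) (hb a)
      convert this using 1
      ring
    · exact hc h1
  · have hne : ¬ conj lam M ≤ M := fun hle => hM (Ideal.IsMaximal.eq_of_le inferInstance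
      (Ideal.IsMaximal.ne_top inferInstance) hle)
    obtain ⟨a, ha, ha'⟩ := SetLike.not_le_iff_exists.1 hne
    have h2 := hoff a
    rw [map_mul, Ideal.add_mem_iff_left _ (M.mul_mem_left _ (M.mul_mem_right _ (show lam a ∈ M from ha)))] at h2
    rcases (Ideal.IsMaximal.isPrime (I := M) inferInstance).mem_or_mem h2 with h3 | h3
    · exact ha' h3
    · exact hj h3

include hlam hB in
/-- a split whose complement is again non alternating. -/
lemma exists_good_split {m : ℕ} {h : Matrix (Fin (m + 2)) (Fin (m + 2)) A}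
    (herm : ε • (h.map lam).transpose = h) (hlε : lam ε = ε) (hh : IsUnit h) (hn : NonAlt lam M h) :
    ∃ P : Matrix (Fin (m + 2)) (Fin (m + 2)) A, IsUnit P ∧ ∃ (q : A) (H : Matrix (Fin (m + 1)) (Fin (m + 1)) A),
      (P.map lam).transpose * h * P = cornerMat q H ∧ IsUnit H ∧ ε • (H.map lam).transpose = H ∧
      NonAlt lam M H := by
  obtain ⟨P₀, hP₀, hq₀⟩ := exists_unit_corner hlam herm hn
  have herm₀ := herm_congr hlam h herm hlε P₀
  have hh₀ := isUnit_congr hlam h hh hP₀
  obtain ⟨P₁, hP₁, H, e1, hH, hermH, -⟩ := exists_split hlam hB herm₀ hlε hh₀ hq₀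
  set q := ((P₀.map lam).transpose * h * P₀) 0 0 with hqdef
  have hcomb : ∀ P Q : Matrix (Fin (m + 2)) (Fin (m + 2)) A, ((P * Q).map lam).transpose * h * (P * Q) =
      (Q.map lam).transpose * ((P.map lam).transpose * h * P) * Q := fun P Q => by
    rw [Matrix.map_mul, Matrix.transpose_mul]
    simp only [Matrix.mul_assoc]
  by_cases hA : NonAlt lam M H
  · exact ⟨P₀ * P₁, hP₀.mul hP₁, q, H, by rw [hcomb]; exact e1, hH, hermH, hA⟩
  obtain ⟨j, hj⟩ := exists_not_mem (M := M) hH 0
  simp only [NonAlt, not_exists, not_not] at hA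
  have hd : ∀ k, H k k ∈ M := fun k => by simpa [hf_single] using hA (e k)
  have hj0 : j ≠ 0 := fun h' => hj (h' ▸ hd 0)
  -- `x = e₀ + e₁` and `z = e_j + t x`
  set g := cornerMat q H with hg
  have hhg : IsUnit g := (isUnit_cornerMat_iff q (by
    have := corner_isUnit hlam hB herm₀ hq₀; exact this) H).2 hH
  have hermg : ε • (g.map lam).transpose = g := by
    rw [← e1]; exact herm_congr hlam _ herm₀ hlε P₁
  have hq' : q + H 0 0 ∉ M := fun h' => hq₀ ((Ideal.add_mem_iff_left _ (hd 0)).1 h')
  have hqu : IsUnit (q + H 0 0) := (isUnit_iff hlam hB M _).2 ⟨hq', fun hl => hq' (by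
    have e2 := herm_apply g hermg 0 0
    have e3 := herm_apply g hermg (Fin.succ 0) (Fin.succ 0)
    simp only [hg, cornerMat_zero_zero, cornerMat_succ_succ] at e2 e3
    rw [← e2, ← e3, ← mul_add, ← map_add]
    exact M.mul_mem_left _ hl)⟩
  obtain ⟨w, hw⟩ := hqu
  let t : A := -((↑w⁻¹ : A) * H 0 j)
  let cols : Fin (m + 2) → Fin (m + 2) → A := fun b =>
    if b = 0 then e 0 + e (Fin.succ 0) else if b = j.succ then e j.succ + t • (e 0 + e (Fin.succ 0)) else e b
  let P₂ : Matrix (Fin (m + 2)) (Fin (m + 2)) A := Matrix.of fun a b => cols b a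
  have hj1 : j.succ ≠ (Fin.succ 0 : Fin (m + 2)) := fun h' => hj0 (Fin.succ_injective _ h')
  have c0 : (fun a => P₂ a 0) = e 0 + e (Fin.succ 0) := by
    funext a; simp only [P₂, Matrix.of_apply, cols, ↓reduceIte]
  have cj : (fun a => P₂ a j.succ) = e j.succ + t • (e 0 + e (Fin.succ 0)) := by
    funext a; simp only [P₂, Matrix.of_apply, cols, Fin.succ_ne_zero, ↓reduceIte]
  have hP₂ : IsUnit P₂ := by
    refine isUnit_of_span _ fun a => ?_
    have hcol : ∀ b, P₂ *ᵥ e b = cols b := fun b => by ext c; simp [P₂, Matrix.mulVec_single]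
    by_cases ha0 : a = 0
    · refine ⟨e 0 - e (Fin.succ 0), ?_⟩
      rw [Matrix.mulVec_sub, hcol, hcol, ha0]
      simp only [cols, Fin.succ_ne_zero, hj1.symm, ↓reduceIte, add_sub_cancel_right]
    by_cases haj : a = j.succ
    · refine ⟨e j.succ - t • e 0, ?_⟩
      rw [Matrix.mulVec_sub, Matrix.mulVec_smul, hcol, hcol, haj]
      simp only [cols, Fin.succ_ne_zero, ↓reduceIte, add_sub_cancel_right]
    · exact ⟨e a, by rw [hcol]; simp [cols, ha0, haj]⟩
  let g₂ := (P₂.map lam).transpose * g * P₂
  have hg00 : g₂ 0 0 = q + H 0 0 := by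
    simp only [g₂, congr_apply, c0, hf_add_left, hf_add_right, hf_single, hg, cornerMat_zero_zero,
      cornerMat_zero_succ, cornerMat_succ_zero, cornerMat_succ_succ, add_zero, zero_add]
  have hg0j : g₂ 0 j.succ = 0 := by
    simp only [g₂, congr_apply, c0, cj, hf_add_left, hf_add_right, hf_smul_right, hf_single, hg,
      cornerMat_zero_zero, cornerMat_zero_succ, cornerMat_succ_zero, cornerMat_succ_succ, add_zero, zero_add]
    have : t * (q + H 0 0) = -H 0 j := by
      simp only [t, ← hw, neg_mul]
      rw [mul_right_comm, Units.inv_mul, one_mul]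
    linear_combination this
  have hgjj : g₂ j.succ j.succ ∉ M := by
    intro h'
    have hx : g₂ j.succ j.succ = H j j + t * (H j 0) + lam t * (H 0 j) + lam t * t * (q + H 0 0) := by
      simp only [g₂, congr_apply, cj, hf_add_left, hf_add_right, hf_smul_left, hf_smul_right, hf_single,
        hg, cornerMat_zero_zero, cornerMat_zero_succ, cornerMat_succ_zero, cornerMat_succ_succ]
      ring
    have ht : ∀ a : A, a * H 0 j + ε * lam (a * H 0 j) ∈ M := fun a => by
      have h2 := hA (e 0 + a • e j)
      rw [hf_add_left, hf_add_right, hf_add_right, hf_smul_left, hf_smul_left, hf_smul_right,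
        hf_smul_right, hf_single, hf_single, hf_single, hf_single] at h2
      have h3 := M.sub_mem (M.sub_mem h2 (hd 0)) (M.mul_mem_left (lam a) (M.mul_mem_left a (hd j)))
      have e2 : ε * lam (a * H 0 j) = lam a * H j 0 := by
        rw [← herm_apply H hermH j 0, map_mul]; ring
      rw [e2]
      convert h3 using 1
      ring
    -- the cross terms vanish modulo `M`
    have hcross : t * (H j 0) + lam t * (H 0 j) ∈ M := by
      have := ht (lam t)
      rw [map_mul, hlam t] at this
      rw [← herm_apply H hermH j 0]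
      convert this using 1
      ring
    have h4 : lam t * t * (q + H 0 0) ∈ M := by
      have := M.sub_mem (M.sub_mem h' (hd j)) hcross
      rw [hx] at this
      convert this using 1
      ring
    have htM : t ∉ M := fun h5 => hj (by
      have := M.mul_mem_left (↑w : A) h5
      simpa [t] using this)
    have htM' : lam t ∉ M := by
      intro h5
      by_cases hM : conj lam M = M
      · exact htM (by rw [← hM]; exact h5)
      · have hne : ¬ conj lam M ≤ M := fun hle => hM (Ideal.IsMaximal.eq_of_le inferInstance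
          (Ideal.IsMaximal.ne_top inferInstance) hle)
        obtain ⟨a, ha, ha'⟩ := SetLike.not_le_iff_exists.1 hne
        have h2 := ht a
        rw [map_mul, Ideal.add_mem_iff_left _ (M.mul_mem_left _ (M.mul_mem_right _ (show lam a ∈ M from ha)))] at h2
        exact ((Ideal.IsMaximal.isPrime (I := M) inferInstance).mem_or_mem h2).elim ha' hj
    rcases (Ideal.IsMaximal.isPrime (I := M) inferInstance).mem_or_mem h4 with h5 | h5
    · exact ((Ideal.IsMaximal.isPrime (I := M) inferInstance).mem_or_mem h5).elim htM' htM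
    · exact hq' h5
  obtain ⟨P₃, hP₃, H', e3, hH', hermH', hdia⟩ := exists_split hlam hB
    (herm_congr hlam g hermg hlε P₂) hlε (isUnit_congr hlam g hhg hP₂) (show g₂ 0 0 ∉ M by rw [hg00]; exact hq')
  refine ⟨P₀ * P₁ * P₂ * P₃, ((hP₀.mul hP₁).mul hP₂).mul hP₃, g₂ 0 0, H', ?_, hH', hermH', e j, ?_⟩
  · rw [hcomb, hcomb, hcomb]
    exact (congrArg (fun X => (P₃.map lam).transpose * ((P₂.map lam).transpose * X * P₂) * P₃) (e1.trans hg.symm)).trans e3
  · rw [hf_single, hdia j hg0j]
    exact hgjj

include hlam hB in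
theorem diagonalise (hlε : lam ε = ε) : ∀ (n : ℕ) (h : Matrix (Fin n) (Fin n) A), IsUnit h →
    ε • (h.map lam).transpose = h → (n = 0 ∨ NonAlt lam M h) →
    ∃ v : Matrix (Fin n) (Fin n) A, IsUnit v ∧ ∃ d : Fin n → A, (v.map lam).transpose * h * v = Matrix.diagonal d := by
  intro n
  induction n with
  | zero => intro h _ _ _; exact ⟨1, isUnit_one, fun i => i.elim0, by ext i; exact i.elim0⟩
  | succ n ih =>
    intro h hh herm hn
    rcases n with _ | n
    · refine ⟨1, isUnit_one, fun i => h i i, ?_⟩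
      ext i j
      rw [show j = i from Subsingleton.elim (α := Fin 1) _ _]
      simp
    · obtain ⟨P, hP, q, H, e1, hH, hermH, hA⟩ := exists_good_split hlam hB herm hlε hh (hn.resolve_left (by simp))
      obtain ⟨v, hv, d, hd⟩ := ih H hH hermH (Or.inr hA)
      refine ⟨P * cornerMat 1 v, hP.mul ((isUnit_cornerMat_iff 1 isUnit_one v).2 hv), Fin.cons q d, ?_⟩
      rw [Matrix.map_mul, Matrix.transpose_mul,
        show ((cornerMat (1 : A) v).map lam).transpose * (P.map lam).transpose * h * (P * cornerMat 1 v) =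
          ((cornerMat (1 : A) v).map lam).transpose * ((P.map lam).transpose * h * P) * cornerMat 1 v by
          simp only [Matrix.mul_assoc],
        e1, cornerMat_map, map_one, cornerMat_mul, cornerMat_mul, hd, one_mul, mul_one, cornerMat_diagonal]

/-- determinants of alternating matrices of odd size vanish. -/
lemma det_alternating {K : Type*} [CommRing K] {n : ℕ} (hn : Odd n) (h : Matrix (Fin n) (Fin n) K)
    (hs : ∀ i j, h j i = -h i j) (hd : ∀ i, h i i = 0) : h.det = 0 := by
  rw [Matrix.det_apply']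
  refine Finset.sum_involution (fun σ _ => σ⁻¹) (fun σ _ => ?_) (fun σ _ hne heq => hne ?_)
    (fun σ _ => Finset.mem_univ _) (fun σ _ => inv_inv σ)
  · have e1 : ∏ i, h (σ⁻¹ i) i = ∏ i, h i (σ i) := by
      rw [← Equiv.prod_comp σ (fun i => h (σ⁻¹ i) i)]
      simp
    have e2 : ∏ i, h i (σ i) = -∏ i, h (σ i) i := by
      have e3 : ∀ i, h i (σ i) = (-1) * h (σ i) i := fun i => by rw [hs (σ i) i]; ring
      rw [Finset.prod_congr rfl (fun i _ => e3 i), Finset.prod_mul_distrib, Finset.prod_const,
        Finset.card_univ, Fintype.card_fin, hn.neg_one_pow, neg_one_mul]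
    rw [Equiv.Perm.sign_inv, e1, e2]
    ring
  · haveI : Fact (Nat.Prime 2) := ⟨Nat.prime_two⟩
    obtain ⟨a, ha⟩ := Equiv.Perm.exists_fixed_point_of_prime (p := 2) (n := 1)
      (by rw [Fintype.card_fin]; exact hn.not_two_dvd_nat) (σ := σ)
      (by rw [pow_one, pow_two]; nth_rewrite 1 [← heq]; exact inv_mul_cancel σ)
    rw [Finset.prod_eq_zero (Finset.mem_univ a) (by rw [ha, hd]), mul_zero]

end Groth.L09.RInvHerm
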