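import Groth.Prelude.Def_NonAbH2
import Groth.Agent.L25.Actions
import Groth.Agent.L19.FpqcCover
import Groth.Agent.L23.AffineMor
import Mathlib.AlgebraicGeometry.AffineSpace
import Mathlib.AlgebraicGeometry.Sites.Etale

/-!
# Torsors under group schemes which are schemes
-/

set_option autoImplicit false
set_option linter.style.haveILetI false
set_option backward.isDefEq.respectTransparency.types false

universe u

open CategoryTheory CategoryTheory.Limits MonoidalCategory CartesianMonoidalCategory MonObj AlgebraicGeometry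

noncomputable section

namespace Groth.L09.TorsorSch

variable {S : Scheme.{u}} {G X T : Over S} [GrpObj G]

theorem isPullback_left (X Y : Over S) :
    IsPullback (fst X Y).left (snd X Y).left X.hom Y.hom := by
  simp only [Over.fst_left, Over.snd_left]
  exact .of_hasPullback _ _

/-- The map `(g, t) ↦ (g • s t, t)`. -/
def trivMap (a : AlgGrp.Action G X) (s : T ⟶ X) : G ⊗ T ⟶ X ⊗ T :=
  lift ((G ◁ s) ≫ a.act) (snd G T)

theorem act_fst_snd (a : AlgGrp.Action G X) : a.act = lift (fst G X) (snd G X) ≫ a.act := by simp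

/-- A pseudo-torsor with a section is trivial. -/
theorem isIso_trivMap (a : AlgGrp.Action G X) (h : IsIso (lift a.act (snd G X))) (s : T ⟶ X) :
    IsIso (trivMap a s) := by
  let e := asIso (lift a.act (snd G X))
  have e1 : e.inv ≫ a.act = fst X X := by
    rw [Iso.inv_comp_eq]; exact (lift_fst _ _).symm
  have e2 : e.inv ≫ snd G X = snd X X := by
    rw [Iso.inv_comp_eq]; exact (lift_snd _ _).symm
  refine ⟨lift ((X ◁ s) ≫ e.inv ≫ fst G X) (snd X T), ?_, ?_⟩
  · have k : trivMap a s ≫ (X ◁ s) = (G ◁ s) ≫ e.hom := by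
      ext1 <;> simp [trivMap, e]
    ext1
    · simp [reassoc_of% k]
    · simp [trivMap]
  · ext1
    · have k : lift ((X ◁ s) ≫ e.inv ≫ fst G X) (snd X T) ≫ (G ◁ s) = (X ◁ s) ≫ e.inv := by
        ext1
        · simp
        · simp [e2]
      simp only [trivMap, Category.assoc, lift_fst, reassoc_of% k, e1, Category.id_comp]
      simp
    · simp [trivMap]

/-- A trivialised action is a pseudo-torsor after base change. -/
theorem isIso_whiskerRight_of_trivMap (a : AlgGrp.Action G X) (s : T ⟶ X) [IsIso (trivMap a s)] :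
    IsIso (lift a.act (snd G X) ▷ T) := by
  have inj : ∀ {Z : Over S} (g g' : Z ⟶ G) (t : Z ⟶ T),
      lift g (t ≫ s) ≫ a.act = lift g' (t ≫ s) ≫ a.act → g = g' := by
    intro Z g g' t h
    have h' : lift g t ≫ trivMap a s = lift g' t ≫ trivMap a s := by
      ext1 <;> simp [trivMap, h]
    simpa using congrArg (· ≫ fst G T) ((cancel_mono _).mp h')
  have sol : ∀ {Z : Over S} (x : Z ⟶ X) (t : Z ⟶ T),
      lift (lift x t ≫ inv (trivMap a s) ≫ fst G T) (t ≫ s) ≫ a.act = x := by
    intro Z x t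
    have h1 : inv (trivMap a s) ≫ snd G T = snd X T := by
      rw [IsIso.inv_comp_eq]; simp [trivMap]
    have h2 : lift (lift x t ≫ inv (trivMap a s) ≫ fst G T) (t ≫ s) =
        (lift x t ≫ inv (trivMap a s)) ≫ (G ◁ s) := by
      ext1
      · simp
      · simp [reassoc_of% h1]
    have h3 : (G ◁ s) ≫ a.act = trivMap a s ≫ fst X T := by simp [trivMap]
    rw [h2, Category.assoc, h3, Category.assoc, IsIso.inv_hom_id_assoc, lift_fst]
  let γ : ∀ {Z : Over S}, (Z ⟶ X) → (Z ⟶ T) → (Z ⟶ G) := fun x t =>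
    lift x t ≫ inv (trivMap a s) ≫ fst G T
  let x : (X ⊗ X) ⊗ T ⟶ X := fst _ _ ≫ fst _ _
  let y : (X ⊗ X) ⊗ T ⟶ X := fst _ _ ≫ snd _ _
  let t : (X ⊗ X) ⊗ T ⟶ T := snd _ _
  refine ⟨lift (lift (γ x t * (γ y t)⁻¹) y) t, ?_, ?_⟩
  · set f := lift a.act (snd G X) ▷ T with hf
    let g₀ : (G ⊗ X) ⊗ T ⟶ G := fst _ _ ≫ fst _ _
    let y₀ : (G ⊗ X) ⊗ T ⟶ X := fst _ _ ≫ snd _ _
    have hy : f ≫ y = y₀ := by simp [hf, y, y₀]
    have ht : f ≫ t = snd _ _ := by simp [hf, t]
    have hx : f ≫ x = lift g₀ y₀ ≫ a.act := by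
      have : lift g₀ y₀ = fst (G ⊗ X) T := by ext1 <;> simp [g₀, y₀]
      simp [hf, x, this]
    have hγ : ∀ {Z Z' : Over S} (m : Z' ⟶ Z) (x : Z ⟶ X) (t : Z ⟶ T),
        m ≫ γ x t = γ (m ≫ x) (m ≫ t) := fun m x t => by simp only [γ, ← Category.assoc, comp_lift]
    have key : γ (lift g₀ y₀ ≫ a.act) (snd _ _) = g₀ * γ y₀ (snd _ _) := inj _ _ (snd _ _) (by
      rw [sol, Groth.L25.Actions.mul_act, sol])
    have hg : f ≫ (γ x t * (γ y t)⁻¹) = g₀ := by
      rw [MonObj.comp_mul, GrpObj.comp_inv, hγ, hγ, hx, hy, ht, key, mul_inv_cancel_right]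
    ext1
    · rw [Category.assoc, lift_fst]
      ext1
      · rw [Category.assoc, lift_fst, hg]; simp [g₀]
      · rw [Category.assoc, lift_snd, hy]; simp [y₀]
    · rw [Category.assoc, lift_snd, ht]; simp
  · ext1
    · rw [Category.assoc, whiskerRight_fst, lift_fst_assoc]
      ext1
      · rw [Category.assoc, lift_fst]
        have h1 : lift (γ x t * (γ y t)⁻¹) y = lift (γ x t * (γ y t)⁻¹) (lift (γ y t) (t ≫ s) ≫ a.act) := by
          rw [sol]
        rw [h1, ← Groth.L25.Actions.mul_act, inv_mul_cancel_right, sol]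
        simp [x]
      · rw [Category.assoc, lift_snd, lift_snd]
        simp [y]
    · simp [t]

theorem isIso_left {A B : Over S} (h : A ⟶ B) [IsIso h] : IsIso h.left :=
  inferInstanceAs (IsIso ((Over.forget S).map h))

/-- Being an isomorphism over `S` can be checked fpqc locally on `S`. -/
theorem isIso_of_fpqc {A B : Over S} (h : A ⟶ B) {R : Presieve S}
    (hR : R ∈ Scheme.fpqcPrecoverage S)
    (hh : ∀ ⦃S' : Scheme.{u}⦄ (f : S' ⟶ S), R f → IsIso (h ▷ Over.mk f)) : IsIso h := by
  obtain ⟨κ, Z, g, rfl⟩ := R.exists_eq_ofArrows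
  have hcov : Presieve.ofArrows (fun i => (B ⊗ Over.mk (g i)).left)
      (fun i => (fst B (Over.mk (g i))).left) ∈ Scheme.fpqcPrecoverage B.left :=
    Precoverage.mem_coverings_of_isPullback g hR B.hom _
      (fun i => (snd B (Over.mk (g i))).left) fun i => isPullback_left B (Over.mk (g i))
  have key : MorphismProperty.isomorphisms Scheme.{u} h.left := by
    refine Groth.L19.of_fpqc (MorphismProperty.isomorphisms Scheme.{u}) inferInstance h.left hcov
      fun i => ?_
    have sq : IsPullback (fst A (Over.mk (g i))).left (h ▷ Over.mk (g i)).left h.left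
        (fst B (Over.mk (g i))).left :=
      (Groth.L25.Actions.isPullback_whiskerRight_left h (Over.mk (g i))).flip
    rw [← sq.isoPullback_inv_snd]
    haveI := hh (g i) (Presieve.ofArrows.mk i)
    exact (MorphismProperty.isomorphisms Scheme.{u}).comp_mem _ _ (inferInstanceAs (IsIso _))
      (isIso_left (h ▷ Over.mk (g i)))
  haveI : IsIso ((Over.forget S).map h) := key
  exact isIso_of_reflects_iso h (Over.forget S)

theorem isTorsorFor_iff (K : Precoverage Scheme.{u}) (a : AlgGrp.Action G X) :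
    NonAbH1.IsTorsorFor K a ↔ IsIso (lift a.act (snd G X)) ∧ ∃ R ∈ K S,
      ∀ ⦃S' : Scheme.{u}⦄ (f : S' ⟶ S), R f → Nonempty (Over.mk f ⟶ X) := by
  refine and_congr Iff.rfl (exists_congr fun R => and_congr Iff.rfl
    (forall_congr' fun S' => forall_congr' fun f => forall_congr' fun _ => ?_))
  exact ⟨fun ⟨s, hs⟩ => ⟨Over.homMk s hs⟩, fun ⟨s⟩ => ⟨s.left, Over.w s⟩⟩

/-- Equivariant maps of torsors are isomorphisms. -/
theorem isIso_of_isEquivariant {X' : Over S} (a : AlgGrp.Action G X) (a' : AlgGrp.Action G X')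
    (ha : NonAbH1.IsTorsorFor Scheme.fpqcPrecoverage a) (ha' : IsIso (lift a'.act (snd G X')))
    (f : X ⟶ X') (hf : a.act ≫ f = (G ◁ f) ≫ a'.act) : IsIso f := by
  obtain ⟨h, R, hR, hs⟩ := (isTorsorFor_iff _ _).mp ha
  refine isIso_of_fpqc f hR fun S' g hg => ?_
  obtain ⟨s⟩ := hs g hg
  haveI := isIso_trivMap a h s
  haveI := isIso_trivMap a' ha' (s ≫ f)
  have e : trivMap a s ≫ (f ▷ Over.mk g) = trivMap a' (s ≫ f) := by
    ext1 <;> simp [trivMap, hf]
  exact IsIso.of_isIso_fac_left e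

/-- A property local for the fpqc topology passes from the group to its torsors. -/
theorem of_grp (P : MorphismProperty Scheme.{u}) [P.IsStableUnderBaseChange]
    [IsZariskiLocalAtTarget P]
    [P.DescendsAlong (@Surjective ⊓ @Flat ⊓ @QuasiCompact : MorphismProperty Scheme.{u})]
    (a : AlgGrp.Action G X) (ha : NonAbH1.IsTorsorFor Scheme.fpqcPrecoverage a) (hG : P G.hom) :
    P X.hom := by
  obtain ⟨h, R, hR, hs⟩ := (isTorsorFor_iff _ _).mp ha
  obtain ⟨κ, Z, g, rfl⟩ := R.exists_eq_ofArrows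
  refine Groth.L19.of_fpqc P inferInstance X.hom hR fun i => ?_
  obtain ⟨s⟩ := hs (g i) (Presieve.ofArrows.mk i)
  haveI := isIso_trivMap a h s
  haveI := isIso_left (trivMap a s)
  have h1 : P (snd G (Over.mk (g i))).left :=
    MorphismProperty.of_isPullback (isPullback_left G (Over.mk (g i))) hG
  have h2 : P (snd X (Over.mk (g i))).left := by
    rw [show (snd G (Over.mk (g i))) = trivMap a s ≫ snd X (Over.mk (g i)) from (lift_snd _ _).symm,
      Over.comp_left, P.cancel_left_of_respectsIso] at h1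
    exact h1
  have h3 := (isPullback_left X (Over.mk (g i))).isoPullback_inv_snd
  rw [← P.cancel_left_of_respectsIso (isPullback_left X (Over.mk (g i))).isoPullback.inv, h3] at h2
  exact h2

theorem isTorsor_fppf (a : AlgGrp.Action G X) [Flat G.hom] [LocallyOfFinitePresentation G.hom]
    (ha : NonAbH1.IsTorsorFor Scheme.fpqcPrecoverage a) :
    NonAbH1.IsTorsorFor Scheme.fppfPrecoverage a := by
  haveI : Surjective X.hom := of_grp @Surjective a ha (Groth.L25.Actions.surjective_grp G)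
  haveI := Groth.L25.Actions.descendsAlong_flat_fpqc.{u}
  haveI : Flat X.hom := of_grp @Flat a ha ‹_›
  haveI : LocallyOfFinitePresentation X.hom := of_grp @LocallyOfFinitePresentation a ha ‹_›
  refine ⟨ha.1, Presieve.singleton X.hom, Scheme.Hom.singleton_mem_fppfPrecoverage _, ?_⟩
  rintro _ _ ⟨⟩
  exact ⟨𝟙 _, Category.id_comp _⟩

/-- Functions are morphisms to the affine line. -/
def A1 (Y : Scheme.{u}) :
    (Y ⟶ Spec (CommRingCat.of (MvPolynomial PUnit.{u + 1} (ULift.{u} ℤ)))) ≃ (PUnit.{u + 1} → Γ(Y, ⊤)) :=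
  AffineSpace.toSpecMvPolyIntEquiv _

/-- Functions on the base are the invariant functions. -/
theorem appTop_range (a : AlgGrp.Action G X) (ha : NonAbH1.IsTorsorFor Scheme.fpqcPrecoverage a) :
    Function.Injective X.hom.appTop.hom ∧
      ∀ s : Γ(X.left, ⊤), s ∈ Set.range X.hom.appTop.hom ↔
        a.act.left.appTop.hom s = (snd G X).left.appTop.hom s := by
  obtain ⟨h, R, hR, hs⟩ := (isTorsorFor_iff _ _).mp ha
  have hmem : Sieve.generate (Presieve.singleton X.hom) ∈ Scheme.fpqcTopology S := by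
    refine GrothendieckTopology.superset_covering _ ?_ (Precoverage.generate_mem_toGrothendieck hR)
    rw [Sieve.generate_le_iff]
    intro S' f hf
    obtain ⟨s⟩ := hs f hf
    exact ⟨_, s.left, X.hom, Presieve.singleton.mk, Over.w s⟩
  have hsh := (GrothendieckTopology.Subcanonical.isSheaf_of_isRepresentable
    (J := Scheme.fpqcTopology)
    (yoneda.obj (Spec (CommRingCat.of (MvPolynomial PUnit.{u + 1} (ULift.{u} ℤ)))))).isSheafFor _ hmem
  rw [Presieve.isSheafFor_singleton] at hsh
  refine ⟨fun r r' hrr => ?_, fun s => ⟨?_, fun hinv => ?_⟩⟩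
  · refine congrFun ((A1 _).symm.injective (a₁ := fun _ => r) (a₂ := fun _ => r') ?_) PUnit.unit
    have hcompat : ∀ {Z : Scheme.{u}} (p₁ p₂ : Z ⟶ X.left), p₁ ≫ X.hom = p₂ ≫ X.hom →
        p₁ ≫ X.hom ≫ (A1 _).symm (fun _ => r) = p₂ ≫ X.hom ≫ (A1 _).symm (fun _ => r) := fun p₁ p₂ e => by
      rw [reassoc_of% e]
    refine (hsh (X.hom ≫ (A1 _).symm fun _ => r) hcompat).unique rfl ?_
    show X.hom ≫ (A1 _).symm (fun _ => r') = X.hom ≫ (A1 _).symm (fun _ => r)
    refine (A1 _).injective (funext fun i => ?_)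
    simp only [A1, AffineSpace.toSpecMvPolyIntEquiv_comp, Equiv.apply_symm_apply]
    exact hrr.symm
  · rintro ⟨r, rfl⟩
    rw [← CommRingCat.comp_apply, ← CommRingCat.comp_apply, ← Scheme.Hom.comp_appTop,
      ← Scheme.Hom.comp_appTop, Over.w, Over.w]
  · have hst : a.act.left ≫ (A1 _).symm (fun _ => s) = (snd G X).left ≫ (A1 _).symm (fun _ => s) := by
      refine (A1 _).injective (funext fun i => ?_)
      simp only [A1, AffineSpace.toSpecMvPolyIntEquiv_comp, Equiv.apply_symm_apply]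
      exact hinv
    have hcompat : ∀ {Z : Scheme.{u}} (p₁ p₂ : Z ⟶ X.left), p₁ ≫ X.hom = p₂ ≫ X.hom →
        p₁ ≫ (A1 _).symm (fun _ => s) = p₂ ≫ (A1 _).symm (fun _ => s) := by
      intro Z p₁ p₂ e
      let x₁ : Over.mk (p₁ ≫ X.hom) ⟶ X := Over.homMk p₁
      let x₂ : Over.mk (p₁ ≫ X.hom) ⟶ X := Over.homMk p₂ e.symm
      let l := lift x₁ x₂ ≫ inv (lift a.act (snd G X))
      have h1 : l ≫ a.act = x₁ := by
        have : inv (lift a.act (snd G X)) ≫ a.act = fst X X := by
          rw [IsIso.inv_comp_eq]; simp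
        simp [l, this]
      have h2 : l ≫ snd G X = x₂ := by
        have : inv (lift a.act (snd G X)) ≫ snd G X = snd X X := by
          rw [IsIso.inv_comp_eq]; simp
        simp [l, this]
      show x₁.left ≫ _ = x₂.left ≫ _
      conv_lhs => rw [← h1, Over.comp_left, Category.assoc, hst, ← Category.assoc, ← Over.comp_left, h2]
    obtain ⟨d, hd, -⟩ := hsh ((A1 _).symm fun _ => s) hcompat
    refine ⟨A1 _ d PUnit.unit, ?_⟩
    have h' := congrFun (congrArg (A1 _) hd) PUnit.unit
    simp only [A1, Equiv.apply_symm_apply] at h'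
    exact h'

end Groth.L09.TorsorSch
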