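import Groth.Agent.L09.GenericSection
import Groth.Agent.L09.TorsorSch
import Groth.Agent.L23.AffineMor
import Groth.Agent.L23.Descent
import Groth.Agent.L23.LocalDimEtale
import Groth.Agent.L26.AV.GroupSep
import Groth.Prelude.Def_ActBC
import Mathlib.AlgebraicGeometry.Morphisms.UniversallyOpen
import Mathlib.AlgebraicGeometry.Sites.MorphismProperty

/-!
# Torsors under étale group schemes over a field: generic sections extend
-/

universe u

open CategoryTheory CategoryTheory.Limits MonoidalCategory CartesianMonoidalCategory MonObj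
  AlgebraicGeometry

set_option linter.style.haveILetI false
set_option backward.isDefEq.respectTransparency.types false
set_option backward.isDefEq.respectTransparency false

namespace Groth.L09.EtaleSection

variable {k : Type u} [Field k] {G : Over (Spec (CommRingCat.of k))} [GrpObj G] [Etale G.hom]
  {S : Scheme.{u}} {s : S ⟶ Spec (CommRingCat.of k)} {X : Over S}

/-- After trivialisation the closure of a point with compact preimages is integral over the base. -/
theorem isIntegralHom_local {a : AlgGrp.Action (Red.bc s G) X}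
    (ha : IsIso (lift a.act (snd (Red.bc s G) X))) {V : Scheme.{u}} [IsAffine V] (g : V ⟶ S)
    [UniversallyOpen g] (t : Over.mk g ⟶ X) {Y : Scheme.{u}} (x : Y ⟶ X.left) [QuasiCompact x]
    [QuasiCompact (x ≫ X.hom)] :
    IsIntegralHom (pullback.snd (x.imageι ≫ X.hom) g) := by
  haveI : LocallyQuasiFinite G.hom := Groth.L23.lqf_of_etale G.hom
  haveI : IsLocallyArtinian G.left := .of_locallyQuasiFinite G.hom
  haveI := Groth.L09.TorsorSch.isIso_trivMap a ha t
  let GT : Scheme.{u} := (Red.bc s G ⊗ Over.mk g).left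
  let q₀ : GT ⟶ G.left := pullback.fst (pullback.snd G.hom s) g ≫ pullback.fst G.hom s
  let pV : GT ⟶ V := pullback.snd (pullback.snd G.hom s) g
  have sq1 : IsPullback q₀ pV G.hom (g ≫ s) :=
    ((IsPullback.of_hasPullback (pullback.snd G.hom s) g).flip.paste_vert
      (IsPullback.of_hasPullback G.hom s).flip).flip
  let e : (X ⊗ Over.mk g).left ⟶ GT := (inv (Groth.L09.TorsorSch.trivMap a t)).left
  haveI : IsIso e := Groth.L09.TorsorSch.isIso_left _
  have he : e ≫ pV = pullback.snd X.hom g := by
    have h : inv (Groth.L09.TorsorSch.trivMap a t) ≫ snd (Red.bc s G) (Over.mk g) =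
        snd X (Over.mk g) := by
      rw [IsIso.inv_comp_eq]
      exact (lift_snd _ _).symm
    exact congrArg Over.Hom.left h
  let q : pullback X.hom g ⟶ G.left := e ≫ q₀
  let φ : pullback (x.imageι ≫ X.hom) g ⟶ pullback X.hom g :=
    (pullbackRightPullbackFstIso X.hom g x.imageι).inv ≫ pullback.snd _ _
  have hφ : φ ≫ pullback.snd X.hom g = pullback.snd _ _ := by simp [φ]
  have hφ' : φ ≫ pullback.fst X.hom g = pullback.fst _ _ ≫ x.imageι := by
    simp [φ, ← pullback.condition]
  haveI : IsClosedImmersion φ := by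
    dsimp only [φ]
    infer_instance
  let A : Set (pullback X.hom g : Scheme.{u}) := pullback.fst X.hom g ⁻¹' Set.range x
  have hA : IsCompact A := by
    haveI : CompactSpace (pullback (x ≫ X.hom) g : Scheme.{u}) :=
      QuasiCompact.compactSpace_of_compactSpace (pullback.snd (x ≫ X.hom) g)
    have : A = Set.range ((pullbackRightPullbackFstIso X.hom g x).inv ≫
        pullback.snd x (pullback.fst X.hom g)) := by
      rw [Scheme.Hom.comp_base, TopCat.coe_comp, Set.range_comp,
        Set.range_eq_univ.mpr (pullbackRightPullbackFstIso X.hom g x).inv.surjective,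
        Set.image_univ, Scheme.Pullback.range_snd]
    rw [this]
    exact isCompact_range (Scheme.Hom.continuous _)
  let C : Set G.left := q '' A
  have hC : C.Finite := (hA.image q.continuous).finite_of_discrete
  let O : G.left.Opens := ⟨C, isOpen_discrete C⟩
  have hr : ∀ z, q (φ z) ∈ C := by
    intro z
    have h1 : φ z ∈ pullback.fst X.hom g ⁻¹' closure (Set.range x) := by
      show pullback.fst X.hom g (φ z) ∈ closure (Set.range x)
      rw [← Scheme.Hom.comp_apply, hφ', Scheme.Hom.comp_apply]
      have : x.imageι (pullback.fst (x.imageι ≫ X.hom) g z) ∈ Set.range (x.imageι : _ → X.left) :=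
        ⟨_, rfl⟩
      rw [show Set.range x.imageι = closure (Set.range x) from
        (Scheme.IdealSheafData.range_subschemeι x.ker).trans (Scheme.Hom.support_ker x)] at this
      exact this
    haveI : UniversallyOpen (pullback.fst X.hom g) :=
      MorphismProperty.pullback_fst (P := @UniversallyOpen) X.hom g inferInstance
    rw [(pullback.fst X.hom g).isOpenMap.preimage_closure_eq_closure_preimage
      (pullback.fst X.hom g).continuous] at h1
    have h2 := image_closure_subset_closure_image q.continuous ⟨_, h1, rfl⟩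
    rwa [(isClosed_discrete C).closure_eq] at h2
  have hfin : IsFinite (O.ι ≫ G.hom) := by
    haveI : CompactSpace O := isCompact_iff_compactSpace.mp hC.isCompact
    haveI : Finite O := hC.to_subtype
    haveI : QuasiCompact (O.ι ≫ G.hom) :=
      ⟨fun U _ _ => (Set.toFinite _).isCompact⟩
    exact IsFinite.of_locallyQuasiFinite _
  have sq2 := ((isPullback_morphismRestrict q₀ O).flip.paste_horiz sq1.flip)
  haveI : IsFinite ((q₀ ⁻¹ᵁ O).ι ≫ pV) :=
    MorphismProperty.of_isPullback (P := @IsFinite) sq2.flip hfin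
  have hsub : Set.range (φ ≫ e) ⊆ Set.range (q₀ ⁻¹ᵁ O).ι := by
    rw [Scheme.Opens.range_ι]
    rintro _ ⟨z, rfl⟩
    exact hr z
  let l := IsOpenImmersion.lift (q₀ ⁻¹ᵁ O).ι (φ ≫ e) hsub
  have hl : l ≫ (q₀ ⁻¹ᵁ O).ι = φ ≫ e := IsOpenImmersion.lift_fac _ _ _
  haveI : IsClosedImmersion l := by
    haveI : IsClosedImmersion (l ≫ (q₀ ⁻¹ᵁ O).ι) := by rw [hl]; infer_instance
    exact IsClosedImmersion.of_comp l (q₀ ⁻¹ᵁ O).ι
  rw [← hφ, ← he, ← Category.assoc, ← hl, Category.assoc]
  infer_instance

/-- A torsor under an étale group scheme over a field is separated. -/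
theorem isSeparated_torsor (E : NonAbH1.TorsorSch (Red.bc s G) Scheme.fppfPrecoverage) :
    IsSeparated E.X.hom := by
  have h' : NonAbH1.IsTorsorFor Scheme.fpqcPrecoverage E.act :=
    ⟨E.isTorsor.1, E.isTorsor.2.imp fun R hR =>
      ⟨Scheme.fppfPrecoverage_le_fpqcPrecoverage _ hR.1, hR.2⟩⟩
  haveI : IsSeparated G.hom := Groth.Agent.AV.isSeparated_of_grpObj G
  haveI : MorphismProperty.DescendsAlong @IsSeparated
      (@Surjective ⊓ @Flat ⊓ @QuasiCompact : MorphismProperty Scheme.{u}) := by
    rw [IsSeparated.isSeparated_eq_diagonal_isClosedImmersion]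
    infer_instance
  exact Groth.L09.TorsorSch.of_grp @IsSeparated E.act h'
    (MorphismProperty.pullback_snd (P := @IsSeparated) G.hom s inferInstance)

/-- Points at the generic point of a normal scheme extend to sections. -/
theorem exists_section [IsIntegral S] (hS : Pi1.IsNormalScheme S)
    (E : NonAbH1.TorsorSch (Red.bc s G) Scheme.fppfPrecoverage)
    (x : Spec (S.residueField (genericPoint S)) ⟶ E.X.left)
    (hx : x ≫ E.X.hom = S.fromSpecResidueField (genericPoint S)) :
    ∃ σ : S ⟶ E.X.left, σ ≫ E.X.hom = 𝟙 S ∧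
      S.fromSpecResidueField (genericPoint S) ≫ σ = x := by
  haveI : QuasiCompact x := ⟨fun U _ _ => (Set.toFinite _).isCompact⟩
  haveI : QuasiCompact (x ≫ E.X.hom) := ⟨fun U _ _ => (Set.toFinite _).isCompact⟩
  obtain ⟨R, hR, hs⟩ := E.isTorsor.2
  obtain ⟨κ, Z, g, rfl⟩ := R.exists_eq_ofArrows
  have hint : IsIntegralHom (x.imageι ≫ E.X.hom) := by
    refine Groth.L19.of_fpqc @IsIntegralHom inferInstance _
      (Scheme.fppfPrecoverage_le_fpqcPrecoverage _ hR) fun i => ?_
    have hg : UniversallyOpen (g i) := by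
      obtain ⟨hgf, hgp⟩ : (@Flat ⊓ @LocallyOfFinitePresentation : MorphismProperty Scheme.{u}) (g i) :=
        ((Scheme.ofArrows_mem_precoverage_iff _).mp hR).2 i
      haveI := hgf
      haveI := hgp
      infer_instance
    obtain ⟨t, ht⟩ := hs (g i) (Presieve.ofArrows.mk i)
    refine IsZariskiLocalAtTarget.of_openCover (Z i).affineCover fun j => ?_
    let c := (Z i).affineCover.f j
    haveI : UniversallyOpen (c ≫ g i) := inferInstance
    have h1 := isIntegralHom_local E.isTorsor.1 (c ≫ g i)
      (Over.homMk (c ≫ t) (by rw [Category.assoc, ht]; rfl)) x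
    have sq : IsPullback (pullback.fst (x.imageι ≫ E.X.hom) (c ≫ g i))
        (pullback.snd _ _) (x.imageι ≫ E.X.hom) (c ≫ g i) := .of_hasPullback _ _
    have sq' : IsPullback
        (pullback.fst (pullback.snd (x.imageι ≫ E.X.hom) (g i)) c ≫ pullback.fst _ _)
        (pullback.snd (pullback.snd (x.imageι ≫ E.X.hom) (g i)) c) (x.imageι ≫ E.X.hom)
        (c ≫ g i) :=
      ((IsPullback.of_hasPullback (pullback.snd (x.imageι ≫ E.X.hom) (g i)) c).flip.paste_vert
        (IsPullback.of_hasPullback (x.imageι ≫ E.X.hom) (g i)).flip).flip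
    show IsIntegralHom (pullback.snd (pullback.snd (x.imageι ≫ E.X.hom) (g i)) c)
    rw [← sq'.isoPullback_hom_snd, MorphismProperty.cancel_left_of_respectsIso (P := @IsIntegralHom)]
    exact h1
  haveI := hint
  letI : Field (S.presheaf.stalk (genericPoint S)) := inferInstanceAs (Field S.functionField)
  haveI : IsIso (S.residue (genericPoint S)) :=
    (ConcreteCategory.isIso_iff_bijective _).mpr
      ⟨(S.residue (genericPoint S)).hom.injective, IsLocalRing.residue_surjective⟩
  obtain ⟨t, ht, ht'⟩ := GenericSection.exists_section_eq hS (x.imageι ≫ E.X.hom)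
    (inv (Spec.map (S.residue (genericPoint S))) ≫ x.toImage) (by
      rw [Category.assoc, x.toImage_imageι_assoc, hx, IsIso.inv_comp_eq]
      rfl)
  refine ⟨t ≫ x.imageι, by rw [Category.assoc]; exact ht, ?_⟩
  rw [show S.fromSpecResidueField (genericPoint S) =
    Spec.map (S.residue (genericPoint S)) ≫ S.fromSpecStalk _ from rfl, Category.assoc,
    reassoc_of% ht', IsIso.hom_inv_id_assoc, x.toImage_imageι]

end Groth.L09.EtaleSection
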