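import Groth.Prelude.Def_Frob
import Groth.Agent.L20.UnivHomeo
import Mathlib.FieldTheory.PerfectClosure
import Mathlib.FieldTheory.IsPerfectClosure
import Mathlib.FieldTheory.IsAlgClosed.AlgebraicClosure
import Mathlib.FieldTheory.Perfect
import Mathlib.AlgebraicGeometry.Restrict
import Mathlib.AlgebraicGeometry.ResidueField
import Mathlib.AlgebraicGeometry.Morphisms.Affine

/-!
Perfections of schemes of characteristic `p`: structure over affine opens, universal homeomorphism.
-/

set_option autoImplicit false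
universe u

open CategoryTheory CategoryTheory.Limits AlgebraicGeometry

namespace Groth.L09.Perf

variable (p : ℕ) [hp : Fact p.Prime]

/-- Every element has an iterated `p`-th power in the image and the kernel is nil. -/
def PRad {A B : Type u} [CommRing A] [CommRing B] (ψ : A →+* B) : Prop :=
  (∀ b, ∃ (n : ℕ) (a : A), b ^ p ^ n = ψ a) ∧ ∀ a, ψ a = 0 → IsNilpotent a

lemma charP_of_natCast_eq_zero (A : Type u) [CommRing A] [Nontrivial A] (h : (p : A) = 0) : CharP A p :=
  (CharP.charP_iff_prime_eq_zero hp.out).2 h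

theorem exists_closure (A : Type u) [CommRing A] (h : (p : A) = 0) :
    ∃ (S : Type u) (_ : CommRing S) (ψ : A →+* S), (p : S) = 0 ∧ Function.Bijective (fun s : S => s ^ p) ∧
      PRad p ψ ∧ ∀ (T : Type u) [CommRing T], (p : T) = 0 → Function.Bijective (fun t : T => t ^ p) →
        Function.Bijective (fun g : S →+* T => g.comp ψ) := by
  rcases subsingleton_or_nontrivial A with hA | hA
  · exact ⟨A, inferInstance, RingHom.id A, h, ⟨fun _ _ _ => Subsingleton.elim _ _, fun b => ⟨b, Subsingleton.elim _ _⟩⟩,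
      ⟨fun b => ⟨0, b, by simp⟩, fun a _ => ⟨1, Subsingleton.elim _ _⟩⟩,
      fun T _ _ _ => ⟨fun g g' e => by simpa using e, fun g => ⟨g, RingHom.comp_id g⟩⟩⟩
  have := charP_of_natCast_eq_zero p A h
  refine ⟨PerfectClosure A p, inferInstance, PerfectClosure.of A p, ?_, ?_, ⟨fun b => ?_, fun a ha => ?_⟩,
    fun T _ hT hbij => ?_⟩
  · rw [← map_natCast (PerfectClosure.of A p), h, map_zero]
  · exact (PerfectRing.bijective_frobenius (R := PerfectClosure A p) (p := p) :)
  · obtain ⟨⟨n, x⟩, rfl⟩ := PerfectClosure.mk_surjective A p b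
    refine ⟨n, x, ?_⟩
    rw [← PerfectClosure.iterate_frobenius_mk A p n x, iterate_frobenius]
  · rw [PerfectClosure.of_apply, PerfectClosure.zero_def, PerfectClosure.mk_eq_iff] at ha
    obtain ⟨z, hz⟩ := ha
    refine ⟨p ^ z, ?_⟩
    simpa [iterate_frobenius, zero_pow (pow_ne_zero z hp.out.ne_zero)] using hz
  · rcases subsingleton_or_nontrivial T with hT' | hT'
    · exact ⟨fun g g' _ => RingHom.ext fun _ => Subsingleton.elim _ _, fun g =>
        ⟨{ toFun := fun _ => 0
           map_one' := Subsingleton.elim _ _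
           map_mul' := fun _ _ => Subsingleton.elim _ _
           map_zero' := rfl
           map_add' := fun _ _ => Subsingleton.elim _ _ }, RingHom.ext fun _ => Subsingleton.elim _ _⟩⟩
    · have := charP_of_natCast_eq_zero p T hT
      have : PerfectRing T p := ⟨hbij⟩
      exact (PerfectClosure.lift A p T).symm.bijective

section Scheme

variable {X Y : Scheme.{u}}

theorem bijective_pow_of_isPerfect [FrobSch.IsCharP X p] (h : FrobSch.IsPerfect X p) (U : X.Opens) :
    Function.Bijective (fun s : Γ(X, U) => s ^ p) := by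
  have : IsIso (FrobSch.frob X p) := h
  exact (ConcreteCategory.isIso_iff_bijective ((FrobSch.frob X p).app U)).1 inferInstance

theorem isPerfect_of_isAffine [IsAffine X] [FrobSch.IsCharP X p]
    (h : Function.Bijective (fun s : Γ(X, ⊤) => s ^ p)) : FrobSch.IsPerfect X p := by
  have : IsIso (FrobSch.frob X p).appTop := (ConcreteCategory.isIso_iff_bijective _).2 h
  have e := Scheme.toSpecΓ_naturality (FrobSch.frob X p)
  have : IsIso (FrobSch.frob X p ≫ X.toSpecΓ) := by
    rw [e]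
    infer_instance
  exact IsIso.of_isIso_comp_right (FrobSch.frob X p) X.toSpecΓ

/-- An open subscheme of a perfect scheme is perfect. -/
theorem isPerfect_of_isOpenImmersion (j : Y ⟶ X) [IsOpenImmersion j] [FrobSch.IsCharP X p] [FrobSch.IsCharP Y p]
    (h : FrobSch.IsPerfect X p) : FrobSch.IsPerfect Y p := by
  have : IsIso (FrobSch.frob X p) := h
  have : IsOpenImmersion (FrobSch.frob Y p ≫ j) := by
    rw [FrobSch.frob_comp]
    infer_instance
  have := IsOpenImmersion.of_comp (FrobSch.frob Y p) j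
  have : Epi (FrobSch.frob Y p).base := by rw [FrobSch.frob_base]; infer_instance
  exact IsOpenImmersion.isIso _

/-- Morphisms into an affine scheme are ring maps. -/
theorem bijective_toSpec (T : Scheme.{u}) (A : CommRingCat.{u}) :
    Function.Bijective (fun g : T ⟶ Spec A => ((Scheme.ΓSpecIso A).inv ≫ g.appTop).hom) := by
  refine ⟨fun g g' e => ext_of_isAffine ?_, fun φ => ⟨T.toSpecΓ ≫ Spec.map (CommRingCat.ofHom φ), ?_⟩⟩
  · exact (cancel_epi (Scheme.ΓSpecIso A).inv).1 (CommRingCat.hom_ext e)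
  · show ((Scheme.ΓSpecIso A).inv ≫ (T.toSpecΓ ≫ Spec.map (CommRingCat.ofHom φ)).appTop).hom = φ
    rw [Scheme.Hom.comp_appTop, Scheme.toSpecΓ_appTop, Scheme.ΓSpecIso_naturality]
    ext a
    exact congrArg φ ((Scheme.ΓSpecIso A).inv_hom_id_apply a)

theorem toSpec_comp {T : Scheme.{u}} {A B : CommRingCat.{u}} (g : T ⟶ Spec B) (ψ : A ⟶ B) :
    ((Scheme.ΓSpecIso A).inv ≫ (g ≫ Spec.map ψ).appTop).hom =
      ((Scheme.ΓSpecIso B).inv ≫ g.appTop).hom.comp ψ.hom := by
  rw [Scheme.Hom.comp_appTop, ← CommRingCat.hom_ofHom ψ.hom, ← CommRingCat.hom_comp]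
  congr 1
  rw [← Category.assoc, ← Category.assoc, Scheme.ΓSpecIso_inv_naturality]
  rfl

theorem natCast_Spec (A : CommRingCat.{u}) (h : (p : A) = 0) : FrobSch.IsCharP (Spec A) p where
  natCast_eq_zero := by
    apply (Scheme.ΓSpecIso A).commRingCatIsoToRingEquiv.injective
    rw [map_natCast, map_zero]
    exact h

theorem isPerfect_Spec (A : CommRingCat.{u}) [FrobSch.IsCharP (Spec A) p]
    (h : Function.Bijective (fun s : A => s ^ p)) : FrobSch.IsPerfect (Spec A) p := by
  refine isPerfect_of_isAffine p ?_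
  let e := (Scheme.ΓSpecIso A).commRingCatIsoToRingEquiv
  have : (fun s : Γ(Spec A, ⊤) => s ^ p) = e.symm ∘ (fun s : A => s ^ p) ∘ e := by
    funext s
    simp [map_pow]
  rw [this]
  exact e.symm.bijective.comp (h.comp e.bijective)

theorem natCast_eq_zero_of_hom {A : CommRingCat.{u}} [FrobSch.IsCharP X p] (a : Spec A ⟶ X) : (p : A) = 0 := by
  have := FrobSch.IsCharP.of_hom a p
  have h := congrArg (Scheme.ΓSpecIso A).hom.hom (FrobSch.IsCharP.natCast_eq_zero (X := Spec A) (p := p))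
  simpa using h

theorem isPerfect_Spec_field (L : Type u) [Field L] [IsAlgClosed L] [FrobSch.IsCharP (Spec (.of L)) p] :
    FrobSch.IsPerfect (Spec (.of L)) p := by
  have h : ((p : ℕ) : L) = 0 := natCast_eq_zero_of_hom p (𝟙 (Spec (.of L)))
  have := charP_of_natCast_eq_zero p L h
  have : ExpChar L p := ExpChar.prime hp.out
  have : PerfectRing L p := PerfectField.toPerfectRing p
  exact isPerfect_Spec p _ (PerfectRing.bijective_frobenius (R := L) (p := p) :)

omit hp in
/-- Universal injectivity is tested on points in algebraically closed fields. -/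
theorem universallyInjective_of_acl (f : X ⟶ Y)
    (h : ∀ (L : Type u) [Field L] [IsAlgClosed L] (a b : Spec (.of L) ⟶ X), a ≫ f = b ≫ f → a = b) :
    UniversallyInjective f := by
  refine (UniversallyInjective.iff_diagonal f).2 ⟨fun z => ?_⟩
  let K := (pullback f f).residueField z
  let L := AlgebraicClosure K
  let c : Spec (.of L) ⟶ pullback f f :=
    Spec.map (CommRingCat.ofHom (algebraMap K L)) ≫ (pullback f f).fromSpecResidueField z
  have hab := h L (c ≫ pullback.fst f f) (c ≫ pullback.snd f f) (by simp [pullback.condition])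
  have hc : c = (c ≫ pullback.fst f f) ≫ pullback.diagonal f := by
    apply pullback.hom_ext <;> simp [hab]
  refine ⟨(c ≫ pullback.fst f f) (IsLocalRing.closedPoint L), ?_⟩
  rw [← Scheme.Hom.comp_apply, ← hc]
  exact Scheme.fromSpecResidueField_apply (X := pullback f f) z _

theorem universallyInjective_frob [FrobSch.IsCharP X p] : UniversallyInjective (FrobSch.frob X p) := by
  refine universallyInjective_of_acl _ fun L _ _ a b e => ?_
  have := FrobSch.IsCharP.of_hom a p
  have hL : IsIso (FrobSch.frob (Spec (.of L)) p) := isPerfect_Spec_field p L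
  rw [← FrobSch.frob_comp p a, ← FrobSch.frob_comp p b] at e
  exact (cancel_epi _).1 e

end Scheme

/-! ### Perfections -/

section Perfection

variable {p} {XP X : Scheme.{u}} {π : XP ⟶ X} [FrobSch.IsCharP XP p]

theorem eq_of_comp (hπ : FrobSch.IsPerfection π p) {T : Scheme.{u}} [FrobSch.IsCharP T p]
    (hT : FrobSch.IsPerfect T p) {a b : T ⟶ XP} (e : a ≫ π = b ≫ π) : a = b :=
  (hπ.2 T hT).1 e

theorem exists_lift (hπ : FrobSch.IsPerfection π p) {T : Scheme.{u}} [FrobSch.IsCharP T p]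
    (hT : FrobSch.IsPerfect T p) (a : T ⟶ X) : ∃ b : T ⟶ XP, b ≫ π = a :=
  (hπ.2 T hT).2 a

/-- A base change with perfect total space is a perfection. -/
theorem isPerfection_of_isPullback (hπ : FrobSch.IsPerfection π p) {Z U : Scheme.{u}} [FrobSch.IsCharP Z p]
    {q : Z ⟶ XP} {π' : Z ⟶ U} {j : U ⟶ X} (sq : IsPullback q π' π j) (hZ : FrobSch.IsPerfect Z p) :
    FrobSch.IsPerfection π' p := by
  refine ⟨hZ, fun T _ hT => ⟨fun g g' e => ?_, fun g => ?_⟩⟩
  · refine sq.hom_ext ?_ e
    refine eq_of_comp hπ hT ?_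
    rw [Category.assoc, Category.assoc, sq.w, ← Category.assoc, show g ≫ π' = g' ≫ π' from e, Category.assoc]
  · obtain ⟨b, hb⟩ := exists_lift hπ hT (g ≫ j)
    exact ⟨sq.lift b g hb, sq.lift_snd _ _ _⟩

theorem exists_iso (hπ : FrobSch.IsPerfection π p) {XP' : Scheme.{u}} [FrobSch.IsCharP XP' p]
    {π' : XP' ⟶ X} (hπ' : FrobSch.IsPerfection π' p) : ∃ e : XP ≅ XP', e.hom ≫ π' = π := by
  obtain ⟨a, ha⟩ := exists_lift hπ' hπ.1 π
  obtain ⟨b, hb⟩ := exists_lift hπ hπ'.1 π'
  exact ⟨⟨a, b, eq_of_comp hπ hπ.1 (by rw [Category.assoc, hb, ha, Category.id_comp]),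
    eq_of_comp hπ' hπ'.1 (by rw [Category.assoc, ha, hb, Category.id_comp])⟩, ha⟩

theorem isPerfection_comp_iso (hπ : FrobSch.IsPerfection π p) {X' : Scheme.{u}} (e : X ≅ X') :
    FrobSch.IsPerfection (π ≫ e.hom) p := by
  refine ⟨hπ.1, fun T _ hT => ⟨fun g g' h => eq_of_comp hπ hT ?_, fun g => ?_⟩⟩
  · exact (cancel_mono e.hom).1 (by simpa using h)
  · obtain ⟨b, hb⟩ := exists_lift hπ hT (g ≫ e.inv)
    exact ⟨b, by simp [reassoc_of% hb]⟩

theorem surjective (hπ : FrobSch.IsPerfection π p) [FrobSch.IsCharP X p] : Surjective π := by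
  refine ⟨fun x => ?_⟩
  let L := AlgebraicClosure (X.residueField x)
  let c : Spec (.of L) ⟶ X :=
    Spec.map (CommRingCat.ofHom (algebraMap (X.residueField x) L)) ≫ X.fromSpecResidueField x
  have := FrobSch.IsCharP.of_hom c p
  obtain ⟨b, hb⟩ := exists_lift hπ (isPerfect_Spec_field p L) c
  refine ⟨b (IsLocalRing.closedPoint L), ?_⟩
  rw [← Scheme.Hom.comp_apply, hb]
  exact Scheme.fromSpecResidueField_apply (X := X) x _

theorem universallyInjective (hπ : FrobSch.IsPerfection π p) : UniversallyInjective π :=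
  universallyInjective_of_acl π fun L _ _ a b e => by
    have := FrobSch.IsCharP.of_hom a p
    exact eq_of_comp hπ (isPerfect_Spec_field p L) e

theorem affine (hπ : FrobSch.IsPerfection π p) [FrobSch.IsCharP X p] {U : X.Opens} (hU : IsAffineOpen U) :
    IsAffineOpen (π ⁻¹ᵁ U) ∧ PRad p (π.app U).hom := by
  have hA := FrobSch.natCast_eq_zero_app X p U
  obtain ⟨S, _, ψ, hS, hbij, hrad, huniv⟩ := exists_closure p Γ(X, U) hA
  have := natCast_Spec p (CommRingCat.of S) hS
  have := natCast_Spec p Γ(X, U) hA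
  have hσ : FrobSch.IsPerfection (Spec.map (CommRingCat.ofHom ψ)) p := by
    refine ⟨isPerfect_Spec p _ hbij, fun T _ hT => ?_⟩
    have hu := huniv Γ(T, ⊤) (FrobSch.natCast_eq_zero_app T p ⊤) (bijective_pow_of_isPerfect p hT ⊤)
    refine (Function.Bijective.of_comp_iff' (bijective_toSpec T Γ(X, U)) _).1 ?_
    have : (fun g : T ⟶ Spec Γ(X, U) => ((Scheme.ΓSpecIso Γ(X, U)).inv ≫ g.appTop).hom) ∘
        (fun g : T ⟶ Spec (CommRingCat.of S) => g ≫ Spec.map (CommRingCat.ofHom ψ)) =
        (fun φ : S →+* Γ(T, ⊤) => φ.comp ψ) ∘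
          (fun g => ((Scheme.ΓSpecIso (CommRingCat.of S)).inv ≫ g.appTop).hom) := by
      funext g
      exact toSpec_comp g _
    rw [this]
    exact hu.comp (bijective_toSpec T (CommRingCat.of S))
  have := FrobSch.IsCharP.of_hom (π ⁻¹ᵁ U).ι p
  have sq : IsPullback (π ⁻¹ᵁ U).ι (π ∣_ U) π U.ι := (isPullback_morphismRestrict π U).flip
  obtain ⟨e, he⟩ := exists_iso (isPerfection_of_isPullback hπ sq (isPerfect_of_isOpenImmersion p (π ⁻¹ᵁ U).ι hπ.1))
    (isPerfection_comp_iso hσ hU.isoSpec.symm)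
  have haff : IsAffine (π ⁻¹ᵁ U).toScheme := IsAffine.of_isIso e.hom
  refine ⟨haff, ?_⟩
  have h1 : π.app U = U.topIso.inv ≫ (π ∣_ U).appTop ≫ (π ⁻¹ᵁ U).topIso.hom := by
    simp [morphismRestrict_appTop, Scheme.Hom.app_eq_appLE]
    erw [Scheme.Hom.appLE_map, Scheme.Hom.map_appLE]
  let i₁ : Γ(X, U) ≅ Γ(X, U) := U.topIso.symm ≪≫ Scheme.Γ.mapIso hU.isoSpec.symm.op ≪≫ Scheme.ΓSpecIso _
  let i₂ : CommRingCat.of S ≅ Γ(XP, π ⁻¹ᵁ U) :=
    (Scheme.ΓSpecIso _).symm ≪≫ Scheme.Γ.mapIso e.op ≪≫ (π ⁻¹ᵁ U).topIso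
  have h2 : π.app U = i₁.hom ≫ CommRingCat.ofHom ψ ≫ i₂.hom := by
    have h3 : (Spec.map (CommRingCat.ofHom ψ)).appTop =
        (Scheme.ΓSpecIso _).hom ≫ CommRingCat.ofHom ψ ≫ (Scheme.ΓSpecIso _).inv := by
      rw [← Category.assoc, Iso.eq_comp_inv, Scheme.ΓSpecIso_naturality]
    rw [h1, ← he]
    simp only [Scheme.Hom.comp_appTop, h3, i₁, i₂, Iso.trans_hom, Category.assoc]
    rfl
  have happ : ∀ a, (π.app U).hom a = i₂.hom.hom (ψ (i₁.hom.hom a)) := fun a => by
    rw [h2]
    rfl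
  refine ⟨fun b => ?_, fun a ha => ?_⟩
  · obtain ⟨n, a, ha⟩ := hrad.1 (i₂.inv.hom b)
    refine ⟨n, i₁.inv.hom a, ?_⟩
    rw [happ, Iso.inv_hom_id_apply, ← ha, map_pow, Iso.inv_hom_id_apply]
  · rw [happ] at ha
    have hi := congrArg i₂.inv.hom ha
    rw [Iso.hom_inv_id_apply, map_zero] at hi
    obtain ⟨n, hn⟩ := hrad.2 _ hi
    refine ⟨n, ?_⟩
    have := congrArg i₁.inv.hom hn
    rwa [map_pow, Iso.hom_inv_id_apply, map_zero] at this

theorem isIntegralHom (hπ : FrobSch.IsPerfection π p) [FrobSch.IsCharP X p] : IsIntegralHom π where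
  isAffine_preimage U hU := (affine hπ hU).1
  isIntegral_app U hU b := by
    obtain ⟨n, a, ha⟩ := (affine hπ hU).2.1 b
    refine ⟨Polynomial.X ^ p ^ n - Polynomial.C a, Polynomial.monic_X_pow_sub_C _ (pow_ne_zero n hp.out.ne_zero), ?_⟩
    simp only [Polynomial.eval₂_sub, Polynomial.eval₂_X_pow, Polynomial.eval₂_C, ha, sub_self]

theorem isUnivHomeo (hπ : FrobSch.IsPerfection π p) [FrobSch.IsCharP X p] : FlatMor.IsUnivHomeo π := by
  have := isIntegralHom hπ
  exact (Groth.L20.isUnivHomeo_iff π).2 ⟨inferInstance, universallyInjective hπ, surjective hπ⟩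

end Perfection

end Groth.L09.Perf
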