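import Groth.Agent.L09.QuillenMain

/-!
# Gluing local trivialisations
-/

universe u

open CategoryTheory CategoryTheory.Limits MonoidalCategory CartesianMonoidalCategory
  AlgebraicGeometry MonObj

namespace Groth.L09.Quillen

open Groth.L09.Patch Groth.L09.TorsorPts

set_option backward.isDefEq.respectTransparency.types false
set_option backward.isDefEq.respectTransparency false

variable {R : Type u} [CommRing R] {n : Type u}
variable {G P V : Over (Spec (CommRingCat.of R))} [GrpObj G] {W : Type u} [CommRing W] [Algebra R W]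
variable {aP : AlgGrp.Action G P} {a : AlgGrp.Action G V}
  {π : V ⟶ spO R (MvPolynomial n R)}

/-- Two normalised local trivialisations over a cover of `Spec K` by two basic opens give one over
`Spec K`. -/
theorem exists_glue [LocallyOfFinitePresentation G.hom] {K : Type u} [CommRing K] [Algebra R K]
    (r r' : K) (A A' B : Type u) [CommRing A] [CommRing A'] [CommRing B] [Algebra R A]
    [Algebra R A'] [Algebra R B] [Algebra K A] [Algebra K A'] [Algebra K B] [IsScalarTower R K A]
    [IsScalarTower R K A'] [IsScalarTower R K B] [IsLocalization.Away r A]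
    [IsLocalization.Away r' A'] [IsLocalization.Away (r * r') B] [Algebra A B] [Algebra A' B]
    [IsScalarTower K A B] [IsScalarTower K A' B] [IsScalarTower R A B] [IsScalarTower R A' B]
    (hrr : IsCoprime r r')
    (hP : RelPseudo aP (toUnit P)) (s : spO R W ⟶ P)
    (hW : Groth.L25.Covers.Cov (toUnit (spO R W))) (hV : RelPseudo a π) (φ₀ : P ⟶ V)
    {φA : P ⊗ spO R (MvPolynomial n A) ⟶ V} (hA : IsEq aP a π (pm (mvOf n A)) φA)
    (hA0 : (P ◁ pm (zeroA (R := R) A)) ≫ φA = fst _ _ ≫ φ₀)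
    {φA' : P ⊗ spO R (MvPolynomial n A') ⟶ V} (hA' : IsEq aP a π (pm (mvOf n A')) φA')
    (hA'0 : (P ◁ pm (zeroA (R := R) A')) ≫ φA' = fst _ _ ≫ φ₀) :
    ∃ ψ : P ⊗ spO R (MvPolynomial n K) ⟶ V, IsEq aP a π (pm (mvOf n K)) ψ := by
  obtain ⟨ψA, ψA', hψA, hψA', hψ⟩ := exists_agree (B := B) r r' A A' hrr hP s hW hV φ₀ hA hA0 hA' hA'0
  let jA : MvPolynomial n K →ₐ[R] MvPolynomial n A := mvMap (IsScalarTower.toAlgHom R K A)
  let jA' : MvPolynomial n K →ₐ[R] MvPolynomial n A' := mvMap (IsScalarTower.toAlgHom R K A')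
  let jB : MvPolynomial n K →ₐ[R] MvPolynomial n B := mvMap (IsScalarTower.toAlgHom R K B)
  let iA : MvPolynomial n A →ₐ[R] MvPolynomial n B := mvMap (IsScalarTower.toAlgHom R A B)
  let iA' : MvPolynomial n A' →ₐ[R] MvPolynomial n B := mvMap (IsScalarTower.toAlgHom R A' B)
  have eB : iA.comp jA = jB := mv_ext (fun c => by
    simp [iA, jA, jB, ← IsScalarTower.algebraMap_apply]) (fun i => by simp [iA, jA, jB])
  have eB' : iA'.comp jA' = jB := mv_ext (fun c => by
    simp [iA', jA', jB, ← IsScalarTower.algebraMap_apply]) (fun i => by simp [iA', jA', jB])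
  have hloc : ∀ (t : K) (C : Type u) [CommRing C] [Algebra R C] [Algebra K C] [IsScalarTower R K C]
      [IsLocalization.Away t C],
      IsOpenImmersion (pm (mvMap (n := n) (IsScalarTower.toAlgHom R K C))).left ∧
      Set.range (pm (mvMap (n := n) (IsScalarTower.toAlgHom R K C))).left =
        (PrimeSpectrum.basicOpen (MvPolynomial.C t : MvPolynomial n K) :
          Set (PrimeSpectrum (MvPolynomial n K))) := by
    intro t C _ _ _ _ _
    letI : Algebra (MvPolynomial n K) (MvPolynomial n C) := MvPolynomial.algebraMvPolynomial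
    haveI : IsLocalization.Away (MvPolynomial.C t : MvPolynomial n K) (MvPolynomial n C) := by
      have h := MvPolynomial.isLocalization (σ := n) (Submonoid.powers t) C
      rw [Submonoid.map_powers] at h
      exact h
    exact ⟨IsOpenImmersion.of_isLocalization (S := MvPolynomial n C) (MvPolynomial.C t),
      PrimeSpectrum.localization_away_comap_range (MvPolynomial n C) (MvPolynomial.C t)⟩
  obtain ⟨hoA, hrA⟩ := hloc r A
  obtain ⟨hoA', hrA'⟩ := hloc r' A'
  obtain ⟨hoB, hrB⟩ := hloc (r * r') B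
  haveI : IsOpenImmersion (pm jA).left := hoA
  haveI : IsOpenImmersion (pm jA').left := hoA'
  haveI : IsOpenImmersion (pm jB).left := hoB
  have hop : ∀ (Q : Over (Spec (CommRingCat.of R))),
      IsOpenImmersion (Q ◁ pm jA).left ∧ IsOpenImmersion (Q ◁ pm jA').left ∧
      ∀ x, x ∈ Set.range (Q ◁ pm jA).left ∨ x ∈ Set.range (Q ◁ pm jA').left := by
    intro Q
    refine ⟨Groth.L25.Actions.of_whiskerLeft @IsOpenImmersion Q _ ‹_›,
      Groth.L25.Actions.of_whiskerLeft @IsOpenImmersion Q _ ‹_›, fun x => ?_⟩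
    have hcov : (snd Q (spO R (MvPolynomial n K))).left x ∈ Set.range (pm jA).left ∨
        (snd Q (spO R (MvPolynomial n K))).left x ∈ Set.range (pm jA').left := by
      rw [hrA, hrA']
      by_contra hc
      rw [not_or] at hc
      obtain ⟨h1, h2⟩ := hc
      obtain ⟨a', b', hab⟩ := hrr
      let p : PrimeSpectrum (MvPolynomial n K) := (snd Q (spO R (MvPolynomial n K))).left x
      have h1' : (MvPolynomial.C r : MvPolynomial n K) ∈ p.asIdeal := not_not.mp h1
      have h2' : (MvPolynomial.C r' : MvPolynomial n K) ∈ p.asIdeal := not_not.mp h2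
      apply p.isPrime.ne_top
      rw [Ideal.eq_top_iff_one]
      have := p.asIdeal.add_mem (p.asIdeal.mul_mem_left (MvPolynomial.C a') h1')
        (p.asIdeal.mul_mem_left (MvPolynomial.C b') h2')
      rwa [← map_mul, ← map_mul, ← map_add, hab, map_one] at this
    have key : ∀ {T : Over (Spec (CommRingCat.of R))} (j : T ⟶ spO R (MvPolynomial n K)),
        (snd Q (spO R (MvPolynomial n K))).left x ∈ Set.range j.left →
        x ∈ Set.range (Q ◁ j).left := by
      rintro T j ⟨t, ht⟩
      have hpb := Groth.L25.Actions.isPullback_whiskerLeft_left Q j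
      obtain ⟨z, hz, -⟩ := Scheme.Pullback.exists_preimage_pullback
        (f := (snd Q (spO R (MvPolynomial n K))).left) (g := j.left) x t ht.symm
      refine ⟨hpb.isoPullback.inv z, ?_⟩
      rw [← Scheme.Hom.comp_apply, hpb.isoPullback_inv_fst]
      exact hz
    exact hcov.imp (key _) (key _)
  haveI := (hop P).1
  haveI := (hop P).2.1
  have hfac : ∀ {Z : Scheme.{u}} (z : Z ⟶ (spO R (MvPolynomial n A)).left)
      (z' : Z ⟶ (spO R (MvPolynomial n A')).left), z ≫ (pm jA).left = z' ≫ (pm jA').left →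
      ∃ w, w ≫ (pm iA).left = z ∧ w ≫ (pm iA').left = z' := by
    intro Z z z' hz
    have hr : Set.range (z ≫ (pm jA).left) ⊆ Set.range (pm jB).left := by
      rintro _ ⟨p, rfl⟩
      rw [hrB, map_mul, PrimeSpectrum.basicOpen_mul]
      exact ⟨hrA.subset ⟨z p, rfl⟩, hrA'.subset ⟨z' p, by
        rw [← Scheme.Hom.comp_apply, ← hz]⟩⟩
    refine ⟨IsOpenImmersion.lift (pm jB).left _ hr, ?_, ?_⟩
    · rw [← cancel_mono (pm jA).left, Category.assoc, ← Over.comp_left, pm_comp, eB,
        IsOpenImmersion.lift_fac]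
    · rw [← cancel_mono (pm jA').left, Category.assoc, ← Over.comp_left, pm_comp, eB',
        IsOpenImmersion.lift_fac, hz]
  obtain ⟨f, ⟨hf, hf'⟩, -⟩ := glue_two (P ◁ pm jA).left (P ◁ pm jA').left (hop P).2.2 ψA.left
    ψA'.left (by
      intro Z v w hvw
      have hs := congrArg (· ≫ (snd P (spO R (MvPolynomial n K))).left) hvw
      simp only [Category.assoc, ← Over.comp_left, whiskerLeft_snd] at hs
      simp only [Over.comp_left] at hs
      obtain ⟨w₀, h1, h2⟩ := hfac (v ≫ (snd P (spO R (MvPolynomial n A))).left)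
        (w ≫ (snd P (spO R (MvPolynomial n A'))).left) (by simpa only [Category.assoc] using hs)
      have hpb := Groth.L25.Actions.isPullback_whiskerLeft_left P (pm iA)
      let k := hpb.lift v w₀ h1.symm
      have k1 : k ≫ (P ◁ pm iA).left = v := hpb.lift_fst _ _ _
      have k2 : k ≫ (P ◁ pm iA').left = w := by
        rw [← cancel_mono (P ◁ pm jA').left, Category.assoc, ← Over.comp_left,
          ← MonoidalCategory.whiskerLeft_comp, pm_comp, eB', ← eB, ← pm_comp,
          MonoidalCategory.whiskerLeft_comp, Over.comp_left, reassoc_of% k1, hvw]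
      rw [← k1, ← k2, Category.assoc, Category.assoc, ← Over.comp_left, ← Over.comp_left, hψ])
  have ext2 : ∀ (Q : Over (Spec (CommRingCat.of R))) {Y : Scheme.{u}}
      (g g' : (Q ⊗ spO R (MvPolynomial n K)).left ⟶ Y),
      (Q ◁ pm jA).left ≫ g = (Q ◁ pm jA).left ≫ g' →
      (Q ◁ pm jA').left ≫ g = (Q ◁ pm jA').left ≫ g' → g = g' := by
    intro Q Y g g' h1 h2
    haveI := (hop Q).1
    haveI := (hop Q).2.1
    obtain ⟨f₀, -, hu⟩ := glue_two (Q ◁ pm jA).left (Q ◁ pm jA').left (hop Q).2.2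
      ((Q ◁ pm jA).left ≫ g) ((Q ◁ pm jA').left ≫ g)
      (fun v w h => by rw [reassoc_of% h])
    exact (hu g ⟨rfl, rfl⟩).trans (hu g' ⟨h1.symm, h2.symm⟩).symm
  have hfo : f ≫ V.hom = (P ⊗ spO R (MvPolynomial n K)).hom := by
    apply ext2
    · rw [reassoc_of% hf, Over.w, Over.w]
    · rw [reassoc_of% hf', Over.w, Over.w]
  let ψ : P ⊗ spO R (MvPolynomial n K) ⟶ V := Over.homMk f hfo
  have hψ1 : (P ◁ pm jA) ≫ ψ = ψA := by ext1; exact hf
  have hψ2 : (P ◁ pm jA') ≫ ψ = ψA' := by ext1; exact hf'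
  have tA : pm jA ≫ pm (mvOf (R := R) n K) = pm (mvOf (R := R) n A) := by
    rw [pm_comp]; congr 1; exact mv_ext (fun c => by simp [jA]) (fun i => by simp [jA])
  have tA' : pm jA' ≫ pm (mvOf (R := R) n K) = pm (mvOf (R := R) n A') := by
    rw [pm_comp]; congr 1; exact mv_ext (fun c => by simp [jA']) (fun i => by simp [jA'])
  refine ⟨ψ, ⟨?_, fun {Z} g x t => ?_⟩⟩
  · ext1
    apply ext2 <;> rw [← Over.comp_left, ← Over.comp_left]
    · rw [reassoc_of% hψ1, hψA.proj, whiskerLeft_snd_assoc, tA]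
    · rw [reassoc_of% hψ2, hψA'.proj, whiskerLeft_snd_assoc, tA']
  · let u₁ : (G ⊗ P) ⊗ spO R (MvPolynomial n K) ⟶ G := fst _ _ ≫ fst _ _
    let u₂ : (G ⊗ P) ⊗ spO R (MvPolynomial n K) ⟶ P := fst _ _ ≫ snd _ _
    let u₃ := snd (G ⊗ P) (spO R (MvPolynomial n K))
    have univ : lift (sm aP u₁ u₂) u₃ ≫ ψ = sm a u₁ (lift u₂ u₃ ≫ ψ) := by
      ext1
      have step : ∀ {T : Over (Spec (CommRingCat.of R))} (j : T ⟶ spO R (MvPolynomial n K))
          (τ : T ⟶ spO R (MvPolynomial n R)) (χ : P ⊗ T ⟶ V), (P ◁ j) ≫ ψ = χ → IsEq aP a π τ χ →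
          ((G ⊗ P) ◁ j).left ≫ (lift (sm aP u₁ u₂) u₃ ≫ ψ).left =
            ((G ⊗ P) ◁ j).left ≫ (sm a u₁ (lift u₂ u₃ ≫ ψ)).left := by
        intro T j τ χ hj hχ
        rw [← Over.comp_left, ← Over.comp_left]
        simp only [comp_sm, comp_lift_assoc]
        simp only [u₁, u₂, u₃, whiskerLeft_fst_assoc, whiskerLeft_snd]
        rw [← lift_whiskerLeft_assoc, hj, hχ.equiv]
        simp [← hj]
      exact ext2 _ _ _ (step _ _ _ hψ1 hψA) (step _ _ _ hψ2 hψA')
    have := congrArg (lift (lift g x) t ≫ ·) univ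
    simpa [u₁, u₂, u₃, comp_lift_assoc, comp_sm] using this

end Groth.L09.Quillen
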