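import Groth.Agent.L09.QuillenConv

/-!
# Moving torsors between isomorphic bases
-/

universe u

open CategoryTheory CategoryTheory.Limits MonoidalCategory CartesianMonoidalCategory MonObj
  AlgebraicGeometry

namespace Groth.L09.Conv

open Groth.L09.TorsorPts NonAbH1

set_option backward.isDefEq.respectTransparency.types false
set_option backward.isDefEq.respectTransparency false

variable {S S' Y : Scheme.{u}} {d : Y ⟶ S} {G : Over S} [GrpObj G] {X X' : Over Y}

/-- Equivariant morphisms commute with the action on points. -/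
lemma sact_equivariant {α : AlgGrp.Action (Red.bc d G) X} {α' : AlgGrp.Action (Red.bc d G) X'}
    (θ : X ⟶ X') (hθ : AlgGrp.Action.IsEquivariant α α' θ) {Z : Scheme.{u}} (g : Z ⟶ G.left)
    (y : Z ⟶ X.left) (h : g ≫ G.hom = y ≫ X.hom ≫ d) :
    sact α g y h ≫ θ.left = sact α' g (y ≫ θ.left) (by rw [Category.assoc, Over.w_assoc]; exact h) := by
  rw [sact, sact, Category.assoc, ← Over.comp_left, hθ, Over.comp_left, ← Category.assoc]
  congr 1
  apply gext
  · rw [Category.assoc, gpair_fst, Over.whiskerLeft_left_fst_assoc, gpair_fst]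
  · rw [Category.assoc, gpair_snd, Over.whiskerLeft_left_snd, ← Category.assoc, gpair_snd]

/-- A morphism commuting with the action on points is equivariant. -/
lemma isEquivariant_of_sact {α : AlgGrp.Action (Red.bc d G) X}
    {α' : AlgGrp.Action (Red.bc d G) X'} (θ : X ⟶ X')
    (h : ∀ {Z : Scheme.{u}} (g : Z ⟶ G.left) (y : Z ⟶ X.left) (hy : g ≫ G.hom = y ≫ X.hom ≫ d),
      sact α g y hy ≫ θ.left =
        sact α' g (y ≫ θ.left) (by rw [Category.assoc, Over.w_assoc]; exact hy)) :
    AlgGrp.Action.IsEquivariant α α' θ := by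
  have hθ : θ.left ≫ X'.hom = X.hom := Over.w θ
  have hk : homS (d := d) θ ≫ prS d X' = prS d X := by ext1; exact hθ
  refine isEquivariant_of_homS (α := α) (α' := α') (homS (d := d) θ) hk hθ (fun {Z} g x => ?_)
  ext1
  rw [Over.comp_left, sm_toS_left, sm_toS_left]
  exact h _ _ _

lemma isPseudo_restrict {S : Scheme.{u}} {G H X : Over S} [GrpObj G] [GrpObj H]
    {a : AlgGrp.Action G X} (φ : H ⟶ G) [IsMonHom φ] [IsIso φ] (h : IsPseudoTorsorSch a) :
    IsPseudoTorsorSch (a.restrict φ) := by
  haveI : IsIso (lift a.act (snd G X)) := h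
  show IsIso (lift (a.restrict φ).act (snd _ _))
  have : lift (a.restrict φ).act (snd _ _) = (φ ▷ X) ≫ lift a.act (snd G X) := by
    rw [comp_lift, whiskerRight_snd]; rfl
  rw [this]
  infer_instance

lemma isTorsor_restrict {S : Scheme.{u}} {G H X : Over S} [GrpObj G] [GrpObj H]
    {a : AlgGrp.Action G X} (φ : H ⟶ G) [IsMonHom φ] [IsIso φ] {K : Precoverage Scheme.{u}}
    (h : IsTorsorFor K a) : IsTorsorFor K (a.restrict φ) :=
  ⟨isPseudo_restrict φ h.1, h.2⟩

lemma isPseudo_of_relPseudo {S : Scheme.{u}} {G V : Over S} [GrpObj G] {a : AlgGrp.Action G V}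
    (h : RelPseudo a (toUnit V)) : IsPseudoTorsorSch a := by
  refine ⟨lift (h.div (fst V V) (snd V V) (toUnit_unique _ _)) (snd V V), ?_, ?_⟩
  · refine CartesianMonoidalCategory.hom_ext _ _ ?_ ?_
    · rw [Category.assoc, lift_fst, Category.id_comp]
      refine (h.cancel (y := snd G V) ?_).symm
      rw [sm, lift_fst_snd, Category.id_comp]
      have := congrArg (lift a.act (snd G V) ≫ ·)
        (h.sm_div (fst V V) (snd V V) (toUnit_unique _ _))
      rw [comp_sm, lift_fst, lift_snd] at this
      exact this.symm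
    · simp
  · refine CartesianMonoidalCategory.hom_ext _ _ ?_ ?_
    · rw [Category.assoc, lift_fst, Category.id_comp]
      exact h.sm_div _ _ _
    · simp

variable (e : S' ⟶ S) {p' : Y ⟶ S'} (h : p' ≫ e = d)

/-- The action of the two-step base change of the group. -/
noncomputable abbrev restrictComp (β : AlgGrp.Action (Red.bc d G) X) :
    AlgGrp.Action (Red.bc p' (Red.bc e G)) X :=
  β.restrict (ActBC.bcCompIso p' e G h).hom

lemma sact_restrictComp (β : AlgGrp.Action (Red.bc d G) X) {Z : Scheme.{u}}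
    (g : Z ⟶ (Red.bc e G).left) (y : Z ⟶ X.left) (hy : g ≫ (Red.bc e G).hom = y ≫ X.hom ≫ p') :
    sact (restrictComp e h β) g y hy = sact β (g ≫ pullback.fst G.hom e) y (by
      rw [Category.assoc, pullback.condition, ← Category.assoc]
      show (g ≫ (Red.bc e G).hom) ≫ e = _
      rw [hy, Category.assoc, Category.assoc, h]) := by
  simp only [sact, restrictComp, AlgGrp.Action.restrict_act, Over.comp_left]
  rw [← Category.assoc]
  congr 1
  apply gext
  · rw [Category.assoc, Over.whiskerRight_left_fst_assoc, ActBC.bcCompIso_hom_left_fst, gpair_fst]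
    rw [← Category.assoc (pullback.fst (Red.bc p' (Red.bc e G)).hom X.hom), ← Category.assoc,
      gpair_fst]
  · rw [Category.assoc, Over.whiskerRight_left_snd, gpair_snd, gpair_snd]

/-- The action on points of a base change of an action over `S`. -/
lemma sact_act_bc {V : Over S} (a : AlgGrp.Action G V) (p : Y ⟶ S) {Z : Scheme.{u}}
    (g : Z ⟶ G.left) (y : Z ⟶ (Red.bc p V).left) (hy : g ≫ G.hom = y ≫ (Red.bc p V).hom ≫ p) :
    sact (a.bc p) g y hy ≫ pullback.fst V.hom p =
      (sm a (Over.homMk g rfl : Over.mk (g ≫ G.hom) ⟶ G)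
        (Over.homMk (y ≫ pullback.fst V.hom p) (by
          show (y ≫ pullback.fst V.hom p) ≫ V.hom = g ≫ G.hom
          rw [hy, Category.assoc, pullback.condition]
          rfl) : Over.mk (g ≫ G.hom) ⟶ V)).left := by
  simp only [sact, AlgGrp.Action.bc_act, Over.comp_left, Category.assoc, ActBC.pullback_map_left_fst]
  simp only [← Category.assoc]
  congr 1
  simp only [Category.assoc]
  refine pullback.hom_ext ?_ ?_
  · simp only [Category.assoc]
    rw [ActBC.μ_left_fst_fst, gpair_fst]
    rw [lift_left_fst]; rfl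
  · simp only [Category.assoc]
    rw [ActBC.μ_left_fst_snd, ← Category.assoc, gpair_snd]
    rw [lift_left_snd]; rfl

end Groth.L09.Conv
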