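import Groth.Agent.L09.SubtrDescent
import Groth.Agent.L09.SubtrPairs
import Groth.Agent.L19.Limit.Immersion
import Groth.Agent.L19.Limit.Core
import Mathlib.CategoryTheory.Presentable.Directed
import Mathlib.AlgebraicGeometry.Morphisms.Flat

/-!
# Universally S-subtrusive morphisms descend along cofiltered limits
-/

set_option autoImplicit false
set_option linter.style.haveILetI false
set_option backward.isDefEq.respectTransparency.types false
set_option backward.isDefEq.respectTransparency false
set_option backward.defeqAttrib.useBackward true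

universe u

open CategoryTheory CategoryTheory.Limits AlgebraicGeometry IsLocalRing
open Groth.L09.Subtr Groth.L19.Limit

noncomputable section

namespace Groth.L09.SubtrLimit

variable {X Y S T : Scheme.{u}}

instance : MorphismProperty.IsStableUnderBaseChange (Subtr.UnivSSubtrusive.{u}) :=
  inferInstanceAs (MorphismProperty.IsStableUnderBaseChange (MorphismProperty.universally _))

theorem univ_of_pair {f : X ⟶ Y}
    (h : ∀ (V : Type u) [CommRing V] [IsDomain V] [ValuationRing V] (g : Spec (CommRingCat.of V) ⟶ Y),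
      HasPair (pullback.snd f g) (genPt V) (closedPoint V)) : Subtr.UnivSSubtrusive f :=
  univ_of_valuation_lift fun V _ _ _ g => by
    obtain ⟨x, x', hxx, hx, hx'⟩ := h V g
    obtain ⟨W, _, _, _, l, hl, -⟩ := exists_surjective_of_lift _ hxx hx hx'
    exact ⟨W, ‹_›, ‹_›, ‹_›, l ≫ pullback.fst f g, l ≫ pullback.snd f g, hl, by
      rw [Category.assoc, Category.assoc, pullback.condition]⟩

theorem hasPair_of_univ {f : X ⟶ Y} (h : Subtr.UnivSSubtrusive f) {V : Type u} [CommRing V]
    [IsDomain V] [ValuationRing V] (g : Spec (CommRingCat.of V) ⟶ Y) :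
    HasPair (pullback.snd f g) (genPt V) (closedPoint V) :=
  univ_snd h g (genPt_specializes (closedPoint V))

theorem univ_comp {Z : Scheme.{u}} {j : Z ⟶ X} {f : X ⟶ Y} (hj : Subtr.UnivSSubtrusive j)
    (hf : Subtr.UnivSSubtrusive f) : Subtr.UnivSSubtrusive (j ≫ f) :=
  univ_of_valuation_lift fun V _ _ _ g => by
    obtain ⟨W, _, _, _, a, b, hb, hab⟩ := exists_lift_valuation g (univ_snd hf g)
    obtain ⟨W', _, _, _, a', b', hb', hab'⟩ := exists_lift_valuation a (univ_snd hj a)
    haveI := hb
    haveI := hb'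
    exact ⟨W', ‹_›, ‹_›, ‹_›, a', b' ≫ b, inferInstance, by
      rw [← Category.assoc, hab', Category.assoc, hab, Category.assoc]⟩

theorem univ_of_comp {Z : Scheme.{u}} {j : Z ⟶ X} {f : X ⟶ Y}
    (h : Subtr.UnivSSubtrusive (j ≫ f)) : Subtr.UnivSSubtrusive f :=
  univ_of_pair fun _ _ _ _ g => (hasPair_of_univ h g).of_source f g j

theorem univ_comp_iff {Z : Scheme.{u}} (j : Z ⟶ X) [Flat j] [Surjective j] (f : X ⟶ Y) :
    Subtr.UnivSSubtrusive (j ≫ f) ↔ Subtr.UnivSSubtrusive f :=
  ⟨univ_of_comp, univ_comp (univ_of_flat j)⟩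

/-- The property at a base change, in terms of valuation rings. -/
theorem pb_iff (a : X ⟶ S) (g : T ⟶ S) :
    Pb Subtr.UnivSSubtrusive a g ↔
      ∀ (V : Type u) [CommRing V] [IsDomain V] [ValuationRing V]
        (ψ : Spec (CommRingCat.of V) ⟶ T), HasPair (pullback.snd a (ψ ≫ g)) (genPt V) (closedPoint V) := by
  refine ⟨fun h V _ _ _ ψ => ?_, fun h => univ_of_pair fun V _ _ _ ψ => ?_⟩
  · exact (hasPair_of_univ h ψ).map (b := 𝟙 _)
      (k := pullback.lift (pullback.fst (pullback.fst g a) ψ ≫ pullback.snd g a)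
        (pullback.snd (pullback.fst g a) ψ)
        (by rw [Category.assoc, ← pullback.condition, pullback.condition_assoc]))
      (pullback.lift_snd _ _ _)
  · exact (h V ψ).map (b := 𝟙 _)
      (k := pullback.lift (pullback.lift (pullback.snd a (ψ ≫ g) ≫ ψ) (pullback.fst a (ψ ≫ g))
          (by rw [Category.assoc]; exact pullback.condition.symm))
        (pullback.snd a (ψ ≫ g)) (pullback.lift_fst _ _ _))
      (pullback.lift_snd _ _ _)

instance : IsZariskiLocalAtTarget (Subtr.UnivSSubtrusive.{u}) :=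
  .mk' (fun f U hf => MorphismProperty.of_isPullback (isPullback_morphismRestrict f U).flip hf)
    fun {X Y} f {ι} U hU H => univ_of_pair fun V _ _ _ g => by
      obtain ⟨k, hk⟩ : ∃ k, g (closedPoint V) ∈ U k :=
        TopologicalSpace.Opens.mem_iSup.mp (hU ▸ TopologicalSpace.Opens.mem_top _)
      have hrange : Set.range g ⊆ Set.range (U k).ι := by
        rw [Scheme.Opens.range_ι]
        rintro _ ⟨v, rfl⟩
        exact ((specializes_closedPt v).map g.continuous).mem_open (U k).2 hk
      have h1 := hasPair_of_univ (H k) (IsOpenImmersion.lift (U k).ι g hrange)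
      have e : (f ⁻¹ᵁ U k).ι ≫ f = f ∣_ U k ≫ (U k).ι := (morphismRestrict_ι f (U k)).symm
      exact h1.map (b := 𝟙 _)
        (k := pullback.lift (pullback.fst (f ∣_ U k) _ ≫ (f ⁻¹ᵁ U k).ι)
          (pullback.snd (f ∣_ U k) _) (by
            rw [Category.assoc, e, pullback.condition_assoc, IsOpenImmersion.lift_fac]))
        (pullback.lift_snd _ _ _)

theorem hasPair_iff_primePair [IsAffine X] [IsAffine S] (a : X ⟶ S) {V : Type u} [CommRing V]
    [IsDomain V] [ValuationRing V] (ψ : Γ(S, ⊤) →+* V) :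
    letI := a.appTop.hom.toAlgebra
    letI := ψ.toAlgebra
    HasPair (pullback.snd a (Spec.map (CommRingCat.ofHom ψ) ≫ S.isoSpec.inv)) (genPt V)
        (closedPoint V) ↔
      PrimePair (A := Γ(S, ⊤)) Γ(X, ⊤) V (maximalIdeal V) := by
  letI := a.appTop.hom.toAlgebra
  letI := ψ.toAlgebra
  refine Iff.trans ?_ (primePair_iff_hasPair (A := Γ(S, ⊤)) (R := Γ(X, ⊤)) (P := V)
    (closedPoint V)).symm
  have hn : X.isoSpec.hom ≫ Spec.map a.appTop = a ≫ S.isoSpec.hom := Scheme.isoSpec_hom_naturality a
  constructor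
  · intro h
    exact h.map (b := 𝟙 _) (k := pullback.lift (pullback.fst _ _ ≫ X.isoSpec.hom) (pullback.snd _ _)
      (by
        show (_ ≫ X.isoSpec.hom) ≫ Spec.map a.appTop = _ ≫ Spec.map (CommRingCat.ofHom ψ)
        rw [Category.assoc, hn, pullback.condition_assoc, Category.assoc, Iso.inv_hom_id,
          Category.comp_id]))
      (pullback.lift_snd _ _ _)
  · intro h
    exact h.map (b := 𝟙 _) (k := pullback.lift (pullback.fst _ _ ≫ X.isoSpec.inv) (pullback.snd _ _)
      (by
        rw [Category.assoc, ← Scheme.isoSpec_inv_naturality a]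
        exact (reassoc_of% (pullback.condition (f := Spec.map a.appTop)
          (g := Spec.map (CommRingCat.ofHom ψ)))) S.isoSpec.inv))
      (pullback.lift_snd _ _ _)

theorem descendsAffine_affine {I : Type u} [Category.{u} I] [IsCofiltered I] {D : I ⥤ Scheme.{u}}
    {c : Cone D} [∀ {i j} (f : i ⟶ j), IsAffineHom (D.map f)] [∀ j, IsAffine (D.obj j)]
    (hc : IsLimit c) {i : I} {X : Scheme.{u}} [IsAffine X] (a : X ⟶ D.obj i)
    [LocallyOfFinitePresentation a] (hP : Pb Subtr.UnivSSubtrusive a (c.π.app i)) :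
    ∃ (j : I) (φ : j ⟶ i), Pb Subtr.UnivSSubtrusive a (D.map φ) := by
  obtain ⟨ι, _, _, _, F, _⟩ := IsFiltered.exists_directed (Over i)ᵒᵖ
  haveI : IsDirectedOrder ι := ‹_›
  let gmap : ∀ p q : ι, p ≤ q → Γ(D.obj (F.obj p).unop.left, ⊤) →+* Γ(D.obj (F.obj q).unop.left, ⊤) :=
    fun p q h => (D.map (F.map (homOfLE h)).unop.left).appTop.hom
  let α : ∀ p : ι, Γ(D.obj i, ⊤) →+* Γ(D.obj (F.obj p).unop.left, ⊤) := fun p =>
    (D.map (F.obj p).unop.hom).appTop.hom
  letI algB : Algebra Γ(D.obj i, ⊤) Γ(X, ⊤) := a.appTop.hom.toAlgebra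
  haveI : Algebra.FinitePresentation Γ(D.obj i, ⊤) Γ(X, ⊤) :=
    HasRingHomProperty.appTop @LocallyOfFinitePresentation a inferInstance
  have hc' : IsLimit ((c.whisker (Over.forget i)).whisker F.leftOp) :=
    (Functor.Initial.isLimitWhiskerEquiv F.leftOp _).symm
      ((Functor.Initial.isLimitWhiskerEquiv (Over.forget i) c).symm hc)
  have H : ∀ (W : Type u) [CommRing W] [IsDomain W] [ValuationRing W]
      (θ : ∀ p : ι, Γ(D.obj (F.obj p).unop.left, ⊤) →+* W),
      (∀ p q h, (θ q).comp (gmap p q h) = θ p) → ∀ p,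
        letI := ((θ p).comp (α p)).toAlgebra
        PrimePair (A := Γ(D.obj i, ⊤)) Γ(X, ⊤) W (maximalIdeal W) := fun W _ _ _ θ hθ p => by
    let s : Cone (F.leftOp ⋙ Over.forget i ⋙ D) :=
      { pt := Spec (CommRingCat.of W)
        π :=
          { app := fun q => Spec.map (CommRingCat.ofHom (θ q.unop)) ≫
              (D.obj (F.obj q.unop).unop.left).isoSpec.inv
            naturality := fun q q' f => by
              dsimp
              rw [Category.id_comp, Category.assoc, ← Scheme.isoSpec_inv_naturality,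
                ← Spec.map_comp_assoc]
              congr 2
              have : f.unop = homOfLE f.unop.le := Subsingleton.elim _ _
              rw [this]
              exact CommRingCat.hom_ext (hθ q'.unop q.unop f.unop.le).symm } }
    let l := hc'.lift s
    have hl : l ≫ c.π.app i =
        Spec.map (CommRingCat.ofHom ((θ p).comp (α p))) ≫ (D.obj i).isoSpec.inv := by
      rw [← c.w (F.obj p).unop.hom, ← Category.assoc]
      refine (congrArg (· ≫ D.map (F.obj p).unop.hom) (hc'.fac s (Opposite.op p))).trans ?_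
      show (Spec.map (CommRingCat.ofHom (θ p)) ≫ _) ≫ D.map (F.obj p).unop.hom = _
      rw [Category.assoc, ← Scheme.isoSpec_inv_naturality, CommRingCat.ofHom_comp, Spec.map_comp,
        Category.assoc]
      rfl
    refine (hasPair_iff_primePair a ((θ p).comp (α p))).mp ?_
    rw [← hl]
    exact (pb_iff a (c.π.app i)).mp hP W l
  obtain ⟨p, hp⟩ := Groth.L09.SubtrDescent.exists_stage (A₀ := Γ(D.obj i, ⊤)) (B := Γ(X, ⊤))
    (G := fun p => Γ(D.obj (F.obj p).unop.left, ⊤)) gmap
    (fun p q r hpq hqr x => by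
      simp only [gmap, ← CommRingCat.comp_apply, ← Scheme.Hom.comp_appTop, ← D.map_comp,
        ← Over.comp_left, ← unop_comp, ← F.map_comp, homOfLE_comp])
    α
    (fun p q h => by
      simp only [gmap, α, ← CommRingCat.hom_comp, ← Scheme.Hom.comp_appTop, ← D.map_comp, Over.w])
    H
  · refine ⟨(F.obj p).unop.left, (F.obj p).unop.hom, (pb_iff a _).mpr fun V _ _ _ ψ => ?_⟩
    obtain ⟨r, hr⟩ := Spec.map_surjective (ψ ≫ (D.obj (F.obj p).unop.left).isoSpec.hom)
    have h1 := (hasPair_iff_primePair a (r.hom.comp (α p))).mpr (hp V r.hom)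
    have e : Spec.map (CommRingCat.ofHom (r.hom.comp (α p))) ≫ (D.obj i).isoSpec.inv =
        ψ ≫ D.map (F.obj p).unop.hom := by
      rw [CommRingCat.ofHom_comp, Spec.map_comp, Category.assoc]
      show Spec.map r ≫ Spec.map (D.map (F.obj p).unop.hom).appTop ≫ _ = _
      rw [Scheme.isoSpec_inv_naturality, hr, Category.assoc, Iso.hom_inv_id_assoc]
    rwa [e] at h1

theorem descendsAffine_univSSubtrusive : DescendsAffine Subtr.UnivSSubtrusive qcqsfp.{u} := by
  intro I _ _ D c _ _ hc i X a ha hP
  haveI : QuasiCompact a := ha.1.1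
  haveI : LocallyOfFinitePresentation a := ha.2
  haveI : CompactSpace X := QuasiCompact.compactSpace_of_compactSpace a
  let 𝒰 := X.affineCover.finiteSubcover
  haveI : ∀ k, IsAffine (𝒰.X k) := fun k => inferInstanceAs (IsAffine (Spec _))
  let j : (∐ 𝒰.X) ⟶ X := Limits.Sigma.desc 𝒰.f
  haveI : Flat j := IsZariskiLocalAtSource.sigmaDesc fun k => inferInstance
  haveI : Surjective j := Surjective.sigmaDesc_of_union_range_eq_univ 𝒰.iUnion_range
  haveI : LocallyOfFinitePresentation (j ≫ a) := by
    rw [show j ≫ a = Limits.Sigma.desc fun k => 𝒰.f k ≫ a from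
      Limits.Sigma.hom_ext _ _ fun k => by simp [j]]
    exact IsZariskiLocalAtSource.sigmaDesc fun k => inferInstance
  have key : ∀ {T : Scheme.{u}} (g : T ⟶ D.obj i),
      Pb Subtr.UnivSSubtrusive (j ≫ a) g ↔ Pb Subtr.UnivSSubtrusive a g := fun g => by
    have hsq : IsPullback (pullback.snd (pullback.snd g a) j)
        (pullback.fst (pullback.snd g a) j ≫ pullback.fst g a) (j ≫ a) g :=
      (IsPullback.of_hasPullback (pullback.snd g a) j).flip.paste_vert
        (IsPullback.of_hasPullback g a).flip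
    rw [← pb_iff_of_isPullback hsq]
    haveI : Flat (pullback.fst (pullback.snd g a) j) :=
      MorphismProperty.pullback_fst (P := @Flat) _ _ inferInstance
    haveI : Surjective (pullback.fst (pullback.snd g a) j) :=
      MorphismProperty.pullback_fst (P := @Surjective) _ _ inferInstance
    exact univ_comp_iff _ _
  obtain ⟨k, φ, h⟩ := descendsAffine_affine hc (j ≫ a) ((key _).mpr hP)
  exact ⟨k, φ, (key _).mp h⟩

theorem descends_univSSubtrusive : Descends Subtr.UnivSSubtrusive qcqsfp.{u} :=
  descends_of_affine descendsAffine_univSSubtrusive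

end Groth.L09.SubtrLimit
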