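import Groth.Agent.L09.GenDescent
import Groth.Agent.L09.SubtrPairs
import Groth.Agent.L19.Limit.Immersion
import Groth.Agent.L19.Limit.Core
import Mathlib.CategoryTheory.Presentable.Directed
import Mathlib.AlgebraicGeometry.Morphisms.UniversallyOpen

/-!
# Universally open morphisms of finite presentation descend along cofiltered limits
-/

set_option autoImplicit false
set_option linter.style.haveILetI false
set_option backward.isDefEq.respectTransparency.types false
set_option backward.isDefEq.respectTransparency false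
set_option backward.defeqAttrib.useBackward true

universe u

open CategoryTheory CategoryTheory.Limits AlgebraicGeometry IsLocalRing
open Groth.L09.Subtr Groth.L19.Limit Groth.L09.GenDescent
open scoped TensorProduct

noncomputable section

namespace Groth.L09.UnivOpenLimit

variable {X Y S T : Scheme.{u}}

/-- Every point over the closed point has a generization over the generic point. -/
def GenLift {Z : Scheme.{u}} {V : Type u} [CommRing V] [IsDomain V] [IsLocalRing V]
    (f : Z ⟶ Spec (CommRingCat.of V)) : Prop :=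
  ∀ z : Z, f z = closedPoint V → ∃ z' : Z, z' ⤳ z ∧ f z' = genPt V

theorem GenLift.of_iso {Z Z' : Scheme.{u}} {V : Type u} [CommRing V] [IsDomain V] [IsLocalRing V]
    {f : Z ⟶ Spec (CommRingCat.of V)} {f' : Z' ⟶ Spec (CommRingCat.of V)} (e : Z ≅ Z')
    (he : e.hom ≫ f' = f) (h : GenLift f) : GenLift f' := by
  intro z hz
  have hz' : e.hom (e.inv z) = z := by
    rw [← Scheme.Hom.comp_apply, e.inv_hom_id]
    rfl
  obtain ⟨w, hw, hw'⟩ := h (e.inv z) (by rw [← he, Scheme.Hom.comp_apply, hz', hz])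
  refine ⟨e.hom w, hz' ▸ hw.map e.hom.continuous, ?_⟩
  rw [← Scheme.Hom.comp_apply, he, hw']

theorem genLift_iff_of_isPullback {Z : Scheme.{u}} {V : Type u} [CommRing V] [IsDomain V]
    [IsLocalRing V] {f : X ⟶ S} {b : Spec (CommRingCat.of V) ⟶ S} {p : Z ⟶ X}
    {q : Z ⟶ Spec (CommRingCat.of V)} (h : IsPullback p q f b) :
    GenLift q ↔ GenLift (pullback.snd f b) :=
  ⟨fun hq => hq.of_iso h.isoPullback h.isoPullback_hom_snd,
    fun hq => hq.of_iso h.isoPullback.symm h.isoPullback_inv_snd⟩

/-- An open map lifts generizations. -/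
theorem generalizingMap_of_isOpenMap (f : X ⟶ Y) (hf : IsOpenMap f) : GeneralizingMap f := by
  intro x y hy
  obtain ⟨x', hx', hxx⟩ := exists_specializes_fibre f (y := y) (x := x) (by
    rw [mem_closure_iff]
    intro U hU hxU
    obtain ⟨x', hx', rfl⟩ := hy.mem_open (hf U hU) ⟨x, hxU, rfl⟩
    exact ⟨x', hx', rfl⟩)
  exact ⟨x', hxx, hx'⟩

/-- The valuative criterion of universal openness. -/
theorem univOpen_iff (f : X ⟶ Y) [LocallyOfFinitePresentation f] :
    UniversallyOpen f ↔ ∀ (V : Type u) [CommRing V] [IsDomain V] [ValuationRing V]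
      (g : Spec (CommRingCat.of V) ⟶ Y), GenLift (pullback.snd f g) := by
  refine ⟨fun h V _ _ _ g z hz => ?_, fun h => ⟨?_⟩⟩
  · obtain ⟨z', hz', hz''⟩ := generalizingMap_of_isOpenMap (pullback.snd f g)
      (pullback.snd f g).isOpenMap (hz.symm ▸ genPt_specializes (closedPoint V) :
        genPt V ⤳ pullback.snd f g z)
    exact ⟨z', hz', hz''⟩
  intro X' Y' i₁ i₂ f' sq
  haveI : LocallyOfFinitePresentation f' := MorphismProperty.of_isPullback sq.flip ‹_›
  refine isOpenMap_of_generalizingMap f' fun x y hy => ?_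
  obtain ⟨V, _, _, _, g, hg, hc⟩ := exists_valuation (show y ⤳ f' x from hy)
  obtain ⟨z, hz₁, hz₂⟩ := Scheme.Pullback.exists_preimage_pullback (f := f') (g := g) x
    (closedPoint V) hc.symm
  have hsq : IsPullback (pullback.fst f' g ≫ i₁) (pullback.snd f' g) f (g ≫ i₂) :=
    (IsPullback.of_hasPullback f' g).paste_horiz sq.flip
  obtain ⟨z', hz', hz''⟩ := (genLift_iff_of_isPullback hsq).mpr (h V (g ≫ i₂)) z hz₂
  refine ⟨pullback.fst f' g z', ?_, ?_⟩
  · rw [← hz₁]
    exact hz'.map (pullback.fst f' g).continuous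
  · rw [← Scheme.Hom.comp_apply, pullback.condition, Scheme.Hom.comp_apply, hz'', hg]

/-- Universal openness can be tested after a surjection to the source. -/
theorem univOpen_comp_iff {Z : Scheme.{u}} (j : Z ⟶ X) [UniversallyOpen j] [Surjective j]
    [LocallyOfFinitePresentation j] (f : X ⟶ Y) [LocallyOfFinitePresentation f] :
    UniversallyOpen (j ≫ f) ↔ UniversallyOpen f := by
  refine ⟨fun h => (univOpen_iff f).mpr fun V _ _ _ g z hz => ?_, fun h => inferInstance⟩
  obtain ⟨w₀, rfl⟩ := (pullback.snd j (pullback.fst f g)).surjective z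
  let e := pullbackRightPullbackFstIso f g j
  have he : e.hom ≫ pullback.snd (j ≫ f) g = pullback.snd _ _ ≫ pullback.snd f g :=
    pullbackRightPullbackFstIso_hom_snd f g j
  obtain ⟨w, hw, hw'⟩ := ((univOpen_iff (j ≫ f)).mp h V g).of_iso e.symm
    (f' := pullback.snd j (pullback.fst f g) ≫ pullback.snd f g)
    (by rw [Iso.symm_hom, Iso.inv_comp_eq, he]) w₀ hz
  exact ⟨_, hw.map (pullback.snd j (pullback.fst f g)).continuous, hw'⟩

/-- The property at a base change, in terms of valuation rings. -/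
theorem pb_iff (a : X ⟶ S) [LocallyOfFinitePresentation a] (g : T ⟶ S) :
    Pb @UniversallyOpen a g ↔
      ∀ (V : Type u) [CommRing V] [IsDomain V] [ValuationRing V]
        (ψ : Spec (CommRingCat.of V) ⟶ T), GenLift (pullback.snd a (ψ ≫ g)) := by
  refine (univOpen_iff (pullback.fst g a)).trans
    (forall_congr' fun V => forall_congr' fun _ => forall_congr' fun _ => forall_congr' fun _ =>
      forall_congr' fun ψ => ?_)
  exact genLift_iff_of_isPullback
    ((IsPullback.of_hasPullback (pullback.fst g a) ψ).paste_horiz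
      (IsPullback.of_hasPullback g a).flip)

theorem genLift_iff_genPair [IsAffine X] [IsAffine S] (a : X ⟶ S) {V : Type u} [CommRing V]
    [IsDomain V] [IsLocalRing V] (ψ : Γ(S, ⊤) →+* V) :
    letI := a.appTop.hom.toAlgebra
    letI := ψ.toAlgebra
    GenLift (pullback.snd a (Spec.map (CommRingCat.ofHom ψ) ≫ S.isoSpec.inv)) ↔
      GenPair Γ(S, ⊤) Γ(X, ⊤) V (maximalIdeal V) := by
  letI := a.appTop.hom.toAlgebra
  letI := ψ.toAlgebra
  let incR : Γ(X, ⊤) →+* V ⊗[Γ(S, ⊤)] Γ(X, ⊤) :=
    (Algebra.TensorProduct.includeRight (R := Γ(S, ⊤)) (A := V) (B := Γ(X, ⊤))).toRingHom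
  let incL : V →+* V ⊗[Γ(S, ⊤)] Γ(X, ⊤) := Algebra.TensorProduct.includeLeftRingHom
  have h0 : IsPullback (Spec.map (CommRingCat.ofHom incR)) (Spec.map (CommRingCat.ofHom incL))
      (Spec.map a.appTop) (Spec.map (CommRingCat.ofHom ψ)) :=
    (isPullback_SpecMap_of_isPushout _ _ _ _
      (CommRingCat.isPushout_tensorProduct Γ(S, ⊤) V Γ(X, ⊤))).flip
  have h1 : IsPullback (Spec.map (CommRingCat.ofHom incR) ≫ X.isoSpec.inv)
      (Spec.map (CommRingCat.ofHom incL)) a (Spec.map (CommRingCat.ofHom ψ) ≫ S.isoSpec.inv) :=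
    h0.of_iso (Iso.refl _) X.isoSpec.symm (Iso.refl _) S.isoSpec.symm (by simp) (by simp)
      (by simpa using Scheme.isoSpec_inv_naturality a) (by simp)
  refine (genLift_iff_of_isPullback h1).symm.trans ⟨fun h q' hq' hm => ?_, fun h z hz => ?_⟩
  · obtain ⟨z', hz', hz''⟩ := h (⟨q', hq'⟩ : PrimeSpectrum _) (PrimeSpectrum.ext hm)
    exact ⟨_, (z' : PrimeSpectrum _).2, (PrimeSpectrum.le_iff_specializes _ _).mpr hz',
      congrArg PrimeSpectrum.asIdeal hz''⟩
  · obtain ⟨q, hq, hle, h0'⟩ := h _ (z : PrimeSpectrum _).2 (congrArg PrimeSpectrum.asIdeal hz)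
    exact ⟨(⟨q, hq⟩ : PrimeSpectrum _), (PrimeSpectrum.le_iff_specializes _ _).mp hle,
      PrimeSpectrum.ext h0'⟩

theorem descendsAffine_affine {I : Type u} [Category.{u} I] [IsCofiltered I] {D : I ⥤ Scheme.{u}}
    {c : Cone D} [∀ {i j} (f : i ⟶ j), IsAffineHom (D.map f)] [∀ j, IsAffine (D.obj j)]
    (hc : IsLimit c) {i : I} {X : Scheme.{u}} [IsAffine X] (a : X ⟶ D.obj i)
    [LocallyOfFinitePresentation a] (hP : Pb @UniversallyOpen a (c.π.app i)) :
    ∃ (j : I) (φ : j ⟶ i), Pb @UniversallyOpen a (D.map φ) := by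
  obtain ⟨ι, _, _, _, F, _⟩ := IsFiltered.exists_directed (Over i)ᵒᵖ
  haveI : IsDirectedOrder ι := ‹_›
  let gmap : ∀ p q : ι, p ≤ q → Γ(D.obj (F.obj p).unop.left, ⊤) →+* Γ(D.obj (F.obj q).unop.left, ⊤) :=
    fun p q h => (D.map (F.map (homOfLE h)).unop.left).appTop.hom
  let α : ∀ p : ι, Γ(D.obj i, ⊤) →+* Γ(D.obj (F.obj p).unop.left, ⊤) := fun p =>
    (D.map (F.obj p).unop.hom).appTop.hom
  letI algB : Algebra Γ(D.obj i, ⊤) Γ(X, ⊤) := a.appTop.hom.toAlgebra
  haveI : Algebra.FinitePresentation Γ(D.obj i, ⊤) Γ(X, ⊤) :=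
    HasRingHomProperty.appTop @LocallyOfFinitePresentation a inferInstance
  have hc' : IsLimit ((c.whisker (Over.forget i)).whisker F.leftOp) :=
    (Functor.Initial.isLimitWhiskerEquiv F.leftOp _).symm
      ((Functor.Initial.isLimitWhiskerEquiv (Over.forget i) c).symm hc)
  have H : ∀ (W : Type u) [CommRing W] [IsDomain W] [ValuationRing W]
      (θ : ∀ p : ι, Γ(D.obj (F.obj p).unop.left, ⊤) →+* W),
      (∀ p q h, (θ q).comp (gmap p q h) = θ p) → ∀ p,
        letI := ((θ p).comp (α p)).toAlgebra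
        GenPair Γ(D.obj i, ⊤) Γ(X, ⊤) W (maximalIdeal W) := fun W _ _ _ θ hθ p => by
    let s : Cone (F.leftOp ⋙ Over.forget i ⋙ D) :=
      { pt := Spec (CommRingCat.of W)
        π :=
          { app := fun q => Spec.map (CommRingCat.ofHom (θ q.unop)) ≫
              (D.obj (F.obj q.unop).unop.left).isoSpec.inv
            naturality := fun q q' f => by
              dsimp
              rw [Category.id_comp, Category.assoc, ← Scheme.isoSpec_inv_naturality,
                ← Spec.map_comp_assoc]
              congr 2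
              have : f.unop = homOfLE f.unop.le := Subsingleton.elim _ _
              rw [this]
              exact CommRingCat.hom_ext (hθ q'.unop q.unop f.unop.le).symm } }
    let l := hc'.lift s
    have hl : l ≫ c.π.app i =
        Spec.map (CommRingCat.ofHom ((θ p).comp (α p))) ≫ (D.obj i).isoSpec.inv := by
      rw [← c.w (F.obj p).unop.hom, ← Category.assoc]
      refine (congrArg (· ≫ D.map (F.obj p).unop.hom) (hc'.fac s (Opposite.op p))).trans ?_
      show (Spec.map (CommRingCat.ofHom (θ p)) ≫ _) ≫ D.map (F.obj p).unop.hom = _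
      rw [Category.assoc, ← Scheme.isoSpec_inv_naturality, CommRingCat.ofHom_comp, Spec.map_comp,
        Category.assoc]
      rfl
    refine (genLift_iff_genPair a ((θ p).comp (α p))).mp ?_
    rw [← hl]
    exact (pb_iff a (c.π.app i)).mp hP W l
  obtain ⟨p, hp⟩ := Groth.L09.GenDescent.exists_stage (A₀ := Γ(D.obj i, ⊤)) (B := Γ(X, ⊤))
    (G := fun p => Γ(D.obj (F.obj p).unop.left, ⊤)) gmap
    (fun p q r hpq hqr x => by
      simp only [gmap, ← CommRingCat.comp_apply, ← Scheme.Hom.comp_appTop, ← D.map_comp,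
        ← Over.comp_left, ← unop_comp, ← F.map_comp, homOfLE_comp])
    α
    (fun p q h => by
      simp only [gmap, α, ← CommRingCat.hom_comp, ← Scheme.Hom.comp_appTop, ← D.map_comp, Over.w])
    H
  · refine ⟨(F.obj p).unop.left, (F.obj p).unop.hom, (pb_iff a _).mpr fun V _ _ _ ψ => ?_⟩
    obtain ⟨r, hr⟩ := Spec.map_surjective (ψ ≫ (D.obj (F.obj p).unop.left).isoSpec.hom)
    have h1 := (genLift_iff_genPair a (r.hom.comp (α p))).mpr (hp V r.hom)
    have e : Spec.map (CommRingCat.ofHom (r.hom.comp (α p))) ≫ (D.obj i).isoSpec.inv =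
        ψ ≫ D.map (F.obj p).unop.hom := by
      rw [CommRingCat.ofHom_comp, Spec.map_comp, Category.assoc]
      show Spec.map r ≫ Spec.map (D.map (F.obj p).unop.hom).appTop ≫ _ = _
      rw [Scheme.isoSpec_inv_naturality, hr, Category.assoc, Iso.hom_inv_id_assoc]
    rwa [e] at h1

theorem descendsAffine_universallyOpen : DescendsAffine @UniversallyOpen qcqsfp.{u} := by
  intro I _ _ D c _ _ hc i X a ha hP
  haveI : QuasiCompact a := ha.1.1
  haveI : LocallyOfFinitePresentation a := ha.2
  haveI : CompactSpace X := QuasiCompact.compactSpace_of_compactSpace a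
  let 𝒰 := X.affineCover.finiteSubcover
  haveI : ∀ k, IsAffine (𝒰.X k) := fun k => inferInstanceAs (IsAffine (Spec _))
  let j : (∐ 𝒰.X) ⟶ X := Limits.Sigma.desc 𝒰.f
  haveI : LocallyOfFinitePresentation j := IsZariskiLocalAtSource.sigmaDesc fun k => inferInstance
  haveI : UniversallyOpen j := IsZariskiLocalAtSource.sigmaDesc fun k => inferInstance
  haveI : Surjective j := Surjective.sigmaDesc_of_union_range_eq_univ 𝒰.iUnion_range
  have key : ∀ {T : Scheme.{u}} (g : T ⟶ D.obj i),
      Pb @UniversallyOpen (j ≫ a) g ↔ Pb @UniversallyOpen a g := fun g => by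
    have hsq : IsPullback (pullback.snd (pullback.snd g a) j)
        (pullback.fst (pullback.snd g a) j ≫ pullback.fst g a) (j ≫ a) g :=
      (IsPullback.of_hasPullback (pullback.snd g a) j).flip.paste_vert
        (IsPullback.of_hasPullback g a).flip
    rw [← pb_iff_of_isPullback hsq]
    haveI : UniversallyOpen (pullback.fst (pullback.snd g a) j) :=
      MorphismProperty.pullback_fst (P := @UniversallyOpen) _ _ inferInstance
    haveI : Surjective (pullback.fst (pullback.snd g a) j) :=
      MorphismProperty.pullback_fst (P := @Surjective) _ _ inferInstance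
    haveI : LocallyOfFinitePresentation (pullback.fst (pullback.snd g a) j) :=
      MorphismProperty.pullback_fst (P := @LocallyOfFinitePresentation) _ _ inferInstance
    haveI : LocallyOfFinitePresentation (pullback.fst g a) :=
      MorphismProperty.pullback_fst (P := @LocallyOfFinitePresentation) _ _ inferInstance
    exact univOpen_comp_iff _ _
  obtain ⟨k, φ, h⟩ := descendsAffine_affine hc (j ≫ a) ((key _).mpr hP)
  exact ⟨k, φ, (key _).mp h⟩

theorem descends_universallyOpen : Descends @UniversallyOpen qcqsfp.{u} :=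
  descends_of_affine descendsAffine_universallyOpen

end Groth.L09.UnivOpenLimit
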