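import Mathlib.Algebra.Homology.DerivedCategory.ExactFunctor
import Mathlib.Algebra.Homology.Additive

/-!
Natural transformations of exact functors on derived categories; a criterion for full faithfulness.
-/

set_option autoImplicit false
set_option linter.unusedSectionVars false
universe w₁ w₂ w₃ v₁ v₂ v₃ u₁ u₂ u₃

open CategoryTheory Category Limits

namespace Groth.L09.DerivedRetract

variable {A : Type u₁} [Category.{v₁} A] [Abelian A] [HasDerivedCategory.{w₁} A]
  {B : Type u₂} [Category.{v₂} B] [Abelian B] [HasDerivedCategory.{w₂} B]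
  {C : Type u₃} [Category.{v₃} C] [Abelian C] [HasDerivedCategory.{w₃} C]

section

variable {F G : A ⥤ B} [F.Additive] [PreservesFiniteLimits F] [PreservesFiniteColimits F]
  [G.Additive] [PreservesFiniteLimits G] [PreservesFiniteColimits G]

/-- The transformation induced on derived categories. -/
noncomputable def natMap (τ : F ⟶ G) : F.mapDerivedCategory ⟶ G.mapDerivedCategory :=
  Localization.liftNatTrans DerivedCategory.Q (HomologicalComplex.quasiIso A (ComplexShape.up ℤ))
    (F.mapHomologicalComplex _ ⋙ DerivedCategory.Q) (G.mapHomologicalComplex _ ⋙ DerivedCategory.Q) _ _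
    (Functor.whiskerRight (NatTrans.mapHomologicalComplex τ _) DerivedCategory.Q)

lemma isIso_natMap_Q (τ : F ⟶ G) (K : CochainComplex A ℤ) (h : ∀ n, IsIso (τ.app (K.X n))) :
    IsIso ((natMap τ).app (DerivedCategory.Q.obj K)) := by
  have hτ : IsIso ((NatTrans.mapHomologicalComplex τ (ComplexShape.up ℤ)).app K) :=
    have : ∀ n, IsIso (((NatTrans.mapHomologicalComplex τ (ComplexShape.up ℤ)).app K).f n) := h
    HomologicalComplex.Hom.isIso_of_components _
  rw [natMap, Localization.liftNatTrans_app, Functor.whiskerRight_app]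
  infer_instance

/-- An isomorphism of exact functors gives one on derived categories. -/
noncomputable def natIso (e : F ≅ G) : F.mapDerivedCategory ≅ G.mapDerivedCategory :=
  Localization.liftNatIso DerivedCategory.Q (HomologicalComplex.quasiIso A (ComplexShape.up ℤ))
    (F.mapHomologicalComplex _ ⋙ DerivedCategory.Q) (G.mapHomologicalComplex _ ⋙ DerivedCategory.Q) _ _
    (Functor.isoWhiskerRight (NatIso.mapHomologicalComplex e _) DerivedCategory.Q)

end

/-- The identity functor induces the identity. -/
noncomputable def idIso [(𝟭 A).Additive] [PreservesFiniteLimits (𝟭 A)] [PreservesFiniteColimits (𝟭 A)] :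
    (𝟭 A).mapDerivedCategory ≅ 𝟭 (DerivedCategory A) :=
  Localization.liftNatIso DerivedCategory.Q (HomologicalComplex.quasiIso A (ComplexShape.up ℤ))
    ((𝟭 A).mapHomologicalComplex _ ⋙ DerivedCategory.Q) DerivedCategory.Q _ _
    (NatIso.ofComponents (fun K => DerivedCategory.Q.mapIso (HomologicalComplex.Hom.isoOfComponents (fun n => Iso.refl _)))
      (fun f => by
        refine (DerivedCategory.Q.map_comp _ _).symm.trans (Eq.trans ?_ (DerivedCategory.Q.map_comp _ _))
        congr 1
        ext n
        simp))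

variable (F : A ⥤ B) [F.Additive] [PreservesFiniteLimits F] [PreservesFiniteColimits F]
  (G : B ⥤ C) [G.Additive] [PreservesFiniteLimits G] [PreservesFiniteColimits G]
  [(F ⋙ G).Additive] [PreservesFiniteLimits (F ⋙ G)] [PreservesFiniteColimits (F ⋙ G)]

/-- The composite of exact functors on derived categories. -/
noncomputable def compIso : F.mapDerivedCategory ⋙ G.mapDerivedCategory ≅ (F ⋙ G).mapDerivedCategory :=
  let L : Localization.Lifting DerivedCategory.Q (HomologicalComplex.quasiIso A (ComplexShape.up ℤ))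
      ((F.mapHomologicalComplex _ ⋙ G.mapHomologicalComplex (ComplexShape.up ℤ)) ⋙ DerivedCategory.Q)
      (F.mapDerivedCategory ⋙ G.mapDerivedCategory) :=
    ⟨(Functor.associator _ _ _).symm ≪≫ Functor.isoWhiskerRight F.mapDerivedCategoryFactors _ ≪≫
      Functor.associator _ _ _ ≪≫ Functor.isoWhiskerLeft _ G.mapDerivedCategoryFactors ≪≫
      (Functor.associator _ _ _).symm⟩
  Localization.liftNatIso DerivedCategory.Q (HomologicalComplex.quasiIso A (ComplexShape.up ℤ))
    ((F.mapHomologicalComplex _ ⋙ G.mapHomologicalComplex (ComplexShape.up ℤ)) ⋙ DerivedCategory.Q)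
    ((F ⋙ G).mapHomologicalComplex _ ⋙ DerivedCategory.Q) _ _
    (Functor.isoWhiskerRight
      (NatIso.ofComponents (fun K => HomologicalComplex.Hom.isoOfComponents (fun n => Iso.refl _))
        (fun f => by ext n; simp)) DerivedCategory.Q)

omit F G in
/-- If `T` receives natural maps from the identity and from `G ⋙ F` which are isomorphisms on the image of `F`,
and `G` is a retraction of `F`, then `F` is fully faithful on derived categories. -/
theorem bijective_mapDerivedCategory (F : A ⥤ B) (G : B ⥤ A) (T : B ⥤ B)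
    [F.Additive] [PreservesFiniteLimits F] [PreservesFiniteColimits F]
    [G.Additive] [PreservesFiniteLimits G] [PreservesFiniteColimits G]
    [T.Additive] [PreservesFiniteLimits T] [PreservesFiniteColimits T]
    (e : F ⋙ G ≅ 𝟭 A) (a : 𝟭 B ⟶ T) (b : G ⋙ F ⟶ T)
    (ha : ∀ X, IsIso (a.app (F.obj X))) (hb : ∀ X, IsIso (b.app (F.obj X))) (K L : DerivedCategory A) :
    Function.Bijective (fun g : K ⟶ L => F.mapDerivedCategory.map g) := by
  have : PreservesFiniteLimits (F ⋙ G) := comp_preservesFiniteLimits F G
  have : PreservesFiniteColimits (F ⋙ G) := comp_preservesFiniteColimits F G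
  have : PreservesFiniteLimits (G ⋙ F) := comp_preservesFiniteLimits G F
  have : PreservesFiniteColimits (G ⋙ F) := comp_preservesFiniteColimits G F
  let DF := F.mapDerivedCategory
  let DG := G.mapDerivedCategory
  let e' : DF ⋙ DG ≅ 𝟭 _ := compIso F G ≪≫ natIso e ≪≫ idIso
  let a' : 𝟭 (DerivedCategory B) ⟶ T.mapDerivedCategory := idIso.inv ≫ natMap a
  let b' : DG ⋙ DF ⟶ T.mapDerivedCategory := (compIso G F).hom ≫ natMap b
  have key : ∀ {H H' : B ⥤ B} [H.Additive] [PreservesFiniteLimits H] [PreservesFiniteColimits H]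
      [H'.Additive] [PreservesFiniteLimits H'] [PreservesFiniteColimits H'] (τ : H ⟶ H'),
      (∀ X, IsIso (τ.app (F.obj X))) → ∀ X, IsIso ((natMap τ).app (DF.obj X)) := by
    intro H H' _ _ _ _ _ _ τ hτ X
    obtain ⟨M, ⟨i⟩⟩ := (inferInstance : (DerivedCategory.Q (C := A)).EssSurj).mem_essImage X
    let j : DF.obj X ≅ DerivedCategory.Q.obj ((F.mapHomologicalComplex _).obj M) :=
      DF.mapIso i.symm ≪≫ F.mapDerivedCategoryFactors.app M
    have := isIso_natMap_Q τ ((F.mapHomologicalComplex _).obj M) (fun n => hτ (M.X n))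
    exact (NatTrans.isIso_app_iff_of_iso _ j).2 this
  have ha' : ∀ X, IsIso (a'.app (DF.obj X)) := fun X => by
    have := key a ha X
    show IsIso (idIso.inv.app _ ≫ (natMap a).app _)
    infer_instance
  have hb' : ∀ X, IsIso (b'.app (DF.obj X)) := fun X => by
    have := key b hb X
    show IsIso ((compIso G F).hom.app _ ≫ (natMap b).app _)
    infer_instance
  let φ : ∀ X, DF.obj X ≅ DF.obj X := fun X =>
    @asIso _ _ _ _ (a'.app (DF.obj X)) (ha' X) ≪≫ (@asIso _ _ _ _ (b'.app (DF.obj X)) (hb' X)).symm ≪≫
      DF.mapIso (e'.app X)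
  refine ⟨fun g g' h => ?_, fun g => ?_⟩
  · have h1 := congrArg (fun k => DG.map k) h
    rw [← cancel_epi (e'.hom.app K)]
    exact (e'.hom.naturality g).symm.trans ((congrArg (· ≫ e'.hom.app L) h1).trans (e'.hom.naturality g'))
  · let h : K ⟶ L := e'.inv.app K ≫ DG.map g ≫ e'.hom.app L
    have φnat : ∀ {X Y : DerivedCategory A} (f : X ⟶ Y), DF.map f ≫ (φ Y).hom = (φ X).hom ≫ DF.map f := by
      intro X Y f
      simp only [φ, Iso.trans_hom, Iso.symm_hom, asIso_hom, asIso_inv, Functor.mapIso_hom, Iso.app_hom, assoc]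
      have h1 : DF.map f ≫ a'.app (DF.obj Y) = a'.app (DF.obj X) ≫ T.mapDerivedCategory.map (DF.map f) :=
        a'.naturality (DF.map f)
      rw [reassoc_of% h1]
      congr 1
      have := hb' X
      have := hb' Y
      rw [← cancel_epi (b'.app (DF.obj X)), IsIso.hom_inv_id_assoc]
      have h2 : DF.map (DG.map (DF.map f)) ≫ b'.app (DF.obj Y) =
          b'.app (DF.obj X) ≫ T.mapDerivedCategory.map (DF.map f) := b'.naturality (DF.map f)
      rw [← reassoc_of% h2, IsIso.hom_inv_id_assoc, ← DF.map_comp, ← DF.map_comp]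
      exact congrArg (fun k => DF.map k) (e'.hom.naturality f)
    refine ⟨h, ?_⟩
    have hg : (φ K).hom ≫ DF.map h = g ≫ (φ L).hom := by
      simp only [φ, h, Iso.trans_hom, Iso.symm_hom, asIso_hom, asIso_inv, Functor.mapIso_hom, Iso.app_hom, assoc]
      have := hb' K
      have := hb' L
      have h1 : g ≫ a'.app (DF.obj L) = a'.app (DF.obj K) ≫ T.mapDerivedCategory.map g := a'.naturality g
      rw [reassoc_of% h1]
      congr 1
      rw [← cancel_epi (b'.app (DF.obj K)), IsIso.hom_inv_id_assoc]
      have h2 : DF.map (DG.map g) ≫ b'.app (DF.obj L) = b'.app (DF.obj K) ≫ T.mapDerivedCategory.map g :=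
        b'.naturality g
      rw [← reassoc_of% h2, IsIso.hom_inv_id_assoc, ← DF.map_comp, ← DF.map_comp, Iso.hom_inv_id_app_assoc]
    show DF.map h = g
    rw [← cancel_mono (φ L).hom, φnat h, hg]

end Groth.L09.DerivedRetract
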