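import Groth.Agent.L09.QuillenTorsor
import Mathlib.RingTheory.MvPolynomial.Localization
import Mathlib.RingTheory.TensorProduct.MvPolynomial

/-!
# Quillen patching for torsors over affine space
-/

universe u

open CategoryTheory CategoryTheory.Limits MonoidalCategory CartesianMonoidalCategory
  AlgebraicGeometry MonObj

namespace Groth.L09.Quillen

open Groth.L09.Patch Groth.L09.TorsorPts

set_option backward.isDefEq.respectTransparency.types false

variable {R : Type u} [CommRing R] {n : Type u}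

/-- Evaluation homomorphisms of polynomial algebras. -/
noncomputable def mvSub {C E : Type u} [CommRing C] [CommRing E] [Algebra R C] [Algebra R E]
    (f : C →ₐ[R] E) (x : n → E) : MvPolynomial n C →ₐ[R] E :=
  { MvPolynomial.eval₂Hom f.toRingHom x with
    commutes' := fun r => by
      show MvPolynomial.eval₂Hom f.toRingHom x (MvPolynomial.C (algebraMap R C r)) = algebraMap R E r
      rw [MvPolynomial.eval₂Hom_C]
      exact f.commutes r }

@[simp] lemma mvSub_C {C E : Type u} [CommRing C] [CommRing E] [Algebra R C] [Algebra R E]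
    (f : C →ₐ[R] E) (x : n → E) (c : C) : mvSub f x (MvPolynomial.C c) = f c :=
  MvPolynomial.eval₂Hom_C _ _ _

@[simp] lemma mvSub_X {C E : Type u} [CommRing C] [CommRing E] [Algebra R C] [Algebra R E]
    (f : C →ₐ[R] E) (x : n → E) (i : n) : mvSub f x (MvPolynomial.X i) = x i :=
  MvPolynomial.eval₂Hom_X' _ _ _

lemma mv_ext {C E : Type u} [CommRing C] [CommRing E] [Algebra R C] [Algebra R E]
    {φ ψ : MvPolynomial n C →ₐ[R] E} (hC : ∀ c, φ (MvPolynomial.C c) = ψ (MvPolynomial.C c))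
    (hX : ∀ i, φ (MvPolynomial.X i) = ψ (MvPolynomial.X i)) : φ = ψ :=
  AlgHom.coe_ringHom_injective (MvPolynomial.ringHom_ext hC hX)

variable {C D : Type u} [CommRing C] [CommRing D] [Algebra R C] [Algebra R D]

/-- Functoriality of polynomial algebras. -/
noncomputable abbrev mvMap (f : C →ₐ[R] D) : MvPolynomial n C →ₐ[R] MvPolynomial n D :=
  MvPolynomial.mapAlgHom f

variable (n) in
/-- The polynomial algebra over a base change. -/
noncomputable abbrev mvOf (C : Type u) [CommRing C] [Algebra R C] :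
    MvPolynomial n R →ₐ[R] MvPolynomial n C :=
  mvMap (Algebra.ofId R C)

/-- Setting all variables to zero. -/
noncomputable def zeroA (C : Type u) [CommRing C] [Algebra R C] : MvPolynomial n C →ₐ[R] C :=
  mvSub (AlgHom.id R C) 0

/-- `T ↦ X T`. -/
noncomputable def homog (C : Type u) [CommRing C] [Algebra R C] :
    MvPolynomial n C →ₐ[R] Polynomial (MvPolynomial n C) :=
  mvSub ((constA (MvPolynomial n C)).comp (IsScalarTower.toAlgHom R C (MvPolynomial n C)))
    fun i => Polynomial.C (MvPolynomial.X i) * Polynomial.X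

/-- Setting `X = 1`. -/
noncomputable def oneA (C : Type u) [CommRing C] [Algebra R C] : Polynomial C →ₐ[R] C :=
  sub (AlgHom.id R C) 1

variable {G P V : Over (Spec (CommRingCat.of R))} [GrpObj G] {W : Type u} [CommRing W] [Algebra R W]
variable {aP : AlgGrp.Action G P} {a : AlgGrp.Action G V}
  {π : V ⟶ spO R (MvPolynomial n R)}

section

variable {K : Type u} [CommRing K] [Algebra R K] (r r' : K) (A A' B : Type u)
  [CommRing A] [CommRing A'] [CommRing B] [Algebra R A] [Algebra R A'] [Algebra R B] [Algebra K A]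
  [Algebra K A'] [Algebra K B] [IsScalarTower R K A] [IsScalarTower R K A'] [IsScalarTower R K B]
  [IsLocalization.Away r A] [IsLocalization.Away r' A'] [IsLocalization.Away (r * r') B]
  [Algebra A B] [Algebra A' B] [IsScalarTower K A B] [IsScalarTower K A' B]
  [IsScalarTower R A B] [IsScalarTower R A' B]

/-- Two normalised local trivialisations can be changed so as to agree. -/
theorem exists_agree [LocallyOfFinitePresentation G.hom] (hrr : IsCoprime r r')
    (hP : RelPseudo aP (toUnit P)) (s : spO R W ⟶ P)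
    (hW : Groth.L25.Covers.Cov (toUnit (spO R W))) (hV : RelPseudo a π) (φ₀ : P ⟶ V)
    {φA : P ⊗ spO R (MvPolynomial n A) ⟶ V} (hA : IsEq aP a π (pm (mvOf n A)) φA)
    (hA0 : (P ◁ pm (zeroA (R := R) A)) ≫ φA = fst _ _ ≫ φ₀)
    {φA' : P ⊗ spO R (MvPolynomial n A') ⟶ V} (hA' : IsEq aP a π (pm (mvOf n A')) φA')
    (hA'0 : (P ◁ pm (zeroA (R := R) A')) ≫ φA' = fst _ _ ≫ φ₀) :
    ∃ (ψA : P ⊗ spO R (MvPolynomial n A) ⟶ V) (ψA' : P ⊗ spO R (MvPolynomial n A') ⟶ V),
      IsEq aP a π (pm (mvOf n A)) ψA ∧ IsEq aP a π (pm (mvOf n A')) ψA' ∧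
      (P ◁ pm (mvMap (IsScalarTower.toAlgHom R A B))) ≫ ψA =
        (P ◁ pm (mvMap (IsScalarTower.toAlgHom R A' B))) ≫ ψA' := by
  let F := autFun aP s
  let iA : MvPolynomial n A →ₐ[R] MvPolynomial n B := mvMap (IsScalarTower.toAlgHom R A B)
  let iA' : MvPolynomial n A' →ₐ[R] MvPolynomial n B := mvMap (IsScalarTower.toAlgHom R A' B)
  have tA : pm iA ≫ pm (mvOf (R := R) n A) = pm (mvOf (R := R) n B) := by
    rw [pm_comp]; congr 1; exact mv_ext (fun c => by simp [iA]) (fun i => by simp [iA])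
  have tA' : pm iA' ≫ pm (mvOf (R := R) n A') = pm (mvOf (R := R) n B) := by
    rw [pm_comp]; congr 1; exact mv_ext (fun c => by simp [iA']) (fun i => by simp [iA'])
  have hB : IsEq aP a π (pm (mvOf n B)) ((P ◁ pm iA) ≫ φA) := tA ▸ hA.comp (pm iA)
  have hB' : IsEq aP a π (pm (mvOf n B)) ((P ◁ pm iA') ≫ φA') := tA' ▸ hA'.comp (pm iA')
  obtain ⟨d, hd, hdφ⟩ := exists_diff hV s hB hB'
  have hd0 : (pm (zeroA (R := R) B) ▷ spO R W) ≫ d = 1 := by
    have e : ∀ (A₁ : Type u) [CommRing A₁] [Algebra R A₁] [Algebra A₁ B] [IsScalarTower R A₁ B]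
        (φ : P ⊗ spO R (MvPolynomial n A₁) ⟶ V),
        (P ◁ pm (zeroA (R := R) A₁)) ≫ φ = fst _ _ ≫ φ₀ →
        (pm (zeroA (R := R) B) ▷ spO R W) ≫ sPt s (spO R (MvPolynomial n B)) ≫
          (P ◁ pm (mvMap (IsScalarTower.toAlgHom R A₁ B))) ≫ φ = snd _ _ ≫ s ≫ φ₀ := by
      intro A₁ _ _ _ _ φ hφ
      have sq : pm (zeroA (R := R) B) ≫ pm (mvMap (n := n) (IsScalarTower.toAlgHom R A₁ B)) =
          pm (IsScalarTower.toAlgHom R A₁ B) ≫ pm (zeroA (R := R) A₁) := by
        simp only [pm_comp]; congr 1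
        exact mv_ext (fun c => by simp [zeroA]) (fun i => by simp [zeroA])
      have : (pm (zeroA (R := R) B) ▷ spO R W) ≫ sPt s (spO R (MvPolynomial n B)) ≫
          (P ◁ pm (mvMap (IsScalarTower.toAlgHom R A₁ B))) =
          lift (snd _ _ ≫ s) (fst _ _ ≫ pm (IsScalarTower.toAlgHom R A₁ B)) ≫
            (P ◁ pm (zeroA (R := R) A₁)) := by
        refine CartesianMonoidalCategory.hom_ext _ _ ?_ ?_ <;> simp [sPt, sq]
      rw [← Category.assoc (sPt s _), ← Category.assoc (pm (zeroA (R := R) B) ▷ spO R W), this,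
        Category.assoc, hφ, lift_fst_assoc, Category.assoc]
    have e1 := congrArg ((pm (zeroA (R := R) B) ▷ spO R W) ≫ ·) hdφ
    rw [comp_sm, e A φA hA0, e A' φA' hA'0] at e1
    exact hV.cancel (e1.trans (sm_one a _).symm)
  letI : Algebra (MvPolynomial n K) (MvPolynomial n A) := MvPolynomial.algebraMvPolynomial
  letI : Algebra (MvPolynomial n K) (MvPolynomial n A') := MvPolynomial.algebraMvPolynomial
  letI : Algebra (MvPolynomial n K) (MvPolynomial n B) := MvPolynomial.algebraMvPolynomial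
  letI : Algebra (MvPolynomial n A) (MvPolynomial n B) := MvPolynomial.algebraMvPolynomial
  letI : Algebra (MvPolynomial n A') (MvPolynomial n B) := MvPolynomial.algebraMvPolynomial
  haveI hl : IsLocalization.Away (MvPolynomial.C r : MvPolynomial n K) (MvPolynomial n A) := by
    have h := MvPolynomial.isLocalization (σ := n) (Submonoid.powers r) A
    rw [Submonoid.map_powers] at h
    exact h
  haveI hl' : IsLocalization.Away (MvPolynomial.C r' : MvPolynomial n K) (MvPolynomial n A') := by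
    have h := MvPolynomial.isLocalization (σ := n) (Submonoid.powers r') A'
    rw [Submonoid.map_powers] at h
    exact h
  haveI : IsLocalization.Away (MvPolynomial.C r' * MvPolynomial.C r : MvPolynomial n K)
      (MvPolynomial n B) := by
    have h := MvPolynomial.isLocalization (σ := n) (Submonoid.powers (r * r')) B
    rw [Submonoid.map_powers, map_mul, mul_comm] at h
    exact h
  have tower : ∀ (C₁ D₁ : Type u) [CommRing C₁] [CommRing D₁] [Algebra R C₁] [Algebra R D₁]
      [Algebra C₁ D₁] [IsScalarTower R C₁ D₁],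
      @IsScalarTower R (MvPolynomial n C₁) (MvPolynomial n D₁) _
        MvPolynomial.algebraMvPolynomial.toSMul _ := by
    intro C₁ D₁ _ _ _ _ _ _
    letI : Algebra (MvPolynomial n C₁) (MvPolynomial n D₁) := MvPolynomial.algebraMvPolynomial
    exact .of_algebraMap_eq fun x => by
      show MvPolynomial.C (algebraMap R D₁ x) =
        MvPolynomial.map (algebraMap C₁ D₁) (MvPolynomial.C (algebraMap R C₁ x))
      rw [MvPolynomial.map_C, ← IsScalarTower.algebraMap_apply]
  haveI := tower K A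
  haveI := tower K A'
  haveI := tower K B
  haveI := tower A B
  haveI := tower A' B
  haveI : IsScalarTower (MvPolynomial n K) (MvPolynomial n A) (MvPolynomial n B) :=
    .of_algebraMap_eq fun x => by
      show MvPolynomial.map (algebraMap K B) x =
        MvPolynomial.map (algebraMap A B) (MvPolynomial.map (algebraMap K A) x)
      rw [MvPolynomial.map_map, ← IsScalarTower.algebraMap_eq]
  haveI : IsScalarTower (MvPolynomial n K) (MvPolynomial n A') (MvPolynomial n B) :=
    .of_algebraMap_eq fun x => by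
      show MvPolynomial.map (algebraMap K B) x =
        MvPolynomial.map (algebraMap A' B) (MvPolynomial.map (algebraMap K A') x)
      rw [MvPolynomial.map_map, ← IsScalarTower.algebraMap_eq]
  have hcop : IsCoprime (MvPolynomial.C r' : MvPolynomial n K) (MvPolynomial.C r) :=
    hrr.symm.map MvPolynomial.C
  let dB : F.obj (MvPolynomial n B) := ⟨d, hd⟩
  have hv0 : F.map (evalA (R := R) (MvPolynomial n B)) (F.map (homog B) dB) = 1 := by
    have : (evalA (R := R) (MvPolynomial n B)).comp (homog B) =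
        (IsScalarTower.toAlgHom R B (MvPolynomial n B)).comp (zeroA B) :=
      mv_ext (fun c => by simp [homog, zeroA]) (fun i => by simp [homog, zeroA])
    rw [← F.map_comp, this, F.map_comp, show F.map (zeroA B) dB = 1 from Subtype.ext hd0, F.map_one]
  obtain ⟨g₁, g₂, -, -, hg⟩ := exists_factor F (hasLift_autFun aP hP s) (MvPolynomial.C r')
    (MvPolynomial.C r) hcop (MvPolynomial n A') (MvPolynomial n A) (MvPolynomial n B)
    (F.map (homog B) dB) hv0
  let e' := F.map (oneA (MvPolynomial n A')) g₁⁻¹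
  let e := F.map (oneA (MvPolynomial n A)) g₂
  have hsq : ∀ (C₁ : Type u) [CommRing C₁] [Algebra R C₁] [Algebra C₁ B] [IsScalarTower R C₁ B],
      letI : Algebra (MvPolynomial n C₁) (MvPolynomial n B) := MvPolynomial.algebraMvPolynomial
      haveI : IsScalarTower R (MvPolynomial n C₁) (MvPolynomial n B) := tower C₁ B
      (oneA (MvPolynomial n B)).comp (mapA (R := R) (C := MvPolynomial n C₁) (D := MvPolynomial n B))
        = (mvMap (IsScalarTower.toAlgHom R C₁ B)).comp (oneA (R := R) (MvPolynomial n C₁)) := by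
    intro C₁ _ _ _ _
    refine alg_ext (fun c => ?_) (by simp [oneA, mapA])
    simp [oneA, mapA]
  have hB1 : (oneA (R := R) (MvPolynomial n B)).comp (homog B) = AlgHom.id R _ :=
    mv_ext (fun c => by simp [oneA, homog]) (fun i => by simp [oneA, homog])
  have hkey : dB = (F.map iA' e')⁻¹ * F.map iA e := by
    have := congrArg (F.map (oneA (MvPolynomial n B))) hg
    rw [F.map_mul, ← F.map_comp, ← F.map_comp, ← F.map_comp, hB1, F.map_id, hsq A', hsq A,
      F.map_comp, F.map_comp] at this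
    simpa [e, e', iA, iA', F.map_inv] using this
  obtain ⟨ψA, hψA, eA⟩ := exists_twist hP hV s hW hA e.2
  obtain ⟨ψA', hψA', eA'⟩ := exists_twist hP hV s hW hA' e'.2
  refine ⟨ψA, ψA', hψA, hψA', ?_⟩
  have h1 : IsEq aP a π (pm (mvOf n B)) ((P ◁ pm iA) ≫ ψA) := tA ▸ hψA.comp (pm iA)
  have h2 : IsEq aP a π (pm (mvOf n B)) ((P ◁ pm iA') ≫ ψA') := tA' ▸ hψA'.comp (pm iA')
  refine h1.ext hP s hW h2 ?_
  have mv : ∀ (C₁ : Type u) [CommRing C₁] [Algebra R C₁]
      (i : MvPolynomial n C₁ →ₐ[R] MvPolynomial n B) (φ ψ : P ⊗ spO R (MvPolynomial n C₁) ⟶ V)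
      (d₁ : F.obj (MvPolynomial n C₁)), sm a d₁.1 (sPt s _ ≫ φ) = sPt s _ ≫ ψ →
      sPt s _ ≫ (P ◁ pm i) ≫ ψ = sm a (F.map i d₁).1 (sPt s _ ≫ (P ◁ pm i) ≫ φ) := by
    intro C₁ _ _ i φ ψ d₁ h
    have sw : sPt s (spO R (MvPolynomial n B)) ≫ (P ◁ pm i) =
        (pm i ▷ spO R W) ≫ sPt s (spO R (MvPolynomial n C₁)) := by
      simp [sPt]
    rw [← Category.assoc, sw, Category.assoc, ← h, comp_sm, ← Category.assoc (sPt s _) (P ◁ pm i),
      sw, Category.assoc, autFun_map]
  rw [mv A iA φA ψA e eA, mv A' iA' φA' ψA' e' eA', ← hdφ, ← sm_mul]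
  congr 2
  show (F.map iA e).1 = (F.map iA' e').1 * dB.1
  rw [hkey]
  exact (congrArg Subtype.val (mul_inv_cancel_left (F.map iA' e') (F.map iA e))).symm

end

/-- Gluing along two open immersions which cover. -/
theorem glue_two {X Y U₁ U₂ : Scheme.{u}} (i₁ : U₁ ⟶ X) (i₂ : U₂ ⟶ X) [IsOpenImmersion i₁]
    [IsOpenImmersion i₂] (hc : ∀ x, x ∈ Set.range i₁ ∨ x ∈ Set.range i₂) (f₁ : U₁ ⟶ Y)
    (f₂ : U₂ ⟶ Y)
    (h : ∀ {Z : Scheme.{u}} (v : Z ⟶ U₁) (w : Z ⟶ U₂), v ≫ i₁ = w ≫ i₂ → v ≫ f₁ = w ≫ f₂) :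
    ∃! f : X ⟶ Y, i₁ ≫ f = f₁ ∧ i₂ ≫ f = f₂ := by
  let 𝒰 : X.OpenCover :=
    { I₀ := ULift.{u} Bool
      X := fun b => cond b.down U₁ U₂
      f := fun b => match b with
        | ⟨true⟩ => i₁
        | ⟨false⟩ => i₂
      mem₀ := (Scheme.ofArrows_mem_precoverage_iff _).mpr
        ⟨fun x => (hc x).elim (fun h => ⟨⟨true⟩, h⟩) (fun h => ⟨⟨false⟩, h⟩),
          fun b => match b with
            | ⟨true⟩ => (inferInstance : IsOpenImmersion i₁)
            | ⟨false⟩ => (inferInstance : IsOpenImmersion i₂)⟩ }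
  let F : ∀ b : 𝒰.I₀, 𝒰.X b ⟶ Y := fun b => match b with
    | ⟨true⟩ => f₁
    | ⟨false⟩ => f₂
  have hF : ∀ b b' : 𝒰.I₀,
      pullback.fst (𝒰.f b) (𝒰.f b') ≫ F b = pullback.snd (𝒰.f b) (𝒰.f b') ≫ F b' := by
    rintro ⟨_ | _⟩ ⟨_ | _⟩
    · have : pullback.fst (𝒰.f ⟨false⟩) (𝒰.f ⟨false⟩) = pullback.snd (𝒰.f ⟨false⟩) (𝒰.f ⟨false⟩) :=
        (cancel_mono i₂).mp pullback.condition
      rw [this]
    · exact (h (pullback.snd _ _) (pullback.fst _ _) pullback.condition.symm).symm
    · exact h (pullback.fst _ _) (pullback.snd _ _) pullback.condition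
    · have : pullback.fst (𝒰.f ⟨true⟩) (𝒰.f ⟨true⟩) = pullback.snd (𝒰.f ⟨true⟩) (𝒰.f ⟨true⟩) :=
        (cancel_mono i₁).mp pullback.condition
      rw [this]
  refine ⟨𝒰.glueMorphisms F hF,
    ⟨𝒰.ι_glueMorphisms F hF ⟨true⟩, 𝒰.ι_glueMorphisms F hF ⟨false⟩⟩, ?_⟩
  rintro f ⟨e₁, e₂⟩
  refine Scheme.Cover.hom_ext 𝒰 _ _ ?_
  rintro ⟨_ | _⟩
  · exact e₂.trans (𝒰.ι_glueMorphisms F hF ⟨false⟩).symm
  · exact e₁.trans (𝒰.ι_glueMorphisms F hF ⟨true⟩).symm

end Groth.L09.Quillen
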