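import Mathlib.AlgebraicTopology.SimplicialSet.CategoryWithFibrations
import Mathlib.AlgebraicTopology.SimplicialSet.Boundary

/-! Element-wise criterion for trivial Kan fibrations. -/

set_option autoImplicit false
universe u

open CategoryTheory Simplicial Opposite SSet

namespace Groth.L09.BdryLift

lemma yd {W : SSet.{u}} {m : ℕ} (j : Fin (m + 2)) (φ : Δ[m + 1] ⟶ W) :
    SSet.yonedaEquiv (stdSimplex.δ j ≫ φ) = W.δ j (SSet.yonedaEquiv φ) := by
  obtain ⟨w, rfl⟩ := SSet.yonedaEquiv.symm.surjective φ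
  exact (SSet.yonedaEquiv_comp _ _).trans ((congrArg ((SSet.yonedaEquiv.symm w).app _) (SSet.yonedaEquiv_map _)).trans
    (by simp; rfl))

/-- compatibility of a family of faces. -/
def Compat (X : SSet.{u}) : ∀ n : ℕ, (Fin (n + 2) → X _⦋n⦌) → Prop
  | 0, _ => True
  | m + 1, z => ∀ i j : Fin (m + 2), i ≤ j → X.δ i (z j.succ) = X.δ j (z i.castSucc)

theorem rlp_I {S T : SSet.{u}} (p : S ⟶ T) (h₀ : Function.Surjective (p.app (op ⦋0⦌)))
    (h : ∀ (n : ℕ) (y : T _⦋n + 1⦌) (z : Fin (n + 2) → S _⦋n⦌), (∀ j, p.app _ (z j) = T.δ j y) →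
      Compat S n z → ∃ x : S _⦋n + 1⦌, p.app _ x = y ∧ ∀ j, S.δ j x = z j) :
    modelCategoryQuillen.I.rlp p := by
  rintro _ _ _ ⟨n⟩
  refine ⟨fun {t b} sq => ?_⟩
  cases n with
  | zero =>
    obtain ⟨x, hx⟩ := h₀ (SSet.yonedaEquiv b)
    refine CommSq.HasLift.mk' ⟨SSet.yonedaEquiv.symm x, boundary.hom_ext₀, ?_⟩
    apply SSet.yonedaEquiv.injective
    rw [SSet.yonedaEquiv_comp, Equiv.apply_symm_apply]
    exact hx
  | succ n =>
    let z : Fin (n + 2) → S _⦋n⦌ := fun j => SSet.yonedaEquiv (boundary.ι j ≫ t)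
    have hz : ∀ j, p.app _ (z j) = T.δ j (SSet.yonedaEquiv b) := fun j => by
      rw [← yd, ← SSet.yonedaEquiv_comp, Category.assoc, sq.w, boundary.ι_ι_assoc]
    have hc : Compat S n z := by
      cases n with
      | zero => trivial
      | succ m =>
        intro i j hij
        have e : stdSimplex.{u}.δ i ≫ boundary.ι j.succ = stdSimplex.{u}.δ j ≫ boundary.ι i.castSucc := by
          rw [← cancel_mono (boundary.{u} (m + 2)).ι, Category.assoc, Category.assoc, boundary.ι_ι, boundary.ι_ι]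
          exact stdSimplex.{u}.δ_comp_δ hij
        simp only [z]
        rw [← yd, ← yd, reassoc_of% e]
    obtain ⟨x, hx, hxz⟩ := h n _ z hz hc
    refine CommSq.HasLift.mk' ⟨SSet.yonedaEquiv.symm x, boundary.hom_ext fun j => ?_, ?_⟩
    · rw [boundary.ι_ι_assoc]
      apply SSet.yonedaEquiv.injective
      rw [yd, Equiv.apply_symm_apply]
      exact hxz j
    · apply SSet.yonedaEquiv.injective
      rw [SSet.yonedaEquiv_comp, Equiv.apply_symm_apply]
      exact hx

end Groth.L09.BdryLift
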