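import Groth.Agent.L09.SimpAbHom
import Groth.Agent.L09.BdryLift

/-! Surjective quasi-isomorphisms of simplicial abelian groups are trivial Kan fibrations. -/

set_option autoImplicit false
universe u

open CategoryTheory Opposite Simplicial AlgebraicTopology AlgebraicTopology.DoldKan

namespace Groth.L09.AbTrivKan

open Groth.L09.SimpAbHom

variable {X Y : SimplicialObject AddCommGrpCat.{u}} (f : X ⟶ Y)
  (hf : ∀ n : SimplexCategoryᵒᵖ, Function.Surjective (f.app n))

lemma δδ {Z : SimplicialObject AddCommGrpCat.{u}} {n : ℕ} {i j : Fin (n + 2)} (h : i ≤ j)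
    (x : (Z _⦋n + 2⦌ : AddCommGrpCat.{u})) : Z.δ i (Z.δ j.succ x) = Z.δ j (Z.δ i.castSucc x) :=
  ConcreteCategory.congr_hom (Z.δ_comp_δ h) x

include hf in
/-- acyclicity of the kernel. -/
lemma kernel_acyclic [QuasiIso ((alternatingFaceMapComplex AddCommGrpCat.{u}).map f)] (n : ℕ)
    (r : (X _⦋n⦌ : AddCommGrpCat.{u})) (hr : Cyc X n r) (hfr : f.app _ r = 0) :
    ∃ u, f.app _ u = 0 ∧ Norm X (n + 1) u ∧ X.δ 0 u = r := by
  obtain ⟨u, hu, hu'⟩ := (elements_of_quasiIso f n).1 r hr
    ⟨0, fun i => map_zero _, by rw [map_zero, hfr]⟩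
  have hfu : Cyc Y (n + 1) (f.app _ u) := by
    intro i
    rw [← natδ]
    induction i using Fin.cases with
    | zero => rw [hu', hfr]
    | succ i => rw [hu i, map_zero]
  obtain ⟨x, hx, v, hv, hv'⟩ := (elements_of_quasiIso f (n + 1)).2 _ hfu
  obtain ⟨v₀, rfl⟩ := hf _ v
  let v₁ := (PInfty : AlternatingFaceMapComplex.obj X ⟶ _).f (n + 2) v₀
  have hv₁ : Norm X (n + 2) v₁ := norm_PInfty _ _
  have hfv : f.app _ v₁ = f.app _ v₀ :=
    ((ConcreteCategory.congr_hom (PInfty_f_naturality (n + 2) f) v₀).symm).trans (PInfty_of_norm hv)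
  refine ⟨u - x + X.δ 0 v₁, ?_, fun i => ?_, ?_⟩
  · rw [map_add, map_sub, natδ, hfv, hv']
    abel
  · rw [map_add, map_sub, hu i, hx i.succ, sub_zero, zero_add]
    have h := δδ (Z := X) (i := (0 : Fin (n + 2))) (j := i.succ) (Fin.zero_le _) v₁
    rw [Fin.castSucc_zero, hv₁ i.succ, map_zero] at h
    exact h.symm
  · rw [map_add, map_sub, hu', hx 0, sub_zero]
    have h := δδ (Z := X) (i := (0 : Fin (n + 2))) (j := 0) le_rfl v₁
    rw [Fin.castSucc_zero, hv₁ 0, map_zero] at h
    exact (congrArg (r + ·) h.symm).trans (add_zero r)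

/-- compatibility of a family of faces. -/
def CompatA (X : SimplicialObject AddCommGrpCat.{u}) : ∀ n : ℕ, (Fin (n + 2) → (X _⦋n⦌ : AddCommGrpCat.{u})) → Prop
  | 0, _ => True
  | m + 1, e => ∀ i j : Fin (m + 2), i ≤ j → X.δ i (e j.succ) = X.δ j (e i.castSucc)

/-- filling the faces of positive index inside the kernel. -/
lemma fill (n : ℕ) (e : Fin (n + 2) → (X _⦋n⦌ : AddCommGrpCat.{u})) (he : ∀ j, f.app _ (e j) = 0)
    (hc : CompatA X n e) :
    ∃ w, f.app _ w = 0 ∧ ∀ i : Fin (n + 1), X.δ i.succ w = e i.succ := by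
  suffices H : ∀ t : ℕ, t ≤ n + 1 → ∃ w, f.app _ w = 0 ∧
      ∀ i : Fin (n + 1), n + 1 ≤ i.val + t → X.δ i.succ w = e i.succ by
    obtain ⟨w, hw, hw'⟩ := H (n + 1) le_rfl
    exact ⟨w, hw, fun i => hw' i (by omega)⟩
  intro t
  induction t with
  | zero => exact fun _ => ⟨0, map_zero _, fun i h => by have := i.isLt; omega⟩
  | succ t ih =>
    intro ht
    obtain ⟨w, hw, hwe⟩ := ih (by omega)
    obtain ⟨a, hav⟩ : ∃ a : Fin (n + 1), a.val = n - t := ⟨⟨n - t, by omega⟩, rfl⟩
    let q := e a.succ - X.δ a.succ w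
    have hq : f.app _ q = 0 := by
      simp only [q, map_sub, natδ, hw, he, map_zero, sub_zero]
    refine ⟨w + X.σ a q, ?_, fun i hi => ?_⟩
    · rw [map_add, hw, zero_add]
      exact (ConcreteCategory.congr_hom (f.naturality _) q).trans ((congrArg (Y.σ a) hq).trans (map_zero (Y.σ a).hom))
    · rw [map_add]
      by_cases hia : i = a
      · rw [hia]
        have : X.δ a.succ (X.σ a q) = q := ConcreteCategory.congr_hom (X.δ_comp_σ_succ (i := a)) q
        rw [this, add_sub_cancel]
      · have hgt : a < i := by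
          simp only [Fin.ext_iff] at hia
          simp only [Fin.lt_def]; omega
        rw [hwe i (by simp only [Fin.lt_def] at hgt; omega)]
        suffices X.δ i.succ (X.σ a q) = 0 by rw [this, add_zero]
        cases n with
        | zero =>
          exfalso
          have := i.isLt
          simp only [Fin.lt_def] at hgt
          omega
        | succ m =>
          obtain ⟨a', rfl⟩ := a.eq_castSucc_of_ne_last (fun h => by
            rw [h, Fin.lt_def, Fin.val_last] at hgt
            have := i.isLt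
            omega)
          have h1 : X.δ i.succ (X.σ a'.castSucc q) = X.σ a' (X.δ i q) :=
            ConcreteCategory.congr_hom (X.δ_comp_σ_of_gt (i := i) (j := a') hgt) q
          have hle : a'.succ ≤ i := by
            simp only [Fin.lt_def, Fin.le_def, Fin.val_castSucc, Fin.val_succ] at hgt ⊢
            omega
          have hI : a'.castSucc.succ = a'.succ.castSucc := Fin.succ_castSucc a'
          have h2 := hc a'.succ i hle
          have h3 := δδ (Z := X) hle w
          rw [hwe i (by simp only [Fin.lt_def] at hgt; omega), h2] at h3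
          rw [h1]
          have : X.δ i q = 0 := by
            simp only [q, map_sub, hI]
            rw [← h3, sub_self]
          rw [this, map_zero]

include hf in
theorem rlp [QuasiIso ((alternatingFaceMapComplex AddCommGrpCat.{u}).map f)] :
    SSet.modelCategoryQuillen.I.rlp (X := X ⋙ forget AddCommGrpCat.{u}) (Y := Y ⋙ forget AddCommGrpCat.{u})
      (Functor.whiskerRight f (forget AddCommGrpCat.{u})) := by
  refine Groth.L09.BdryLift.rlp_I _ (hf _) fun n y z hz hc => ?_
  let y' : (Y _⦋n + 1⦌ : AddCommGrpCat.{u}) := y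
  let z' : Fin (n + 2) → (X _⦋n⦌ : AddCommGrpCat.{u}) := z
  obtain ⟨x₀, hx₀⟩ := hf _ y'
  let e : Fin (n + 2) → (X _⦋n⦌ : AddCommGrpCat.{u}) := fun j => z' j - X.δ j x₀
  have he : ∀ j, f.app _ (e j) = 0 := fun j => by
    simp only [e, map_sub, natδ, hx₀]
    exact sub_eq_zero.2 (hz j)
  have hc' : CompatA X n e := by
    cases n with
    | zero => trivial
    | succ m =>
      intro i j hij
      simp only [e, map_sub, δδ hij]
      exact congrArg (· - _) (hc i j hij)
  obtain ⟨w, hw, hwe⟩ := fill f n e he hc'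
  let r := e 0 - X.δ 0 w
  have hr : Cyc X n r := by
    cases n with
    | zero => trivial
    | succ m =>
      intro i
      have h1 := hc' 0 i (Fin.zero_le _)
      have h2 := δδ (Z := X) (Fin.zero_le i) w
      rw [hwe i] at h2
      rw [Fin.castSucc_zero] at h1 h2
      simp only [r, map_sub]
      rw [← h2, ← h1, sub_self]
  have hfr : f.app _ r = 0 := by
    simp only [r, map_sub, natδ, hw, he, map_zero, sub_zero]
  obtain ⟨v, hv, hv', hv''⟩ := kernel_acyclic f hf n r hr hfr
  refine ⟨(x₀ + w + v : (X _⦋n + 1⦌ : AddCommGrpCat.{u})), ?_, fun j => ?_⟩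
  · show f.app _ (x₀ + w + v) = y'
    rw [map_add, map_add, hx₀, hw, hv, add_zero, add_zero]
  · show X.δ j (x₀ + w + v) = z' j
    rw [map_add, map_add]
    induction j using Fin.cases with
    | zero => rw [hv'']; simp only [r, e]; abel
    | succ i => rw [hwe i, hv' i]; simp only [e]; abel

end Groth.L09.AbTrivKan
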