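import Mathlib.LinearAlgebra.TensorProduct.Basis
import Mathlib.LinearAlgebra.TensorProduct.Finiteness
import Mathlib.RingTheory.TensorProduct.Free
import Mathlib.RingTheory.Finiteness.Basic
import Mathlib.RingTheory.IntegralClosure.IsIntegralClosure.Basic
import Mathlib.FieldTheory.IsAlgClosed.AlgebraicClosure
import Mathlib.FieldTheory.IntermediateField.Adjoin.Basic
import Mathlib.LinearAlgebra.Dual.Lemmas
import Mathlib.RingTheory.Flat.Basic

/-!
Base change of modules over an associative algebra along field extensions: homomorphisms,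
absolute irreducibility, endomorphisms.
-/

set_option autoImplicit false

open scoped TensorProduct

namespace Groth.L09.AbsIrred

section hom

variable {K : Type*} [Field K] {D : Type*} [Ring D] [Algebra K D]
  {E : Type*} [AddCommGroup E] [Module K E] [Module D E] [IsScalarTower K D E]
  {F : Type*} [AddCommGroup F] [Module K F] [Module D F] [IsScalarTower K D F]
  (P : Type*) [CommRing P] [Algebra K P]
  (Φ : P ⊗[K] (E →ₗ[D] F) →ₗ[P] (P ⊗[K] E →ₗ[P] P ⊗[K] F))
  (hΦ : ∀ (p : P) (f : E →ₗ[D] F), Φ (p ⊗ₜ[K] f) = p • (f.restrictScalars K).baseChange P)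

include hΦ

theorem hom_baseChange [Module.Finite D E] :
    Function.Injective Φ ∧
      ∀ g : P ⊗[K] E →ₗ[P] P ⊗[K] F,
        g ∈ LinearMap.range Φ ↔
          ∀ d : D, g ∘ₗ (DistribSMul.toLinearMap K E d).baseChange P =
            (DistribSMul.toLinearMap K F d).baseChange P ∘ₗ g := by
  classical
  let b := Module.Free.chooseBasis K P
  let eF := TensorProduct.equivFinsuppOfBasisLeft (N := F) b
  let eH := TensorProduct.equivFinsuppOfBasisLeft (N := E →ₗ[D] F) b
  have hcoord : ∀ z x i, eF (Φ z (1 ⊗ₜ x)) i = (eH z i) x := fun z x i => by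
    induction z using TensorProduct.induction_on with
    | zero => simp
    | tmul p f => simp [eF, eH, hΦ, TensorProduct.smul_tmul']
    | add z w hz hw => simp [hz, hw]
  have hext : ∀ g g' : P ⊗[K] E →ₗ[P] P ⊗[K] F, (∀ x, g (1 ⊗ₜ x) = g' (1 ⊗ₜ x)) → g = g' := fun g g' h =>
    TensorProduct.AlgebraTensorModule.ext fun p x => by
      have hp : p ⊗ₜ[K] x = p • ((1 : P) ⊗ₜ[K] x) := by rw [TensorProduct.smul_tmul', smul_eq_mul, mul_one]
      rw [hp, map_smul, map_smul, h]
  refine ⟨(injective_iff_map_eq_zero Φ).2 fun z hz => ?_, fun g => ⟨?_, fun hg => ?_⟩⟩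
  · refine eH.injective (Finsupp.ext fun i => LinearMap.ext fun x => ?_)
    rw [← hcoord, hz]
    simp
  · rintro ⟨z, rfl⟩ d
    induction z using TensorProduct.induction_on with
    | zero => simp
    | tmul p f =>
      refine hext _ _ fun x => ?_
      simp [hΦ, TensorProduct.smul_tmul']
    | add z w hz hw => simp [LinearMap.add_comp, LinearMap.comp_add, hz, hw]
  have hnat : ∀ (d : D) (y : P ⊗[K] F) i,
      eF ((DistribSMul.toLinearMap K F d).baseChange P y) i = d • eF y i := fun d y i => by
    induction y using TensorProduct.induction_on with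
    | zero => simp
    | tmul p f => simp [eF, smul_comm d]
    | add z w hz hw => simp [hz, hw, smul_add]
  let c : P ⊗[K] F →ₗ[K] _ := eF.toLinearMap
  let gi : Module.Free.ChooseBasisIndex K P → (E →ₗ[D] F) := fun i =>
    { toFun := fun x => eF (g (1 ⊗ₜ x)) i
      map_add' := fun x y => by simp [TensorProduct.tmul_add]
      map_smul' := fun d x => by
        rw [RingHom.id_apply, ← hnat]
        refine congrArg (fun y => eF y i) ?_
        have := LinearMap.congr_fun (hg d) (1 ⊗ₜ[K] x)
        simpa using this }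
  obtain ⟨s, hs⟩ := (Module.Finite.fg_top (R := D) (M := E))
  have hfin : (Function.support gi).Finite := by
    refine Set.Finite.subset (Set.Finite.biUnion s.finite_toSet fun x _ => (eF (g (1 ⊗ₜ x))).support.finite_toSet) ?_
    intro i hi
    by_contra hni
    simp only [Set.mem_iUnion, Finset.mem_coe, Finsupp.mem_support_iff, not_exists, not_not] at hni
    exact hi (LinearMap.ext_on hs fun x hx => hni x hx)
  refine ⟨eH.symm (Finsupp.ofSupportFinite gi hfin), hext _ _ fun x => eF.injective (Finsupp.ext fun i => ?_)⟩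
  rw [hcoord, LinearEquiv.apply_symm_apply]
  rfl

end hom

variable {K : Type*} [Field K] {D : Type*} [Ring D] [Algebra K D]
  {E : Type*} [AddCommGroup E] [Module K E] [Module D E] [IsScalarTower K D E]

/-- irreducibility of the base change to `L`. -/
def Irred (K : Type*) [Field K] (D : Type*) [Ring D] [Algebra K D]
    (E : Type*) [AddCommGroup E] [Module K E] [Module D E] [IsScalarTower K D E]
    (L : Type*) [Field L] [Algebra K L] : Prop :=
  Nontrivial (L ⊗[K] E) ∧ ∀ N : Submodule L (L ⊗[K] E),
    (∀ (d : D) (x : L ⊗[K] E), x ∈ N → (DistribSMul.toLinearMap K E d).baseChange L x ∈ N) → N = ⊥ ∨ N = ⊤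

theorem endomorphism_scalar [Module.Finite K (E →ₗ[D] E)] {A : Type*} [Field A] [Algebra K A] [IsAlgClosed A]
    (habs : Irred K D E A) (φ : E →ₗ[D] E) : ∃ c : K, ∀ x : E, φ x = c • x := by
  classical
  obtain ⟨hnt, hirr⟩ := habs
  let φK : Module.End K E := φ.restrictScalars K
  obtain ⟨p, hpm, hp⟩ : IsIntegral K (φ : Module.End D E) := by
    haveI : Module.Finite K (Module.End D E) := inferInstanceAs (Module.Finite K (E →ₗ[D] E))
    exact IsIntegral.of_finite K _
  let res : Module.End D E →ₐ[K] Module.End K E :=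
    AlgHom.ofLinearMap { toFun := fun f => f.restrictScalars K, map_add' := fun _ _ => rfl, map_smul' := fun _ _ => rfl }
      rfl (fun _ _ => rfl)
  have hpK : Polynomial.aeval φK p = 0 := by
    have : φK = res φ := rfl
    rw [this, Polynomial.aeval_algHom_apply]
    rw [← Polynomial.aeval_def] at hp
    rw [hp, map_zero]
  let φA : Module.End A (A ⊗[K] E) := φK.baseChange A
  have hpA : Polynomial.aeval φA (p.map (algebraMap K A)) = 0 := by
    rw [Polynomial.aeval_map_algebraMap]
    have : φA = Module.End.baseChangeHom K A E φK := rfl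
    rw [this, Polynomial.aeval_algHom_apply, hpK, map_zero]
  have hsplit := Polynomial.Splits.eq_prod_roots_of_monic (IsAlgClosed.splits (p.map (algebraMap K A))) (hpm.map _)
  obtain ⟨a, ha⟩ : ∃ a : A, ¬ Function.Injective (φA - algebraMap A (Module.End A (A ⊗[K] E)) a) := by
    by_contra h
    simp only [not_exists, not_not] at h
    have hall : ∀ m : Multiset A, Function.Injective
        (Polynomial.aeval φA ((m.map fun a => Polynomial.X - Polynomial.C a).prod)) := fun m => by
      induction m using Multiset.induction_on with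
      | empty =>
        rw [Multiset.map_zero, Multiset.prod_zero, map_one]
        exact Function.injective_id
      | cons a m ih =>
        rw [Multiset.map_cons, Multiset.prod_cons, map_mul, map_sub, Polynomial.aeval_X, Polynomial.aeval_C]
        exact (h a).comp ih
    have := hall (p.map (algebraMap K A)).roots
    rw [← hsplit, hpA] at this
    obtain ⟨y, hy⟩ := exists_ne (0 : A ⊗[K] E)
    exact hy (this (by simp))
  let N := LinearMap.ker (φA - algebraMap A (Module.End A (A ⊗[K] E)) a)
  have hφA : ∀ (d : D) z, φA ((DistribSMul.toLinearMap K E d).baseChange A z) =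
      (DistribSMul.toLinearMap K E d).baseChange A (φA z) := fun d z => by
    induction z using TensorProduct.induction_on with
    | zero => simp
    | tmul q x => simp [φA, φK]
    | add z w hz hw => simp [hz, hw]
  have hN : N = ⊤ := (hirr N fun d z hz => by
    simp only [N, LinearMap.mem_ker, LinearMap.sub_apply, Module.algebraMap_end_apply, sub_eq_zero] at hz ⊢
    rw [hφA, hz, map_smul]).resolve_left (fun h => ha (LinearMap.ker_eq_bot.1 h))
  have hev : ∀ x : E, (1 : A) ⊗ₜ[K] φ x = a ⊗ₜ[K] x := fun x => by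
    have : (1 : A) ⊗ₜ[K] x ∈ N := hN ▸ Submodule.mem_top
    simpa [N, φA, φK, sub_eq_zero, TensorProduct.smul_tmul'] using this
  obtain ⟨x₀, hx₀⟩ : ∃ x : E, x ≠ 0 := by
    by_contra h
    simp only [not_exists, not_not] at h
    haveI : Subsingleton E := ⟨fun x y => (h x).trans (h y).symm⟩
    obtain ⟨y, hy⟩ := exists_ne (0 : A ⊗[K] E)
    exact hy (Subsingleton.elim _ _)
  obtain ⟨l, hl⟩ := Module.Projective.exists_dual_ne_zero K hx₀
  let pair : A ⊗[K] E →ₗ[K] A := (TensorProduct.rid K A).toLinearMap ∘ₗ LinearMap.lTensor A l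
  have hc : algebraMap K A (l (φ x₀)) = algebraMap K A (l x₀) * a := by
    have := congrArg pair (hev x₀)
    simpa [pair, Algebra.smul_def] using this
  refine ⟨(l x₀)⁻¹ * l (φ x₀), fun x => ?_⟩
  have hca : algebraMap K A ((l x₀)⁻¹ * l (φ x₀)) = a := by
    rw [map_mul, hc, ← mul_assoc, ← map_mul, inv_mul_cancel₀ hl, map_one, one_mul]
  have hinj : Function.Injective fun z : E => (1 : A) ⊗ₜ[K] z := by
    intro z z' h
    have h2 : (Algebra.linearMap K A).rTensor E ((1 : K) ⊗ₜ z) = (Algebra.linearMap K A).rTensor E ((1 : K) ⊗ₜ z') := by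
      simpa using h
    have := congrArg (TensorProduct.lid K E)
      (Module.Flat.rTensor_preserves_injective_linearMap _ (algebraMap K A).injective h2)
    simpa using this
  refine hinj ?_
  show (1 : A) ⊗ₜ[K] φ x = (1 : A) ⊗ₜ[K] (((l x₀)⁻¹ * l (φ x₀)) • x)
  rw [hev, ← TensorProduct.smul_tmul, Algebra.smul_def, hca, mul_one]

theorem irred_of_le {L A : Type*} [Field L] [Field A] [Algebra K L] [Algebra K A] [Algebra L A]
    [IsScalarTower K L A] (h : Irred K D E A) : Irred K D E L := by
  obtain ⟨hnt, hirr⟩ := h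
  let j : L ⊗[K] E →ₗ[L] A ⊗[K] E :=
    TensorProduct.AlgebraTensorModule.map (Algebra.linearMap L A) LinearMap.id
  have hj : Function.Injective j := by
    have : Function.Injective (((Algebra.linearMap L A).restrictScalars K).rTensor E) :=
      Module.Flat.rTensor_preserves_injective_linearMap _ (algebraMap L A).injective
    exact this
  refine ⟨?_, fun N hN => ?_⟩
  · by_contra hL
    rw [not_nontrivial_iff_subsingleton] at hL
    obtain ⟨y, hy⟩ := exists_ne (0 : A ⊗[K] E)
    apply hy
    induction y using TensorProduct.induction_on with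
    | zero => rfl
    | tmul a x =>
      have h1 : j (1 ⊗ₜ x) = 0 := by rw [Subsingleton.elim ((1 : L) ⊗ₜ[K] x) 0, map_zero]
      have h2 : (1 : A) ⊗ₜ[K] x = 0 := by simpa [j] using h1
      calc a ⊗ₜ[K] x = a • ((1 : A) ⊗ₜ[K] x) := by rw [TensorProduct.smul_tmul', smul_eq_mul, mul_one]
        _ = 0 := by rw [h2, smul_zero]
    | add z w hz hw =>
      by_cases hz0 : z = 0
      · by_cases hw0 : w = 0
        · rw [hz0, hw0, add_zero]
        · exact absurd (hw hw0) hw0
      · exact absurd (hz hz0) hz0
  by_cases hb : N = ⊥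
  · exact Or.inl hb
  refine Or.inr (by_contra fun ht => ?_)
  let Nb : Submodule A (A ⊗[K] E) := Submodule.span A (j '' N)
  have hcomm : ∀ (d : D) z, j ((DistribSMul.toLinearMap K E d).baseChange L z) =
      (DistribSMul.toLinearMap K E d).baseChange A (j z) := fun d z => by
    induction z using TensorProduct.induction_on with
    | zero => simp
    | tmul q x => simp [j]
    | add z w hz hw => simp [hz, hw]
  rcases hirr Nb (fun d z hz => by
    refine Submodule.span_induction ?_ (by simp) (fun _ _ _ _ hz hw => by rw [map_add]; exact add_mem hz hw)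
      (fun r _ _ hz => by rw [map_smul]; exact Submodule.smul_mem _ _ hz) hz
    rintro _ ⟨w, hw, rfl⟩
    exact Submodule.subset_span ⟨_, hN d w hw, hcomm d w⟩) with h | h
  · obtain ⟨w, hw, hw0⟩ := Submodule.exists_mem_ne_zero_of_ne_bot hb
    refine hw0 (hj ?_)
    rw [map_zero]
    exact (Submodule.eq_bot_iff Nb).1 h _ (Submodule.subset_span ⟨w, hw, rfl⟩)
  · obtain ⟨ψ, hψ, hψN⟩ := Submodule.exists_le_ker_of_lt_top N (lt_top_iff_ne_top.2 ht)
    let ψA : A ⊗[K] E →ₗ[A] A := TensorProduct.AlgebraTensorModule.lift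
      (LinearMap.toSpanSingleton A (E →ₗ[K] A)
        ((Algebra.linearMap L A).restrictScalars K ∘ₗ ψ.restrictScalars K ∘ₗ TensorProduct.mk K L E 1))
    have hψA : ∀ z, ψA (j z) = algebraMap L A (ψ z) := fun z => by
      induction z using TensorProduct.induction_on with
      | zero => simp
      | tmul q x =>
        have hq : q ⊗ₜ[K] x = q • ((1 : L) ⊗ₜ[K] x) := by rw [TensorProduct.smul_tmul', smul_eq_mul, mul_one]
        have hψq : ψ (q ⊗ₜ[K] x) = q * ψ (1 ⊗ₜ[K] x) := by rw [hq, map_smul, smul_eq_mul]
        rw [hψq, map_mul]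
        simp [j, ψA, Algebra.smul_def]
      | add z w hz hw => simp [hz, hw]
    have hle : Nb ≤ LinearMap.ker ψA := Submodule.span_le.2 (by
      rintro _ ⟨w, hw, rfl⟩
      show ψA (j w) = 0
      rw [hψA, show ψ w = 0 from hψN hw, map_zero])
    refine hψ (LinearMap.ext fun z => (algebraMap L A).injective ?_)
    rw [← hψA]
    simpa using hle (h ▸ Submodule.mem_top : j z ∈ Nb)

end Groth.L09.AbsIrred

universe u v w

namespace Groth.L09.AbsIrred

variable {K : Type u} [Field K] {D : Type v} [Ring D] [Algebra K D]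
  {E : Type w} [AddCommGroup E] [Module K E] [Module D E] [IsScalarTower K D E]

theorem irred_of_forall_finite {A : Type u} [Field A] [Algebra K A] [Algebra.IsAlgebraic K A]
    (h : ∀ (L : Type u) [Field L] [Algebra K L] [FiniteDimensional K L], Irred K D E L) :
    Irred K D E A := by
  classical
  have hKE : Nontrivial (A ⊗[K] E) := by
    have h1 := (h K).1
    haveI : Nontrivial E := (TensorProduct.lid K E).symm.toEquiv.nontrivial
    obtain ⟨x, hx⟩ := exists_ne (0 : E)
    refine ⟨(1 : A) ⊗ₜ x, 0, fun h0 => hx ?_⟩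
    have h2 : (Algebra.linearMap K A).rTensor E ((1 : K) ⊗ₜ x) = (Algebra.linearMap K A).rTensor E 0 := by
      simpa using h0
    have := congrArg (TensorProduct.lid K E)
      (Module.Flat.rTensor_preserves_injective_linearMap _ (algebraMap K A).injective h2)
    simpa using this
  refine ⟨hKE, fun N hN => ?_⟩
  by_cases hb : N = ⊥
  · exact Or.inl hb
  refine Or.inr ?_
  obtain ⟨x, hxN, hx0⟩ := Submodule.exists_mem_ne_zero_of_ne_bot hb
  obtain ⟨S, hS⟩ := TensorProduct.exists_finset x
  let L : IntermediateField K A := IntermediateField.adjoin K ((S.image Prod.fst : Finset A) : Set A)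
  haveI : FiniteDimensional K L := IntermediateField.finiteDimensional_adjoin fun y _ =>
    Algebra.IsIntegral.isIntegral y
  let j : L ⊗[K] E →ₗ[L] A ⊗[K] E :=
    TensorProduct.AlgebraTensorModule.map (Algebra.linearMap L A) LinearMap.id
  have hjx : ∃ w, j w = x := by
    refine ⟨∑ i ∈ S.attach, (⟨i.1.1, IntermediateField.subset_adjoin K _ (by
      exact Finset.mem_coe.2 (Finset.mem_image_of_mem _ i.2))⟩ : L) ⊗ₜ[K] i.1.2, ?_⟩
    rw [map_sum, hS, ← Finset.sum_attach S]
    refine Finset.sum_congr rfl fun i _ => ?_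
    simp [j]
    rfl
  obtain ⟨w, rfl⟩ := hjx
  have hcomm : ∀ (d : D) z, j ((DistribSMul.toLinearMap K E d).baseChange L z) =
      (DistribSMul.toLinearMap K E d).baseChange A (j z) := fun d z => by
    induction z using TensorProduct.induction_on with
    | zero => simp
    | tmul q x => rfl
    | add z w hz hw => simp [hz, hw]
  let N' : Submodule L (L ⊗[K] E) := (N.restrictScalars L).comap j
  have hN' : N' = ⊤ := ((h L).2 N' fun d z hz => by
    show j _ ∈ N
    rw [hcomm]
    exact hN d _ hz).resolve_left fun h0 => hx0 (by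
      rw [(Submodule.eq_bot_iff N').1 h0 w hxN, map_zero])
  refine Submodule.eq_top_iff'.2 fun z => ?_
  induction z using TensorProduct.induction_on with
  | zero => exact zero_mem _
  | tmul a y =>
    have h1 : (1 : L) ⊗ₜ[K] y ∈ N' := hN' ▸ Submodule.mem_top
    have h2 : (1 : A) ⊗ₜ[K] y ∈ N := by
      have h3 : j ((1 : L) ⊗ₜ[K] y) ∈ N := h1
      exact h3
    have := N.smul_mem a h2
    rwa [TensorProduct.smul_tmul', smul_eq_mul, mul_one] at this
  | add z w hz hw => exact add_mem hz hw

theorem irred_algebraicClosure_iff :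
    Irred K D E (AlgebraicClosure K) ↔
      ∀ (L : Type u) [Field L] [Algebra K L] [FiniteDimensional K L], Irred K D E L := by
  refine ⟨fun h L _ _ _ => ?_, fun h => irred_of_forall_finite h⟩
  let i : L →ₐ[K] AlgebraicClosure K := IsAlgClosed.lift
  letI : Algebra L (AlgebraicClosure K) := i.toRingHom.toAlgebra
  haveI : IsScalarTower K L (AlgebraicClosure K) := IsScalarTower.of_algebraMap_eq fun x => (i.commutes x).symm
  exact irred_of_le h

end Groth.L09.AbsIrred
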