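import Groth.Prelude.Def_StGerb
import Groth.Agent.L09.FibFp
import Groth.Agent.L09.FibFiberwise
import Groth.Agent.L09.FibHom

/-!
Gerbes over a stack: composition, equivalences, base change and descent.
-/

set_option autoImplicit false
universe v₄ u₄ v₃ u₃ v₂ u₂ v u

open CategoryTheory Category Functor

namespace Groth.L09.Gerb

variable {C : Type u} [Category.{v} C] {J : GrothendieckTopology C}
  {𝒳 : BasedCategory.{v₂, u₂} C} {𝒴 : BasedCategory.{v₃, u₃} C} {𝒵 : BasedCategory.{v₄, u₄} C}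

theorem bfExt {𝒳 : BasedCategory.{v₂, u₂} C} {𝒴 : BasedCategory.{v₃, u₃} C} (F G : 𝒳 ⥤ᵇ 𝒴)
    (h : F.toFunctor = G.toFunctor) : F = G := by
  cases F
  cases G
  cases h
  rfl

theorem exists_bind {U : C} {R : Sieve U} (hR : R ∈ J U) {P : ∀ ⦃V : C⦄, (V ⟶ U) → Prop}
    (h : ∀ ⦃V : C⦄ (f : V ⟶ U), R f → ∃ R' ∈ J V, ∀ ⦃W : C⦄ (g : W ⟶ V), R' g → P (g ≫ f)) :
    ∃ T ∈ J U, ∀ ⦃V : C⦄ (f : V ⟶ U), T f → P f := by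
  choose R' hR' hP using h
  refine ⟨Sieve.bind R.arrows R', J.bind_covering hR hR', ?_⟩
  rintro V f ⟨Y, g, f', hf', hg, rfl⟩
  exact hP f' hf' g hg

/-- Two lifts of one arrow differ by an isomorphism over the identity. -/
theorem connect (h : FibCat.IsFibGrpd 𝒳.p) {V U : C} (f : V ⟶ U) {a b c : 𝒳.obj} (φ : a ⟶ c)
    (ψ : b ⟶ c) [𝒳.p.IsHomLift f φ] [𝒳.p.IsHomLift f ψ] :
    ∃ χ : a ≅ b, 𝒳.p.IsHomLift (𝟙 V) χ.hom ∧ χ.hom ≫ ψ = φ := by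
  have := Fib.stronglyCartesian_of_isFibGrpd 𝒳.p h f ψ
  let χ := IsCartesian.map 𝒳.p f ψ φ
  have hl : 𝒳.p.IsHomLift (𝟙 V) χ := IsCartesian.map_isHomLift 𝒳.p f ψ φ
  have := Fib.isIso_of_isFibGrpd 𝒳.p h (𝟙 V) χ
  exact ⟨asIso χ, hl, IsCartesian.fac 𝒳.p f ψ φ⟩

theorem exists_pull (h : FibCat.IsFibGrpd 𝒳.p) {U : C} (x : 𝒳.obj) (hx : 𝒳.p.obj x = U) {V : C}
    (f : V ⟶ U) : ∃ (y : 𝒳.obj) (φ : y ⟶ x), 𝒳.p.IsHomLift f φ := by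
  subst hx
  exact h.exists_lift f

variable {F : 𝒳 ⥤ᵇ 𝒴} {G : 𝒴 ⥤ᵇ 𝒵}

theorem objAt (hF : Gerb.LocSurjObj J F) {y : 𝒴.obj} {U : C} (hy : 𝒴.p.obj y = U) :
    ∃ R ∈ J U, ∀ ⦃V : C⦄ (f : V ⟶ U), R f →
      ∃ (x : 𝒳.obj) (g : F.obj x ⟶ y), 𝒴.p.IsHomLift f g := by
  subst hy
  exact hF y

theorem homAt (hF : Gerb.LocSurjHom J F) {x x' : 𝒳.obj} {U : C} (hx : 𝒳.p.obj x = U)
    (b : F.obj x ⟶ F.obj x') (hb : 𝒴.p.IsHomLift (𝟙 U) b) :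
    ∃ R ∈ J U, ∀ ⦃V : C⦄ (f : V ⟶ U), R f → ∃ (x₀ : 𝒳.obj) (φ : x₀ ⟶ x) (ψ : x₀ ⟶ x'),
      𝒳.p.IsHomLift f φ ∧ 𝒳.p.IsHomLift f ψ ∧ F.map φ ≫ b = F.map ψ := by
  subst hx
  exact hF x x' b hb

theorem proj_obj {x : 𝒳.obj} {U V : C} {f : V ⟶ U} {y : 𝒴.obj} (g : F.obj x ⟶ y)
    [𝒴.p.IsHomLift f g] : 𝒳.p.obj x = V :=
  (F.w_obj x).symm.trans (IsHomLift.domain_eq 𝒴.p f g)

theorem proj_obj' {x : 𝒳.obj} {U V : C} {f : V ⟶ U} {y : 𝒴.obj} (g : y ⟶ F.obj x)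
    [𝒴.p.IsHomLift f g] : 𝒳.p.obj x = U :=
  (F.w_obj x).symm.trans (IsHomLift.codomain_eq 𝒴.p f g)

theorem comp (h𝒳 : FibCat.IsFibGrpd 𝒳.p) (h𝒴 : FibCat.IsFibGrpd 𝒴.p)
    (hF : Gerb.IsGerbeOver J F) (hG : Gerb.IsGerbeOver J G) :
    Gerb.IsGerbeOver J (BasedFunctor.comp F G) := by
  refine ⟨fun z => ?_, fun x x' b hb => ?_⟩
  · obtain ⟨R, hR, hR'⟩ := hG.1 z
    refine exists_bind hR fun V f hf => ?_
    obtain ⟨y, g, hg⟩ := hR' f hf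
    obtain ⟨R', hR₁, hR₂⟩ := objAt hF.1 (proj_obj (F := G) g (f := f))
    refine ⟨R', hR₁, fun W g' hg' => ?_⟩
    obtain ⟨x, k, hk⟩ := hR₂ g' hg'
    exact ⟨x, G.map k ≫ g, inferInstanceAs (𝒵.p.IsHomLift (g' ≫ f) (G.map k ≫ g))⟩
  · change G.obj (F.obj x) ⟶ G.obj (F.obj x') at b
    haveI hb' : 𝒵.p.IsHomLift (𝟙 (𝒳.p.obj x)) b := hb
    obtain ⟨R, hR, hR'⟩ := homAt hG.2 (F.w_obj x) b hb'
    refine exists_bind hR fun V f hf => ?_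
    obtain ⟨y₀, φ₁, ψ₁, hφ₁, hψ₁, e₁⟩ := hR' f hf
    obtain ⟨x₁, p, hp⟩ := h𝒳.exists_lift (x := x) f
    have hx' : 𝒳.p.obj x' = 𝒳.p.obj x :=
      (F.w_obj x').symm.trans ((G.w_obj (F.obj x')).symm.trans (IsHomLift.codomain_eq 𝒵.p (𝟙 (𝒳.p.obj x)) b))
    obtain ⟨x₁', p', hp'⟩ := exists_pull h𝒳 x' hx' f
    obtain ⟨c, hc, hc'⟩ := connect h𝒴 f (F.map p) φ₁
    obtain ⟨β, hβ, hβ'⟩ := connect h𝒴 f (c.hom ≫ ψ₁) (F.map p')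
    obtain ⟨R', hR₁, hR₂⟩ := homAt hF.2 (IsHomLift.domain_eq 𝒳.p f p) β.hom hβ
    refine ⟨R', hR₁, fun W g hg => ?_⟩
    obtain ⟨x₀, φ₂, ψ₂, hφ₂, hψ₂, e₂⟩ := hR₂ g hg
    refine ⟨x₀, φ₂ ≫ p, ψ₂ ≫ p', inferInstance, inferInstance, ?_⟩
    show G.map (F.map (φ₂ ≫ p)) ≫ b = G.map (F.map (ψ₂ ≫ p'))
    rw [F.toFunctor.map_comp ψ₂ p', ← e₂, assoc, hβ', F.toFunctor.map_comp φ₂ p, ← hc']
    simp only [Functor.map_comp, assoc, e₁]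

/-- An equivalence over the base is a gerbe. -/
theorem of_isEquivOver (h𝒳 : FibCat.IsFibGrpd 𝒳.p) (h𝒴 : FibCat.IsFibGrpd 𝒴.p)
    (h : FibCat.IsEquivOver F) : Gerb.IsGerbeOver J F := by
  obtain ⟨⟨hfull, -⟩, hobj⟩ := (Fib.isEquivOver_iff F).1 h
  refine ⟨fun y => ⟨⊤, J.top_mem _, fun V f _ => ?_⟩, fun x x' b hb => ⟨⊤, J.top_mem _, fun V f _ => ?_⟩⟩
  · obtain ⟨y', π, hπ⟩ := h𝒴.exists_lift (x := y) f
    obtain ⟨x, e, he⟩ := hobj y'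
    obtain rfl := IsHomLift.domain_eq 𝒴.p f π
    exact ⟨x, e.hom ≫ π, IsHomLift.comp_lift_id_left' 𝒴.p (𝒴.p.obj y') e.hom f π⟩
  · obtain ⟨x₀, p, hp⟩ := h𝒳.exists_lift (x := x) f
    refine ⟨x₀, p, F.toFunctor.preimage (F.map p ≫ b), hp, ?_, ?_⟩
    · rw [← BasedFunctor.isHomLift_iff F, Functor.map_preimage]
      exact IsHomLift.comp_lift_id_right 𝒴.p f (F.map p) b
    · rw [Functor.map_preimage]

/-- Precomposition with an equivalence over the base can be cancelled. -/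
theorem of_comp_equiv {E : 𝒳 ⥤ᵇ 𝒴} {H : 𝒴 ⥤ᵇ 𝒵} (hE : FibCat.IsEquivOver E)
    (h : Gerb.IsGerbeOver J (BasedFunctor.comp E H)) : Gerb.IsGerbeOver J H := by
  obtain ⟨-, hobj⟩ := (Fib.isEquivOver_iff E).1 hE
  refine ⟨fun z => (h.1 z).imp fun R hR => ⟨hR.1, fun V f hf => ?_⟩, fun y y' b hb => ?_⟩
  · obtain ⟨x, g, hg⟩ := hR.2 f hf
    exact ⟨E.obj x, g, hg⟩
  · obtain ⟨x, e, he⟩ := hobj y
    obtain ⟨x', e', he'⟩ := hobj y'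
    have hy' : 𝒴.p.obj y' = 𝒴.p.obj y :=
      (H.w_obj y').symm.trans (IsHomLift.codomain_eq 𝒵.p (𝟙 (𝒴.p.obj y)) b)
    rw [hy'] at he'
    have he'' : 𝒴.p.IsHomLift (𝟙 (𝒴.p.obj y)) e'.inv := inferInstance
    have hx : 𝒳.p.obj x = 𝒴.p.obj y := proj_obj (F := E) e.hom (f := 𝟙 _)
    haveI l₁ : 𝒵.p.IsHomLift (𝟙 (𝒴.p.obj y)) (H.map e.hom) := inferInstance
    haveI l₂ : 𝒵.p.IsHomLift (𝟙 (𝒴.p.obj y)) (H.map e'.inv) := inferInstance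
    haveI l₃ : 𝒵.p.IsHomLift (𝟙 (𝒴.p.obj y)) (b ≫ H.map e'.inv) :=
      IsHomLift.comp_lift_id_right 𝒵.p (𝟙 (𝒴.p.obj y)) b (H.map e'.inv)
    obtain ⟨R, hR, hR'⟩ := homAt h.2 hx (x' := x') (H.map e.hom ≫ b ≫ H.map e'.inv)
      (IsHomLift.comp_lift_id_left' 𝒵.p (𝒴.p.obj y) (H.map e.hom) (𝟙 (𝒴.p.obj y))
        (b ≫ H.map e'.inv))
    refine ⟨R, hR, fun V f hf => ?_⟩
    obtain ⟨x₀, φ, ψ, hφ, hψ, heq⟩ := hR' f hf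
    refine ⟨E.obj x₀, E.map φ ≫ e.hom, E.map ψ ≫ e'.hom, inferInstance, inferInstance, ?_⟩
    change H.map (E.map φ) ≫ _ = H.map (E.map ψ) at heq
    rw [H.toFunctor.map_comp, H.toFunctor.map_comp, ← heq]
    have hee : H.map e'.inv ≫ H.map e'.hom = 𝟙 _ := by
      rw [← H.toFunctor.map_comp, e'.inv_hom_id, H.toFunctor.map_id]
    change _ = (H.map (E.map φ) ≫ H.map e.hom ≫ b ≫ H.map e'.inv) ≫ H.map e'.hom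
    simp only [assoc, hee, comp_id]

section BaseChange

variable {𝒴' : BasedCategory.{v₄, u₄} C} {F : 𝒳 ⥤ᵇ 𝒴} {G : 𝒴' ⥤ᵇ 𝒴}

theorem baseChange (h𝒳 : FibCat.IsFibGrpd 𝒳.p) (h𝒴 : FibCat.IsFibGrpd 𝒴.p)
    (h𝒴' : FibCat.IsFibGrpd 𝒴'.p) (hF : Gerb.IsGerbeOver J F) :
    Gerb.IsGerbeOver J (FibCat.fpFst G F) := by
  refine ⟨fun y => ?_, fun a a' b hb => ?_⟩
  · obtain ⟨R, hR, hR'⟩ := objAt hF.1 (G.w_obj y)
    refine ⟨R, hR, fun V f hf => ?_⟩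
    obtain ⟨x, g, hg⟩ := hR' f hf
    obtain ⟨y', π, hπ⟩ := h𝒴'.exists_lift (x := y) f
    obtain ⟨i, hi, -⟩ := connect h𝒴 f (G.map π) g
    have hy' := IsHomLift.domain_eq 𝒴'.p f π
    exact ⟨⟨⟨y', x, i⟩, show 𝒴.p.IsHomLift (𝟙 (𝒴'.p.obj y')) i.hom by rw [hy']; exact hi⟩, π, hπ⟩
  · change a.obj.fst ⟶ a'.obj.fst at b
    change 𝒴'.p.IsHomLift (𝟙 (𝒴'.p.obj a.obj.fst)) b at hb
    have hi : 𝒴.p.IsHomLift (𝟙 (𝒴'.p.obj a.obj.fst)) a.obj.iso.hom := a.property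
    have hi' : 𝒴.p.IsHomLift (𝟙 (𝒴'.p.obj a.obj.fst)) a'.obj.iso.hom := by
      rw [← (show 𝒴'.p.obj a'.obj.fst = 𝒴'.p.obj a.obj.fst from
        IsHomLift.codomain_eq 𝒴'.p (𝟙 (𝒴'.p.obj a.obj.fst)) b)]; exact a'.property
    have hx : 𝒳.p.obj a.obj.snd = 𝒴'.p.obj a.obj.fst :=
      proj_obj' (F := F) a.obj.iso.hom (f := 𝟙 _)
    obtain ⟨R, hR, hR'⟩ := homAt hF.2 hx (x' := a'.obj.snd)
      (a.obj.iso.inv ≫ G.map b ≫ a'.obj.iso.hom) inferInstance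
    refine ⟨R, hR, fun V (f : V ⟶ 𝒴'.p.obj a.obj.fst) hf => ?_⟩
    obtain ⟨x₀, φ, ψ, hφ, hψ, heq⟩ := hR' f hf
    obtain ⟨y', π, hπ⟩ := h𝒴'.exists_lift (x := a.obj.fst) f
    haveI : 𝒴.p.IsHomLift f (G.map π) := (BasedFunctor.isHomLift_iff G f π).2 hπ
    haveI : 𝒴.p.IsHomLift f (F.map φ) := (BasedFunctor.isHomLift_iff F f φ).2 hφ
    haveI : 𝒴.p.IsHomLift f (G.map π ≫ a.obj.iso.hom) :=
      IsHomLift.comp_lift_id_right 𝒴.p f (G.map π) a.obj.iso.hom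
    obtain ⟨i₀, hi₀, hfac⟩ := connect h𝒴 f (G.map π ≫ a.obj.iso.hom) (F.map φ)
    have hy' := IsHomLift.domain_eq 𝒴'.p f π
    let a₀ : (FibCat.fp G F).obj :=
      ⟨⟨y', x₀, i₀⟩, show 𝒴.p.IsHomLift (𝟙 (𝒴'.p.obj y')) i₀.hom by rw [hy']; exact hi₀⟩
    let m : a₀ ⟶ a := ObjectProperty.homMk { fst := π, snd := φ, w := hfac.symm }
    let n : a₀ ⟶ a' := ObjectProperty.homMk
      { fst := π ≫ b, snd := ψ
        w := by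
          show G.map (π ≫ b) ≫ a'.obj.iso.hom = i₀.hom ≫ F.map ψ
          rw [← heq, reassoc_of% hfac, Iso.hom_inv_id_assoc, Functor.map_comp, assoc] }
    exact ⟨a₀, m, n, (Fib.fp_isHomLift_iff f m).2 hπ,
      (Fib.fp_isHomLift_iff f n).2 (IsHomLift.comp_lift_id_right 𝒴'.p f π b), rfl⟩

/-- Being a gerbe descends along a locally essentially surjective functor. -/
theorem of_baseChange (h𝒳 : FibCat.IsFibGrpd 𝒳.p) (h𝒴 : FibCat.IsFibGrpd 𝒴.p)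
    (hG : Gerb.LocSurjObj J G) (h : Gerb.IsGerbeOver J (FibCat.fpFst G F)) :
    Gerb.IsGerbeOver J F := by
  refine ⟨fun y => ?_, fun x x' b hb => ?_⟩
  · obtain ⟨R, hR, hR'⟩ := hG y
    refine exists_bind hR fun V f hf => ?_
    obtain ⟨y', g, hg⟩ := hR' f hf
    obtain ⟨R', hR₁, hR₂⟩ := objAt h.1 (proj_obj (F := G) g (f := f))
    refine ⟨R', hR₁, fun W g' hg' => ?_⟩
    obtain ⟨a, k, hk⟩ := hR₂ g' hg'
    change a.obj.fst ⟶ y' at k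
    haveI hk' : 𝒴'.p.IsHomLift g' k := hk
    have hW : 𝒴'.p.obj a.obj.fst = W := IsHomLift.domain_eq 𝒴'.p g' k
    have hi : 𝒴.p.IsHomLift (𝟙 W) a.obj.iso.hom := by rw [← hW]; exact a.property
    exact ⟨a.obj.snd, a.obj.iso.inv ≫ G.map k ≫ g,
      IsHomLift.comp_lift_id_left' 𝒴.p W a.obj.iso.inv (g' ≫ f) (G.map k ≫ g)⟩
  · obtain ⟨R, hR, hR'⟩ := objAt hG (F.w_obj x)
    refine exists_bind hR fun V f hf => ?_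
    obtain ⟨y', g, hg⟩ := hR' f hf
    obtain ⟨x₁, p, hp⟩ := h𝒳.exists_lift (x := x) f
    have hx' : 𝒳.p.obj x' = 𝒳.p.obj x :=
      (F.w_obj x').symm.trans (IsHomLift.codomain_eq 𝒴.p (𝟙 _) b)
    obtain ⟨x₁', p', hp'⟩ := exists_pull h𝒳 x' hx' f
    obtain ⟨c, hc, hc'⟩ := connect h𝒴 f g (F.map p)
    obtain ⟨c₂, hc₂, hc₂'⟩ := connect h𝒴 f (g ≫ b) (F.map p')
    have hy' : 𝒴'.p.obj y' = V := proj_obj (F := G) g (f := f)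
    let a : (FibCat.fp G F).obj :=
      ⟨⟨y', x₁, c⟩, show 𝒴.p.IsHomLift (𝟙 (𝒴'.p.obj y')) c.hom by rw [hy']; exact hc⟩
    let a' : (FibCat.fp G F).obj :=
      ⟨⟨y', x₁', c₂⟩, show 𝒴.p.IsHomLift (𝟙 (𝒴'.p.obj y')) c₂.hom by rw [hy']; exact hc₂⟩
    obtain ⟨R', hR₁, hR₂⟩ := homAt h.2 (x := a) (x' := a') hy' (𝟙 y') (IsHomLift.id hy')
    refine ⟨R', hR₁, fun W g' hg' => ?_⟩
    obtain ⟨a₀, m, n, hm, hn, heq⟩ := hR₂ g' hg'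
    change m.hom.fst ≫ 𝟙 y' = n.hom.fst at heq
    rw [comp_id] at heq
    have hm' := Fib.fp_snd_lift g' m hm
    have hn' := Fib.fp_snd_lift g' n hn
    refine ⟨a₀.obj.snd, m.hom.snd ≫ p, n.hom.snd ≫ p', inferInstance, inferInstance, ?_⟩
    have e₁ : G.map m.hom.fst ≫ c.hom = a₀.obj.iso.hom ≫ F.map m.hom.snd := m.hom.w
    have e₂ : G.map n.hom.fst ≫ c₂.hom = a₀.obj.iso.hom ≫ F.map n.hom.snd := n.hom.w
    rw [← cancel_epi a₀.obj.iso.hom, F.toFunctor.map_comp, F.toFunctor.map_comp, assoc,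
      ← reassoc_of% e₁, ← reassoc_of% e₂, hc₂', reassoc_of% hc', heq]

end BaseChange

/-- Being a gerbe over the base is invariant under equivalence. -/
theorem isGerbe_iff {F : 𝒳 ⥤ᵇ 𝒴} (h : FibCat.IsEquivOver F) :
    Gerb.IsGerbe J 𝒳 ↔ Gerb.IsGerbe J 𝒴 := by
  have e : BasedFunctor.comp F (FibCat.toSelf 𝒴) = FibCat.toSelf 𝒳 := by
    exact bfExt _ _ F.w
  constructor
  · rintro ⟨h₁, h₂⟩
    exact ⟨(Fib.isStack_iff J h).1 h₁, of_comp_equiv h (e ▸ h₂)⟩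
  · rintro ⟨h₁, h₂⟩
    have h₁' := (Fib.isStack_iff J h).2 h₁
    exact ⟨h₁', e ▸ comp h₁'.1 h₁.1 (of_isEquivOver h₁'.1 h₁.1 h) h₂⟩

end Groth.L09.Gerb
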