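import Groth.Prelude.Def_AlgSt
import Groth.Agent.L09.FibYoneda

/-!
Gluing of morphisms in prestacks, and local essential surjectivity.
-/

set_option autoImplicit false
universe v₃ u₃ v₂ u₂ v u

open CategoryTheory Category Functor

namespace Groth.L09.Stk

variable {C : Type u} [Category.{v} C] {𝒳 : BasedCategory.{v₂, u₂} C}

/-- A faithful restriction to a sieve means that vertical morphisms are determined locally. -/
lemma eq_of_locally (h𝒳 : FibCat.IsFibGrpd 𝒳.p) {U : C} {R : Sieve U} (hR : (Stk.resSieve R 𝒳).Faithful)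
    {x y : 𝒳.obj} (a b : x ⟶ y) [𝒳.p.IsHomLift (𝟙 U) a] [𝒳.p.IsHomLift (𝟙 U) b]
    (h : ∀ ⦃V : C⦄ (f : V ⟶ U), R f → ∃ (z : 𝒳.obj) (π : z ⟶ x), 𝒳.p.IsHomLift f π ∧ π ≫ a = π ≫ b) :
    a = b := by
  have := Fib.isFibered_of_isFibGrpd _ h𝒳
  have hx : 𝒳.p.obj x = U := IsHomLift.domain_eq 𝒳.p (𝟙 U) a
  have hy : 𝒳.p.obj y = U := IsHomLift.codomain_eq 𝒳.p (𝟙 U) a
  let X : 𝒳.p.Fiber U := ⟨x, hx⟩
  let Y : 𝒳.p.Fiber U := ⟨y, hy⟩
  obtain ⟨ex⟩ := Fib.evalAtId_ofObj X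
  obtain ⟨ey⟩ := Fib.evalAtId_ofObj Y
  let Gy : FibCat.overCat U ⥤ᵇ 𝒳 := Fib.ofObj hy
  let Gx : FibCat.overCat U ⥤ᵇ 𝒳 := Fib.ofObj hx
  have hGy := Fib.preservesStronglyCartesian_of_isFibGrpd Gy h𝒳
  let a' : X ⟶ Y := ⟨a, inferInstance⟩
  let b' : X ⟶ Y := ⟨b, inferInstance⟩
  obtain ⟨α, hα⟩ := Fib.exists_evalAtId_map hGy (ex.hom ≫ a' ≫ ey.inv)
  obtain ⟨β, hβ⟩ := Fib.exists_evalAtId_map hGy (ex.hom ≫ b' ≫ ey.inv)
  have key : α = β := by
    apply hR.map_injective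
    apply BasedNatTrans.homCategory.ext
    ext k
    have := Fib.map_toTerm_sc Gy hGy k.obj
    have hαl : 𝒳.p.IsHomLift (𝟙 k.obj.left) (α.toNatTrans.app k.obj) := α.isHomLift' k.obj
    have hβl : 𝒳.p.IsHomLift (𝟙 k.obj.left) (β.toNatTrans.app k.obj) := β.isHomLift' k.obj
    show α.toNatTrans.app k.obj = β.toNatTrans.app k.obj
    apply IsCartesian.ext 𝒳.p k.obj.hom (Gy.map (Fib.toTerm k.obj))
    rw [← α.toNatTrans.naturality, ← β.toNatTrans.naturality]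
    obtain ⟨z, π, hπ, e⟩ := h k.obj.hom k.property
    let g : Gx.obj k.obj ⟶ x := Gx.map (Fib.toTerm k.obj) ≫ ex.hom.1
    have hGx := Fib.preservesStronglyCartesian_of_isFibGrpd Gx h𝒳
    have : 𝒳.p.IsHomLift k.obj.hom g :=
      @IsHomLift.comp_lift_id_right _ _ _ _ 𝒳.p _ _ _ _ _ k.obj.hom (Gx.map (Fib.toTerm k.obj))
        (Fib.map_toTerm_sc Gx hGx k.obj).toIsHomLift ex.hom.1 ex.hom.2
    have := Fib.stronglyCartesian_of_isFibGrpd 𝒳.p h𝒳 k.obj.hom π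
    let c := IsCartesian.map 𝒳.p k.obj.hom π g
    have hc : c ≫ π = g := IsCartesian.fac _ _ _ _
    have ea : α.toNatTrans.app (Over.mk (𝟙 U)) = ex.hom.1 ≫ a ≫ ey.inv.1 := congrArg Subtype.val hα
    have eb : β.toNatTrans.app (Over.mk (𝟙 U)) = ex.hom.1 ≫ b ≫ ey.inv.1 := congrArg Subtype.val hβ
    rw [ea, eb]
    calc _ = g ≫ a ≫ ey.inv.1 := (assoc _ _ _).symm
      _ = g ≫ b ≫ ey.inv.1 := by rw [← hc, assoc, assoc, reassoc_of% e]
      _ = _ := assoc _ _ _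
  subst key
  have := hα.symm.trans hβ
  rw [cancel_epi, cancel_mono] at this
  exact congrArg Subtype.val this

section Le

variable {U : C} {S R : Sieve U}

/-- The inclusion of a smaller sieve. -/
def sieveLE (h : S ≤ R) : Stk.sieveCat S ⥤ᵇ Stk.sieveCat R where
  toFunctor := ObjectProperty.ιOfLE (fun a ha => h a.hom ha)
  w := rfl

/-- An arrow of a sieve, as a functor from the slice. -/
def mapIncl (a : (Stk.sieveCat R).obj) : FibCat.overCat a.obj.left ⥤ᵇ Stk.sieveCat R where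
  toFunctor := ObjectProperty.lift _ (Over.map a.obj.hom) (fun k => R.downward_closed a.property k.hom)
  w := rfl

/-- The canonical morphism from the image of the identity. -/
def mapInclId (a : (Stk.sieveCat R).obj) : (mapIncl a).obj (Over.mk (𝟙 a.obj.left)) ≅ a :=
  ObjectProperty.isoMk _ (Over.isoMk (Iso.refl _) (by simp [mapIncl]))

lemma restr_faithful (h𝒳 : FibCat.IsFibGrpd 𝒳.p) (hSR : S ≤ R)
    (hR : ∀ ⦃V : C⦄ (f : V ⟶ U), R f → (Stk.resSieve (S.pullback f) 𝒳).Faithful) :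
    (Stk.restr (sieveLE hSR) 𝒳).Faithful := by
  refine ⟨fun {d d' α β} e => BasedNatTrans.homCategory.ext _ _ ?_⟩
  ext a
  have : 𝒳.p.IsHomLift (𝟙 a.obj.left) (α.toNatTrans.app a) := α.isHomLift' a
  have : 𝒳.p.IsHomLift (𝟙 a.obj.left) (β.toNatTrans.app a) := β.isHomLift' a
  refine eq_of_locally h𝒳 (hR _ a.property) _ _ fun W m hm => ?_
  let k : (Stk.sieveCat S).obj := ⟨Over.mk (m ≫ a.obj.hom), hm⟩
  let n : (sieveLE hSR).obj k ⟶ a := ObjectProperty.homMk (Over.homMk m rfl)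
  refine ⟨_, d.map n, ?_, ?_⟩
  · have : (Stk.sieveCat R).p.IsHomLift m n := IsHomLift.map (Stk.sieveCat R).p n
    infer_instance
  · rw [α.toNatTrans.naturality, β.toNatTrans.naturality]
    congr 1
    exact congrArg (fun t => t.toNatTrans.app k) e

lemma restr_full (h𝒳 : FibCat.IsFibGrpd 𝒳.p) (hSR : S ≤ R)
    (hR : ∀ ⦃V : C⦄ (f : V ⟶ U), R f → Stk.IsPrestackFor (S.pullback f) 𝒳) :
    (Stk.restr (sieveLE hSR) 𝒳).Full := by
  refine ⟨fun {d d'} γ => ?_⟩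
  have hd := Fib.preservesStronglyCartesian_of_isFibGrpd d' h𝒳
  have key : ∀ a : (Stk.sieveCat R).obj, ∃ (app : d.obj a ⟶ d'.obj a), 𝒳.p.IsHomLift (𝟙 a.obj.left) app ∧
      ∀ (k : (Stk.sieveCat S).obj) (n : (sieveLE hSR).obj k ⟶ a),
        d.map n ≫ app = γ.toNatTrans.app k ≫ d'.map n := by
    intro a
    obtain ⟨hfull, -⟩ := hR a.obj.hom a.property
    let P := Stk.sieveIncl (S.pullback a.obj.hom)
    let toS : (Stk.sieveCat (S.pullback a.obj.hom)).obj → (Stk.sieveCat S).obj := fun k =>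
      ⟨Over.mk (k.obj.hom ≫ a.obj.hom), k.property⟩
    let γ' : (Stk.resSieve (S.pullback a.obj.hom) 𝒳).obj (BasedFunctor.comp (mapIncl a) d) ⟶
        (Stk.resSieve (S.pullback a.obj.hom) 𝒳).obj (BasedFunctor.comp (mapIncl a) d') :=
      { app := fun k => γ.toNatTrans.app (toS k)
        naturality := fun k l n => γ.toNatTrans.naturality
          (ObjectProperty.homMk (Over.homMk n.hom.left (by simp [toS])) : toS k ⟶ toS l)
        isHomLift' := fun k => γ.isHomLift' (toS k) }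
    obtain ⟨α, hα⟩ := hfull.map_surjective γ'
    let ι := mapInclId a
    have hι : (Stk.sieveCat R).p.IsHomLift (𝟙 a.obj.left) ι.hom :=
      IsHomLift.map (Stk.sieveCat R).p ι.hom
    have hι' : (Stk.sieveCat R).p.IsHomLift (𝟙 a.obj.left) ι.inv :=
      IsHomLift.map (Stk.sieveCat R).p ι.inv
    have hl : 𝒳.p.IsHomLift (𝟙 a.obj.left) (α.toNatTrans.app (Over.mk (𝟙 a.obj.left))) := α.isHomLift' (Over.mk (𝟙 a.obj.left))
    let m₁ : d.obj a ⟶ ((mapIncl a).comp d).obj (Over.mk (𝟙 a.obj.left)) := d.map ι.inv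
    let m₂ : ((mapIncl a).comp d').obj (Over.mk (𝟙 a.obj.left)) ⟶ d'.obj a := d'.map ι.hom
    let A : ((mapIncl a).comp d).obj (Over.mk (𝟙 a.obj.left)) ⟶ ((mapIncl a).comp d').obj (Over.mk (𝟙 a.obj.left)) :=
      α.toNatTrans.app (Over.mk (𝟙 a.obj.left))
    have l₁ : 𝒳.p.IsHomLift (𝟙 a.obj.left) m₁ := inferInstanceAs (𝒳.p.IsHomLift (𝟙 a.obj.left) (d.map ι.inv))
    have l₂ : 𝒳.p.IsHomLift (𝟙 a.obj.left) m₂ := inferInstanceAs (𝒳.p.IsHomLift (𝟙 a.obj.left) (d'.map ι.hom))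
    have lA : 𝒳.p.IsHomLift (𝟙 a.obj.left) A := hl
    refine ⟨m₁ ≫ A ≫ m₂, inferInstance, fun k n => ?_⟩
    have hw : n.hom.left ≫ a.obj.hom = k.obj.hom := Over.w n.hom
    have hS : (S.pullback a.obj.hom).arrows n.hom.left :=
      by
        show S.arrows (n.hom.left ≫ a.obj.hom)
        rw [hw]; exact k.property
    let b : (Stk.sieveCat (S.pullback a.obj.hom)).obj := ⟨Over.mk n.hom.left, hS⟩
    let j : k ⟶ toS b := ObjectProperty.homMk (Over.homMk (𝟙 k.obj.left) ((Category.id_comp _).trans hw))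
    let M : (sieveLE hSR).obj (toS b) ⟶ a := (mapIncl a).map (Fib.toTerm b.obj) ≫ ι.hom
    have hn : n = (sieveLE hSR).map j ≫ M := by
      apply ObjectProperty.hom_ext
      apply Over.OverMorphism.ext
      show n.hom.left = 𝟙 k.obj.left ≫ n.hom.left ≫ 𝟙 a.obj.left
      exact ((Category.id_comp _).trans (Category.comp_id _)).symm
    have hb : α.toNatTrans.app b.obj = γ.toNatTrans.app (toS b) := congrArg (fun t => t.toNatTrans.app b) hα
    have hn' : α.toNatTrans.app b.obj ≫ d'.map ((mapIncl a).map (Fib.toTerm b.obj)) =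
        d.map ((mapIncl a).map (Fib.toTerm b.obj)) ≫ α.toNatTrans.app (Over.mk (𝟙 a.obj.left)) :=
      (α.toNatTrans.naturality (Fib.toTerm b.obj)).symm
    have hM : d.map M ≫ d.map ι.inv = d.map ((mapIncl a).map (Fib.toTerm b.obj)) := by
      exact (d.toFunctor.map_comp _ _).symm.trans (congrArg d.map ((assoc _ _ _).trans
        ((congrArg ((mapIncl a).map (Fib.toTerm b.obj) ≫ ·) ι.hom_inv_id).trans (comp_id _))))
    have hM' : d.map M ≫ d.map ι.inv ≫ α.toNatTrans.app (Over.mk (𝟙 a.obj.left)) ≫ d'.map ι.hom =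
        γ.toNatTrans.app (toS b) ≫ d'.map M := by
      exact ((assoc _ _ _).symm.trans
        ((congrArg (· ≫ α.toNatTrans.app (Over.mk (𝟙 a.obj.left)) ≫ d'.map ι.hom) hM).trans
          ((assoc _ _ _).symm.trans
            ((congrArg (· ≫ d'.map ι.hom) hn'.symm).trans
              ((assoc _ _ _).trans
                ((congrArg (α.toNatTrans.app b.obj ≫ ·) (d'.toFunctor.map_comp _ _).symm).trans
                  (congrArg (· ≫ d'.map M) hb)))))))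
    rw [hn]
    exact (congrArg (· ≫ (m₁ ≫ A ≫ m₂)) (d.toFunctor.map_comp _ _)).trans ((assoc _ _ _).trans
      ((congrArg (d.map ((sieveLE hSR).map j) ≫ ·) hM').trans
        ((assoc _ _ _).symm.trans
          ((congrArg (· ≫ d'.map M) (γ.toNatTrans.naturality j)).trans
            ((assoc _ _ _).trans (congrArg (γ.toNatTrans.app k ≫ ·) (d'.toFunctor.map_comp _ _).symm))))))
  choose app happ hk using key
  refine ⟨{ app := app, naturality := fun b a n => ?_, isHomLift' := happ }, ?_⟩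
  · have hnl : (Stk.sieveCat R).p.IsHomLift n.hom.left n := IsHomLift.map (Stk.sieveCat R).p n
    have := happ a
    have := happ b
    have : 𝒳.p.IsStronglyCartesian n.hom.left (d'.map n) :=
      Fib.stronglyCartesian_of_isFibGrpd 𝒳.p h𝒳 n.hom.left (d'.map n)
    let c := IsCartesian.map 𝒳.p n.hom.left (d'.map n) (d.map n ≫ app a)
    have hc : c ≫ d'.map n = d.map n ≫ app a := IsCartesian.fac _ _ _ _
    have hcl : 𝒳.p.IsHomLift (𝟙 b.obj.left) c := IsCartesian.map_isHomLift 𝒳.p n.hom.left (d'.map n) (d.map n ≫ app a)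
    suffices c = app b by rw [← this]; exact hc.symm
    refine eq_of_locally h𝒳 (hR _ b.property).2 _ _ fun W m hm => ?_
    let k : (Stk.sieveCat S).obj := ⟨Over.mk (m ≫ b.obj.hom), hm⟩
    let nk : (sieveLE hSR).obj k ⟶ b := ObjectProperty.homMk (Over.homMk m rfl)
    have hnk : (Stk.sieveCat R).p.IsHomLift m nk := IsHomLift.map (Stk.sieveCat R).p nk
    refine ⟨_, d.map nk, inferInstance, ?_⟩
    apply IsStronglyCartesian.ext 𝒳.p n.hom.left (d'.map n) m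
    have e : d.map nk ≫ d.map n ≫ app a = γ.toNatTrans.app k ≫ d'.map nk ≫ d'.map n :=
      (assoc _ _ _).symm.trans ((congrArg (· ≫ app a) (d.toFunctor.map_comp nk n).symm).trans
        ((hk a k (nk ≫ n)).trans (congrArg (γ.toNatTrans.app k ≫ ·) (d'.toFunctor.map_comp nk n))))
    exact (assoc _ _ _).trans ((congrArg (d.map nk ≫ ·) hc).trans (e.trans
      ((assoc _ _ _).symm.trans ((congrArg (· ≫ d'.map n) (hk b k nk).symm)))))
  · apply BasedNatTrans.homCategory.ext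
    ext k
    have := hk _ k (𝟙 ((sieveLE hSR).obj k))
    exact ((id_comp _).symm.trans ((congrArg (· ≫ app _) (d.toFunctor.map_id _).symm).trans this)).trans
      ((congrArg (γ.toNatTrans.app k ≫ ·) (d'.toFunctor.map_id _)).trans (comp_id _))

end Le

section LocEssSurj

variable {𝒴 : BasedCategory.{v₃, u₃} C}

/-- Local essential surjectivity tested on objects. -/
def LocEssSurj (J : GrothendieckTopology C) (F : 𝒳 ⥤ᵇ 𝒴) : Prop :=
  ∀ (y : 𝒴.obj) (U : C) (_ : 𝒴.p.obj y = U), ∃ R ∈ J U, ∀ ⦃V : C⦄ (f : V ⟶ U), R f →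
    ∃ (x : 𝒳.obj) (φ : F.obj x ⟶ y), 𝒴.p.IsHomLift f φ

lemma locEssSurj_iff (J : GrothendieckTopology C) (h𝒳 : FibCat.IsFibGrpd 𝒳.p) (h𝒴 : FibCat.IsFibGrpd 𝒴.p)
    (F : 𝒳 ⥤ᵇ 𝒴) : LocEssSurj J F ↔
    ∀ (U : C) (y : FibCat.overCat U ⥤ᵇ 𝒴), ∃ R ∈ J U, ∀ ⦃V : C⦄ (h : V ⟶ U), R.arrows h →
        ∃ x : FibCat.overCat V ⥤ᵇ 𝒳,
          Nonempty (BasedFunctor.comp x F ≅ BasedFunctor.comp (⟨Over.map h, Over.mapForget_eq h⟩ : FibCat.overCat V ⥤ᵇ FibCat.overCat U) y) := by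
  have := Fib.isFibered_of_isFibGrpd _ h𝒳
  have := Fib.isFibered_of_isFibGrpd _ h𝒴
  constructor
  · intro hF U y
    obtain ⟨R, hR, hx⟩ := hF (y.obj (Over.mk (𝟙 U))) U (y.w_obj _)
    refine ⟨R, hR, fun V h hh => ?_⟩
    obtain ⟨x, φ, hφ⟩ := hx h hh
    have hxV : 𝒳.p.obj x = V := (F.w_obj x).symm.trans (IsHomLift.domain_eq 𝒴.p h φ)
    let x' : FibCat.overCat V ⥤ᵇ 𝒳 := Fib.ofObj hxV
    refine ⟨x', ?_⟩
    let hm : FibCat.overCat V ⥤ᵇ FibCat.overCat U := ⟨Over.map h, Over.mapForget_eq h⟩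
    have := Fib.evalAtId_isEquivalence h𝒴 V
    obtain ⟨e⟩ := Fib.evalAtId_ofObj (U := V) (⟨x, hxV⟩ : 𝒳.p.Fiber V)
    let t : Over.mk (𝟙 V ≫ h) ⟶ Over.mk (𝟙 U) := Over.homMk h (by simp)
    have ht : (FibCat.overCat U).p.IsHomLift h t := IsHomLift.map (FibCat.overCat U).p t
    have : 𝒴.p.IsStronglyCartesian h (y.map t) := Fib.stronglyCartesian_of_isFibGrpd 𝒴.p h𝒴 h (y.map t)
    have : 𝒳.p.IsHomLift (𝟙 V) e.hom.1 := e.hom.2
    let ψ : F.obj (x'.obj (Over.mk (𝟙 V))) ⟶ y.obj (Over.mk (𝟙 U)) := F.map e.hom.1 ≫ φ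
    have : 𝒴.p.IsHomLift (𝟙 V) (F.map e.hom.1) := inferInstance
    have : 𝒴.p.IsHomLift h ψ := IsHomLift.comp_lift_id_left' 𝒴.p V (F.map e.hom.1) h φ
    have : 𝒴.p.IsStronglyCartesian h ψ := Fib.stronglyCartesian_of_isFibGrpd 𝒴.p h𝒴 h ψ
    let i : F.obj (x'.obj (Over.mk (𝟙 V))) ≅ y.obj (Over.mk (𝟙 V ≫ h)) :=
      IsCartesian.domainUniqueUpToIso 𝒴.p h (y.map t) ψ
    have hi : 𝒴.p.IsHomLift (𝟙 V) i.hom := inferInstance
    have hi' : 𝒴.p.IsHomLift (𝟙 V) i.inv := inferInstance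
    let i' : (FibCat.evalAtId 𝒴 V).obj (BasedFunctor.comp x' F) ≅ (FibCat.evalAtId 𝒴 V).obj (BasedFunctor.comp hm y) :=
      ⟨⟨i.hom, hi⟩, ⟨i.inv, hi'⟩, Fiber.hom_ext i.hom_inv_id, Fiber.hom_ext i.inv_hom_id⟩
    exact ⟨(FibCat.evalAtId 𝒴 V).preimageIso i'⟩
  · intro hF y U hy
    obtain ⟨R, hR, hx⟩ := hF U (Fib.ofObj hy)
    refine ⟨R, hR, fun V h hh => ?_⟩
    obtain ⟨x, ⟨e⟩⟩ := hx h hh
    let π := IsPreFibered.pullbackMap (p := 𝒴.p) hy (𝟙 V ≫ h)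
    have hel : 𝒴.p.IsHomLift (𝟙 V) (e.hom.toNatTrans.app (Over.mk (𝟙 V))) := by
      exact e.hom.isHomLift' (Over.mk (𝟙 V))
    have hπ : 𝒴.p.IsHomLift (𝟙 V ≫ h) π := inferInstance
    refine ⟨x.obj (Over.mk (𝟙 V)), e.hom.toNatTrans.app (Over.mk (𝟙 V)) ≫ π, ?_⟩
    have : 𝒴.p.IsHomLift h π := (show ∀ g, g = 𝟙 V ≫ h → 𝒴.p.IsHomLift g π from fun g hg => hg ▸ hπ) h (id_comp h).symm
    exact @IsHomLift.comp_lift_id_left' _ _ _ _ 𝒴.p _ _ _ V _ hel _ _ h π this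

end LocEssSurj

end Groth.L09.Stk
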