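import Groth.Agent.L09.LevelDescent

/-!
Descent along a bi-augmented family of spaces.
-/

set_option autoImplicit false
set_option linter.unusedSectionVars false
set_option linter.unusedVariables false
set_option backward.isDefEq.respectTransparency false
set_option backward.isDefEq.respectTransparency.types false
universe u
open CategoryTheory CategoryTheory.Limits Opposite Pseudofunctor.CoGrothendieck TopologicalSpace

namespace Groth.L09.BiDescent

open FamSite

variable {D : Type} [Category.{0} D] (Z : (WithInitial D)ᵒᵖ × (WithInitial D)ᵒᵖ ⥤ TopCat.{u})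

/-- The second index restricted to the part. -/
abbrev sndPart : (WithInitial D)ᵒᵖ × Dᵒᵖ ⥤ (WithInitial D)ᵒᵖ × (WithInitial D)ᵒᵖ :=
  (𝟭 (WithInitial D)ᵒᵖ).prod (FibDesc.toAug D)

/-- The family at the base of the first index. -/
abbrev row : (WithInitial D)ᵒᵖ ⥤ TopCat.{u} := CategoryTheory.Prod.sectR (FibDesc.bot D) (WithInitial D)ᵒᵖ ⋙ Z

/-- The family at the base of the second index. -/
abbrev col : (WithInitial D)ᵒᵖ ⥤ TopCat.{u} := CategoryTheory.Prod.sectL (WithInitial D)ᵒᵖ (FibDesc.bot D) ⋙ Z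

/-- The diagram of augmented families. -/
abbrev diag : (WithInitial D)ᵒᵖ × Dᵒᵖ ⥤ TopCat.{u} := sndPart (D := D) ⋙ Z

/-- The flipped bi-augmented family. -/
abbrev flip : (WithInitial D)ᵒᵖ × (WithInitial D)ᵒᵖ ⥤ TopCat.{u} :=
  CategoryTheory.Prod.swap (WithInitial D)ᵒᵖ (WithInitial D)ᵒᵖ ⋙ Z

/-- The inclusion of the row. -/
noncomputable abbrev rowFun : ∫ᶜ (FibDesc.topAug (row Z)) ⥤ Tot Z :=
  reindex Z (CategoryTheory.Prod.sectR (FibDesc.bot D) (WithInitial D)ᵒᵖ)

instance rowFun_isContinuous : (rowFun Z).IsContinuous (SpaceSite.JA (row Z)) (JT Z) :=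
  reindex_isContinuous Z (CategoryTheory.Prod.sectR (FibDesc.bot D) (WithInitial D)ᵒᵖ)

/-- Extension along the row. -/
noncomputable abbrev rowExt := (rowFun Z).sheafPullback AddCommGrpCat.{u} (SpaceSite.JA (row Z)) (JT Z)

/-- The base diagram into the diagram. -/
noncomputable abbrev εD : ∫ᶜ (FibDesc.part (FibDesc.topAug (row Z))) ⥤ Tot (diag Z) :=
  reindex (diag Z) (LevelDescent.ε (D := D) (P := Dᵒᵖ))

instance εD_isContinuous : (εD Z).IsContinuous (SpaceSite.JP (row Z)) (JT (diag Z)) :=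
  reindex_isContinuous (diag Z) (LevelDescent.ε (D := D) (P := Dᵒᵖ))

/-- The square of the base change. -/
noncomputable def eC : εD Z ⋙ reindex Z (sndPart (D := D)) ≅ FibDesc.incl (FibDesc.topAug (row Z)) ⋙ rowFun Z :=
  NatIso.ofComponents (fun _ => Iso.refl _) fun {X Y} f => FamSite.hom_ext (by
    show Prod.mkHom (𝟙 (FibDesc.bot D)) ((FibDesc.toAug D).map f.base) ≫ 𝟙 _ =
      𝟙 _ ≫ Prod.mkHom (𝟙 (FibDesc.bot D)) ((FibDesc.toAug D).map f.base)
    simp)

/-- Structured arrows of the square. -/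
lemma initial_ΦC (x : ∫ᶜ (FibDesc.topAug (row Z))) : (SheafBC.Φ (eC Z) x).Initial where
  out d := by
    let q := d.right.unop
    let h : (FibDesc.toAug D).obj q.base.2 ⟶ x.base := d.hom.unop.base.2
    let p : ∀ i : (WithInitial D)ᵒᵖ, i ⟶ FibDesc.bot D := fun i => (WithInitial.starInitial (C := D)).op.from i
    let top : ∀ (i : Dᵒᵖ) (h' : (FibDesc.toAug D).obj i ⟶ x.base), ∫ᶜ (FibDesc.part (FibDesc.topAug (row Z))) :=
      fun i h' => SpaceSite.mkP i ((Opens.map ((row Z).map h')).obj (SpaceSite.ob x))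
    let g : ∀ (i : Dᵒᵖ) (h' : (FibDesc.toAug D).obj i ⟶ x.base),
        StructuredArrow (op x) (FibDesc.incl (FibDesc.topAug (row Z))).op := fun i h' =>
      StructuredArrow.mk (Y := op (top i h')) (SpaceSite.hom (X := (FibDesc.incl (FibDesc.topAug (row Z))).obj (top i h'))
        (Z := x) h' le_rfl).op
    have hk : ∀ (i : Dᵒᵖ) (h' : (FibDesc.toAug D).obj i ⟶ x.base) (k : q.base.2 ⟶ i),
        (FibDesc.toAug D).map k ≫ h' = h →
        ob q ≤ (Opens.map ((diag Z).map (Prod.mkHom (p q.base.1) k : q.base ⟶ (FibDesc.bot D, i)))).obj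
          (SpaceSite.obP (top i h')) := fun i h' k hh z hz => by
      show Z.map (Prod.mkHom (𝟙 (FibDesc.bot D)) h') (Z.map (Prod.mkHom (p q.base.1) ((FibDesc.toAug D).map k)) z) ∈ SpaceSite.ob x
      rw [map_map_apply]
      have e : (Prod.mkHom (p q.base.1) ((FibDesc.toAug D).map k) ≫ Prod.mkHom (𝟙 (FibDesc.bot D)) h') = d.hom.unop.base :=
        Prod.ext ((SpaceSite.subsingleton_toBot _).elim _ _) hh
      rw [e]
      exact FamSite.hom_le d.hom.unop hz
    let c : ∀ (i : Dᵒᵖ) (h' : (FibDesc.toAug D).obj i ⟶ x.base) (k : q.base.2 ⟶ i),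
        (FibDesc.toAug D).map k ≫ h' = h → CostructuredArrow (SheafBC.Φ (eC Z) x) d := fun i h' k hh =>
      CostructuredArrow.mk (Y := g i h') (StructuredArrow.homMk
        (FamSite.hom (Z := diag Z) (X := q) (Y := (εD Z).obj (top i h')) (Prod.mkHom (p q.base.1) k) (hk i h' k hh)).op
        (Quiver.Hom.unop_inj (FamSite.hom_ext (Prod.ext ((SpaceSite.subsingleton_toBot _).elim _ _) (by
          show (FibDesc.toAug D).map k ≫ 𝟙 _ ≫ h' = h
          rw [Category.id_comp]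
          exact hh)))))
    have h₀ : (FibDesc.toAug D).map (𝟙 q.base.2) ≫ h = h := by simp
    have : Nonempty (CostructuredArrow (SheafBC.Φ (eC Z) x) d) := ⟨c q.base.2 h (𝟙 _) h₀⟩
    have key : ∀ a : CostructuredArrow (SheafBC.Φ (eC Z) x) d, Zigzag a (c q.base.2 h (𝟙 _) h₀) := fun a => by
      let i := a.left.right.unop.base
      let h' : (FibDesc.toAug D).obj i ⟶ x.base := a.left.hom.unop.base
      let k : q.base.2 ⟶ i := a.hom.right.unop.base.2
      have hh : (FibDesc.toAug D).map k ≫ h' = h := by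
        have e := congrArg Prod.snd (congrArg (fun z => z.unop.base) (StructuredArrow.w a.hom))
        exact ((congrArg ((FibDesc.toAug D).map k ≫ ·) (Category.id_comp h')).symm).trans e
      have hi : SpaceSite.obP a.left.right.unop ≤
          (Opens.map ((row Z).map ((FibDesc.toAug D).map (𝟙 i)))).obj (SpaceSite.obP (top i h')) := fun z hz => by
        rw [CategoryTheory.Functor.map_id, CategoryTheory.Functor.map_id]
        exact SpaceSite.hom_le a.left.hom.unop hz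
      have ht : SpaceSite.obP (top q.base.2 h) ≤
          (Opens.map ((row Z).map ((FibDesc.toAug D).map k))).obj (SpaceSite.obP (top i h')) := fun z hz => by
        show (row Z).map h' ((row Z).map ((FibDesc.toAug D).map k) z) ∈ SpaceSite.ob x
        rw [map_map_apply, hh]
        exact hz
      have m₁ : c i h' k hh ⟶ a := CostructuredArrow.homMk
        (StructuredArrow.homMk (SpaceSite.homP (X := a.left.right.unop) (Z := top i h') (𝟙 i) hi).op
          (Quiver.Hom.unop_inj (SpaceSite.hom_ext (by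
            show (FibDesc.toAug D).map (𝟙 i) ≫ h' = a.left.hom.unop.base
            simp [h']))))
        (StructuredArrow.ext _ _ (Quiver.Hom.unop_inj (FamSite.hom_ext
          (Prod.ext ((SpaceSite.subsingleton_toBot _).elim _ _) (Category.comp_id _)))))
      have m₂ : c i h' k hh ⟶ c q.base.2 h (𝟙 _) h₀ := CostructuredArrow.homMk
        (StructuredArrow.homMk (SpaceSite.homP (X := top q.base.2 h) (Z := top i h') k ht).op
          (Quiver.Hom.unop_inj (SpaceSite.hom_ext hh)))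
        (StructuredArrow.ext _ _ (Quiver.Hom.unop_inj (FamSite.hom_ext
          (Prod.ext ((SpaceSite.subsingleton_toBot _).elim _ _) (Category.id_comp _)))))
      exact Relation.ReflTransGen.trans (.single (Or.inr ⟨m₁⟩)) (.single (Or.inl ⟨m₂⟩))
    exact zigzag_isConnected fun a b => (key a).trans (zigzag_symm.symm _ _ (key b))

/-- Both ways around the square of restrictions. -/
noncomputable abbrev θC : (rowFun Z).sheafPushforwardContinuous AddCommGrpCat.{u} (SpaceSite.JA (row Z)) (JT Z) ⋙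
      SpaceCrit.I (row Z) ≅
    (reindex Z (sndPart (D := D))).sheafPushforwardContinuous AddCommGrpCat.{u} (JT (diag Z)) (JT Z) ⋙
      LevelDescent.Res (diag Z) :=
  SheafBC.θ (SpaceSite.JP (row Z)) (JT (diag Z)) (SpaceSite.JA (row Z)) (JT Z) AddCommGrpCat.{u} (eC Z)

/-- The base change isomorphism. -/
lemma nonempty_bc : Nonempty (SpaceCrit.I (row Z) ⋙ LevelDescent.Ext (diag Z) ≅
    rowExt Z ⋙ (reindex Z (sndPart (D := D))).sheafPushforwardContinuous AddCommGrpCat.{u} (JT (diag Z)) (JT Z)) := by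
  let ae₀ := (rowFun Z).sheafAdjunctionContinuous AddCommGrpCat.{u} (SpaceSite.JA (row Z)) (JT Z)
  have := DerivedCrit.isIso_ν₁ ae₀ (LevelDescent.ae (diag Z)) (θC Z).hom
    (SpaceCrit.ai (row Z))
    ((reindex Z (sndPart (D := D))).sheafAdjunctionCocontinuous AddCommGrpCat.{u} (JT (diag Z)) (JT Z))
    (fun W => by
      have := fun x => initial_ΦC Z x
      exact SheafBC.isIso_β (SpaceSite.JP (row Z)) (JT (diag Z)) (SpaceSite.JA (row Z)) (JT Z) AddCommGrpCat.{u} (eC Z) W)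
  exact ⟨asIso (DerivedCrit.ν₁ ae₀ (LevelDescent.ae (diag Z)) (θC Z).hom)⟩

/-- Exchanging the indices. -/
noncomputable abbrev σ :
    Tot (LevelDescent.ιP (D := D) ⋙ diag Z) ⥤ Tot (LevelDescent.ιP (D := D) ⋙ diag (flip Z)) :=
  reindex (LevelDescent.ιP (D := D) (P := Dᵒᵖ) ⋙ diag (flip Z)) (CategoryTheory.Prod.swap Dᵒᵖ Dᵒᵖ)

instance σ_isContinuous : (σ Z).IsContinuous (JT (LevelDescent.ιP (D := D) ⋙ diag Z))
    (JT (LevelDescent.ιP (D := D) ⋙ diag (flip Z))) :=
  reindex_isContinuous (LevelDescent.ιP (D := D) (P := Dᵒᵖ) ⋙ diag (flip Z)) (CategoryTheory.Prod.swap Dᵒᵖ Dᵒᵖ)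

instance σ_isCocontinuous : (σ Z).IsCocontinuous (JT (LevelDescent.ιP (D := D) ⋙ diag Z))
    (JT (LevelDescent.ιP (D := D) ⋙ diag (flip Z))) :=
  reindex_isCocontinuous (LevelDescent.ιP (D := D) (P := Dᵒᵖ) ⋙ diag (flip Z)) (CategoryTheory.Prod.swap Dᵒᵖ Dᵒᵖ)

/-- Exchanging the indices back. -/
noncomputable abbrev σ' :
    Tot (LevelDescent.ιP (D := D) ⋙ diag (flip Z)) ⥤ Tot (LevelDescent.ιP (D := D) ⋙ diag Z) :=
  reindex (LevelDescent.ιP (D := D) (P := Dᵒᵖ) ⋙ diag Z) (CategoryTheory.Prod.swap Dᵒᵖ Dᵒᵖ)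

instance σ'_isContinuous : (σ' Z).IsContinuous (JT (LevelDescent.ιP (D := D) ⋙ diag (flip Z)))
    (JT (LevelDescent.ιP (D := D) ⋙ diag Z)) :=
  reindex_isContinuous (LevelDescent.ιP (D := D) (P := Dᵒᵖ) ⋙ diag Z) (CategoryTheory.Prod.swap Dᵒᵖ Dᵒᵖ)

instance σ'_isCocontinuous : (σ' Z).IsCocontinuous (JT (LevelDescent.ιP (D := D) ⋙ diag (flip Z)))
    (JT (LevelDescent.ιP (D := D) ⋙ diag Z)) :=
  reindex_isCocontinuous (LevelDescent.ιP (D := D) (P := Dᵒᵖ) ⋙ diag Z) (CategoryTheory.Prod.swap Dᵒᵖ Dᵒᵖ)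

/-- Restriction along the exchange. -/
noncomputable abbrev swapSh := (σ Z).sheafPushforwardContinuous AddCommGrpCat.{u}
  (JT (LevelDescent.ιP (D := D) ⋙ diag Z)) (JT (LevelDescent.ιP (D := D) ⋙ diag (flip Z)))

/-- The inverse restriction. -/
noncomputable abbrev swapSh' := (σ' Z).sheafPushforwardContinuous AddCommGrpCat.{u}
  (JT (LevelDescent.ιP (D := D) ⋙ diag (flip Z))) (JT (LevelDescent.ιP (D := D) ⋙ diag Z))

/-- The bi-augmented part. -/
noncomputable def eQ : reindex (diag Z) (LevelDescent.ιP (D := D) (P := Dᵒᵖ)) ⋙ reindex Z (sndPart (D := D)) ≅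
    σ Z ⋙ reindex (diag (flip Z)) (LevelDescent.ιP (D := D) (P := Dᵒᵖ)) ⋙ reindex (flip Z) (sndPart (D := D)) ⋙
      reindex Z (CategoryTheory.Prod.swap (WithInitial D)ᵒᵖ (WithInitial D)ᵒᵖ) :=
  NatIso.ofComponents (fun _ => Iso.refl _) fun {X Y} f => FamSite.hom_ext (by
    show Prod.mkHom ((FibDesc.toAug D).map f.base.1) ((FibDesc.toAug D).map f.base.2) ≫ 𝟙 _ =
      𝟙 _ ≫ Prod.mkHom ((FibDesc.toAug D).map f.base.1) ((FibDesc.toAug D).map f.base.2)
    simp)

attribute [local instance] HasDerivedCategory.standard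

instance additive_swapSh : (swapSh Z).Additive where
instance additive_swapSh' : (swapSh' Z).Additive where

lemma ff_swapSh [PreservesFiniteColimits (swapSh Z)] : DerivedFF.FF (swapSh Z) :=
  have : PreservesFiniteColimits (swapSh' Z) := Precomp.preservesFiniteColimits _
  have := Functor.isContinuous_comp (σ' Z) (σ Z) (JT (LevelDescent.ιP (D := D) ⋙ diag (flip Z)))
    (JT (LevelDescent.ιP (D := D) ⋙ diag Z)) (JT (LevelDescent.ιP (D := D) ⋙ diag (flip Z)))
  have := Functor.isContinuous_comp (σ Z) (σ' Z) (JT (LevelDescent.ιP (D := D) ⋙ diag Z))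
    (JT (LevelDescent.ιP (D := D) ⋙ diag (flip Z))) (JT (LevelDescent.ιP (D := D) ⋙ diag Z))
  DerivedFF.of_equivalence (swapSh' Z)
    (Functor.sheafPushforwardContinuousComp (σ' Z) (σ Z) AddCommGrpCat.{u} _ _ _ ≪≫
      Functor.sheafPushforwardContinuousId' (F'' := σ' Z ⋙ σ Z)
        (NatIso.ofComponents (fun _ => Iso.refl _) fun {X Y} f => FamSite.hom_ext (by
          show Prod.mkHom f.base.1 f.base.2 ≫ 𝟙 _ = 𝟙 _ ≫ f.base
          simp)) AddCommGrpCat.{u} _)
    (Functor.sheafPushforwardContinuousComp (σ Z) (σ' Z) AddCommGrpCat.{u} _ _ _ ≪≫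
      Functor.sheafPushforwardContinuousId' (F'' := σ Z ⋙ σ' Z)
        (NatIso.ofComponents (fun _ => Iso.refl _) fun {X Y} f => FamSite.hom_ext (by
          show Prod.mkHom f.base.1 f.base.2 ≫ 𝟙 _ = 𝟙 _ ≫ f.base
          simp)) AddCommGrpCat.{u} _)

/-- Exchanging the indices of the whole diagram. -/
noncomputable abbrev τ : Tot (flip Z) ⥤ Tot Z :=
  reindex Z (CategoryTheory.Prod.swap (WithInitial D)ᵒᵖ (WithInitial D)ᵒᵖ)

/-- Exchanging the indices of the whole diagram back. -/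
noncomputable abbrev τ' : Tot Z ⥤ Tot (flip Z) :=
  reindex (flip Z) (CategoryTheory.Prod.swap (WithInitial D)ᵒᵖ (WithInitial D)ᵒᵖ)

instance τ_isContinuous : (τ Z).IsContinuous (JT (flip Z)) (JT Z) :=
  reindex_isContinuous Z (CategoryTheory.Prod.swap (WithInitial D)ᵒᵖ (WithInitial D)ᵒᵖ)

instance τ'_isContinuous : (τ' Z).IsContinuous (JT Z) (JT (flip Z)) :=
  reindex_isContinuous (flip Z) (CategoryTheory.Prod.swap (WithInitial D)ᵒᵖ (WithInitial D)ᵒᵖ)

/-- Restriction along the exchange is left adjoint to restriction back. -/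
noncomputable def τAdj : (τ Z).sheafPushforwardContinuous AddCommGrpCat.{u} (JT (flip Z)) (JT Z) ⊣
    (τ' Z).sheafPushforwardContinuous AddCommGrpCat.{u} (JT Z) (JT (flip Z)) :=
  have := Functor.isContinuous_comp (τ' Z) (τ Z) (JT Z) (JT (flip Z)) (JT Z)
  have := Functor.isContinuous_comp (τ Z) (τ' Z) (JT (flip Z)) (JT Z) (JT (flip Z))
  (CategoryTheory.Equivalence.mk ((τ Z).sheafPushforwardContinuous AddCommGrpCat.{u} (JT (flip Z)) (JT Z))
    ((τ' Z).sheafPushforwardContinuous AddCommGrpCat.{u} (JT Z) (JT (flip Z)))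
    (Functor.sheafPushforwardContinuousComp (τ' Z) (τ Z) AddCommGrpCat.{u} _ _ _ ≪≫
      Functor.sheafPushforwardContinuousId' (F'' := τ' Z ⋙ τ Z)
        (NatIso.ofComponents (fun _ => Iso.refl _) fun {X Y} f => FamSite.hom_ext (by
          show Prod.mkHom f.base.1 f.base.2 ≫ 𝟙 _ = 𝟙 _ ≫ f.base
          simp)) AddCommGrpCat.{u} _).symm
    (Functor.sheafPushforwardContinuousComp (τ Z) (τ' Z) AddCommGrpCat.{u} _ _ _ ≪≫
      Functor.sheafPushforwardContinuousId' (F'' := τ Z ⋙ τ' Z)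
        (NatIso.ofComponents (fun _ => Iso.refl _) fun {X Y} f => FamSite.hom_ext (by
          show Prod.mkHom f.base.1 f.base.2 ≫ 𝟙 _ = 𝟙 _ ≫ f.base
          simp)) AddCommGrpCat.{u} _)).toAdjunction

/-- The opens of the base space. -/
noncomputable abbrev base : Opens (Z.obj (FibDesc.bot D, FibDesc.bot D)) ⥤ Tot (flip Z) :=
  FibDesc.eps (FibDesc.topAug (row (flip Z))) ⋙ rowFun (flip Z)

/-- The two extensions from the base space agree. -/
lemma nonempty_extIso : Nonempty (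
    (SpaceCrit.Ext (row Z) ⋙ rowExt Z) ⋙ (τ Z).sheafPushforwardContinuous AddCommGrpCat.{u} (JT (flip Z)) (JT Z) ≅
      SpaceCrit.Ext (row (flip Z)) ⋙ rowExt (flip Z)) := by
  let a₁ := ((SpaceCrit.ae (row Z)).comp
    ((rowFun Z).sheafAdjunctionContinuous AddCommGrpCat.{u} (SpaceSite.JA (row Z)) (JT Z))).comp (τAdj Z)
  let a₂ := (SpaceCrit.ae (row (flip Z))).comp
    ((rowFun (flip Z)).sheafAdjunctionContinuous AddCommGrpCat.{u} (SpaceSite.JA (row (flip Z))) (JT (flip Z)))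
  let J₀ := FibDesc.topAugTop (row Z) (FibDesc.bot D)
  let F₁ := FibDesc.eps (FibDesc.topAug (row Z)) ⋙ rowFun Z ⋙ τ' Z
  let F₂ := FibDesc.eps (FibDesc.topAug (row (flip Z))) ⋙ rowFun (flip Z)
  have c₀ := Functor.isContinuous_comp (rowFun Z) (τ' Z) (SpaceSite.JA (row Z)) (JT Z) (JT (flip Z))
  have c₁ : F₁.IsContinuous J₀ (JT (flip Z)) :=
    Functor.isContinuous_comp (FibDesc.eps (FibDesc.topAug (row Z))) (rowFun Z ⋙ τ' Z) J₀ (SpaceSite.JA (row Z)) (JT (flip Z))
  have c₂ : F₂.IsContinuous J₀ (JT (flip Z)) :=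
    Functor.isContinuous_comp (FibDesc.eps (FibDesc.topAug (row (flip Z)))) (rowFun (flip Z))
      (FibDesc.topAugTop (row (flip Z)) (FibDesc.bot D)) (SpaceSite.JA (row (flip Z))) (JT (flip Z))
  let e : F₁ ≅ F₂ := NatIso.ofComponents (fun _ => Iso.refl _) fun {X Y} f => FamSite.hom_ext (by
    show Prod.mkHom (𝟙 (FibDesc.bot D)) (𝟙 (FibDesc.bot D)) ≫ 𝟙 _ =
      𝟙 _ ≫ Prod.mkHom (𝟙 (FibDesc.bot D)) (𝟙 (FibDesc.bot D))
    simp)
  let ri : (τ' Z).sheafPushforwardContinuous AddCommGrpCat.{u} (JT Z) (JT (flip Z)) ⋙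
        (rowFun Z).sheafPushforwardContinuous AddCommGrpCat.{u} (SpaceSite.JA (row Z)) (JT Z) ⋙ SpaceCrit.Res (row Z) ≅
      (rowFun (flip Z)).sheafPushforwardContinuous AddCommGrpCat.{u} (SpaceSite.JA (row (flip Z))) (JT (flip Z)) ⋙
        SpaceCrit.Res (row (flip Z)) :=
    Functor.sheafPushforwardContinuousIso (F := F₁) (F' := F₂) e AddCommGrpCat.{u} J₀ (JT (flip Z))
  exact ⟨(a₁.ofNatIsoRight ri).leftAdjointUniq a₂⟩

/-- The two inverse images to the bi-augmented part agree. -/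
lemma nonempty_compare : Nonempty (SpaceCrit.pull (row Z) ⋙ LevelDescent.G (diag Z) ≅
    (SpaceCrit.pull (row (flip Z)) ⋙ LevelDescent.G (diag (flip Z))) ⋙ swapSh Z) := by
  obtain ⟨b₁⟩ := nonempty_bc Z
  obtain ⟨b₂⟩ := nonempty_bc (flip Z)
  obtain ⟨x⟩ := nonempty_extIso Z
  let Ra := (reindex Z (sndPart (D := D))).sheafPushforwardContinuous AddCommGrpCat.{u} (JT (diag Z)) (JT Z)
  let Rb := (reindex (flip Z) (sndPart (D := D))).sheafPushforwardContinuous AddCommGrpCat.{u} (JT (diag (flip Z))) (JT (flip Z))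
  let T := (τ Z).sheafPushforwardContinuous AddCommGrpCat.{u} (JT (flip Z)) (JT Z)
  let F₁ := reindex (diag Z) (LevelDescent.ιP (D := D) (P := Dᵒᵖ)) ⋙ reindex Z (sndPart (D := D))
  let F₂ := σ Z ⋙ reindex (diag (flip Z)) (LevelDescent.ιP (D := D) (P := Dᵒᵖ)) ⋙ reindex (flip Z) (sndPart (D := D)) ⋙ τ Z
  have c₁ : F₁.IsContinuous (JT (LevelDescent.ιP (D := D) ⋙ diag Z)) (JT Z) :=
    Functor.isContinuous_comp (reindex (diag Z) (LevelDescent.ιP (D := D) (P := Dᵒᵖ))) (reindex Z (sndPart (D := D)))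
      _ (JT (diag Z)) _
  have c₂a := Functor.isContinuous_comp (reindex (flip Z) (sndPart (D := D))) (τ Z) (JT (diag (flip Z))) (JT (flip Z)) (JT Z)
  have c₂b := Functor.isContinuous_comp (reindex (diag (flip Z)) (LevelDescent.ιP (D := D) (P := Dᵒᵖ)))
    (reindex (flip Z) (sndPart (D := D)) ⋙ τ Z) (JT (LevelDescent.ιP (D := D) ⋙ diag (flip Z))) (JT (diag (flip Z))) (JT Z)
  have c₂ : F₂.IsContinuous (JT (LevelDescent.ιP (D := D) ⋙ diag Z)) (JT Z) :=
    Functor.isContinuous_comp (σ Z) _ _ (JT (LevelDescent.ιP (D := D) ⋙ diag (flip Z))) _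
  let q : Ra ⋙ LevelDescent.I (diag Z) ≅ T ⋙ Rb ⋙ LevelDescent.I (diag (flip Z)) ⋙ swapSh Z :=
    Functor.sheafPushforwardContinuousIso (F := F₁) (F' := F₂) (eQ Z) AddCommGrpCat.{u}
      (JT (LevelDescent.ιP (D := D) ⋙ diag Z)) (JT Z)
  let A := SpaceCrit.Ext (row Z)
  let B := SpaceCrit.Ext (row (flip Z))
  exact ⟨calc
    SpaceCrit.pull (row Z) ⋙ LevelDescent.G (diag Z)
      ≅ A ⋙ (SpaceCrit.I (row Z) ⋙ LevelDescent.Ext (diag Z)) ⋙ LevelDescent.I (diag Z) := Iso.refl _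
    _ ≅ A ⋙ (rowExt Z ⋙ Ra) ⋙ LevelDescent.I (diag Z) :=
      Functor.isoWhiskerLeft A (Functor.isoWhiskerRight b₁ _)
    _ ≅ (A ⋙ rowExt Z) ⋙ (Ra ⋙ LevelDescent.I (diag Z)) := Iso.refl _
    _ ≅ (A ⋙ rowExt Z) ⋙ (T ⋙ Rb ⋙ LevelDescent.I (diag (flip Z)) ⋙ swapSh Z) := Functor.isoWhiskerLeft _ q
    _ ≅ ((A ⋙ rowExt Z) ⋙ T) ⋙ (Rb ⋙ LevelDescent.I (diag (flip Z)) ⋙ swapSh Z) := Iso.refl _
    _ ≅ (B ⋙ rowExt (flip Z)) ⋙ (Rb ⋙ LevelDescent.I (diag (flip Z)) ⋙ swapSh Z) := Functor.isoWhiskerRight x _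
    _ ≅ B ⋙ (rowExt (flip Z) ⋙ Rb) ⋙ (LevelDescent.I (diag (flip Z)) ⋙ swapSh Z) := Iso.refl _
    _ ≅ B ⋙ (SpaceCrit.I (row (flip Z)) ⋙ LevelDescent.Ext (diag (flip Z))) ⋙ (LevelDescent.I (diag (flip Z)) ⋙ swapSh Z) :=
      Functor.isoWhiskerLeft B (Functor.isoWhiskerRight b₂.symm _)
    _ ≅ (SpaceCrit.pull (row (flip Z)) ⋙ LevelDescent.G (diag (flip Z))) ⋙ swapSh Z := Iso.refl _⟩

/-- Descent along one direction of a bi-augmented family from descent along the other and levelwise descent. -/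
theorem isCohDescentTop_of_biAug (hr : FibDesc.IsCohDescentTop (row Z))
    (h₁ : ∀ n : Dᵒᵖ, FibDesc.IsCohDescentTop (LevelDescent.col (diag Z) n))
    (h₂ : ∀ n : Dᵒᵖ, FibDesc.IsCohDescentTop (LevelDescent.col (diag (flip Z)) n)) :
    FibDesc.IsCohDescentTop (row (flip Z)) := by
  let P₁ := SpaceCrit.pull (row Z)
  let P₂ := SpaceCrit.pull (row (flip Z))
  let G₁ := LevelDescent.G (diag Z)
  let G₂ := LevelDescent.G (diag (flip Z))
  have hS : PreservesFiniteColimits (swapSh Z) := Precomp.preservesFiniteColimits _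
  have : PreservesFiniteLimits G₁ := LevelDescent.preservesFiniteLimits_G (diag Z)
  have : PreservesFiniteColimits G₁ := LevelDescent.preservesFiniteColimits_G (diag Z)
  have : PreservesFiniteLimits G₂ := LevelDescent.preservesFiniteLimits_G (diag (flip Z))
  have : PreservesFiniteColimits G₂ := LevelDescent.preservesFiniteColimits_G (diag (flip Z))
  have : G₁.Additive := LevelDescent.additive_G (diag Z)
  have : G₂.Additive := LevelDescent.additive_G (diag (flip Z))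
  have f₁ : DerivedFF.FF P₁ := DerivedCrit.bijective_of_computes (SpaceCrit.adj (row Z))
    (SpaceCrit.computes_of_isCohDescentTop _ hr)
  obtain ⟨e⟩ := nonempty_compare Z
  have f₅ : DerivedFF.FF P₂ := DerivedFF.transfer P₁ G₁ P₂ G₂ (swapSh Z) e f₁
    (LevelDescent.ff_G (diag Z) h₁) (LevelDescent.ff_G (diag (flip Z)) h₂) (ff_swapSh Z)
  exact SpaceCrit.isCohDescentTop_of_computes _ (DerivedCrit.computes_of_bijective (SpaceCrit.adj (row (flip Z))) f₅)

end Groth.L09.BiDescent
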