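import Mathlib.CategoryTheory.Limits.Constructions.FiniteProductsOfBinaryProducts
import Mathlib.CategoryTheory.Limits.Constructions.LimitsOfProductsAndEqualizers
import Mathlib.CategoryTheory.Limits.Types.Colimits
import Mathlib.CategoryTheory.Filtered.Basic
import Mathlib.CategoryTheory.IsConnected

/-!
Elementary lemmas on limits and colimits.
-/

set_option autoImplicit false
universe w v u v₁ u₁

open CategoryTheory Category Limits

namespace Groth.L09.CatLimLib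

variable {C : Type u} [Category.{v} C]

lemma hasLimit_fin_succ [HasBinaryProducts C] : ∀ (n : ℕ) (f : Fin (n + 1) → C), HasLimit (Discrete.functor f)
  | 0, f => HasLimit.mk
      { cone := Fan.mk (f 0) (fun i => eqToHom (congrArg f ((Fin.fin_one_eq_zero i).symm)))
        isLimit := Fan.IsLimit.mk _ (fun s => s.proj 0)
          (fun s i => by obtain rfl := (Fin.fin_one_eq_zero i).symm; simp)
          (fun s m hm => by simpa using hm 0) }
  | n + 1, f => by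
    have := hasLimit_fin_succ n (fun i : Fin (n + 1) => f i.succ)
    exact HasLimit.mk ⟨extendFan (Fan.mk _ (Pi.π fun i : Fin (n + 1) => f i.succ))
        (BinaryFan.mk prod.fst prod.snd),
      extendFanIsLimit f (productIsProduct _) (prodIsProd _ _)⟩

lemma hasProductsOfShape [HasBinaryProducts C] (ι : Type w) [Finite ι] [Nonempty ι] :
    HasLimitsOfShape (Discrete ι) C := by
  obtain ⟨n, ⟨e⟩⟩ := Finite.exists_equiv_fin ι
  obtain ⟨m, rfl⟩ : ∃ m, n = m + 1 :=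
    Nat.exists_eq_succ_of_ne_zero (fun h => by subst h; exact (e (Classical.arbitrary ι)).elim0)
  have : HasLimitsOfShape (Discrete (Fin (m + 1))) C :=
    ⟨fun F => by
      have := hasLimit_fin_succ m (F.obj ∘ Discrete.mk)
      exact hasLimit_of_iso Discrete.natIsoFunctor.symm⟩
  exact hasLimitsOfShape_of_equivalence (Discrete.equivalence e.symm)

variable {I : Type u₁} [Category.{v₁} I]

lemma common_succ (h1 : ∀ ⦃w x y : I⦄ (a : w ⟶ x) (b : w ⟶ y), ∃ (z : I) (c : x ⟶ z) (d : y ⟶ z), a ≫ c = b ≫ d)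
    {x y : I} (h : Zigzag x y) : ∃ z : I, Nonempty (x ⟶ z) ∧ Nonempty (y ⟶ z) := by
  induction h with
  | refl => exact ⟨x, ⟨𝟙 x⟩, ⟨𝟙 x⟩⟩
  | tail _ hbc ih =>
    obtain ⟨z, ⟨a⟩, ⟨b⟩⟩ := ih
    rcases hbc with ⟨⟨g⟩⟩ | ⟨⟨g⟩⟩
    · obtain ⟨z', c, d, -⟩ := h1 b g
      exact ⟨z', ⟨a ≫ c⟩, ⟨d⟩⟩
    · exact ⟨z, ⟨a⟩, ⟨g ≫ b⟩⟩

lemma colimit_rel_of_span {J : Type v₁} [SmallCategory J]
    (hI : ∀ ⦃x y z : J⦄ (f : x ⟶ y) (g : x ⟶ z), ∃ (w : J) (f' : y ⟶ w) (g' : z ⟶ w), f ≫ f' = g ≫ g')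
    {F : J ⥤ Type v₁} {i j : J} {x : F.obj i} {y : F.obj j}
    (h : colimit.ι F i x = colimit.ι F j y) : ∃ (k : J) (f : i ⟶ k) (g : j ⟶ k), F.map f x = F.map g y := by
  let S : (Σ i, F.obj i) → (Σ i, F.obj i) → Prop := fun p q =>
    ∃ (k : J) (f : p.1 ⟶ k) (g : q.1 ⟶ k), F.map f p.2 = F.map g q.2
  have hS : Equivalence S := by
    refine ⟨fun p => ⟨p.1, 𝟙 _, 𝟙 _, rfl⟩, fun {p q} ⟨k, f, g, e⟩ => ⟨k, g, f, e.symm⟩, ?_⟩
    rintro p q r ⟨k, f, g, e⟩ ⟨l, f', g', e'⟩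
    obtain ⟨m, a, b, hab⟩ := hI g f'
    refine ⟨m, f ≫ a, g' ≫ b, ?_⟩
    rw [Functor.map_comp_apply, Functor.map_comp_apply, e, ← e', ← Functor.map_comp_apply, hab,
      Functor.map_comp_apply]
  have hgen := Types.colimit_eq h
  suffices ∀ p q, Relation.EqvGen F.ColimitTypeRel p q → S p q from this ⟨i, x⟩ ⟨j, y⟩ hgen
  intro p q hpq
  induction hpq with
  | rel p q hpq =>
    obtain ⟨f, hf⟩ := hpq
    exact ⟨q.1, f, 𝟙 _, by simp [hf]⟩
  | refl p => exact hS.refl p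
  | symm p q _ ih => exact hS.symm ih
  | trans p q r _ _ ih1 ih2 => exact hS.trans ih1 ih2

end Groth.L09.CatLimLib
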