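import Groth.Agent.L09.SpaceDescent

/-!
The Cech nerve of a map with a section has a contraction.
-/

set_option autoImplicit false
set_option linter.unusedSectionVars false
set_option backward.isDefEq.respectTransparency false
set_option backward.isDefEq.respectTransparency.types false
universe u
open CategoryTheory CategoryTheory.Limits Opposite Simplicial

namespace Groth.L09.CechSection

/-- Adjoin a first vertex to an order preserving map. -/
def pre {n m : ℕ} (f : Fin n →o Fin m) : Fin (n + 1) →o Fin (m + 1) where
  toFun := Fin.cases 0 fun i => (f i).succ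
  monotone' a b h := by
    induction a using Fin.cases with
    | zero => exact Fin.zero_le _
    | succ a =>
      induction b using Fin.cases with
      | zero => exact absurd h (by simp [Fin.le_def])
      | succ b => simpa using f.monotone (Fin.succ_le_succ_iff.1 h)

/-- Adjoining a first vertex. -/
def shift : SimplexCategory ⥤ SimplexCategory where
  obj n := SimplexCategory.mk (n.len + 1)
  map f := SimplexCategory.Hom.mk (pre f.toOrderHom)
  map_id n := by
    ext i : 3
    induction i using Fin.cases <;> rfl
  map_comp f g := by
    ext i : 3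
    induction i using Fin.cases <;> rfl

/-- The shift on the augmented simplex category. -/
def Φ : WithInitial SimplexCategory ⥤ SimplexCategory :=
  WithInitial.lift (Z := ⦋0⦌) shift (fun n => SimplexCategory.const ⦋0⦌ (shift.obj n) (0 : Fin (n.len + 2)))
    (fun _ _ _ => by ext i : 3; rfl)

/-- The face omitting the adjoined vertex. -/
def face (n : SimplexCategory) : n ⟶ shift.obj n :=
  SimplexCategory.Hom.mk ⟨fun i => i.succ, fun _ _ h => Fin.succ_le_succ_iff.2 h⟩

lemma face_nat {n m : SimplexCategory} (f : n ⟶ m) : f ≫ face m = face n ≫ shift.map f := by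
  ext i : 3
  rfl

/-- The faces. -/
def ν : 𝟭 (WithInitial SimplexCategory) ⟶ Φ ⋙ WithInitial.incl where
  app
    | WithInitial.of n => WithInitial.incl.map (face n)
    | WithInitial.star => WithInitial.starInitial.to _
  naturality := by
    rintro (n | _) (m | _) f
    · exact congrArg WithInitial.incl.map (face_nat (WithInitial.down f))
    · exact (WithInitial.false_of_to_star f).elim
    · exact WithInitial.starInitial.hom_ext _ _
    · exact WithInitial.starInitial.hom_ext _ _

variable {X S : TopCat.{u}} (f : X ⟶ S) (σ : S ⟶ X) (h : σ ≫ f = 𝟙 S)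

/-- The extra degeneracy. -/
noncomputable def s₀ (n : SimplexCategory) :
    (Arrow.mk f).cechNerve.obj (op n) ⟶ (Arrow.mk f).cechNerve.obj (op (shift.obj n)) :=
  WidePullback.lift (WidePullback.base _) (Fin.cases (WidePullback.base (fun _ => (Arrow.mk f).hom) ≫ σ)
    (fun i => WidePullback.π (fun _ => (Arrow.mk f).hom) i)) (fun j => by
      induction j using Fin.cases with
      | zero => exact (Category.assoc _ _ _).trans ((congrArg (_ ≫ ·) h).trans (Category.comp_id _))
      | succ i => exact WidePullback.π_arrow _ i)

/-- The degeneracy of the augmentation. -/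
noncomputable def sB : S ⟶ (Arrow.mk f).cechNerve.obj (op ⦋0⦌) :=
  WidePullback.lift (𝟙 S) (fun _ => σ) (fun _ => h)

lemma sB_π (i : Fin (0 + 1)) : sB f σ h ≫ WidePullback.π (fun _ => (Arrow.mk f).hom) i = σ :=
  WidePullback.lift_π _ _ _ _ _

/-- The contraction. -/
noncomputable def contraction : Contraction (FibDesc.cechAug f) where
  Ψ := Φ.op
  d :=
    { app := fun i => (ν.app i.unop).op
      naturality := fun i j g => Quiver.Hom.unop_inj (ν.naturality g.unop).symm }
  s :=
    { app := fun
        | op (WithInitial.of n) => s₀ f σ h n
        | op WithInitial.star => sB f σ h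
      naturality := by
        rintro ⟨n | _⟩ ⟨m | _⟩ g
        · show (Arrow.mk f).cechNerve.map (Quiver.Hom.op (WithInitial.down g.unop)) ≫ s₀ f σ h m =
            s₀ f σ h n ≫ (Arrow.mk f).cechNerve.map (shift.map (WithInitial.down g.unop)).op
          refine WidePullback.hom_ext _ _ _ (fun i => ?_) ?_
          · induction i using Fin.cases with
            | zero => simp [s₀, shift, pre]
            | succ i => simp [s₀, shift, pre]
          · simp [s₀]
        · show WidePullback.base (fun _ => (Arrow.mk f).hom) ≫ sB f σ h =
            s₀ f σ h n ≫ (Arrow.mk f).cechNerve.map (SimplexCategory.const ⦋0⦌ (shift.obj n) (0 : Fin (n.len + 2))).op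
          refine WidePullback.hom_ext _ _ _ (fun i => ?_) ?_
          · simp [s₀, sB]
          · simp [s₀, sB]
        · exact (WithInitial.false_of_to_star g.unop).elim
        · show (FibDesc.cechAug f).map g ≫ sB f σ h = sB f σ h ≫ _
          obtain rfl : g = 𝟙 _ := Quiver.Hom.unop_inj (WithInitial.starInitial.hom_ext _ _)
          refine Eq.trans (congrArg (· ≫ sB f σ h) ((FibDesc.cechAug f).map_id _)) ?_
          refine Eq.trans (Category.id_comp _) ?_
          exact ((congrArg (sB f σ h ≫ ·) (((Φ.op ⋙ FibDesc.toAug SimplexCategory) ⋙ FibDesc.cechAug f).map_id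
            (op WithInitial.star))).trans (Category.comp_id _)).symm }
  fac := by
    rintro ⟨n | _⟩
    · show s₀ f σ h n ≫ (Arrow.mk f).cechNerve.map (face n).op = 𝟙 _
      refine WidePullback.hom_ext _ _ _ (fun i => ?_) ?_
      · simp [s₀, face]
      · simp [s₀]
    · show sB f σ h ≫ WidePullback.base (fun _ => (Arrow.mk f).hom) = 𝟙 S
      simp [sB]

end Groth.L09.CechSection
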