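import Groth.Agent.L09.OpenRestrict
import Groth.Agent.L09.CechSection
import Mathlib.CategoryTheory.Limits.Shapes.Pullback.IsPullback.Basic

/-!
Cech nerves and base change along open embeddings.
-/

set_option autoImplicit false
set_option linter.unusedSectionVars false
set_option backward.isDefEq.respectTransparency false
set_option backward.isDefEq.respectTransparency.types false
universe u
open CategoryTheory CategoryTheory.Limits Opposite

namespace Groth.L09.CechOpen

variable {X S V : TopCat.{u}} (f : X ⟶ S) (g : V ⟶ S)

/-- The square of a base change. -/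
noncomputable abbrev sq : Arrow.mk (pullback.snd f g) ⟶ Arrow.mk f :=
  Arrow.homMk (pullback.fst f g) g pullback.condition

/-- The map of Cech nerves of a base change. -/
noncomputable def jn : FibDesc.cechAug (pullback.snd f g) ⟶ FibDesc.cechAug f :=
  AugmentedSimplexCategory.equivAugmentedSimplicialObject.inverse.map (Arrow.mapAugmentedCechNerve (sq f g))

lemma jn_star : (jn f g).app (op WithInitial.star) = g := rfl

lemma isPullback (n : SimplexCategory) :
    IsPullback ((Arrow.mapCechNerve (sq f g)).app (op n)) (WidePullback.base (fun _ => (Arrow.mk (pullback.snd f g)).hom))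
      (WidePullback.base (fun _ => (Arrow.mk f).hom)) g := by
  have w : (Arrow.mapCechNerve (sq f g)).app (op n) ≫ WidePullback.base (fun _ => (Arrow.mk f).hom) =
      WidePullback.base (fun _ => (Arrow.mk (pullback.snd f g)).hom) ≫ g := WidePullback.lift_base _ _ _ _
  have hfst : ∀ i, (Arrow.mapCechNerve (sq f g)).app (op n) ≫ WidePullback.π (fun _ => (Arrow.mk f).hom) i =
      WidePullback.π (fun _ => (Arrow.mk (pullback.snd f g)).hom) i ≫ pullback.fst f g := fun i =>
    WidePullback.lift_π _ _ _ _ _
  refine IsPullback.of_isLimit' ⟨w⟩ (PullbackCone.IsLimit.mk w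
    (fun s => WidePullback.lift s.snd
      (fun i => pullback.lift (s.fst ≫ WidePullback.π (fun _ => (Arrow.mk f).hom) i) s.snd (by
        rw [Category.assoc]
        exact (congrArg (s.fst ≫ ·) (WidePullback.π_arrow (fun _ => (Arrow.mk f).hom) i)).trans s.condition))
      (fun i => pullback.lift_snd _ _ _))
    (fun s => ?_) (fun s => WidePullback.lift_base _ _ _ _) (fun s m h₁ h₂ => ?_))
  · refine WidePullback.hom_ext _ _ _ (fun i => ?_) ?_
    · rw [Category.assoc, hfst, WidePullback.lift_π_assoc]
      exact pullback.lift_fst _ _ _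
    · rw [Category.assoc, w, WidePullback.lift_base_assoc]
      exact s.condition.symm
  · refine WidePullback.hom_ext _ _ _ (fun i => ?_) ?_
    · rw [WidePullback.lift_π]
      refine pullback.hom_ext ?_ ?_
      · refine Eq.trans ?_ (pullback.lift_fst _ _ _).symm
        rw [Category.assoc, ← hfst i, ← Category.assoc]
        exact congrArg (· ≫ _) h₁
      · refine Eq.trans ?_ (pullback.lift_snd _ _ _).symm
        rw [Category.assoc]
        exact (congrArg (m ≫ ·) (WidePullback.π_arrow (fun _ => (Arrow.mk (pullback.snd f g)).hom) i)).trans h₂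
    · rw [WidePullback.lift_base]
      exact h₂

variable (hg : Topology.IsOpenEmbedding g)

include hg in
lemma emb_range (n : SimplexCategory) :
    Topology.IsOpenEmbedding ((Arrow.mapCechNerve (sq f g)).app (op n)) ∧
      ∀ y, WidePullback.base (fun _ => (Arrow.mk f).hom) y ∈ Set.range g →
        y ∈ Set.range ((Arrow.mapCechNerve (sq f g)).app (op n)) := by
  let e := (isPullback f g n).isoPullback
  have he := TopCat.homeoOfIso e
  have h := (isPullback f g n).isoPullback_hom_fst
  have h1 := (TopCat.fst_isOpenEmbedding_of_right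
    (WidePullback.base (fun _ : Fin (n.len + 1) => (Arrow.mk f).hom)) hg)
  refine ⟨?_, fun y hy => ?_⟩
  · rw [← h]
    exact h1.comp (TopCat.homeoOfIso e).isOpenEmbedding
  · obtain ⟨v, hv⟩ := hy
    have hy' : y ∈ Set.range (pullback.fst (WidePullback.base (fun _ : Fin (n.len + 1) => (Arrow.mk f).hom)) g) := by
      rw [TopCat.pullback_fst_range]
      exact ⟨v, hv.symm⟩
    obtain ⟨z, rfl⟩ := hy'
    obtain ⟨w, rfl⟩ := (TopCat.homeoOfIso e).surjective z
    exact ⟨w, (ConcreteCategory.congr_hom h w).symm⟩

/-- Base change along an open embedding. -/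
noncomputable def openMap : OpenMap (FibDesc.cechAug (pullback.snd f g)) (FibDesc.cechAug f) where
  j := jn f g
  isOpenEmbedding := by
    rintro ⟨n | _⟩
    · exact (emb_range f g hg n).1
    · exact hg
  cartesian := by
    rintro ⟨n | _⟩ p y hy
    · refine (emb_range f g hg n).2 y ?_
      rw [(SpaceSite.subsingleton_toBot (D := SimplexCategory) (op (WithInitial.of n))).elim p
        (WithInitial.starInitial.to (WithInitial.of n)).op] at hy
      exact hy
    · obtain rfl : p = 𝟙 _ := (SpaceSite.subsingleton_toBot _).elim _ _
      obtain ⟨z, hz⟩ := hy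
      exact ⟨z, hz.trans (ConcreteCategory.congr_hom ((FibDesc.cechAug f).map_id _) y)⟩

/-- Cohomological descent of a map is local on the base. -/
theorem isCohDescentMap_of_openCover {T : Type u} {V : T → TopCat.{u}} (g : ∀ i, V i ⟶ S)
    (hg : ∀ i, Topology.IsOpenEmbedding (g i)) (hcov : ∀ x, ∃ i, x ∈ Set.range (g i))
    (h : ∀ i, FibDesc.IsCohDescentMap (pullback.snd f (g i))) : FibDesc.IsCohDescentMap f :=
  isCohDescentTop_of_openCover (fun i => openMap f (g i) (hg i)) hcov h

end Groth.L09.CechOpen
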