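import Groth.Agent.L09.BiDescent
import Groth.Agent.L09.CechOpen

/-!
Cohomological descent of maps: base change along a map universally of descent.
-/

set_option autoImplicit false
set_option linter.unusedSectionVars false
set_option linter.unusedVariables false
set_option backward.isDefEq.respectTransparency false
set_option backward.isDefEq.respectTransparency.types false
universe u
open CategoryTheory CategoryTheory.Limits Opposite TopologicalSpace

namespace Groth.L09.CechBi

/-- Descent is invariant under isomorphisms of augmented families. -/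
theorem isCohDescentTop_of_iso {D : Type} [Category.{0} D] {Y Y' : (WithInitial D)ᵒᵖ ⥤ TopCat.{u}} (e : Y' ≅ Y)
    (h : FibDesc.IsCohDescentTop Y') : FibDesc.IsCohDescentTop Y := by
  let c : OpenMap Y' Y :=
    { j := e.hom
      isOpenEmbedding := fun i => (TopCat.homeoOfIso (e.app i)).isOpenEmbedding
      cartesian := fun i _ y _ => (TopCat.homeoOfIso (e.app i)).surjective y }
  exact isCohDescentTop_of_openCover (T := PUnit.{u + 1}) (fun _ => c)
    (fun x => ⟨PUnit.unit, (TopCat.homeoOfIso (e.app (FibDesc.bot D))).surjective x⟩) (fun _ => h)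

/-- The map to the base point. -/
abbrev p {D : Type} [Category.{0} D] (i : (WithInitial D)ᵒᵖ) : i ⟶ FibDesc.bot D :=
  (WithInitial.starInitial (C := D)).op.from i

variable {X Y S V : TopCat.{u}} (u : X ⟶ S) (v : Y ⟶ S) (g : V ⟶ S)

section Fam

variable {D : Type} [Category.{0} D] (F G : (WithInitial D)ᵒᵖ ⥤ TopCat.{u})

/-- The augmentation, as a map to the base. -/
noncomputable abbrev augF (i : (WithInitial D)ᵒᵖ) : F.obj i ⟶ F.obj (FibDesc.bot D) := F.map (p i)

lemma augF_nat {i j : (WithInitial D)ᵒᵖ} (f : i ⟶ j) : F.map f ≫ augF F j = augF F i :=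
  (F.map_comp f (p j)).symm.trans (congrArg (fun k => F.map k) ((SpaceSite.subsingleton_toBot _).elim _ _))

/-- Base change of an augmented family. -/
noncomputable def pullF {V : TopCat.{u}} (g : V ⟶ F.obj (FibDesc.bot D)) : (WithInitial D)ᵒᵖ ⥤ TopCat.{u} where
  obj i := pullback (augF F i) g
  map {i j} f := pullback.lift (pullback.fst _ _ ≫ F.map f) (pullback.snd _ _)
    (by rw [Category.assoc, augF_nat]; exact pullback.condition)
  map_id i := pullback.hom_ext (by simp) (by simp)
  map_comp f f' := pullback.hom_ext (by simp) (by simp)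

lemma pullF_map_fst {V : TopCat.{u}} (g : V ⟶ F.obj (FibDesc.bot D)) {i j : (WithInitial D)ᵒᵖ} (f : i ⟶ j) :
    (pullF F g).map f ≫ pullback.fst (augF F j) g = pullback.fst (augF F i) g ≫ F.map f := pullback.lift_fst _ _ _

lemma pullF_map_snd {V : TopCat.{u}} (g : V ⟶ F.obj (FibDesc.bot D)) {i j : (WithInitial D)ᵒᵖ} (f : i ⟶ j) :
    (pullF F g).map f ≫ pullback.snd (augF F j) g = pullback.snd (augF F i) g := pullback.lift_snd _ _ _

variable {S : TopCat.{u}} (a : F.obj (FibDesc.bot D) ⟶ S) (b : G.obj (FibDesc.bot D) ⟶ S)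

/-- The bi-augmented fibre products. -/
noncomputable def biPull : (WithInitial D)ᵒᵖ × (WithInitial D)ᵒᵖ ⥤ TopCat.{u} where
  obj i := pullback (augF F i.1 ≫ a) (augF G i.2 ≫ b)
  map {i j} f := pullback.lift (pullback.fst _ _ ≫ F.map f.1) (pullback.snd _ _ ≫ G.map f.2)
    (by
      rw [Category.assoc, Category.assoc, ← Category.assoc (F.map f.1), ← Category.assoc (G.map f.2), augF_nat, augF_nat]
      exact pullback.condition)
  map_id i := pullback.hom_ext (by simp) (by simp)
  map_comp f f' := pullback.hom_ext (by simp) (by simp)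

end Fam

/-- The augmentation of the Cech nerve, as a map to the base. -/
noncomputable abbrev aug (i : (WithInitial SimplexCategory)ᵒᵖ) : (FibDesc.cechAug u).obj i ⟶ S :=
  augF (FibDesc.cechAug u) i

lemma aug_nat {i j : (WithInitial SimplexCategory)ᵒᵖ} (f : i ⟶ j) : (FibDesc.cechAug u).map f ≫ aug u j = aug u i :=
  augF_nat (FibDesc.cechAug u) f

/-- The base change of the augmented Cech nerve. -/
noncomputable abbrev pullFam : (WithInitial SimplexCategory)ᵒᵖ ⥤ TopCat.{u} := pullF (FibDesc.cechAug u) g

lemma jn_aug (i : (WithInitial SimplexCategory)ᵒᵖ) :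
    (CechOpen.jn u g).app i ≫ aug u i = aug (pullback.snd u g) i ≫ g :=
  ((CechOpen.jn u g).naturality (p i)).symm

/-- The comparison with the Cech nerve of the base change. -/
noncomputable def toPullFam : FibDesc.cechAug (pullback.snd u g) ⟶ pullFam u g where
  app i := pullback.lift ((CechOpen.jn u g).app i) (aug (pullback.snd u g) i) (jn_aug u g i)
  naturality i j f := pullback.hom_ext
    (((Category.assoc _ _ _).trans (congrArg (_ ≫ ·) (pullback.lift_fst _ _ _))).trans
      (((CechOpen.jn u g).naturality f).trans (((congrArg (· ≫ _) (pullback.lift_fst _ _ _)).symm.trans (Category.assoc _ _ _)).trans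
        ((congrArg (_ ≫ ·) (pullF_map_fst (FibDesc.cechAug u) g f).symm).trans (Category.assoc _ _ _).symm))))
    (((Category.assoc _ _ _).trans (congrArg (_ ≫ ·) (pullback.lift_snd _ _ _))).trans
      ((aug_nat (pullback.snd u g) f).trans (((pullback.lift_snd _ _ _).symm).trans
        ((congrArg (_ ≫ ·) (pullF_map_snd (FibDesc.cechAug u) g f).symm).trans (Category.assoc _ _ _).symm))))

instance isIso_toPullFam : IsIso (toPullFam u g) := by
  have key : ∀ i, IsPullback ((CechOpen.jn u g).app i) (aug (pullback.snd u g) i) (aug u i) g := by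
    rintro ⟨n | _⟩
    · have h := CechOpen.isPullback u g n
      have e : (p (op (WithInitial.of n) : (WithInitial SimplexCategory)ᵒᵖ)) =
          (WithInitial.starInitial.to (WithInitial.of n)).op := (SpaceSite.subsingleton_toBot _).elim _ _
      show IsPullback _ ((FibDesc.cechAug (pullback.snd u g)).map (p (op (WithInitial.of n))))
        ((FibDesc.cechAug u).map (p (op (WithInitial.of n)))) g
      rw [e]
      exact h
    · have e : (p (op WithInitial.star : (WithInitial SimplexCategory)ᵒᵖ)) = 𝟙 _ :=
        (SpaceSite.subsingleton_toBot _).elim _ _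
      show IsPullback g ((FibDesc.cechAug (pullback.snd u g)).map (p (op WithInitial.star)))
        ((FibDesc.cechAug u).map (p (op WithInitial.star))) g
      rw [e]
      have : IsIso ((FibDesc.cechAug u).map (𝟙 (op WithInitial.star : (WithInitial SimplexCategory)ᵒᵖ))) := inferInstance
      exact IsPullback.of_vert_isIso ⟨by rw [CategoryTheory.Functor.map_id, CategoryTheory.Functor.map_id]; exact (Category.comp_id g).trans (Category.id_comp g).symm⟩
  have : ∀ i, IsIso ((toPullFam u g).app i) := fun i => by
    have e : (toPullFam u g).app i = (key i).isoPullback.hom := pullback.hom_ext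
      ((pullback.lift_fst _ _ _).trans (key i).isoPullback_hom_fst.symm)
      ((pullback.lift_snd _ _ _).trans (key i).isoPullback_hom_snd.symm)
    rw [e]
    infer_instance
  exact NatIso.isIso_of_isIso_app _

/-- Descent of the base change of the Cech nerve. -/
theorem isCohDescentTop_pullFam (h : FibDesc.IsCohDescentMap (pullback.snd u g)) :
    FibDesc.IsCohDescentTop (pullFam u g) :=
  isCohDescentTop_of_iso (asIso (toPullFam u g)) h

section Iso

variable {D : Type} [Category.{0} D] (F G : (WithInitial D)ᵒᵖ ⥤ TopCat.{u})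

/-- The families in the first index. -/
noncomputable def fstIso (b : G.obj (FibDesc.bot D) ⟶ F.obj (FibDesc.bot D)) (k : (WithInitial D)ᵒᵖ) :
    pullF F (augF G k ≫ b) ≅ CategoryTheory.Prod.sectL (WithInitial D)ᵒᵖ k ⋙ biPull F G (𝟙 _) b :=
  NatIso.ofComponents (fun i => pullback.congrHom (Category.comp_id _).symm rfl) fun {i j} f => by
    show (pullF F _).map f ≫ (pullback.congrHom _ _).hom =
      (pullback.congrHom _ _).hom ≫ (biPull F G (𝟙 _) b).map (Prod.mkHom f (𝟙 k))
    exact pullback.hom_ext (by simp [biPull, pullF]) (by simp [biPull, pullF])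

/-- The families in the second index. -/
noncomputable def sndIso (a : F.obj (FibDesc.bot D) ⟶ G.obj (FibDesc.bot D)) (k : (WithInitial D)ᵒᵖ) :
    pullF G (augF F k ≫ a) ≅ CategoryTheory.Prod.sectR k (WithInitial D)ᵒᵖ ⋙ biPull F G a (𝟙 _) :=
  NatIso.ofComponents (fun i => pullbackSymmetry _ _ ≪≫ pullback.congrHom rfl (Category.comp_id _).symm) fun {i j} f => by
    show (pullF G _).map f ≫ (pullbackSymmetry _ _ ≪≫ pullback.congrHom _ _).hom =
      (pullbackSymmetry _ _ ≪≫ pullback.congrHom _ _).hom ≫ (biPull F G a (𝟙 _)).map (Prod.mkHom (𝟙 k) f)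
    exact pullback.hom_ext (by simp [biPull, pullF]) (by simp [biPull, pullF])

/-- Changing the section of the index category. -/
noncomputable def reflIso {P : Type} [Category.{0} P] (Z : (WithInitial D)ᵒᵖ × (WithInitial D)ᵒᵖ ⥤ TopCat.{u})
    (T : (WithInitial D)ᵒᵖ × P ⥤ (WithInitial D)ᵒᵖ × (WithInitial D)ᵒᵖ) (T' : (WithInitial D)ᵒᵖ ⥤ (WithInitial D)ᵒᵖ × P)
    (T'' : (WithInitial D)ᵒᵖ ⥤ (WithInitial D)ᵒᵖ × (WithInitial D)ᵒᵖ) (e : T'' ≅ T' ⋙ T) :
    T'' ⋙ Z ≅ T' ⋙ T ⋙ Z :=
  Functor.isoWhiskerRight e Z

end Iso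

/-- The bi-augmented fibre products. -/
noncomputable abbrev Z : (WithInitial SimplexCategory)ᵒᵖ × (WithInitial SimplexCategory)ᵒᵖ ⥤ TopCat.{u} :=
  biPull (FibDesc.cechAug u) (FibDesc.cechAug v) (𝟙 S) (𝟙 S)

/-- Descent after base change along the nerve of a map universally of descent. -/
theorem isCohDescentMap_of_baseChange (hv : FibDesc.IsUnivCohDescentMap v)
    (h : ∀ n : SimplexCategoryᵒᵖ, FibDesc.IsCohDescentMap
      (pullback.snd u (aug v ((FibDesc.toAug SimplexCategory).obj n)))) :
    FibDesc.IsCohDescentMap u := by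
  let X₀ := FibDesc.cechAug u
  let Y₀ := FibDesc.cechAug v
  let K := (WithInitial SimplexCategory)ᵒᵖ
  let bot := FibDesc.bot SimplexCategory
  have hrow : FibDesc.IsCohDescentTop (BiDescent.row (Z u v)) :=
    isCohDescentTop_of_iso (sndIso X₀ Y₀ (𝟙 S) bot) (isCohDescentTop_pullFam _ _ (hv _ _))
  have h₁ : ∀ n : SimplexCategoryᵒᵖ, FibDesc.IsCohDescentTop (LevelDescent.col (BiDescent.diag (Z u v)) n) := fun n =>
    isCohDescentTop_of_iso (fstIso X₀ Y₀ (𝟙 S) ((FibDesc.toAug SimplexCategory).obj n) ≪≫
        reflIso (Z u v) (BiDescent.sndPart (D := SimplexCategory)) (CategoryTheory.Prod.sectL K n)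
          (CategoryTheory.Prod.sectL K ((FibDesc.toAug SimplexCategory).obj n))
          (NatIso.ofComponents (fun i => Iso.refl _) (fun f => Prod.ext
            ((Category.comp_id _).trans (Category.id_comp _).symm)
            ((Category.comp_id _).trans ((Category.id_comp _).trans (CategoryTheory.Functor.map_id _ _)).symm))))
      (isCohDescentTop_pullFam _ _
        ((congrArg (fun k => FibDesc.IsCohDescentMap (pullback.snd u k)) (Category.comp_id _)).mpr (h n)))
  have h₂ : ∀ n : SimplexCategoryᵒᵖ,
      FibDesc.IsCohDescentTop (LevelDescent.col (BiDescent.diag (BiDescent.flip (Z u v))) n) := fun n =>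
    isCohDescentTop_of_iso (sndIso X₀ Y₀ (𝟙 S) ((FibDesc.toAug SimplexCategory).obj n) ≪≫
        reflIso (Z u v) (BiDescent.sndPart (D := SimplexCategory) ⋙ CategoryTheory.Prod.swap K K) (CategoryTheory.Prod.sectL K n)
          (CategoryTheory.Prod.sectR ((FibDesc.toAug SimplexCategory).obj n) K)
          (NatIso.ofComponents (fun i => Iso.refl _) (fun f => Prod.ext
            ((Category.comp_id _).trans ((Category.id_comp _).trans (CategoryTheory.Functor.map_id _ _)).symm)
            ((Category.comp_id _).trans (Category.id_comp _).symm))))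
      (isCohDescentTop_pullFam _ _ (hv _ _))
  have hcol := BiDescent.isCohDescentTop_of_biAug (Z u v) hrow h₁ h₂
  have hk : FibDesc.IsCohDescentMap (pullback.snd u (aug v bot ≫ 𝟙 S)) := by
    have := isCohDescentTop_of_iso (fstIso X₀ Y₀ (𝟙 S) bot ≪≫
      Functor.isoWhiskerRight (NatIso.ofComponents (fun i => Iso.refl _) (fun f => Prod.ext
        ((Category.comp_id _).trans (Category.id_comp _).symm) ((Category.comp_id _).trans (Category.id_comp _).symm)) :
          CategoryTheory.Prod.sectL K bot ≅ CategoryTheory.Prod.sectR bot K ⋙ CategoryTheory.Prod.swap K K) (Z u v)).symm hcol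
    exact isCohDescentTop_of_iso (asIso (toPullFam u (aug v bot ≫ 𝟙 S))).symm this
  have hI : IsIso (aug v bot) := by
    rw [aug, augF, (SpaceSite.subsingleton_toBot _).elim (p bot) (𝟙 bot)]
    infer_instance
  have : IsIso (aug v bot ≫ 𝟙 S) := by rw [Category.comp_id]; exact hI
  let e := TopCat.homeoOfIso (asIso (aug v bot ≫ 𝟙 S))
  exact CechOpen.isCohDescentMap_of_openCover u (T := PUnit.{u + 1}) (fun _ => aug v bot ≫ 𝟙 S) (fun _ => e.isOpenEmbedding)
    (fun x => ⟨PUnit.unit, e.surjective x⟩) (fun _ => hk)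

end Groth.L09.CechBi
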