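import Mathlib.AlgebraicTopology.CechNerve
import Mathlib.AlgebraicTopology.SimplicialObject.Homotopy

/-!
Two morphisms of arrows with the same base component induce homotopic maps of Čech nerves.
-/

set_option autoImplicit false
set_option maxRecDepth 2000
set_option backward.isDefEq.respectTransparency false

open CategoryTheory CategoryTheory.Limits Simplicial Opposite

universe v u

namespace Groth.L09.CechHomotopy

lemma succAbove_val {n : ℕ} (i : Fin (n + 1)) (m : Fin n) :
    (i.succAbove m).val = if m.val < i.val then m.val else m.val + 1 := by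
  unfold Fin.succAbove
  split_ifs with h h' <;> simp_all [Fin.lt_def]

lemma predAbove_val {n : ℕ} (i : Fin n) (m : Fin (n + 1)) :
    (i.predAbove m).val = if i.val < m.val then m.val - 1 else m.val := by
  by_cases h : i.castSucc < m
  · rw [Fin.predAbove_of_castSucc_lt _ _ h]
    have h' : i.val < m.val := by simpa [Fin.lt_def] using h
    simp [h']
  · rw [Fin.predAbove_of_le_castSucc _ _ (not_lt.1 h)]
    have h' : ¬ i.val < m.val := by simpa [Fin.lt_def] using h
    simp [h']

variable {C : Type u} [Category.{v} C] {F G : Arrow C}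
  [∀ n : ℕ, HasWidePullback F.right (fun _ : Fin (n + 1) => F.left) fun _ => F.hom]
  [∀ n : ℕ, HasWidePullback G.right (fun _ : Fin (n + 1) => G.left) fun _ => G.hom]

/-- The component used by the homotopy at the index `m` of the target. -/
noncomputable def comp (φ ψ : F ⟶ G) (i m : ℕ) : F.left ⟶ G.left :=
  if m ≤ i then φ.left else ψ.left

omit [∀ n : ℕ, HasWidePullback F.right (fun _ : Fin (n + 1) => F.left) fun _ => F.hom]
  [∀ n : ℕ, HasWidePullback G.right (fun _ : Fin (n + 1) => G.left) fun _ => G.hom] in
lemma comp_w (φ ψ : F ⟶ G) (hr : φ.right = ψ.right) (i m : ℕ) :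
    comp φ ψ i m ≫ G.hom = F.hom ≫ φ.right := by
  unfold comp
  split_ifs
  · exact Arrow.w φ
  · rw [hr]; exact Arrow.w ψ

/-- The maps of the homotopy. -/
noncomputable def hMap (φ ψ : F ⟶ G) (hr : φ.right = ψ.right) {n : ℕ} (i : Fin (n + 1)) :
    F.cechNerve _⦋n⦌ ⟶ G.cechNerve _⦋n + 1⦌ :=
  WidePullback.lift (WidePullback.base _ ≫ φ.right)
    (fun m : Fin (n + 2) => WidePullback.π _ (i.predAbove m) ≫ comp φ ψ i.1 m.1)
    (fun m => by
      rw [Category.assoc, comp_w φ ψ hr, ← Category.assoc, WidePullback.π_arrow])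

variable (φ ψ : F ⟶ G) (hr : φ.right = ψ.right)

lemma hom_ext' {W : C} {k : ℕ} (p q : W ⟶ G.cechNerve _⦋k⦌)
    (hπ : ∀ m : Fin (k + 1), p ≫ WidePullback.π (fun _ => G.hom) m = q ≫ WidePullback.π (fun _ => G.hom) m)
    (hb : p ≫ WidePullback.base (fun _ : Fin (k + 1) => G.hom) = q ≫ WidePullback.base (fun _ : Fin (k + 1) => G.hom)) :
    p = q :=
  WidePullback.hom_ext _ _ _ hπ hb

@[reassoc]
lemma hMap_π {n : ℕ} (i : Fin (n + 1)) (m : Fin (n + 2)) :
    hMap φ ψ hr i ≫ WidePullback.π (fun _ => G.hom) m =
      WidePullback.π (fun _ => F.hom) (i.predAbove m) ≫ comp φ ψ i.1 m.1 :=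
  WidePullback.lift_π _ _ _ _ _

@[reassoc]
lemma hMap_base {n : ℕ} (i : Fin (n + 1)) :
    hMap φ ψ hr i ≫ WidePullback.base (fun _ : Fin (n + 2) => G.hom) =
      WidePullback.base (fun _ : Fin (n + 1) => F.hom) ≫ φ.right :=
  WidePullback.lift_base _ _ _ _

variable {H : Arrow C}
  [∀ n : ℕ, HasWidePullback H.right (fun _ : Fin (n + 1) => H.left) fun _ => H.hom]

@[reassoc]
lemma δ_π {n : ℕ} (i : Fin (n + 2)) (m : Fin (n + 1)) :
    H.cechNerve.δ i ≫ WidePullback.π (fun _ => H.hom) m =
      WidePullback.π (fun _ => H.hom) (i.succAbove m) :=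
  WidePullback.lift_π _ _ _ _ _

@[reassoc]
lemma δ_base {n : ℕ} (i : Fin (n + 2)) :
    H.cechNerve.δ i ≫ WidePullback.base (fun _ : Fin (n + 1) => H.hom) =
      WidePullback.base (fun _ : Fin (n + 2) => H.hom) :=
  WidePullback.lift_base _ _ _ _

@[reassoc]
lemma σ_π {n : ℕ} (i : Fin (n + 1)) (m : Fin (n + 2)) :
    H.cechNerve.σ i ≫ WidePullback.π (fun _ => H.hom) m =
      WidePullback.π (fun _ => H.hom) (i.predAbove m) :=
  WidePullback.lift_π _ _ _ _ _

@[reassoc]
lemma σ_base {n : ℕ} (i : Fin (n + 1)) :
    H.cechNerve.σ i ≫ WidePullback.base (fun _ : Fin (n + 2) => H.hom) =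
      WidePullback.base (fun _ : Fin (n + 1) => H.hom) :=
  WidePullback.lift_base _ _ _ _

@[reassoc]
lemma map_π (χ : F ⟶ G) {n : ℕ} (m : Fin (n + 1)) :
    (Arrow.mapCechNerve χ).app (op ⦋n⦌) ≫ WidePullback.π (fun _ => G.hom) m =
      WidePullback.π (fun _ => F.hom) m ≫ χ.left :=
  WidePullback.lift_π _ _ _ _ _

@[reassoc]
lemma map_base (χ : F ⟶ G) {n : ℕ} :
    (Arrow.mapCechNerve χ).app (op ⦋n⦌) ≫ WidePullback.base (fun _ : Fin (n + 1) => G.hom) =
      WidePullback.base (fun _ : Fin (n + 1) => F.hom) ≫ χ.right :=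
  WidePullback.lift_base _ _ _ _

/-- Morphisms of arrows with the same right component give homotopic Čech nerve maps. -/
noncomputable def homotopy :
    SimplicialObject.Homotopy (Arrow.mapCechNerve φ) (Arrow.mapCechNerve ψ) where
  h i := hMap φ ψ hr i
  h_zero_comp_δ_zero n := by
    refine hom_ext' _ _ (fun m => ?_) ?_
    · rw [Category.assoc, δ_π, hMap_π, map_π]
      simp [comp]
    · rw [Category.assoc, δ_base, hMap_base, map_base, hr]
  h_last_comp_δ_last n := by
    refine hom_ext' _ _ (fun m => ?_) ?_
    · rw [Category.assoc, δ_π, hMap_π, map_π]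
      congr 1
      · congr 1
        ext
        simp [Fin.predAbove, Fin.succAbove, Fin.lt_def, apply_ite Fin.val, apply_dite Fin.val]
        intro h; exfalso; omega
      · simp [comp, Fin.succAbove, Fin.lt_def]
        intro h; exfalso; omega
    · rw [Category.assoc, δ_base, hMap_base, map_base]
  h_succ_comp_δ_castSucc_of_lt {n} i j hij := by
    refine hom_ext' _ _ (fun m => ?_) ?_
    · rw [Category.assoc, δ_π, hMap_π, Category.assoc, hMap_π, δ_π_assoc]
      rw [Fin.le_def] at hij; simp only [Fin.val_castSucc] at hij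
      congr 1
      · congr 1
        ext
        simp only [succAbove_val, predAbove_val, Fin.val_castSucc, Fin.val_succ]
        split_ifs <;> omega
      · unfold comp
        simp only [succAbove_val, Fin.val_castSucc, Fin.val_succ]
        split_ifs <;> first | rfl | (exfalso; omega)
    · rw [Category.assoc, δ_base, hMap_base, Category.assoc, hMap_base, δ_base_assoc]
  h_succ_comp_δ_castSucc_succ {n} j := by
    refine hom_ext' _ _ (fun m => ?_) ?_
    · rw [Category.assoc, δ_π, hMap_π, Category.assoc, δ_π, hMap_π]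
      congr 1
      · congr 1
        ext
        simp only [succAbove_val, predAbove_val, Fin.val_castSucc, Fin.val_succ]
        split_ifs <;> omega
      · unfold comp
        simp only [succAbove_val, Fin.val_castSucc, Fin.val_succ]
        split_ifs <;> first | rfl | (exfalso; omega)
    · rw [Category.assoc, δ_base, hMap_base, Category.assoc, δ_base, hMap_base]
  h_castSucc_comp_δ_succ_of_lt {n} i j hji := by
    refine hom_ext' _ _ (fun m => ?_) ?_
    · rw [Category.assoc, δ_π, hMap_π, Category.assoc, hMap_π, δ_π_assoc]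
      rw [Fin.lt_def] at hji; simp only [Fin.val_castSucc] at hji
      congr 1
      · congr 1
        ext
        simp only [succAbove_val, predAbove_val, Fin.val_castSucc, Fin.val_succ]
        split_ifs <;> omega
      · unfold comp
        simp only [succAbove_val, Fin.val_castSucc, Fin.val_succ]
        split_ifs <;> first | rfl | (exfalso; omega)
    · rw [Category.assoc, δ_base, hMap_base, Category.assoc, hMap_base, δ_base_assoc]
  h_comp_σ_castSucc_of_le {n} i j hij := by
    refine hom_ext' _ _ (fun m => ?_) ?_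
    · rw [Category.assoc, σ_π, hMap_π, Category.assoc, hMap_π, σ_π_assoc]
      rw [Fin.le_def] at hij
      congr 1
      · congr 1
        ext
        simp only [predAbove_val, Fin.val_castSucc, Fin.val_succ]
        split_ifs <;> omega
      · unfold comp
        simp only [predAbove_val, Fin.val_castSucc, Fin.val_succ]
        split_ifs <;> first | rfl | (exfalso; omega)
    · rw [Category.assoc, σ_base, hMap_base, Category.assoc, hMap_base, σ_base_assoc]
  h_comp_σ_succ_of_lt {n} i j hji := by
    refine hom_ext' _ _ (fun m => ?_) ?_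
    · rw [Category.assoc, σ_π, hMap_π, Category.assoc, hMap_π, σ_π_assoc]
      rw [Fin.le_def] at hji
      congr 1
      · congr 1
        ext
        simp only [predAbove_val, Fin.val_castSucc, Fin.val_succ]
        split_ifs <;> omega
      · unfold comp
        simp only [predAbove_val, Fin.val_castSucc, Fin.val_succ]
        split_ifs <;> first | rfl | (exfalso; omega)
    · rw [Category.assoc, σ_base, hMap_base, Category.assoc, hMap_base, σ_base_assoc]

end Groth.L09.CechHomotopy
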