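import Groth.Prelude.Def_SGA4a
import Mathlib.CategoryTheory.Sites.LocallyBijective
import Mathlib.CategoryTheory.Sites.LeftExact
import Mathlib.CategoryTheory.Sites.Limits
import Mathlib.CategoryTheory.Limits.Types.Products
import Mathlib.CategoryTheory.Limits.Types.Pullbacks
import Mathlib.CategoryTheory.Limits.Shapes.Pullback.IsPullback.Basic
import Mathlib.CategoryTheory.Limits.FunctorCategory.Basic
import Mathlib.CategoryTheory.Limits.Yoneda
import Mathlib.CategoryTheory.Adjunction.Unique

/-!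
The closed complement of an open of a topos of sheaves.
-/

set_option autoImplicit false
set_option linter.unusedSectionVars false
set_option linter.unusedVariables false
universe u

open CategoryTheory Category Limits Opposite

namespace Groth.L09.Closed

variable {C : Type u} [SmallCategory C] {J : GrothendieckTopology C}

/-- Evaluation of a binary product of sheaves. -/
noncomputable def prodEquiv (X Y : Sheaf J (Type u)) (c : Cᵒᵖ) :
    (X ⨯ Y).obj.obj c ≃ X.obj.obj c × Y.obj.obj c :=
  ((mapIsLimitOfPreservesOfIsLimit (sheafToPresheaf J (Type u) ⋙ (evaluation Cᵒᵖ (Type u)).obj c)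
    prod.fst prod.snd (prodIsProd X Y)).conePointUniqueUpToIso (Types.binaryProductLimit _ _)).toEquiv

lemma prodEquiv_apply (X Y : Sheaf J (Type u)) (c : Cᵒᵖ) (z : (X ⨯ Y).obj.obj c) :
    prodEquiv X Y c z = ((prod.fst : X ⨯ Y ⟶ X).hom.app c z, (prod.snd : X ⨯ Y ⟶ Y).hom.app c z) := rfl

lemma isIso_iff_app {X Y : Sheaf J (Type u)} (f : X ⟶ Y) :
    IsIso f ↔ ∀ c, Function.Bijective (f.hom.app c) := by
  refine ⟨fun _ c => (isIso_iff_bijective _).1
    (inferInstanceAs (IsIso ((sheafToPresheaf J (Type u) ⋙ (evaluation Cᵒᵖ (Type u)).obj c).map f))), fun h => ?_⟩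
  have : ∀ c, IsIso (f.hom.app c) := fun c => (isIso_iff_bijective _).2 (h c)
  have : IsIso ((sheafToPresheaf J (Type u)).map f) := NatIso.isIso_of_isIso_app f.hom
  exact isIso_of_fully_faithful (sheafToPresheaf J (Type u)) f

variable {U : Sheaf J (Type u)} (hU : SGA4.IsOpen U)

include hU in
lemma subsingleton (c : Cᵒᵖ) : Subsingleton (U.obj.obj c) := by
  have : Mono (terminal.from U) := hU
  have h : (prod.fst : U ⨯ U ⟶ U) = prod.snd :=
    (cancel_mono (terminal.from U)).1 (Subsingleton.elim _ _)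
  refine ⟨fun a b => ?_⟩
  obtain ⟨z, hz⟩ := (prodEquiv U U c).surjective (a, b)
  rw [prodEquiv_apply, h, Prod.ext_iff] at hz
  exact hz.1.symm.trans hz.2

lemma mem_iff {X : Sheaf J (Type u)} (hU : SGA4.IsOpen U) :
    SGA4.closedCompl U X ↔ ∀ c, Nonempty (U.obj.obj c) → Nonempty (Unique (X.obj.obj c)) := by
  show IsIso _ ↔ _
  rw [isIso_iff_app]
  refine forall_congr' fun c => ⟨fun h ⟨u⟩ => ?_, fun h => ?_⟩
  · obtain ⟨z, -⟩ := h.2 u
    refine ⟨⟨⟨(prodEquiv U X c z).2⟩, fun x => ?_⟩⟩
    obtain ⟨z', hz'⟩ := (prodEquiv U X c).surjective ((prod.fst : U ⨯ X ⟶ U).hom.app c z, x)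
    obtain rfl : z' = z := h.1 (congrArg Prod.fst hz')
    exact (congrArg Prod.snd hz').symm
  · refine ⟨fun z z' e => (prodEquiv U X c).injective (Prod.ext e ?_), fun u => ?_⟩
    · obtain ⟨i⟩ := h ⟨(prodEquiv U X c z).1⟩
      exact Subsingleton.elim (α := X.obj.obj c) _ _
    · obtain ⟨i⟩ := h ⟨u⟩
      obtain ⟨z, hz⟩ := (prodEquiv U X c).surjective (u, i.default)
      exact ⟨z, congrArg Prod.fst hz⟩

lemma isIso_prodMap_iff {X X' : Sheaf J (Type u)} (m : X ⟶ X') :
    IsIso (prod.map (𝟙 U) m) ↔ ∀ c, Nonempty (U.obj.obj c) → Function.Bijective (m.hom.app c) := by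
  have e : ∀ c (z : (U ⨯ X).obj.obj c), prodEquiv U X' c ((prod.map (𝟙 U) m).hom.app c z) =
      ((prodEquiv U X c z).1, m.hom.app c (prodEquiv U X c z).2) := fun c z => Prod.ext
    (ConcreteCategory.congr_hom (NatTrans.congr_app (congrArg (fun k => k.hom)
      ((prod.map_fst (𝟙 U) m).trans (comp_id _))) c) z)
    (ConcreteCategory.congr_hom (NatTrans.congr_app (congrArg (fun k => k.hom)
      (prod.map_snd (𝟙 U) m)) c) z)
  rw [isIso_iff_app]
  refine forall_congr' fun c => ⟨fun h ⟨u⟩ => ⟨fun a b hab => ?_, fun b => ?_⟩, fun h => ⟨fun z z' hz => ?_, fun w => ?_⟩⟩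
  · obtain ⟨z, hz⟩ := (prodEquiv U X c).surjective (u, a)
    obtain ⟨z', hz'⟩ := (prodEquiv U X c).surjective (u, b)
    have : z = z' := h.1 ((prodEquiv U X' c).injective (by rw [e, e, hz, hz', hab]))
    exact congrArg Prod.snd (hz.symm.trans ((congrArg _ this).trans hz'))
  · obtain ⟨w, hw⟩ := (prodEquiv U X' c).surjective (u, b)
    obtain ⟨z, rfl⟩ := h.2 w
    exact ⟨(prodEquiv U X c z).2, congrArg Prod.snd ((e c z).symm.trans hw)⟩
  · have := congrArg (prodEquiv U X' c) hz
    rw [e, e, Prod.ext_iff] at this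
    exact (prodEquiv U X c).injective (Prod.ext this.1 ((h ⟨(prodEquiv U X c z).1⟩).1 this.2))
  · obtain ⟨x, hx⟩ := (h ⟨(prodEquiv U X' c w).1⟩).2 (prodEquiv U X' c w).2
    obtain ⟨z, hz⟩ := (prodEquiv U X c).surjective ((prodEquiv U X' c w).1, x)
    exact ⟨z, (prodEquiv U X' c).injective (by rw [e, hz, hx])⟩

variable (U)

/-- The presheaf which is `X` away from `U` and a point on `U`. -/
def Q₀ (X : Cᵒᵖ ⥤ Type u) : Cᵒᵖ ⥤ Type u where
  obj c := IsEmpty (U.obj.obj c) → X.obj c
  map {c d} f := ↾fun x h => X.map f (x ⟨fun a => h.false (U.obj.map f a)⟩)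
  map_id c := by
    ext x h
    exact ConcreteCategory.congr_hom (X.map_id c) _
  map_comp f g := by
    ext x h
    exact ConcreteCategory.congr_hom (X.map_comp f g) _

/-- `Q₀` as a functor. -/
def Q : (Cᵒᵖ ⥤ Type u) ⥤ (Cᵒᵖ ⥤ Type u) where
  obj X := Q₀ U X
  map {X Y} φ := { app := fun c => ↾fun x h => φ.app c (x h)
                   naturality := fun c d f => by
                     ext x
                     funext h
                     exact NatTrans.naturality_apply φ f _ }

instance (K : Type) [SmallCategory K] : PreservesLimitsOfShape K (Q U) := by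
  refine preservesLimitsOfShape_of_evaluation _ _ fun c => ?_
  let e : (evaluation Cᵒᵖ (Type u)).obj c ⋙ coyoneda.obj (op (ULift.{u} (PLift (IsEmpty (U.obj.obj c))))) ≅
      Q U ⋙ (evaluation Cᵒᵖ (Type u)).obj c :=
    NatIso.ofComponents (fun X => Equiv.toIso
      { toFun := fun f h => (show ULift.{u} (PLift (IsEmpty (U.obj.obj c))) ⟶ X.obj c from f) ⟨⟨h⟩⟩
        invFun := fun x => ↾fun p => x p.down.down
        left_inv := fun f => rfl
        right_inv := fun x => rfl }) (fun φ => rfl)
  exact preservesLimitsOfShape_of_natIso e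

instance : PreservesFiniteLimits (Q U) := ⟨fun _ _ _ => inferInstance⟩

/-- The functor `X ↦ X_CU`. -/
noncomputable def Cl : Sheaf J (Type u) ⥤ Sheaf J (Type u) :=
  sheafToPresheaf J (Type u) ⋙ Q U ⋙ presheafToSheaf J (Type u)

instance : PreservesFiniteLimits (Cl U) := by
  have : PreservesFiniteLimits (sheafToPresheaf J (Type u)) := inferInstance
  have : PreservesFiniteLimits (presheafToSheaf J (Type u)) := inferInstance
  have : PreservesFiniteLimits (Q U ⋙ presheafToSheaf J (Type u)) := comp_preservesFiniteLimits _ _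
  exact comp_preservesFiniteLimits (sheafToPresheaf J (Type u)) (Q U ⋙ presheafToSheaf J (Type u))

/-- The unit, on presheaves. -/
def η₀ (X : Cᵒᵖ ⥤ Type u) : X ⟶ (Q U).obj X where
  app c := ↾fun x _ => x

/-- The unit. -/
noncomputable def η : 𝟭 (Sheaf J (Type u)) ⟶ Cl U where
  app X := ⟨η₀ U X.obj ≫ toSheafify J _⟩
  naturality X Y φ := by
    ext1
    show φ.hom ≫ η₀ U Y.obj ≫ toSheafify J _ = (η₀ U X.obj ≫ toSheafify J _) ≫ sheafifyMap J ((Q U).map φ.hom)
    rw [assoc, ← toSheafify_naturality, ← assoc, ← assoc]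
    rfl

/-- The map `U ⟶ X_CU`. -/
noncomputable def κ₀ (X : Sheaf J (Type u)) : U ⟶ (Cl U).obj X :=
  ⟨({ app := fun c => ↾fun a h => (h.false a).elim
      naturality := fun c d f => by
        ext a
        funext h
        exact (h.false (U.obj.map f a)).elim } : U.obj ⟶ (Q U).obj X.obj) ≫ toSheafify J _⟩

variable {U}
include hU

lemma cl_mem (X : Sheaf J (Type u)) : SGA4.closedCompl U ((Cl U).obj X) := by
  rw [mem_iff hU]
  rintro c ⟨u⟩
  refine ⟨⟨⟨(κ₀ U X).hom.app c u⟩, fun y => ?_⟩⟩
  have hcov := Presheaf.imageSieve_mem J (toSheafify J ((Q U).obj X.obj)) (U := c) y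
  refine (((isSheaf_iff_isSheaf_of_type _ _).1 ((Cl U).obj X).property) _ hcov).isSeparatedFor.ext fun d f hf => ?_
  obtain ⟨t, ht⟩ := hf
  refine ht.symm.trans ?_
  refine Eq.trans ?_ (NatTrans.naturality_apply (κ₀ U X).hom f.op u)
  refine congrArg ((toSheafify J ((Q U).obj X.obj)).app (op d)) ?_
  funext h
  exact (h.false (U.obj.map f.op u)).elim

lemma η_isIso {X : Sheaf J (Type u)} (hX : SGA4.closedCompl U X) : IsIso ((η U).app X) := by
  have : ∀ c, IsIso ((η₀ U X.obj).app c) := fun c => (isIso_iff_bijective _).2 (by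
    by_cases h : IsEmpty (U.obj.obj c)
    · exact ⟨fun a b e => congrFun e h, fun x => ⟨x h, funext fun _ => rfl⟩⟩
    · rw [not_isEmpty_iff] at h
      obtain ⟨i⟩ := (mem_iff hU).1 hX c h
      exact ⟨fun a b _ => Subsingleton.elim (α := X.obj.obj c) a b,
        fun x => ⟨i.default, funext fun h' => (h'.false h.some).elim⟩⟩)
  have : IsIso (η₀ U X.obj) := NatIso.isIso_of_isIso_app _
  have := isIso_toSheafify J (Presheaf.isSheaf_of_iso_iff (asIso (η₀ U X.obj)) |>.1 X.property)
  have : IsIso ((sheafToPresheaf J (Type u)).map ((η U).app X)) :=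
    inferInstanceAs (IsIso (η₀ U X.obj ≫ toSheafify J _))
  exact isIso_of_fully_faithful (sheafToPresheaf J (Type u)) _

lemma isPushout (X : Sheaf J (Type u)) :
    IsPushout (prod.fst : U ⨯ X ⟶ U) (prod.snd : U ⨯ X ⟶ X) (κ₀ U X) ((η U).app X) := by
  have w : (prod.fst : U ⨯ X ⟶ U) ≫ κ₀ U X = prod.snd ≫ (η U).app X := by
    ext c z
    refine congrArg ((toSheafify J ((Q U).obj X.obj)).app c) ?_
    funext h
    exact (h.false ((prod.fst : U ⨯ X ⟶ U).hom.app c z)).elim
  have hext : ∀ {Z : Sheaf J (Type u)} (a b : (Cl U).obj X ⟶ Z), κ₀ U X ≫ a = κ₀ U X ≫ b →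
      (η U).app X ≫ a = (η U).app X ≫ b → a = b := fun {Z} a b h₁ h₂ => by
    ext1
    refine sheafify_hom_ext J _ _ Z.property ?_
    ext c x
    by_cases h : IsEmpty (U.obj.obj c)
    · have e : x = (η₀ U X.obj).app c (x h) := funext fun _ => rfl
      rw [e]
      exact ConcreteCategory.congr_hom (NatTrans.congr_app (congrArg (fun k => k.hom) h₂) c) (x h)
    · obtain ⟨u⟩ := not_isEmpty_iff.1 h
      have e : x = fun h' => (h'.false u).elim := funext fun h' => (h'.false u).elim
      rw [e]
      exact ConcreteCategory.congr_hom (NatTrans.congr_app (congrArg (fun k => k.hom) h₁) c) u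
  refine ⟨⟨w⟩, ⟨PushoutCocone.IsColimit.mk w (fun s => ?_) (fun s => ?_) (fun s => ?_) (fun s m h₁ h₂ => ?_)⟩⟩
  · classical
    let D : ∀ c : Cᵒᵖ, ((Q U).obj X.obj).obj c → s.pt.obj.obj c := fun c x =>
      if h : IsEmpty (U.obj.obj c) then s.inr.hom.app c (x h) else s.inl.hom.app c (not_isEmpty_iff.1 h).some
    refine ⟨sheafifyLift J { app := fun c => ↾(D c), naturality := fun c d f => ?_ } s.pt.property⟩
    ext x
    show D d _ = s.pt.obj.map f (D c x)
    simp only [D]
    have := subsingleton hU d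
    by_cases hd : IsEmpty (U.obj.obj d)
    · have hc : IsEmpty (U.obj.obj c) := ⟨fun a => hd.false (U.obj.map f a)⟩
      rw [dif_pos hd, dif_pos hc]
      exact NatTrans.naturality_apply s.inr.hom f (x hc)
    · rw [dif_neg hd]
      by_cases hc : IsEmpty (U.obj.obj c)
      · rw [dif_pos hc]
        obtain ⟨z, hz⟩ := (prodEquiv U X d).surjective ((not_isEmpty_iff.1 hd).some, X.obj.map f (x hc))
        rw [prodEquiv_apply, Prod.ext_iff] at hz
        refine Eq.trans ?_ (NatTrans.naturality_apply s.inr.hom f (x hc))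
        exact (congrArg (s.inl.hom.app d) hz.1.symm).trans
          ((ConcreteCategory.congr_hom (NatTrans.congr_app (congrArg (fun k => k.hom) s.condition) d) z).trans
            (congrArg (s.inr.hom.app d) hz.2))
      · rw [dif_neg hc]
        exact (congrArg (s.inl.hom.app d) (Subsingleton.elim _ _)).trans (NatTrans.naturality_apply s.inl.hom f _)
  · ext c a
    have := subsingleton hU c
    refine (ConcreteCategory.congr_hom (NatTrans.congr_app (toSheafify_sheafifyLift J _ s.pt.property) c) _).trans ?_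
    refine (dif_neg (fun h : IsEmpty (U.obj.obj c) => h.false a)).trans ?_
    exact congrArg (s.inl.hom.app c) (Subsingleton.elim _ _)
  · ext c x
    refine (ConcreteCategory.congr_hom (NatTrans.congr_app (toSheafify_sheafifyLift J _ s.pt.property) c) _).trans ?_
    by_cases h : IsEmpty (U.obj.obj c)
    · exact dif_pos h
    · refine (dif_neg h).trans ?_
      obtain ⟨z, hz⟩ := (prodEquiv U X c).surjective ((not_isEmpty_iff.1 h).some, x)
      rw [prodEquiv_apply, Prod.ext_iff] at hz
      exact (congrArg (s.inl.hom.app c) hz.1.symm).trans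
        ((ConcreteCategory.congr_hom (NatTrans.congr_app (congrArg (fun k => k.hom) s.condition) c) z).trans
          (congrArg (s.inr.hom.app c) hz.2))
  · refine hext m _ ?_ ?_
    · rw [h₁]
      ext c a
      have := subsingleton hU c
      refine Eq.symm ((ConcreteCategory.congr_hom (NatTrans.congr_app (toSheafify_sheafifyLift J _ s.pt.property) c) _).trans ?_)
      exact (dif_neg (fun h : IsEmpty (U.obj.obj c) => h.false a)).trans (congrArg (s.inl.hom.app c) (Subsingleton.elim _ _))
    · rw [h₂]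
      ext c x
      refine Eq.symm ((ConcreteCategory.congr_hom (NatTrans.congr_app (toSheafify_sheafifyLift J _ s.pt.property) c) _).trans ?_)
      by_cases h : IsEmpty (U.obj.obj c)
      · exact dif_pos h
      · refine (dif_neg h).trans ?_
        obtain ⟨z, hz⟩ := (prodEquiv U X c).surjective ((not_isEmpty_iff.1 h).some, x)
        rw [prodEquiv_apply, Prod.ext_iff] at hz
        exact (congrArg (s.inl.hom.app c) hz.1.symm).trans
          ((ConcreteCategory.congr_hom (NatTrans.congr_app (congrArg (fun k => k.hom) s.condition) c) z).trans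
            (congrArg (s.inr.hom.app c) hz.2))

lemma hom_to_closed_unique {Z Y : Sheaf J (Type u)} (hY : SGA4.closedCompl U Y) (u : Z ⟶ U) (a b : Z ⟶ Y) :
    a = b := by
  have : IsIso (prod.fst : U ⨯ Y ⟶ U) := hY
  have h : prod.lift u a = prod.lift u b := by
    rw [← cancel_mono (prod.fst : U ⨯ Y ⟶ U), prod.lift_fst, prod.lift_fst]
  simpa only [prod.lift_snd] using congrArg (· ≫ prod.snd) h

/-- The reflection. -/
noncomputable def i : Sheaf J (Type u) ⥤ (SGA4.closedCompl U).FullSubcategory :=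
  (SGA4.closedCompl U).lift (Cl U) (cl_mem hU)

lemma comp_η_bijective (X : Sheaf J (Type u)) {Y : Sheaf J (Type u)} (hY : SGA4.closedCompl U Y) :
    Function.Bijective (fun g : (Cl U).obj X ⟶ Y => (η U).app X ≫ g) := by
  refine ⟨fun a b h => (isPushout hU X).hom_ext (hom_to_closed_unique hU hY (𝟙 U) _ _) h, fun f => ?_⟩
  have : IsIso (prod.fst : U ⨯ Y ⟶ U) := hY
  refine ⟨(isPushout hU X).desc (CategoryTheory.inv (prod.fst : U ⨯ Y ⟶ U) ≫ prod.snd) f
    (hom_to_closed_unique hU hY prod.fst _ _), (isPushout hU X).inr_desc _ _ _⟩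

/-- The bijection of the adjunction. -/
noncomputable def homEq (X : Sheaf J (Type u)) (Y : (SGA4.closedCompl U).FullSubcategory) :
    ((i hU).obj X ⟶ Y) ≃ (X ⟶ (SGA4.closedCompl U).ι.obj Y) :=
  (SGA4.closedCompl U).fullyFaithfulι.homEquiv.trans (Equiv.ofBijective _ (comp_η_bijective hU X Y.property))

lemma homEq_apply (X : Sheaf J (Type u)) (Y : (SGA4.closedCompl U).FullSubcategory) (g : (i hU).obj X ⟶ Y) :
    homEq hU X Y g = (η U).app X ≫ g.hom := rfl

/-- The adjunction. -/
noncomputable def adj : i hU ⊣ (SGA4.closedCompl U).ι :=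
  Adjunction.mkOfHomEquiv
    { homEquiv := homEq hU
      homEquiv_naturality_left_symm := fun {X' X Y} f g => by
        apply (homEq hU X' Y).injective
        rw [Equiv.apply_symm_apply, homEq_apply]
        have h := (homEq hU X Y).apply_symm_apply g
        rw [homEq_apply] at h
        show f ≫ g = (η U).app X' ≫ (Cl U).map f ≫ _
        rw [← assoc, ← (η U).naturality f, Functor.id_map, assoc]
        exact (congrArg (f ≫ ·) h).symm
      homEquiv_naturality_right := fun {X Y Y'} f g => by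
        rw [homEq_apply, homEq_apply]
        exact (assoc _ _ _).symm }

lemma preservesFiniteLimits_i : PreservesFiniteLimits (i hU) := by
  refine ⟨fun K _ _ => ?_⟩
  have : PreservesLimitsOfShape K (i hU ⋙ (SGA4.closedCompl U).ι) :=
    inferInstanceAs (PreservesLimitsOfShape K (Cl U))
  exact preservesLimitsOfShape_of_reflects_of_preserves (i hU) (SGA4.closedCompl U).ι

/-- Any reflection is `X ↦ X_CU`. -/
noncomputable def isoCl {L : Sheaf J (Type u) ⥤ (SGA4.closedCompl U).FullSubcategory}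
    (a : L ⊣ (SGA4.closedCompl U).ι) : L ⋙ (SGA4.closedCompl U).ι ≅ Cl U :=
  Functor.isoWhiskerRight (a.leftAdjointUniq (adj hU)) _

lemma isPullback_cl {X X' : Sheaf J (Type u)} (m : X ⟶ X')
    (hm : ∀ c, Nonempty (U.obj.obj c) → Function.Bijective (m.hom.app c)) :
    IsPullback m ((η U).app X) ((η U).app X') ((Cl U).map m) := by
  have h₀ : IsPullback m.hom (η₀ U X.obj) (η₀ U X'.obj) ((Q U).map m.hom) := by
    refine IsPullback.of_forall_isPullback_app fun c => (Types.isPullback_iff _ _ _ _).2 ⟨rfl, fun x y hxy => ?_, fun x' q e => ?_⟩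
    · by_cases h : IsEmpty (U.obj.obj c)
      · exact congrFun hxy.2 h
      · exact (hm c (not_isEmpty_iff.1 h)).1 hxy.1
    · by_cases h : IsEmpty (U.obj.obj c)
      · exact ⟨q h, (congrFun e h).symm, funext fun _ => rfl⟩
      · obtain ⟨x, hx⟩ := (hm c (not_isEmpty_iff.1 h)).2 x'
        exact ⟨x, hx, funext fun h' => absurd h' h⟩
  have h₁ := h₀.map (presheafToSheaf J (Type u))
  let ε : ∀ Z : Sheaf J (Type u), (presheafToSheaf J (Type u)).obj Z.obj ≅ Z := fun Z =>
    asIso ((sheafificationAdjunction J (Type u)).counit.app Z)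
  have hε : ∀ Z : Sheaf J (Type u), toSheafify J Z.obj ≫ (ε Z).hom.hom = 𝟙 Z.obj := fun Z =>
    (sheafificationAdjunction J (Type u)).right_triangle_components Z
  refine h₁.of_iso (ε X) (ε X') (Iso.refl _) (Iso.refl _) ?_ ?_ ?_ ?_
  · exact (sheafificationAdjunction J (Type u)).counit.naturality m
  · refine ((comp_id _).trans ?_)
    ext1
    refine sheafify_hom_ext J _ _ ((Cl U).obj X).property ?_
    refine (toSheafify_naturality J (η₀ U X.obj)).symm.trans ?_
    exact (((assoc _ _ _).symm.trans (congrArg (· ≫ _) (hε X))).trans (id_comp _)).symm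
  · refine ((comp_id _).trans ?_)
    ext1
    refine sheafify_hom_ext J _ _ ((Cl U).obj X').property ?_
    refine (toSheafify_naturality J (η₀ U X'.obj)).symm.trans ?_
    exact (((assoc _ _ _).symm.trans (congrArg (· ≫ _) (hε X'))).trans (id_comp _)).symm
  · exact (comp_id _).trans (id_comp _).symm

lemma bijective_of_isPullback_cl {X X' : Sheaf J (Type u)} {m : X ⟶ X'}
    (h : IsPullback m ((η U).app X) ((η U).app X') ((Cl U).map m)) (c : Cᵒᵖ) (hc : Nonempty (U.obj.obj c)) :
    Function.Bijective (m.hom.app c) := by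
  obtain ⟨w, h₁, h₂⟩ := (Types.isPullback_iff _ _ _ _).1
    (h.map (sheafToPresheaf J (Type u) ⋙ (evaluation Cᵒᵖ (Type u)).obj c))
  obtain ⟨i₁⟩ := (mem_iff hU).1 (cl_mem hU X) c hc
  obtain ⟨i₂⟩ := (mem_iff hU).1 (cl_mem hU X') c hc
  refine ⟨fun a b e => h₁ a b ⟨e, Subsingleton.elim (α := ((Cl U).obj X).obj.obj c) _ _⟩, fun x' => ?_⟩
  obtain ⟨x, hx, -⟩ := h₂ x' i₁.default (Subsingleton.elim (α := ((Cl U).obj X').obj.obj c) _ _)
  exact ⟨x, hx⟩

end Groth.L09.Closed
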