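import Groth.Agent.L09.ToposQC
import Mathlib.CategoryTheory.Sites.LocallyBijective
import Mathlib.CategoryTheory.Limits.Preserves.Yoneda
import Mathlib.Data.Fintype.EquivFin

/-!
Sheaves attached to objects of the site, quasi-compact sites.
-/

set_option autoImplicit false
universe w u

open CategoryTheory Category Limits Opposite MorphismProperty ToposFin

namespace Groth.L09.Topos

variable {C : Type u} [SmallCategory C] {J : GrothendieckTopology C}

/-- Morphisms out of the sheaf attached to an object are sections. -/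
noncomputable def epsEquiv {X : C} {Z : Sh J} : (eps J X ⟶ Z) ≃ Z.obj.obj (op X) :=
  ((sheafificationAdjunction J (Type u)).homEquiv (yoneda.obj X) Z).trans yonedaEquiv

variable (J) in
/-- The morphism of sheaves attached to a morphism of the site. -/
noncomputable abbrev epsMap {V X : C} (f : V ⟶ X) : eps J V ⟶ eps J X :=
  (presheafToSheaf J (Type u)).map (yoneda.map f)

lemma epsEquiv_comp {X : C} {Z Z' : Sh J} (a : eps J X ⟶ Z) (h : Z ⟶ Z') :
    epsEquiv (a ≫ h) = h.hom.app (op X) (epsEquiv a) := by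
  simp only [epsEquiv, Equiv.trans_apply, Adjunction.homEquiv_naturality_right, yonedaEquiv_comp]
  rfl

lemma epsEquiv_map {V X : C} (f : V ⟶ X) {Z : Sh J} (a : eps J X ⟶ Z) :
    epsEquiv (epsMap J f ≫ a) = Z.obj.map f.op (epsEquiv a) := by
  simp only [epsEquiv, Equiv.trans_apply, Adjunction.homEquiv_naturality_left, ← yonedaEquiv_naturality]
  rfl

lemma epsEquiv_epsMap {V X : C} (f : V ⟶ X) :
    epsEquiv (epsMap J f) = (toSheafify J (yoneda.obj X)).app (op V) f := by
  rw [← comp_id (epsMap J f), epsEquiv_map]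
  have h := ConcreteCategory.congr_hom ((toSheafify J (yoneda.obj X)).naturality f.op) (𝟙 X)
  simp only [epsEquiv, Equiv.trans_apply, Adjunction.homEquiv_id, yonedaEquiv_apply]
  refine Eq.trans ?_ (h.symm.trans ?_)
  · rfl
  · exact congrArg _ (comp_id f)

lemma epsMap_comp {U V X : C} (f : U ⟶ V) (g : V ⟶ X) : epsMap J (f ≫ g) = epsMap J f ≫ epsMap J g := by
  simp only [epsMap, Functor.map_comp]

lemma covers_of_mem {X : C} {S : Sieve X} (hS : S ∈ J X) {ι : Type w} {V : ι → C} (g : ∀ i, V i ⟶ X)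
    (h : ∀ ⦃W : C⦄ (f : W ⟶ X), S f → ∃ (i : ι) (l : W ⟶ V i), l ≫ g i = f) :
    Covers (fun i => epsMap J (g i)) := fun Z a b e => by
  apply epsEquiv.injective
  refine sep Z hS fun W f hf => ?_
  obtain ⟨i, l, rfl⟩ := h f hf
  rw [← epsEquiv_map, ← epsEquiv_map, epsMap_comp, assoc, assoc, e i]

lemma covers_ofArrows {X : C} {ι : Type w} {V : ι → C} (g : ∀ i, V i ⟶ X) (h : Sieve.ofArrows V g ∈ J X) :
    Covers (fun i => epsMap J (g i)) :=
  covers_of_mem h g fun W f hf => by
    obtain ⟨_, l, _, ⟨i⟩, rfl⟩ := hf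
    exact ⟨i, l, rfl⟩

lemma genBy_eps : GenBy J (fun K => ∃ X : C, K = eps J X) := fun Z =>
  ⟨Σ U : C, Z.obj.obj (op U), fun p => eps J p.1, fun p => epsEquiv.symm p.2, fun p => ⟨p.1, rfl⟩,
    fun W a b e => Sheaf.hom_ext (by
      ext U x
      have := congrArg epsEquiv (e ⟨U.unop, x⟩)
      simp only [epsEquiv_comp, Equiv.apply_symm_apply] at this
      exact this)⟩

/-- The sieve of arrows lifting through a family. -/
def liftSieve {X : C} {ι : Type w} {F : ι → Sh J} (π : ∀ i, F i ⟶ eps J X) : Sieve X where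
  arrows W f := ∃ (i : ι) (l : eps J W ⟶ F i), l ≫ π i = epsMap J f
  downward_closed := by
    rintro W W' f ⟨i, l, h⟩ k
    exact ⟨i, epsMap J k ≫ l, by rw [assoc, h, epsMap_comp]⟩

lemma liftSieve_mem {X : C} {ι : Type w} {F : ι → Sh J} {π : ∀ i, F i ⟶ eps J X} (h : Covers π) :
    liftSieve π ∈ J X := by
  refine J.superset_covering ?_ ((covers_iff_sieveOf π).1 h (op X) (epsEquiv (𝟙 (eps J X))))
  intro W f hf
  obtain ⟨i, y, hy⟩ := (sieveOf_apply _ f).1 hf
  refine ⟨i, epsEquiv.symm y, epsEquiv.injective ?_⟩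
  rw [epsEquiv_comp, Equiv.apply_symm_apply, hy, ← comp_id (epsMap J f), epsEquiv_map]

/-- The arrows on which a morphism comes from the site. -/
def reprSieve {U X : C} (s : eps J U ⟶ eps J X) : Sieve U where
  arrows W f := ∃ v : W ⟶ X, epsMap J f ≫ s = epsMap J v
  downward_closed := by
    rintro W W' f ⟨v, h⟩ k
    exact ⟨k ≫ v, by rw [epsMap_comp, assoc, h, epsMap_comp]⟩

lemma reprSieve_mem {U X : C} (s : eps J U ⟶ eps J X) : reprSieve s ∈ J U := by
  refine J.superset_covering ?_ (Presheaf.imageSieve_mem J (toSheafify J (yoneda.obj X)) (U := op U) (epsEquiv s))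
  intro W f hf
  obtain ⟨v, hv⟩ := hf
  refine ⟨v, epsEquiv.injective ?_⟩
  rw [epsEquiv_map, epsEquiv_epsMap]
  exact hv.symm

lemma equalizer_mem {V X : C} {f g : V ⟶ X} (h : epsMap J f = epsMap J g) :
    ∃ S ∈ J V, ∀ ⦃W : C⦄ (k : W ⟶ V), S k → k ≫ f = k ≫ g := by
  have h' := congrArg epsEquiv h
  rw [epsEquiv_epsMap, epsEquiv_epsMap] at h'
  exact ⟨_, Presheaf.equalizerSieve_mem J (toSheafify J (yoneda.obj X)) _ _ h', fun W k hk => hk⟩

lemma mem_of_covers {X : C} {ι : Type w} {V : ι → C} (g : ∀ i, V i ⟶ X)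
    (h : Covers (fun i => epsMap J (g i))) : Sieve.ofArrows V g ∈ J X := by
  refine J.transitive (liftSieve_mem h) _ fun W f hf => ?_
  obtain ⟨i, l, hl⟩ := hf
  refine J.transitive (reprSieve_mem l) _ fun W' k hk => ?_
  obtain ⟨v, hv⟩ := hk
  have he : epsMap J (k ≫ f) = epsMap J (v ≫ g i) := by
    rw [epsMap_comp, epsMap_comp, ← hl, ← hv, assoc]
  obtain ⟨S, hS, hSe⟩ := equalizer_mem he
  refine J.superset_covering ?_ hS
  intro W'' m hm
  show Sieve.ofArrows V g ((m ≫ k) ≫ f)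
  rw [assoc, hSe m hm, ← assoc]
  exact ⟨_, m ≫ v, g i, ⟨i⟩, rfl⟩

theorem isQCSite_iff (X : C) : IsQCSite J X ↔ IsQC (eps J X) := by
  classical
  constructor
  · intro h
    refine isQC_iff.2 fun ι F π hπ => ?_
    obtain ⟨n, V, g, hg, hcov⟩ := h _ (liftSieve_mem hπ)
    choose i l hl using hg
    refine ⟨Finset.univ.image i, covers_of_factor (covers_ofArrows g hcov) fun k =>
      ⟨⟨i k, Finset.mem_image_of_mem i (Finset.mem_univ k)⟩, l k, hl k⟩⟩
  · intro h S hS
    have hc : Covers (fun p : Σ W : C, {f : W ⟶ X // S f} => epsMap J p.2.1) :=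
      covers_of_mem hS (fun p : Σ W : C, {f : W ⟶ X // S f} => p.2.1) fun W f hf => ⟨⟨W, f, hf⟩, 𝟙 W, id_comp f⟩
    obtain ⟨s, hs⟩ := exists_finite_subcover h hc
    let e := Fintype.equivFin s
    refine ⟨Fintype.card s, fun k => (e.symm k).1.1, fun k => (e.symm k).1.2.1, fun k => (e.symm k).1.2.2,
      mem_of_covers _ (covers_of_factor hs fun i => ⟨e i, ?_⟩)⟩
    rw [e.symm_apply_apply]
    exact ⟨𝟙 _, id_comp _⟩

section QCSite

variable (hC : ∀ X : C, IsQCSite J X)

include hC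

lemma isQC_eps (X : C) : IsQC (eps J X) := (isQCSite_iff X).1 (hC X)

lemma genBy_eps_qc : GenBy J IsQC := genBy_eps.mono fun _ ⟨X, e⟩ => e ▸ isQC_eps hC X

lemma exists_repr_cover {U X : C} (s : eps J U ⟶ eps J X) :
    ∃ (κ : Type u) (_ : Finite κ) (V : κ → C) (g : ∀ k, V k ⟶ U) (v : ∀ k, V k ⟶ X),
      Covers (fun k => epsMap J (g k)) ∧ ∀ k, epsMap J (g k) ≫ s = epsMap J (v k) := by
  obtain ⟨n, V, g, hg, hcov⟩ := hC U _ (reprSieve_mem s)
  choose v hv using hg
  exact ⟨ULift (Fin n), inferInstance, fun k => V k.down, fun k => g k.down, fun k => v k.down,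
    covers_of_factor (covers_ofArrows g hcov) fun i => ⟨⟨i⟩, 𝟙 _, id_comp _⟩, fun k => hv k.down⟩

variable [HasPullbacks C]

omit hC in
lemma isPullback_epsMap {U V X : C} (f : U ⟶ X) (g : V ⟶ X) :
    IsPullback (epsMap J (pullback.fst f g)) (epsMap J (pullback.snd f g)) (epsMap J f) (epsMap J g) :=
  ((IsPullback.of_hasPullback f g).map yoneda).map (presheafToSheaf J (Type u))

lemma isCoherent_eps (X : C) : IsCoherent (eps J X) := by
  refine ⟨isQC_eps hC X, isQS_of_genBy_pullbacks genBy_eps ?_⟩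
  rintro _ _ a b ⟨U, rfl⟩ ⟨V, rfl⟩
  obtain ⟨κ, _, U', g, v, hg, hv⟩ := exists_repr_cover hC a
  obtain ⟨μ, _, V', h, w, hh, hw⟩ := exists_repr_cover hC b
  refine isQC_pullback_of_covers hg hh a b fun i k => ?_
  exact isQC_of_iso ((isPullback_epsMap (v i) (w k)).isoPullback ≪≫ pullback.congrHom (hv i).symm (hw k).symm)
    (isQC_eps hC _)

lemma isQSHom_eps {U X : C} (s : eps J U ⟶ eps J X) : IsQSHom s := by
  obtain ⟨κ, _, U', g, v, hg, hv⟩ := exists_repr_cover hC s
  refine isQSHom_of_qc_cover_source hg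
    (fun k => isQCHom_of_isQC_of_isQS _ (isQC_eps hC _) (isCoherent_eps hC U).2) s fun k => ?_
  rw [hv k]
  exact isQCHom_of_isQC_of_isQS _ (isQC_eps hC _)
    (isQS_of_iso (isPullback_epsMap (v k) (v k)).isoPullback.symm (isCoherent_eps hC _).2)

lemma isQSHom_to_eps {X : C} {G : Sh J} (g : G ⟶ eps J X) (hG : IsQS G) : IsQSHom g := by
  obtain ⟨ι, F, π, hF, hπ⟩ := genBy_eps G
  refine isQSHom_of_isQS_of_cover (genBy_eps_qc hC) (fun _ h => h) hπ (fun i => ?_) g (fun i j => ?_) hG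
  · obtain ⟨U, e⟩ := hF i
    exact e ▸ isQC_eps hC U
  · obtain ⟨U, e⟩ := hF i
    obtain ⟨V, e'⟩ := hF j
    have hi : ∀ {A : Sh J} (_ : A = eps J U) (a : A ⟶ eps J X), IsQSHom a := by
      rintro A rfl a
      exact isQSHom_eps hC a
    exact isQS_of_isQSHom ((qs J).pullback_snd _ _ (hi e _)) (e' ▸ (isCoherent_eps hC V).2)

end QCSite

section Pullback

variable {D : Type u} [SmallCategory D] {K : GrothendieckTopology D}

/-- Inverse image of the sheaf attached to an object. -/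
noncomputable def sheafPullbackEpsIso (G : C ⥤ D) [Functor.IsContinuous G J K] (X : C) :
    (G.sheafPullback (Type u) J K).obj (eps J X) ≅ eps K (G.obj X) :=
  Functor.CorepresentableBy.uniqueUpToIso (F := sheafToPresheaf K (Type u) ⋙ (evaluation Dᵒᵖ (Type u)).obj (op (G.obj X)))
    { homEquiv := fun {Z} => ((G.sheafAdjunctionContinuous (Type u) J K).homEquiv _ Z).trans epsEquiv
      homEquiv_comp := fun {Z Z'} h a => by
        simp only [Equiv.trans_apply, Adjunction.homEquiv_naturality_right]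
        exact epsEquiv_comp _ _ }
    { homEquiv := epsEquiv
      homEquiv_comp := fun h a => epsEquiv_comp a h }

end Pullback

end Groth.L09.Topos
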