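import Groth.Agent.L09.ToposEps
import Mathlib.CategoryTheory.Limits.Types.Filtered
import Mathlib.CategoryTheory.Filtered.Basic
import Mathlib.Order.Directed

/-!
Maps out of quasi-compact and coherent objects into filtered colimits; objects of finite presentation.
-/

set_option autoImplicit false
universe w u

open CategoryTheory Category Limits Opposite MorphismProperty ToposFin

namespace Groth.L09.Topos

variable {C : Type u} [SmallCategory C] {J : GrothendieckTopology C}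

section Post

variable (X : Sh J) {I : Type u} [SmallCategory I] [IsFiltered I] (D : I ⥤ Sh J)

omit [IsFiltered I] in
lemma post_apply (i : I) (a : X ⟶ D.obj i) :
    colimit.post D (coyoneda.obj (op X)) (colimit.ι (D ⋙ coyoneda.obj (op X)) i a) = a ≫ colimit.ι D i :=
  ConcreteCategory.congr_hom (colimit.ι_post D (coyoneda.obj (op X)) i) a

lemma post_injective_iff : Function.Injective (colimit.post D (coyoneda.obj (op X))) ↔
    ∀ (i : I) (a b : X ⟶ D.obj i), a ≫ colimit.ι D i = b ≫ colimit.ι D i →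
      ∃ (k : I) (g : i ⟶ k), a ≫ D.map g = b ≫ D.map g := by
  constructor
  · intro h i a b e
    rw [← post_apply, ← post_apply] at e
    obtain ⟨k, f, g, hfg⟩ := (Types.FilteredColimit.colimit_eq_iff _).1 (h e)
    refine ⟨IsFiltered.coeq f g, f ≫ IsFiltered.coeqHom f g, ?_⟩
    have hfg' : a ≫ D.map f = b ≫ D.map g := hfg
    rw [D.map_comp, reassoc_of% hfg', ← D.map_comp, ← IsFiltered.coeq_condition, D.map_comp]
  · intro h x y e
    obtain ⟨i, a, rfl⟩ := Types.jointly_surjective' x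
    obtain ⟨j, b, rfl⟩ := Types.jointly_surjective' y
    rw [post_apply, post_apply] at e
    obtain ⟨k, g, hg⟩ := h (IsFiltered.max i j) (a ≫ D.map (IsFiltered.leftToMax i j))
      (b ≫ D.map (IsFiltered.rightToMax i j)) (by rw [assoc, colimit.w, assoc, colimit.w, e])
    refine (Types.FilteredColimit.colimit_eq_iff _).2
      ⟨k, IsFiltered.leftToMax i j ≫ g, IsFiltered.rightToMax i j ≫ g, ?_⟩
    show a ≫ D.map _ = b ≫ D.map _
    simpa using hg

omit [IsFiltered I] in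
lemma post_surjective_iff : Function.Surjective (colimit.post D (coyoneda.obj (op X))) ↔
    ∀ h : X ⟶ colimit D, ∃ (i : I) (a : X ⟶ D.obj i), a ≫ colimit.ι D i = h := by
  constructor
  · intro hs h
    obtain ⟨x, hx⟩ := hs h
    obtain ⟨i, a, rfl⟩ := Types.jointly_surjective' x
    exact ⟨i, a, (post_apply X D i a).symm.trans hx⟩
  · intro hs h
    obtain ⟨i, a, ha⟩ := hs h
    exact ⟨colimit.ι (D ⋙ coyoneda.obj (op X)) i a, (post_apply X D i a).trans ha⟩

end Post

lemma exists_dominate {I : Type u} [SmallCategory I] [IsFiltered I] {i : I} {κ : Type w} [Finite κ]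
    {k : κ → I} (g : ∀ p, i ⟶ k p) :
    ∃ (j : I) (h : i ⟶ j), ∀ p, ∃ l, g p ≫ l = h := by
  classical
  have := Fintype.ofFinite κ
  suffices ∀ s : Finset κ, ∃ (j : I) (h : i ⟶ j), ∀ p ∈ s, ∃ l, g p ≫ l = h by
    obtain ⟨j, h, hh⟩ := this Finset.univ
    exact ⟨j, h, fun p => hh p (Finset.mem_univ p)⟩
  intro s
  induction s using Finset.induction_on with
  | empty => exact ⟨i, 𝟙 i, fun p hp => by simp at hp⟩
  | insert a s _ ih =>
    obtain ⟨j, h, hh⟩ := ih
    obtain ⟨j', α, β, hαβ⟩ := IsFiltered.span (g a) h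
    refine ⟨j', h ≫ β, fun p hp => ?_⟩
    rcases Finset.mem_insert.1 hp with rfl | hp
    · exact ⟨α, hαβ⟩
    · obtain ⟨l, hl⟩ := hh p hp
      exact ⟨l ≫ β, by rw [← assoc, hl]⟩

/-! ### Quasi-compactness and filtered colimits -/

theorem hom_ext_colimit_of_isQC {X : Sh J} (hX : IsQC X) {I : Type u} [SmallCategory I] [IsFiltered I]
    (D : I ⥤ Sh J) {i : I} (a b : X ⟶ D.obj i) (e : a ≫ colimit.ι D i = b ≫ colimit.ι D i) :
    ∃ (k : I) (g : i ⟶ k), a ≫ D.map g = b ≫ D.map g := by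
  have hc : Covers (fun p : Σ k, (i ⟶ k) => equalizer.ι (a ≫ D.map p.2) (b ≫ D.map p.2)) := by
    rw [covers_iff_sieveOf]
    intro U x
    obtain ⟨S, hS, hSe⟩ := colimit_eq_locally D (a.hom.app U x) (b.hom.app U x)
      (ConcreteCategory.congr_hom (congrArg (fun (q : X ⟶ colimit D) => q.hom.app U) e) x)
    refine J.superset_covering ?_ hS
    intro V f hf
    obtain ⟨k, g, hg⟩ := hSe f hf
    refine (sieveOf_apply x f).2 ⟨⟨k, g⟩, ?_⟩
    let l : eps J V ⟶ X := epsEquiv.symm (X.obj.map f.op x)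
    have hl : l ≫ a ≫ D.map g = l ≫ b ≫ D.map g := by
      apply epsEquiv.injective
      simp only [← assoc, epsEquiv_comp, l, Equiv.apply_symm_apply]
      refine (congrArg _ (ConcreteCategory.congr_hom (a.hom.naturality f.op) x)).trans (hg.trans ?_)
      exact (congrArg _ (ConcreteCategory.congr_hom (b.hom.naturality f.op) x)).symm
    refine ⟨epsEquiv (equalizer.lift l hl), ?_⟩
    rw [← epsEquiv_comp, equalizer.lift_ι, Equiv.apply_symm_apply]
  obtain ⟨s, hs⟩ := exists_finite_subcover hX hc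
  obtain ⟨j, h, hh⟩ := exists_dominate (fun p : s => p.1.2)
  refine ⟨j, h, hs _ _ _ fun p => ?_⟩
  obtain ⟨l, hl⟩ := hh p
  have := equalizer.condition (a ≫ D.map p.1.2) (b ≫ D.map p.1.2)
  rw [← hl, D.map_comp]
  simpa using congrArg (· ≫ D.map l) this

theorem isQC_iff_injective (X : Sh J) : IsQC X ↔ ∀ (I : Type u) [SmallCategory I] [IsFiltered I] (D : I ⥤ Sh J),
    Function.Injective (colimit.post D (coyoneda.obj (op X))) := by
  classical
  refine ⟨fun h I _ _ D => (post_injective_iff X D).2 fun i => hom_ext_colimit_of_isQC h D, fun h => ?_⟩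
  refine isQC_iff.2 fun ι F π hπ => ?_
  let p : ∀ s : Finset ι, (∐ fun i : s => F i) ⟶ X := fun s => Sigma.desc fun i => π i
  have hle : ∀ {s t : Finset ι} (hst : s ≤ t) {W : Sh J} (a b : X ⟶ W),
      p t ≫ a = p t ≫ b → p s ≫ a = p s ≫ b := fun {s t} hst W a b e => Sigma.hom_ext _ _ fun i => by
    have := Sigma.ι (fun i : t => F i) ⟨i, hst i.2⟩ ≫= e
    simpa [p] using this
  let D : Finset ι ⥤ Sh J :=
    { obj := fun s => pushout (p s) (p s)
      map := fun {s t} f => pushout.desc (pushout.inl _ _) (pushout.inr _ _) (hle (leOfHom f) _ _ pushout.condition)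
      map_id := fun s => pushout.hom_ext ((pushout.inl_desc _ _ _).trans (comp_id _).symm)
        ((pushout.inr_desc _ _ _).trans (comp_id _).symm)
      map_comp := fun f g => pushout.hom_ext
        ((pushout.inl_desc _ _ _).trans ((pushout.inl_desc _ _ _).symm.trans
          ((congrArg (· ≫ _) (pushout.inl_desc _ _ _)).symm.trans (assoc _ _ _))))
        ((pushout.inr_desc _ _ _).trans ((pushout.inr_desc _ _ _).symm.trans
          ((congrArg (· ≫ _) (pushout.inr_desc _ _ _)).symm.trans (assoc _ _ _)))) }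
  have key : pushout.inl (p ∅) (p ∅) ≫ colimit.ι D ∅ = pushout.inr (p ∅) (p ∅) ≫ colimit.ι D ∅ := by
    refine hπ _ _ _ fun i => ?_
    have h₁ : ∀ q : X ⟶ pushout (p ∅) (p ∅), q ≫ colimit.ι D ∅ =
        (q ≫ D.map (homOfLE (Finset.empty_subset {i}))) ≫ colimit.ι D {i} := fun q => by
      rw [assoc, colimit.w]
    rw [h₁, h₁]
    show π i ≫ (pushout.inl (p ∅) (p ∅) ≫ pushout.desc _ _ _) ≫ _ = π i ≫ (pushout.inr (p ∅) (p ∅) ≫ pushout.desc _ _ _) ≫ _
    rw [pushout.inl_desc, pushout.inr_desc, ← assoc, ← assoc]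
    congr 1
    have := Sigma.ι (fun j : ({i} : Finset ι) => F j) ⟨i, Finset.mem_singleton_self i⟩ ≫=
      pushout.condition (f := p {i}) (g := p {i})
    simpa [p] using this
  obtain ⟨s, g, hg⟩ := (post_injective_iff X D).1 (h _ D) ∅ _ _ key
  refine ⟨s, (covers_iff_epi _).2 (?_ : Epi (p s))⟩
  have e : pushout.inl (p s) (p s) = pushout.inr (p s) (p s) :=
    (pushout.inl_desc _ _ _).symm.trans (hg.trans (pushout.inr_desc _ _ _))
  refine ⟨fun {W} a b hab => ?_⟩
  calc a = pushout.inl (p s) (p s) ≫ pushout.desc a b hab := (pushout.inl_desc _ _ _).symm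
    _ = pushout.inr (p s) (p s) ≫ pushout.desc a b hab := by rw [e]
    _ = b := pushout.inr_desc _ _ _

theorem exists_factor_of_isCoherent {P : Sh J → Prop} (hP : GenBy J P) (hPqc : ∀ K, P K → IsQC K)
    {X : Sh J} (hX : IsCoherent X) {I : Type u} [SmallCategory I] [IsFiltered I]
    (D : I ⥤ Sh J) (h : X ⟶ colimit D) : ∃ (i : I) (a : X ⟶ D.obj i), a ≫ colimit.ι D i = h := by
  classical
  obtain ⟨κ, _, W, π, hπ, hW⟩ := exists_gen_refine hP (covers_colimit_ι D) h hX.1
  choose hWP k l hl using hW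
  have := Fintype.ofFinite κ
  obtain ⟨k₀, hk₀⟩ := IsFiltered.sup_objs_exists (Finset.univ.image k)
  have g : ∀ m, k m ⟶ k₀ := fun m => (hk₀ (Finset.mem_image_of_mem k (Finset.mem_univ m))).some
  have hov : ∀ mn : κ × κ, ∃ (k' : I) (f : k₀ ⟶ k'),
      (pullback.fst (π mn.1) (π mn.2) ≫ l mn.1 ≫ D.map (g mn.1)) ≫ D.map f =
        (pullback.snd (π mn.1) (π mn.2) ≫ l mn.2 ≫ D.map (g mn.2)) ≫ D.map f := fun mn =>
    hom_ext_colimit_of_isQC (hX.2 _ _ _ _ (hPqc _ (hWP _)) (hPqc _ (hWP _))) D _ _ (by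
      simp only [assoc, colimit.w, hl]
      rw [pullback.condition_assoc])
  choose k' f hf using hov
  obtain ⟨j, f₀, hj⟩ := exists_dominate f
  obtain ⟨a, ha⟩ := exists_desc hπ (fun m => l m ≫ D.map (g m) ≫ D.map f₀) (fun m n => by
    obtain ⟨t, ht⟩ := hj (m, n)
    have := congrArg (· ≫ D.map t) (hf (m, n))
    simp only [assoc, ← D.map_comp, ht] at this ⊢
    exact this)
  refine ⟨j, a, hπ _ _ _ fun m => ?_⟩
  rw [reassoc_of% (ha m), colimit.w, colimit.w, hl m]

theorem bijective_post_of_isCoherent {P : Sh J → Prop} (hP : GenBy J P) (hPqc : ∀ K, P K → IsQC K)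
    {X : Sh J} (hX : IsCoherent X) (I : Type u) [SmallCategory I] [IsFiltered I] (D : I ⥤ Sh J) :
    Function.Bijective (colimit.post D (coyoneda.obj (op X))) :=
  ⟨(isQC_iff_injective X).1 hX.1 I D, (post_surjective_iff X D).2 (exists_factor_of_isCoherent hP hPqc hX D)⟩

lemma isFP_of_isCoherent {P : Sh J → Prop} (hP : GenBy J P) (hPqc : ∀ K, P K → IsQC K)
    {X : Sh J} (hX : IsCoherent X) : IsFP X := fun I _ _ D => bijective_post_of_isCoherent hP hPqc hX I D

lemma isQC_of_isFP {X : Sh J} (hX : IsFP X) : IsQC X := (isQC_iff_injective X).2 fun I _ _ D => (hX I D).1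

lemma isFP_coequalizer {X₀ X₁ : Sh J} (a b : X₁ ⟶ X₀) (h₀ : IsFP X₀) (h₁ : IsFP X₁) :
    IsFP (coequalizer a b) := fun I _ _ D => by
  refine ⟨(isQC_iff_injective _).1 (isQC_of_epi (coequalizer.π a b) (isQC_of_isFP h₀)) I D,
    (post_surjective_iff _ D).2 fun h => ?_⟩
  obtain ⟨i, c, hc⟩ := (post_surjective_iff _ D).1 (h₀ I D).2 (coequalizer.π a b ≫ h)
  obtain ⟨k, g, hg⟩ := (post_injective_iff _ D).1 (h₁ I D).1 i (a ≫ c) (b ≫ c) (by
    rw [assoc, assoc, hc, coequalizer.condition_assoc])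
  refine ⟨k, coequalizer.desc (c ≫ D.map g) (by simpa using hg), coequalizer.hom_ext ?_⟩
  rw [coequalizer.π_desc_assoc, assoc, colimit.w, hc]

lemma isFP_of_retract {X Y : Sh J} (i : X ⟶ Y) (p : Y ⟶ X) (e : i ≫ p = 𝟙 X) (hY : IsFP Y) : IsFP X :=
  fun I _ _ D => by
    refine ⟨(isQC_iff_injective _).1 (isQC_of_retract i p e (isQC_of_isFP hY)) I D,
      (post_surjective_iff _ D).2 fun h => ?_⟩
    obtain ⟨k, c, hc⟩ := (post_surjective_iff _ D).1 (hY I D).2 (p ≫ h)
    exact ⟨k, i ≫ c, by rw [assoc, hc, reassoc_of% e]⟩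

lemma isCoherent_of_retract {X Y : Sh J} (i : X ⟶ Y) (p : Y ⟶ X) (e : i ≫ p = 𝟙 X) (hY : IsCoherent Y) :
    IsCoherent X := by
  have : IsSplitMono i := ⟨⟨⟨p, e⟩⟩⟩
  exact ⟨isQC_of_retract i p e hY.1, isQS_of_mono i hY.2⟩

/-- Every object is a filtered colimit of coequalizers of finite sums of generators. -/
theorem exists_presentation {P R : Sh J → Prop} (hP : GenBy J P)
    (hR : ∀ (α β : Type u) [Finite α] [Finite β] (F : α → Sh J) (G : β → Sh J) (a b : ∐ G ⟶ ∐ F),
      (∀ i, P (F i)) → (∀ j, P (G j)) → R (coequalizer a b))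
    (X : Sh J) :
    ∃ (I : Type u) (_ : SmallCategory I) (_ : IsFiltered I) (D : I ⥤ Sh J),
      (∀ i, R (D.obj i)) ∧ Nonempty (X ≅ colimit D) := by
  classical
  obtain ⟨ι, G, g, hG, hg⟩ := hP X
  choose K L l hL hl using fun p : ι × ι => hP (pullback (g p.1) (g p.2))
  let κ := Σ p : ι × ι, K p
  let Q := {q : Finset ι × Finset κ // ∀ t ∈ q.2, t.1.1 ∈ q.1 ∧ t.1.2 ∈ q.1}
  let a : ∀ q : Q, (∐ fun t : q.1.2 => L t.1.1 t.1.2) ⟶ ∐ fun i : q.1.1 => G i := fun q => Sigma.desc fun t =>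
    l t.1.1 t.1.2 ≫ pullback.fst _ _ ≫ Sigma.ι (fun i : q.1.1 => G i) ⟨t.1.1.1, (q.2 _ t.2).1⟩
  let b : ∀ q : Q, (∐ fun t : q.1.2 => L t.1.1 t.1.2) ⟶ ∐ fun i : q.1.1 => G i := fun q => Sigma.desc fun t =>
    l t.1.1 t.1.2 ≫ pullback.snd _ _ ≫ Sigma.ι (fun i : q.1.1 => G i) ⟨t.1.1.2, (q.2 _ t.2).2⟩
  let c : ∀ (q : Q) (i : ι), i ∈ q.1.1 → (G i ⟶ coequalizer (a q) (b q)) := fun q i h =>
    Sigma.ι (fun i : q.1.1 => G i) ⟨i, h⟩ ≫ coequalizer.π (a q) (b q)
  have hc : ∀ (q : Q) (t : κ) (ht : t ∈ q.1.2),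
      l t.1 t.2 ≫ pullback.fst _ _ ≫ c q t.1.1 (q.2 t ht).1 = l t.1 t.2 ≫ pullback.snd _ _ ≫ c q t.1.2 (q.2 t ht).2 := by
    intro q t ht
    have := Sigma.ι (fun t : q.1.2 => L t.1.1 t.1.2) ⟨t, ht⟩ ≫= coequalizer.condition (a q) (b q)
    simpa [a, b, c] using this
  let D : Q ⥤ Sh J :=
    { obj := fun q => coequalizer (a q) (b q)
      map := fun {q q'} f => coequalizer.desc (Sigma.desc fun i => c q' i.1 ((leOfHom f).1 i.2)) (by
        refine Sigma.hom_ext _ _ fun t => ?_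
        simpa [a, b] using hc q' t.1 ((leOfHom f).2 t.2))
      map_id := fun q => by
        refine coequalizer.hom_ext (Sigma.hom_ext _ _ fun i => ?_)
        simp [c]
      map_comp := fun f f' => by
        refine coequalizer.hom_ext (Sigma.hom_ext _ _ fun i => ?_)
        simp [c] }
  have hD : ∀ {q q' : Q} (f : q ⟶ q') (i : ι) (h : i ∈ q.1.1), c q i h ≫ D.map f = c q' i ((leOfHom f).1 h) := by
    intro q q' f i h
    simp [c, D]
  let toX : Cocone D :=
    { pt := X
      ι :=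
        { app := fun q => coequalizer.desc (Sigma.desc fun i => g i.1) (by
            refine Sigma.hom_ext _ _ fun t => ?_
            simp [a, b, pullback.condition])
          naturality := fun q q' f => by
            refine coequalizer.hom_ext (Sigma.hom_ext _ _ fun i => ?_)
            simp [D, c] } }
  have hX : ∀ (q : Q) (i : ι) (h : i ∈ q.1.1), c q i h ≫ toX.ι.app q = g i := fun q i h => by simp [c, toX]
  have hc_ext : ∀ {q : Q} {W : Sh J} (u v : coequalizer (a q) (b q) ⟶ W),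
      (∀ i h, c q i h ≫ u = c q i h ≫ v) → u = v := fun u v h =>
    coequalizer.hom_ext (Sigma.hom_ext _ _ fun i => by simpa [c] using h i.1 i.2)
  let single : ι → Q := fun i => ⟨({i}, ∅), fun t ht => absurd ht (Finset.notMem_empty t)⟩
  let φ : ∀ (s : Cocone D) (i : ι), G i ⟶ s.pt := fun s i =>
    c (single i) i (Finset.mem_singleton_self i) ≫ s.ι.app (single i)
  have hφ : ∀ (s : Cocone D) (q : Q) (i : ι) (h : i ∈ q.1.1), c q i h ≫ s.ι.app q = φ s i := by
    intro s q i h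
    have f : single i ⟶ q := homOfLE ⟨Finset.singleton_subset_iff.2 h, Finset.empty_subset _⟩
    exact (congrArg (· ≫ s.ι.app q) (hD f i (Finset.mem_singleton_self i)).symm).trans
      ((assoc _ _ _).trans (congrArg (c _ i _ ≫ ·) (s.w f)))
  have hd : ∀ s : Cocone D, ∃ d : X ⟶ s.pt, ∀ i, g i ≫ d = φ s i := fun s =>
    exists_desc hg (φ s) fun i j => hl (i, j) _ _ _ fun k => by
      let t : κ := ⟨(i, j), k⟩
      let q : Q := ⟨({i, j}, {t}), fun x hx => by
        obtain rfl := Finset.mem_singleton.1 hx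
        simp [t]⟩
      have ht : t ∈ q.1.2 := Finset.mem_singleton_self t
      have h2 := congrArg (· ≫ s.ι.app q) (hc q t ht)
      simp only [assoc, hφ] at h2
      exact h2
  choose d hd using hd
  have hlim : IsColimit toX :=
    { desc := d
      fac := fun s q => hc_ext _ _ fun i h => by rw [← assoc, hX, hd, hφ]
      uniq := fun s m hm => hg _ _ _ fun i => by
        rw [hd, ← hφ s (single i) i (Finset.mem_singleton_self i), ← hm, ← assoc, hX] }
  have : IsDirectedOrder Q := ⟨fun q q' => ⟨⟨(q.1.1 ∪ q'.1.1, q.1.2 ∪ q'.1.2), fun t ht => by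
      rcases Finset.mem_union.1 ht with ht | ht
      · exact ⟨Finset.mem_union_left _ (q.2 t ht).1, Finset.mem_union_left _ (q.2 t ht).2⟩
      · exact ⟨Finset.mem_union_right _ (q'.2 t ht).1, Finset.mem_union_right _ (q'.2 t ht).2⟩⟩,
    ⟨Finset.subset_union_left, Finset.subset_union_left⟩, ⟨Finset.subset_union_right, Finset.subset_union_right⟩⟩⟩
  have : Nonempty Q := ⟨⟨(∅, ∅), fun t ht => absurd ht (Finset.notMem_empty t)⟩⟩
  refine ⟨Q, inferInstance, isFiltered_of_directed_le_nonempty Q, D,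
    fun q => hR _ _ _ _ _ _ (fun i => hG _) (fun t => hL _ _), ⟨hlim.coconePointUniqueUpToIso (colimit.isColimit D)⟩⟩

lemma exists_retract_of_isFP {P R : Sh J → Prop} (hP : GenBy J P)
    (hR : ∀ (α β : Type u) [Finite α] [Finite β] (F : α → Sh J) (G : β → Sh J) (a b : ∐ G ⟶ ∐ F),
      (∀ i, P (F i)) → (∀ j, P (G j)) → R (coequalizer a b))
    {X : Sh J} (hX : IsFP X) : ∃ (Q : Sh J) (i : X ⟶ Q) (p : Q ⟶ X), R Q ∧ i ≫ p = 𝟙 X := by
  obtain ⟨I, _, _, D, hD, ⟨e⟩⟩ := exists_presentation hP hR X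
  obtain ⟨k, c, hc⟩ := (post_surjective_iff _ D).1 (hX I D).2 e.hom
  exact ⟨D.obj k, c, colimit.ι D k ≫ e.inv, hD k, by rw [reassoc_of% hc, e.hom_inv_id]⟩

end Groth.L09.Topos
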