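import Groth.Agent.L09.CatLimLib
import Mathlib.CategoryTheory.Limits.Shapes.Pullback.HasPullback
import Mathlib.CategoryTheory.Limits.Shapes.Multiequalizer
import Mathlib.CategoryTheory.Limits.Types.Limits
import Mathlib.CategoryTheory.Limits.Types.Colimits
import Mathlib.CategoryTheory.Limits.FunctorCategory.Basic
import Mathlib.CategoryTheory.Limits.IsConnected
import Mathlib.CategoryTheory.Limits.Final
import Mathlib.CategoryTheory.IsConnected
import Mathlib.CategoryTheory.FinCategory.Basic
import Mathlib.Data.Fintype.Powerset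
import Mathlib.Data.Fintype.EquivFin
import Mathlib.Data.Set.Finite.Basic
import Mathlib.Data.Fintype.Sum
import Mathlib.Order.Preorder.Finite
import Mathlib.Data.Fintype.Sigma
import Mathlib.Data.Finite.Sigma
import Mathlib.CategoryTheory.MorphismProperty.Composition

set_option autoImplicit false
universe w v u

open CategoryTheory Category Limits

namespace Groth.L09.ConnLim

variable {C : Type u} [Category.{v} C] {J : Type} [SmallCategory J] (F : J ⥤ C)

/-- compatibility of a family on `S` with a set of arrows -/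
def Comp (S : Set J) (E : Set (Arrow J)) {T : C} (a : ∀ j ∈ S, T ⟶ F.obj j) : Prop :=
  ∀ f ∈ E, ∀ (h : f.left ∈ S) (h' : f.right ∈ S), a f.left h ≫ F.map f.hom = a f.right h'

def Rep (S : Set J) (E : Set (Arrow J)) : Prop :=
  ∃ (X : C) (π : ∀ j ∈ S, X ⟶ F.obj j), Comp F S E π ∧
    ∀ (T : C) (a : ∀ j ∈ S, T ⟶ F.obj j), Comp F S E a → ∃! t : T ⟶ X, ∀ j h, t ≫ π j h = a j h

variable {F}

lemma rep_add_arrow [HasEqualizers C] {S : Set J} {E : Set (Arrow J)} (f : Arrow J)
    (hl : f.left ∈ S) (hr : f.right ∈ S) (H : Rep F S E) : Rep F S (insert f E) := by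
  obtain ⟨X, π, hπ, huniv⟩ := H
  refine ⟨equalizer (π f.left hl ≫ F.map f.hom) (π f.right hr),
    fun j h => equalizer.ι _ _ ≫ π j h, ?_, fun T a ha => ?_⟩
  · intro g hg h h'
    rcases hg with rfl | hg
    · rw [assoc]; exact equalizer.condition _ _
    · rw [assoc, hπ g hg h h']
  · obtain ⟨t, ht, htu⟩ := huniv T a (fun g hg h h' => ha g (Set.mem_insert_of_mem _ hg) h h')
    refine ⟨equalizer.lift t (by rw [reassoc_of% (ht f.left hl), ht f.right hr,
      ha f (Set.mem_insert _ _) hl hr]), fun j h => by rw [equalizer.lift_ι_assoc, ht j h], ?_⟩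
    intro t' ht'
    apply equalizer.hom_ext
    rw [equalizer.lift_ι]
    exact htu _ (fun j h => by rw [assoc]; exact ht' j h)

/-- extension of a family by a single value -/
noncomputable def ext' {S : Set J} {k : J} {T : C} (x : T ⟶ F.obj k) (a : ∀ j ∈ S, T ⟶ F.obj j) :
    ∀ j ∈ insert k S, T ⟶ F.obj j := fun j h =>
  open Classical in
  if e : j = k then x ≫ eqToHom (by rw [e]) else a j (h.resolve_left e)

lemma ext'_self {S : Set J} {k : J} {T : C} (x : T ⟶ F.obj k) (a : ∀ j ∈ S, T ⟶ F.obj j) (h) :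
    ext' x a k h = x := by
  simp [ext']

lemma ext'_of_mem {S : Set J} {k : J} (hk : k ∉ S) {T : C} (x : T ⟶ F.obj k)
    (a : ∀ j ∈ S, T ⟶ F.obj j) (j : J) (hj : j ∈ S) (h) : ext' x a j h = a j hj := by
  have : j ≠ k := fun e => hk (e ▸ hj)
  simp [ext', this]

lemma rep_out {S : Set J} {E : Set (Arrow J)} (hE : ∀ g ∈ E, g.left ∈ S ∧ g.right ∈ S) {j k : J}
    (hj : j ∈ S) (hk : k ∉ S) (f : j ⟶ k) (H : Rep F S E) :
    Rep F (insert k S) (insert (Arrow.mk f) E) := by
  obtain ⟨X, π, hπ, huniv⟩ := H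
  refine ⟨X, ext' (π j hj ≫ F.map f) π, ?_, fun T a ha => ?_⟩
  · intro g hg h h'
    rcases hg with rfl | hg
    · show ext' _ π j h ≫ F.map f = ext' _ π k h'
      rw [ext'_self, ext'_of_mem hk _ _ j hj]
    · rw [ext'_of_mem hk _ _ _ (hE g hg).1, ext'_of_mem hk _ _ _ (hE g hg).2, hπ g hg]
  · obtain ⟨t, ht, htu⟩ := huniv T (fun i hi => a i (Set.mem_insert_of_mem _ hi))
      (fun g hg h h' => ha g (Set.mem_insert_of_mem _ hg) _ _)
    refine ⟨t, fun i hi => ?_, fun t' ht' => htu t' fun i hi => ?_⟩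
    · rcases hi with rfl | hi
      · rw [ext'_self, reassoc_of% (ht j hj)]
        exact ha (Arrow.mk f) (Set.mem_insert _ _) (Set.mem_insert_of_mem _ hj) _
      · rw [ext'_of_mem hk _ _ i hi, ht]
    · have := ht' i (Set.mem_insert_of_mem _ hi)
      rwa [ext'_of_mem hk _ _ i hi] at this

lemma rep_in [HasPullbacks C] {S : Set J} {E : Set (Arrow J)} (hE : ∀ g ∈ E, g.left ∈ S ∧ g.right ∈ S) {j k : J}
    (hj : j ∈ S) (hk : k ∉ S) (f : k ⟶ j) (H : Rep F S E) :
    Rep F (insert k S) (insert (Arrow.mk f) E) := by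
  obtain ⟨X, π, hπ, huniv⟩ := H
  refine ⟨pullback (π j hj) (F.map f),
    ext' (pullback.snd _ _) (fun i hi => pullback.fst _ _ ≫ π i hi), ?_, fun T a ha => ?_⟩
  · intro g hg h h'
    rcases hg with rfl | hg
    · show ext' _ _ k h ≫ F.map f = ext' _ _ j h'
      rw [ext'_self, ext'_of_mem hk _ _ j hj, pullback.condition]
    · rw [ext'_of_mem hk _ _ _ (hE g hg).1, ext'_of_mem hk _ _ _ (hE g hg).2, assoc, hπ g hg]
  · obtain ⟨t, ht, htu⟩ := huniv T (fun i hi => a i (Set.mem_insert_of_mem _ hi))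
      (fun g hg h h' => ha g (Set.mem_insert_of_mem _ hg) _ _)
    refine ⟨pullback.lift t (a k (Set.mem_insert _ _)) (by
      rw [ht j hj]; exact (ha (Arrow.mk f) (Set.mem_insert _ _) _ _).symm), fun i hi => ?_,
      fun t' ht' => pullback.hom_ext ?_ ?_⟩
    · rcases hi with rfl | hi
      · rw [ext'_self, pullback.lift_snd]
      · rw [ext'_of_mem hk _ _ i hi, pullback.lift_fst_assoc, ht]
    · rw [pullback.lift_fst]
      refine htu _ fun i hi => ?_
      have := ht' i (Set.mem_insert_of_mem _ hi)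
      rwa [ext'_of_mem hk _ _ i hi, ← assoc] at this
    · rw [pullback.lift_snd]
      have := ht' k (Set.mem_insert _ _)
      rwa [ext'_self] at this

theorem hasLimit_of_finite_connected [HasEqualizers C] [HasPullbacks C] [FinCategory J]
    [IsConnected J] (F : J ⥤ C) : HasLimit F := by
  let G : Set J → Prop := fun S => ∃ E : Set (Arrow J), (∀ g ∈ E, g.left ∈ S ∧ g.right ∈ S) ∧ Rep F S E
  obtain ⟨j₀⟩ := (inferInstance : Nonempty J)
  have h0 : G {j₀} := ⟨∅, fun g hg => hg.elim, F.obj j₀,
    fun j h => eqToHom (by rw [Set.mem_singleton_iff.mp h]), fun g hg => hg.elim, fun T a _ =>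
      ⟨a j₀ rfl, fun j h => by obtain rfl : j = j₀ := h; simp,
        fun t ht => by simpa using ht j₀ rfl⟩⟩
  obtain ⟨S, hS, hmax⟩ := (Set.toFinite {S : Set J | G S ∧ j₀ ∈ S}).exists_maximal ⟨_, h0, rfl⟩
  obtain ⟨⟨E, hE, hrep⟩, hj₀⟩ := hS
  have hmax' : ∀ k, k ∉ S → ∀ E', (∀ g ∈ E', g.left ∈ insert k S ∧ g.right ∈ insert k S) →
      ¬ Rep F (insert k S) E' := fun k hk E' hE' hr =>
    hk (hmax (show insert k S ∈ {S : Set J | G S ∧ j₀ ∈ S} from
      ⟨⟨E', hE', hr⟩, Set.mem_insert_of_mem _ hj₀⟩) (Set.subset_insert _ _) (Set.mem_insert _ _))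
  have hall : ∀ j, j ∈ S := by
    refine induct_on_objects S hj₀ (fun {j₁ j₂} f => ⟨fun h => ?_, fun h => ?_⟩)
    · by_contra hk
      refine hmax' j₂ hk _ ?_ (rep_out hE h hk f hrep)
      rintro g (rfl | hg)
      · exact ⟨Set.mem_insert_of_mem _ h, Set.mem_insert _ _⟩
      · exact ⟨Set.mem_insert_of_mem _ (hE g hg).1, Set.mem_insert_of_mem _ (hE g hg).2⟩
    · by_contra hk
      refine hmax' j₁ hk _ ?_ (rep_in hE h hk f hrep)
      rintro g (rfl | hg)
      · exact ⟨Set.mem_insert _ _, Set.mem_insert_of_mem _ h⟩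
      · exact ⟨Set.mem_insert_of_mem _ (hE g hg).1, Set.mem_insert_of_mem _ (hE g hg).2⟩
  have hfin : Finite (Arrow J) := Finite.of_equiv (Σ a b : J, a ⟶ b)
    { toFun := fun p => Arrow.mk p.2.2
      invFun := fun f => ⟨f.left, f.right, f.hom⟩
      left_inv := fun _ => rfl
      right_inv := fun _ => rfl }
  have hfull : ∀ A : Set (Arrow J), A.Finite → Rep F S (A ∪ E) := by
    intro A hA
    induction A, hA using Set.Finite.induction_on with
    | empty => simpa using hrep
    | @insert f A _ _ ih =>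
      rw [Set.insert_union]
      exact rep_add_arrow f (hall _) (hall _) ih
  obtain ⟨X, π, hπ, huniv⟩ := hfull Set.univ (Set.toFinite _)
  exact HasLimit.mk
    { cone := Cone.mk X { app := fun j => π j (hall j), naturality := fun a b f => (id_comp _).trans (hπ (Arrow.mk f) (Or.inl trivial) (hall _) (hall _)).symm }
      isLimit :=
        { lift := fun c => (huniv c.pt (fun j _ => c.π.app j) (fun g _ _ _ => c.w g.hom)).exists.choose
          fac := fun c j => (huniv c.pt (fun j _ => c.π.app j) (fun g _ _ _ => c.w g.hom)).exists.choose_spec j (hall j)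
          uniq := fun c m hm => (huniv c.pt (fun j _ => c.π.app j) (fun g _ _ _ => c.w g.hom)).unique
            (fun j _ => hm j) (huniv c.pt (fun j _ => c.π.app j) (fun g _ _ _ => c.w g.hom)).exists.choose_spec } }

end Groth.L09.ConnLim

namespace Groth.L09.ConnColim

variable {I : Type v} [SmallCategory I]
  (h1 : ∀ ⦃w x y : I⦄ (a : w ⟶ x) (b : w ⟶ y), ∃ (z : I) (c : x ⟶ z) (d : y ⟶ z), a ≫ c = b ≫ d)
  (h2 : ∀ ⦃x y : I⦄ (a b : x ⟶ y), ∃ (z : I) (c : y ⟶ z), a ≫ c = b ≫ c)
  {J : Type} [SmallCategory J] [FinCategory J] [IsConnected J]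
  {K : J ⥤ (I ⥤ Type v)}

include h1 h2

lemma single {F : I ⥤ Type v} {i : I} {x y : F.obj i} (h : colimit.ι F i x = colimit.ι F i y) :
    ∃ (k : I) (c : i ⟶ k), F.map c x = F.map c y := by
  obtain ⟨k, f, g, e⟩ := Groth.L09.CatLimLib.colimit_rel_of_span h1 h
  obtain ⟨z, c, hc⟩ := h2 f g
  refine ⟨z, f ≫ c, ?_⟩
  conv_rhs => rw [hc, Functor.map_comp_apply]
  rw [Functor.map_comp_apply, e]

lemma same_target {i i' : I} {S : Type*} [Finite S] (z₀ : I) (a₀ : i ⟶ z₀) (b₀ : i' ⟶ z₀)
    (k : S → I) (a : ∀ s, i ⟶ k s) (b : ∀ s, i' ⟶ k s) :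
    ∃ (z : I) (A : i ⟶ z) (B : i' ⟶ z), ∀ s, ∃ u : k s ⟶ z, A = a s ≫ u ∧ B = b s ≫ u := by
  suffices H : ∀ T : Set S, T.Finite → ∃ (z : I) (A : i ⟶ z) (B : i' ⟶ z),
      ∀ s ∈ T, ∃ u : k s ⟶ z, A = a s ≫ u ∧ B = b s ≫ u by
    obtain ⟨z, A, B, h⟩ := H Set.univ (Set.toFinite _)
    exact ⟨z, A, B, fun s => h s trivial⟩
  intro T hT
  induction T, hT using Set.Finite.induction_on with
  | empty => exact ⟨z₀, a₀, b₀, fun s hs => hs.elim⟩
  | @insert s T _ _ ih =>
    obtain ⟨z, A, B, h⟩ := ih
    obtain ⟨w, c, d, hcd⟩ := h1 A (a s)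
    obtain ⟨w', e, he⟩ := h2 (B ≫ c) (b s ≫ d)
    refine ⟨w', A ≫ c ≫ e, B ≫ c ≫ e, ?_⟩
    rintro t (rfl | ht)
    · exact ⟨d ≫ e, by rw [reassoc_of% hcd], by simpa using he⟩
    · obtain ⟨u, hu, hu'⟩ := h t ht
      exact ⟨u ≫ c ≫ e, by rw [hu, assoc], by rw [hu', assoc]⟩

lemma zigzag_of_eq {F : I ⥤ Type v} {i j : I} {x : F.obj i} {y : F.obj j}
    (h : colimit.ι F i x = colimit.ι F j y) : Zigzag i j := by
  obtain ⟨k, f, g, -⟩ := Groth.L09.CatLimLib.colimit_rel_of_span h1 h
  exact (Zigzag.of_hom f).trans (Zigzag.of_inv g)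

lemma target_of_zigzag {i₀ : I} {S : Type*} [Finite S] (i : S → I) (h : ∀ s, Zigzag (i s) i₀) :
    ∃ (z : I) (_ : i₀ ⟶ z), ∀ s, Nonempty (i s ⟶ z) := by
  suffices H : ∀ T : Set S, T.Finite → ∃ (z : I) (_ : i₀ ⟶ z), ∀ s ∈ T, Nonempty (i s ⟶ z) by
    obtain ⟨z, a, h'⟩ := H Set.univ (Set.toFinite _)
    exact ⟨z, a, fun s => h' s trivial⟩
  intro T hT
  induction T, hT using Set.Finite.induction_on with
  | empty => exact ⟨i₀, 𝟙 _, fun s hs => hs.elim⟩
  | @insert s T _ _ ih =>
    obtain ⟨z, a, h'⟩ := ih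
    obtain ⟨w, ⟨b⟩, ⟨c⟩⟩ := Groth.L09.CatLimLib.common_succ h1 ((h s).trans (Zigzag.of_hom a))
    refine ⟨w, a ≫ c, ?_⟩
    rintro t (rfl | ht)
    · exact ⟨b⟩
    · exact ⟨(h' t ht).some ≫ c⟩

theorem preserves (c : Cone K) (hc : IsLimit c) :
    Nonempty (IsLimit ((colim : (I ⥤ Type v) ⥤ Type v).mapCone c)) := by
  have hp : ∀ i, Nonempty (IsLimit (((evaluation I (Type v)).obj i).mapCone c)) :=
    fun i => ⟨isLimitOfPreserves _ hc⟩
  have hev : ∀ i (s : ∀ j, (K.obj j).obj i), (∀ ⦃j j' : J⦄ (f : j ⟶ j'), (K.map f).app i (s j) = s j') →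
      ∃! x : c.pt.obj i, ∀ j, (c.π.app j).app i x = s j :=
    fun i s hs => (Types.isLimit_iff _).mp (hp i) s (fun {j j'} f => hs f)
  have hι : ∀ {F G : I ⥤ Type v} (α : F ⟶ G) (i : I) (x : F.obj i),
      colim.map α (colimit.ι F i x) = colimit.ι G i (α.app i x) := fun α i x =>
    ConcreteCategory.congr_hom (colimit.ι_map α i) x
  have hw : ∀ {F : I ⥤ Type v} {i i' : I} (g : i ⟶ i') (x : F.obj i),
      colimit.ι F i' (F.map g x) = colimit.ι F i x := fun {F i i'} g x =>
    ConcreteCategory.congr_hom (colimit.w F g) x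
  refine (Types.isLimit_iff _).mpr fun s hs => ?_
  obtain ⟨j₀⟩ := (inferInstance : Nonempty J)
  choose i x hx using fun j => Types.jointly_surjective' (F := K.obj j) (s j)
  have hzz : ∀ j, Zigzag (i j) (i j₀) := by
    intro j
    refine induct_on_objects {j | Zigzag (i j) (i j₀)} (Zigzag.refl _) (fun {a b} f => ?_) j
    have : colimit.ι (K.obj b) (i a) ((K.map f).app _ (x a)) = colimit.ι (K.obj b) (i b) (x b) := by
      rw [← hι, hx a, hx b]; exact hs f
    have hab := zigzag_of_eq h1 h2 this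
    exact ⟨fun ha => hab.symm.trans ha, fun hb => hab.trans hb⟩
  obtain ⟨z, a₀, hz⟩ := target_of_zigzag h1 h2 i hzz
  let y : ∀ j, (K.obj j).obj z := fun j => (K.obj j).map (hz j).some (x j)
  have hy : ∀ j, colimit.ι (K.obj j) z (y j) = s j := fun j => by rw [hw, hx]
  have hA : ∀ f : Σ a b : J, a ⟶ b, ∃ (k : I) (c : z ⟶ k),
      (K.obj f.2.1).map c ((K.map f.2.2).app z (y f.1)) = (K.obj f.2.1).map c (y f.2.1) := fun f => by
    refine single h1 h2 ?_
    rw [← hι, hy, hy]; exact hs f.2.2
  choose k d hd using hA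
  obtain ⟨w, A, B, hAB⟩ := same_target h1 h2 z (𝟙 z) (𝟙 z) k d d
  obtain ⟨e, he, -⟩ := hev w (fun j => (K.obj j).map A (y j)) (fun j j' f => by
    obtain ⟨u, hu, -⟩ := hAB ⟨j, j', f⟩
    rw [NatTrans.naturality_apply, hu, Functor.map_comp_apply, Functor.map_comp_apply, hd ⟨j, j', f⟩])
  refine ⟨colimit.ι c.pt w e, fun j => ?_, fun t ht => ?_⟩
  · show colim.map (c.π.app j) _ = _
    exact (hι _ _ _).trans (by rw [he, hw, hy])
  · obtain ⟨i', x', rfl⟩ := Types.jointly_surjective' (F := c.pt) t
    have hB : ∀ j, ∃ (k : I) (p : i' ⟶ k) (q : w ⟶ k),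
        (K.obj j).map p ((c.π.app j).app i' x') = (K.obj j).map q ((c.π.app j).app w e) := fun j => by
      refine Groth.L09.CatLimLib.colimit_rel_of_span h1 ?_
      exact ((hι _ _ _).symm.trans (ht j)).trans (by rw [he, hw, hy])
    choose k' p q hpq using hB
    obtain ⟨v', P, Q, hPQ⟩ := same_target h1 h2 (k' j₀) (p j₀) (q j₀) k' p q
    have : c.pt.map P x' = c.pt.map Q e := by
      refine (hev v' (fun j => (c.π.app j).app v' (c.pt.map Q e)) (fun j j' f => ?_)).unique
        (fun j => ?_) (fun j => rfl)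
      · exact ConcreteCategory.congr_hom (congrArg (fun α : c.pt ⟶ K.obj j' => α.app v') (c.w f)) _
      · obtain ⟨u, hu, hu'⟩ := hPQ j
        refine (NatTrans.naturality_apply (c.π.app j) P x').trans (Eq.trans ?_ (NatTrans.naturality_apply (c.π.app j) Q e).symm)
        show (K.obj j).map P _ = (K.obj j).map Q _
        rw [hu, hu', Functor.map_comp_apply, Functor.map_comp_apply]
        exact congrArg _ (hpq j)
    rw [← hw P, this, hw]

end Groth.L09.ConnColim

namespace Groth.L09.FinModel

variable {I : Type u} [Category.{v} I]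

theorem exists_finCategory [Finite I] (gen : Finset (Σ x y : I, x ⟶ y))
    (hgen : ∀ P : MorphismProperty I, P.IsMultiplicative → (∀ a ∈ gen, P a.2.2) → P = ⊤) :
    ∃ (J : Type) (_ : SmallCategory J) (_ : FinCategory J) (F : J ⥤ I),
      F.Final ∧ F.Initial ∧ (IsConnected J ↔ IsConnected I) ∧ (Nonempty J ↔ Nonempty I) := by
  obtain ⟨n, ⟨e⟩⟩ := Finite.exists_equiv_fin I
  obtain ⟨m, ⟨g⟩⟩ := Finite.exists_equiv_fin gen
  let S : MultispanShape.{0, 0} :=
    { L := Fin m, R := Fin n, fst := fun l => e (g.symm l).1.1, snd := fun l => e (g.symm l).1.2.1 }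
  let M : MultispanIndex S I :=
    { left := fun l => (g.symm l).1.1
      right := fun r => e.symm r
      fst := fun l => eqToHom (e.symm_apply_apply _).symm
      snd := fun l => (g.symm l).1.2.2 ≫ eqToHom (e.symm_apply_apply _).symm }
  classical
  let fin : FinCategory (WalkingMultispan S) :=
    { fintypeObj := @Fintype.ofFinite _ (Finite.of_surjective (fun x : Fin m ⊕ Fin n => (match x with
          | .inl a => WalkingMultispan.left a
          | .inr b => WalkingMultispan.right b : WalkingMultispan S))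
          (by rintro (a | b) <;> [exact ⟨.inl a, rfl⟩; exact ⟨.inr b, rfl⟩]))
      fintypeHom := fun a b => by
        classical
        have hfin : Finite (Σ c, a ⟶ c) := by
          cases a with
          | left l =>
            refine Finite.of_surjective (fun o : Option Bool => match o with
              | none => ⟨_, 𝟙 (WalkingMultispan.left l)⟩
              | some false => ⟨_, WalkingMultispan.Hom.fst l⟩
              | some true => ⟨_, WalkingMultispan.Hom.snd l⟩) ?_
            rintro ⟨c, f⟩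
            cases f
            exacts [⟨none, rfl⟩, ⟨some false, rfl⟩, ⟨some true, rfl⟩]
          | right r =>
            refine Finite.of_surjective (fun _ : Unit => ⟨_, 𝟙 (WalkingMultispan.right r)⟩) ?_
            rintro ⟨c, f⟩
            cases f
            exact ⟨(), rfl⟩
        exact @Fintype.ofFinite _ (Finite.of_injective (fun f : a ⟶ b => (⟨b, f⟩ : Σ c, a ⟶ c))
          (fun f f' h => eq_of_heq (Sigma.mk.inj_iff.mp h).2)) }
  let F : WalkingMultispan S ⥤ I := M.multispan
  have hF : F.Final := by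
    constructor
    intro i
    let base : ∀ (x : I) (u : i ⟶ x), StructuredArrow i F := fun x u =>
      StructuredArrow.mk (Y := WalkingMultispan.right (e x)) (u ≫ eqToHom (show x = F.obj (.right (e x)) from (e.symm_apply_apply x).symm))
    have key : ∀ {x y : I} (f : x ⟶ y) (u : i ⟶ x), Zigzag (base x u) (base y (u ≫ f)) := by
      let P : MorphismProperty I := fun x y f => ∀ (u : i ⟶ x), Zigzag (base x u) (base y (u ≫ f))
      have hP : P.IsMultiplicative :=
        { id_mem := fun x u => by simpa using Zigzag.refl (base x u)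
          comp_mem := fun f f' hf hf' u => by
            have := (hf u).trans (hf' (u ≫ f))
            simpa using this }
      have hg : ∀ l : S.L, P (g.symm l).1.2.2 := fun l u => by
        let mid : StructuredArrow i F := StructuredArrow.mk (Y := WalkingMultispan.left (J := S) l) u
        refine (Zigzag.of_inv (j₂ := mid) ?_).trans (Zigzag.of_hom ?_)
        · exact StructuredArrow.homMk (WalkingMultispan.Hom.fst (J := S) l) rfl
        · exact StructuredArrow.homMk (WalkingMultispan.Hom.snd (J := S) l) (assoc _ _ _).symm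
      have := hgen P hP (fun a ha => (show ∀ b : gen, P b.1.2.2 from fun b => by
        have h' := hg (g b)
        rw [Equiv.symm_apply_apply] at h'
        exact h') ⟨a, ha⟩)
      intro x y f
      exact (this ▸ trivial : P f)
    have hall : ∀ p : StructuredArrow i F, Zigzag p (base i (𝟙 i)) := by
      have hr : ∀ x (u : i ⟶ x), Zigzag (base x u) (base i (𝟙 i)) := fun x u => by
        have := key u (𝟙 i); rw [id_comp] at this; exact this.symm
      intro p
      obtain ⟨y, u, rfl⟩ := StructuredArrow.mk_surjective p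
      cases y with
      | left l =>
        refine (Zigzag.of_hom (j₂ := base _ u) ?_).trans (hr _ u)
        exact StructuredArrow.homMk (WalkingMultispan.Hom.fst (J := S) l) rfl
      | right r =>
        refine (Zigzag.of_hom (j₂ := base _ u) ?_).trans (hr _ u)
        exact StructuredArrow.homMk (eqToHom (congrArg WalkingMultispan.right (e.apply_symm_apply r).symm))
          (by simp [base, eqToHom_map])
    have : Nonempty (StructuredArrow i F) := ⟨base i (𝟙 i)⟩
    exact zigzag_isConnected fun p q => (hall p).trans (hall q).symm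
  have hI : F.Initial := by
    constructor
    intro i
    let base : ∀ (x : I) (u : x ⟶ i), CostructuredArrow F i := fun x u =>
      CostructuredArrow.mk (Y := WalkingMultispan.right (e x)) (eqToHom (show F.obj (.right (e x)) = x from e.symm_apply_apply x) ≫ u)
    have key : ∀ {x y : I} (f : x ⟶ y) (u : y ⟶ i), Zigzag (base x (f ≫ u)) (base y u) := by
      let P : MorphismProperty I := fun x y f => ∀ (u : y ⟶ i), Zigzag (base x (f ≫ u)) (base y u)
      have hP : P.IsMultiplicative :=
        { id_mem := fun x u => by simpa using Zigzag.refl (base x u)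
          comp_mem := fun f f' hf hf' u => by
            have := (hf (f' ≫ u)).trans (hf' u)
            simpa using this }
      have hg : ∀ l : S.L, P (g.symm l).1.2.2 := fun l u => by
        let mid : CostructuredArrow F i :=
          CostructuredArrow.mk (Y := WalkingMultispan.left (J := S) l) ((g.symm l).1.2.2 ≫ u)
        refine (Zigzag.of_inv (j₂ := mid) ?_).trans (Zigzag.of_hom ?_)
        · exact CostructuredArrow.homMk (WalkingMultispan.Hom.fst (J := S) l) (by simp [base, mid, F, M])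
        · exact CostructuredArrow.homMk (WalkingMultispan.Hom.snd (J := S) l) (by simp [base, mid, F, M])
      have := hgen P hP (fun a ha => (show ∀ b : gen, P b.1.2.2 from fun b => by
        have h' := hg (g b)
        rw [Equiv.symm_apply_apply] at h'
        exact h') ⟨a, ha⟩)
      intro x y f
      exact (this ▸ trivial : P f)
    have hall : ∀ p : CostructuredArrow F i, Zigzag p (base i (𝟙 i)) := by
      have hr : ∀ x (u : x ⟶ i), Zigzag (base x u) (base i (𝟙 i)) := fun x u => by
        have := key u (𝟙 i); rw [comp_id] at this; exact this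
      intro p
      obtain ⟨y, u, rfl⟩ := CostructuredArrow.mk_surjective p
      cases y with
      | left l =>
        refine (Zigzag.of_hom (j₂ := base _ u) ?_).trans (hr _ u)
        exact CostructuredArrow.homMk (WalkingMultispan.Hom.fst (J := S) l) (by simp [base, F, M])
      | right r =>
        refine (Zigzag.of_hom (j₂ := base _ u) ?_).trans (hr _ u)
        exact CostructuredArrow.homMk (eqToHom (congrArg WalkingMultispan.right (e.apply_symm_apply r).symm))
          (by simp [base, eqToHom_map])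
    have : Nonempty (CostructuredArrow F i) := ⟨base i (𝟙 i)⟩
    exact zigzag_isConnected fun p q => (hall p).trans (hall q).symm
  refine ⟨WalkingMultispan S, inferInstance, fin, F, hF, hI, Functor.isConnected_iff_of_final F,
    ⟨fun ⟨x⟩ => ⟨F.obj x⟩, fun ⟨x⟩ => ⟨.right (e x)⟩⟩⟩

end Groth.L09.FinModel
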