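import Groth.Prelude.Def_CohSite
import Mathlib.CategoryTheory.Sites.PreservesSheafification
import Mathlib.CategoryTheory.Sites.ConstantSheaf
import Mathlib.Algebra.Category.ModuleCat.Abelian
import Mathlib.Algebra.Category.ModuleCat.Limits
import Mathlib.CategoryTheory.Sites.LeftExact
import Mathlib.Algebra.Category.ModuleCat.FilteredColimits
import Mathlib.Algebra.Category.ModuleCat.Colimits
import Mathlib.Algebra.Module.FinitePresentation
import Mathlib.RingTheory.Flat.Tensor
import Mathlib.LinearAlgebra.TensorProduct.RightExactness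
import Mathlib.LinearAlgebra.TensorProduct.Pi
import Mathlib.Algebra.Homology.ShortComplex.ExactFunctor
import Mathlib.Algebra.Homology.ShortComplex.ModuleCat

/-! # Sections of constant sheaves of modules and tensor products -/

set_option autoImplicit false
set_option linter.style.haveILetI false
set_option backward.defeqAttrib.useBackward true
set_option backward.isDefEq.respectTransparency false

universe u

open CategoryTheory CategoryTheory.Limits Opposite TensorProduct

noncomputable section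

namespace Groth.L09.ConstTensor

variable {C : Type u} [SmallCategory C] (J : GrothendieckTopology C) (Λ : Type u) [CommRing Λ]

/-- The constant presheaf. -/
abbrev cst : ModuleCat.{u} Λ ⥤ (Cᵒᵖ ⥤ ModuleCat.{u} Λ) := Functor.const Cᵒᵖ

/-- The sections over `U` of the constant sheaf. -/
abbrev sec (U : C) : ModuleCat.{u} Λ ⥤ ModuleCat.{u} Λ :=
  constantSheaf J (ModuleCat.{u} Λ) ⋙ sheafToPresheaf J _ ⋙ (evaluation Cᵒᵖ _).obj (op U)

variable {Λ}

theorem map_cst_eq {A B : ModuleCat.{u} Λ} (g : A ⟶ B)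
    (φ : sheafify J ((cst Λ).obj A) ⟶ sheafify J ((cst Λ).obj B))
    (h : toSheafify J _ ≫ φ = (cst Λ).map g ≫ toSheafify J _) : sheafifyMap J ((cst Λ).map g) = φ :=
  sheafify_hom_ext J _ _ (((presheafToSheaf J (ModuleCat.{u} Λ)).obj _).property) ((toSheafify_naturality J _).symm.trans h.symm)

theorem cst_add {A B : ModuleCat.{u} Λ} (g g' : A ⟶ B) :
    sheafifyMap J ((cst Λ).map (g + g')) = sheafifyMap J ((cst Λ).map g) + sheafifyMap J ((cst Λ).map g') := by
  refine map_cst_eq J _ _ ?_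
  rw [Preadditive.comp_add, ← toSheafify_naturality, ← toSheafify_naturality, ← Preadditive.add_comp]
  rfl

/-- Multiplication by a scalar on a presheaf of modules. -/
def smulEnd (r : Λ) (P : Cᵒᵖ ⥤ ModuleCat.{u} Λ) : P ⟶ P where
  app V := r • 𝟙 (P.obj V)
  naturality V W f := by rw [Linear.comp_smul, Linear.smul_comp, Category.comp_id, Category.id_comp]

theorem cst_smul {A B : ModuleCat.{u} Λ} (r : Λ) (g : A ⟶ B) :
    sheafifyMap J ((cst Λ).map (r • g)) = sheafifyMap J ((cst Λ).map g) ≫ smulEnd r _ := by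
  refine map_cst_eq J _ _ ?_
  rw [← Category.assoc, ← toSheafify_naturality]
  ext V : 2
  show (g ≫ (toSheafify J ((cst Λ).obj B)).app V) ≫ (r • 𝟙 _) = (r • g) ≫ _
  rw [Linear.comp_smul, Category.comp_id, Linear.smul_comp]

variable (U : C)

theorem sec_map_add {A B : ModuleCat.{u} Λ} (g g' : A ⟶ B) :
    (sec J Λ U).map (g + g') = (sec J Λ U).map g + (sec J Λ U).map g' :=
  NatTrans.congr_app (cst_add J g g') (op U)

theorem sec_map_smul {A B : ModuleCat.{u} Λ} (r : Λ) (g : A ⟶ B) :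
    (sec J Λ U).map (r • g) = r • (sec J Λ U).map g :=
  (NatTrans.congr_app (cst_smul J r g) (op U)).trans (by
    show _ ≫ (r • 𝟙 _) = _
    rw [Linear.comp_smul, Category.comp_id]
    rfl)

instance : (sec J Λ U).Additive := ⟨fun {A B g g'} => sec_map_add J U g g'⟩

instance : (sec J Λ U).Linear Λ := ⟨fun {A B} g r => sec_map_smul J U r g⟩

instance : PreservesFiniteLimits (sec J Λ U) := by
  haveI : PreservesFiniteLimits (cst Λ : ModuleCat.{u} Λ ⥤ (Cᵒᵖ ⥤ ModuleCat.{u} Λ)) := inferInstance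
  haveI : PreservesFiniteLimits (constantSheaf J (ModuleCat.{u} Λ)) :=
    comp_preservesFiniteLimits (cst Λ) (presheafToSheaf J _)
  exact comp_preservesFiniteLimits _ _

/-- Constant sheaves keep surjections surjective on sections. -/
theorem sec_surjective {A B : ModuleCat.{u} Λ} (g : A ⟶ B) (hg : Function.Surjective g) :
    Function.Surjective ((sec J Λ U).map g) := by
  let F := forget (ModuleCat.{u} Λ)
  let s₀ : (Functor.const Cᵒᵖ).obj B ⋙ F ⟶ (Functor.const Cᵒᵖ).obj A ⋙ F := { app := fun _ => TypeCat.ofHom (Function.surjInv hg) }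
  let t := (sheafifyComposeIso J F _).inv ≫ sheafifyMap J s₀ ≫ (sheafifyComposeIso J F _).hom
  have ht : t ≫ Functor.whiskerRight (sheafifyMap J ((cst Λ).map g)) F = 𝟙 _ := by
    rw [← cancel_epi (sheafifyComposeIso J F ((cst Λ).obj B)).hom]
    simp only [t, Category.assoc, Iso.hom_inv_id_assoc, Category.comp_id]
    apply sheafify_hom_ext J _ _ ((sheafCompose J F).obj ((presheafToSheaf J (ModuleCat.{u} Λ)).obj _)).property
    rw [← toSheafify_naturality_assoc, sheafComposeIso_hom_fac_assoc, ← Functor.whiskerRight_comp,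
      ← toSheafify_naturality, Functor.whiskerRight_comp, ← Category.assoc]
    refine (congrArg (· ≫ Functor.whiskerRight (toSheafify J _) F) (NatTrans.ext (funext fun X => ?_) :
      s₀ ≫ Functor.whiskerRight ((cst Λ).map g) F = 𝟙 _)).trans ?_
    · ext y
      exact Function.surjInv_eq hg y
    · rw [Category.id_comp]
      exact (sheafComposeIso_hom_fac J F _).symm
  exact fun y => ⟨t.app (op U) y, congr($(ht).app (op U) y)⟩

/-- Exact pairs of linear maps give exact pairs on sections. -/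
theorem sec_exact {A B D : ModuleCat.{u} Λ} (a : A ⟶ B) (b : B ⟶ D) (h : Function.Exact a b)
    (y : (sec J Λ U).obj B) (hy : (sec J Λ U).map b y = 0) : ∃ x, (sec J Λ U).map a x = y := by
  let K := ModuleCat.of Λ (LinearMap.ker b.hom)
  let i : K ⟶ B := ModuleCat.ofHom (LinearMap.ker b.hom).subtype
  haveI : Mono i := (ModuleCat.mono_iff_injective i).2 Subtype.val_injective
  let S : ShortComplex (ModuleCat.{u} Λ) := ShortComplex.mk i b (ModuleCat.hom_ext (LinearMap.ext fun x => x.2))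
  have hS : S.Exact := (ShortComplex.moduleCat_exact_iff S).2 fun x hx => ⟨⟨x, hx⟩, rfl⟩
  haveI : Mono S.f := inferInstanceAs (Mono i)
  obtain ⟨z, hz⟩ := (ShortComplex.moduleCat_exact_iff _).1
    (hS.map_of_mono_of_preservesKernel (sec J Λ U) inferInstance inferInstance) y hy
  let a' : A ⟶ K := ModuleCat.ofHom (a.hom.codRestrict _ fun x => LinearMap.mem_ker.2 (h.apply_apply_eq_zero x))
  obtain ⟨x, hx⟩ := sec_surjective J U a' (fun k => by
    obtain ⟨x, hx⟩ := (h k.1).1 k.2
    exact ⟨x, Subtype.ext hx⟩) z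
  refine ⟨x, ?_⟩
  rw [show a = a' ≫ i from ModuleCat.hom_ext (LinearMap.ext fun _ => rfl), Functor.map_comp, ModuleCat.comp_apply, hx]
  exact hz

section Compare

variable (Λ) (M : Type u) [AddCommGroup M] [Module Λ M]

/-- The sections of the constant sheaf on `M`. -/
abbrev secM : ModuleCat.{u} Λ := (sec J Λ U).obj (ModuleCat.of Λ M)

/-- The comparison map. -/
def cmp (Q : Type u) [AddCommGroup Q] [Module Λ Q] :
    (secM J Λ U M) ⊗[Λ] Q →ₗ[Λ] (sec J Λ U).obj (ModuleCat.of Λ (M ⊗[Λ] Q)) :=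
  TensorProduct.lift (LinearMap.mk₂ Λ
    (fun s q => (sec J Λ U).map (ModuleCat.ofHom ((TensorProduct.mk Λ M Q).flip q)) s)
    (fun s t q => map_add _ s t) (fun r s q => LinearMap.map_smul _ r s)
    (fun s q q' => by
      rw [show ModuleCat.ofHom ((TensorProduct.mk Λ M Q).flip (q + q')) =
        ModuleCat.ofHom ((TensorProduct.mk Λ M Q).flip q) + ModuleCat.ofHom ((TensorProduct.mk Λ M Q).flip q') from
        ModuleCat.hom_ext (map_add (TensorProduct.mk Λ M Q).flip q q'), sec_map_add]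
      rfl)
    (fun r s q => by
      rw [show ModuleCat.ofHom ((TensorProduct.mk Λ M Q).flip (r • q)) =
        r • ModuleCat.ofHom ((TensorProduct.mk Λ M Q).flip q) from
        ModuleCat.hom_ext (LinearMap.map_smul (TensorProduct.mk Λ M Q).flip r q), sec_map_smul]
      rfl))

variable {Q Q' : Type u} [AddCommGroup Q] [Module Λ Q] [AddCommGroup Q'] [Module Λ Q']

theorem cmp_tmul (s : secM J Λ U M) (q : Q) :
    cmp J Λ U M Q (s ⊗ₜ q) = (sec J Λ U).map (ModuleCat.ofHom ((TensorProduct.mk Λ M Q).flip q)) s :=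
  TensorProduct.lift.tmul _ _

theorem cmp_nat (g : Q →ₗ[Λ] Q') (z : (secM J Λ U M) ⊗[Λ] Q) :
    cmp J Λ U M Q' (g.lTensor _ z) = (sec J Λ U).map (ModuleCat.ofHom (g.lTensor M)) (cmp J Λ U M Q z) := by
  refine LinearMap.congr_fun (f := cmp J Λ U M Q' ∘ₗ g.lTensor _)
    (g := ((sec J Λ U).map (ModuleCat.ofHom (g.lTensor M))).hom ∘ₗ cmp J Λ U M Q) (TensorProduct.ext' fun s q => ?_) z
  · show cmp J Λ U M Q' (g.lTensor _ (s ⊗ₜ q)) = (sec J Λ U).map _ (cmp J Λ U M Q (s ⊗ₜ q))
    rw [LinearMap.lTensor_tmul, cmp_tmul, cmp_tmul, ← ModuleCat.comp_apply, ← Functor.map_comp]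
    rfl

theorem cmp_pi_bijective (n : ℕ) : Function.Bijective (cmp J Λ U M (Fin n → Λ)) := by
  classical
  let e : Fin n → (Fin n → Λ) := fun i => Pi.single i 1
  let p : ∀ i, ModuleCat.of Λ (M ⊗[Λ] (Fin n → Λ)) ⟶ ModuleCat.of Λ M := fun i =>
    ModuleCat.ofHom ((TensorProduct.rid Λ M).toLinearMap ∘ₗ (LinearMap.proj i).lTensor M)
  let ψ : (sec J Λ U).obj (ModuleCat.of Λ (M ⊗[Λ] (Fin n → Λ))) →ₗ[Λ] (secM J Λ U M) ⊗[Λ] (Fin n → Λ) :=
    ∑ i, (TensorProduct.mk Λ _ _).flip (e i) ∘ₗ ((sec J Λ U).map (p i)).hom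
  refine Function.bijective_iff_has_inverse.2 ⟨ψ, fun z => ?_, fun y => ?_⟩
  · refine LinearMap.congr_fun (f := ψ ∘ₗ cmp J Λ U M _) (g := LinearMap.id) (TensorProduct.ext' fun s q => ?_) z
    · show ψ (cmp J Λ U M _ (s ⊗ₜ q)) = s ⊗ₜ q
      have h : ∀ i, (sec J Λ U).map (p i) (cmp J Λ U M _ (s ⊗ₜ q)) = q i • s := fun i => by
        rw [cmp_tmul, ← ModuleCat.comp_apply, ← Functor.map_comp,
          show ModuleCat.ofHom ((TensorProduct.mk Λ M (Fin n → Λ)).flip q) ≫ p i = q i • 𝟙 _ from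
            ModuleCat.hom_ext (LinearMap.ext fun m => TensorProduct.rid_tmul m (q i)),
          sec_map_smul, CategoryTheory.Functor.map_id]
        rfl
      simp only [ψ, LinearMap.coe_sum, Finset.sum_apply, LinearMap.comp_apply]
      rw [Finset.sum_congr rfl fun i _ => congrArg _ (h i)]
      simp only [LinearMap.flip_apply, TensorProduct.mk_apply, TensorProduct.smul_tmul, ← TensorProduct.tmul_sum]
      exact congrArg (s ⊗ₜ[Λ] ·) (pi_eq_sum_univ' q).symm
  · simp only [ψ, LinearMap.coe_sum, Finset.sum_apply, LinearMap.comp_apply, LinearMap.flip_apply,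
      TensorProduct.mk_apply, map_sum, cmp_tmul]
    have h : ∑ i, p i ≫ ModuleCat.ofHom ((TensorProduct.mk Λ M (Fin n → Λ)).flip (e i)) = 𝟙 _ := by
      refine ModuleCat.hom_ext (TensorProduct.ext' fun m q => ?_)
      simp only [ModuleCat.hom_sum, LinearMap.coe_sum, Finset.sum_apply]
      show ∑ i, (q i • m) ⊗ₜ[Λ] e i = m ⊗ₜ q
      simp only [TensorProduct.smul_tmul, ← TensorProduct.tmul_sum]
      exact congrArg (m ⊗ₜ[Λ] ·) (pi_eq_sum_univ' q).symm
    conv_rhs => rw [show y = (sec J Λ U).map (∑ i, p i ≫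
      ModuleCat.ofHom ((TensorProduct.mk Λ M (Fin n → Λ)).flip (e i))) y by rw [h, CategoryTheory.Functor.map_id]; rfl]
    simp only [Functor.map_sum, Functor.map_comp, ModuleCat.hom_sum, LinearMap.coe_sum, Finset.sum_apply]
    rfl

theorem cmp_bijective (Q : Type u) [AddCommGroup Q] [Module Λ Q] [Module.FinitePresentation Λ Q] :
    Function.Bijective (cmp J Λ U M Q) := by
  obtain ⟨n, p, hp⟩ := Module.Finite.exists_fin' Λ Q
  haveI : Module.Finite Λ (LinearMap.ker p) := Module.Finite.iff_fg.2 (Module.FinitePresentation.fg_ker p hp)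
  obtain ⟨m, a₀, ha₀⟩ := Module.Finite.exists_fin' Λ (LinearMap.ker p)
  let a : (Fin m → Λ) →ₗ[Λ] (Fin n → Λ) := (LinearMap.ker p).subtype ∘ₗ a₀
  have hex : Function.Exact a p := LinearMap.exact_iff.2 (by
    rw [LinearMap.range_comp, LinearMap.range_eq_top.2 ha₀, Submodule.map_top, Submodule.range_subtype])
  refine ⟨(injective_iff_map_eq_zero _).2 fun z hz => ?_, fun y => ?_⟩
  · obtain ⟨z', rfl⟩ := LinearMap.lTensor_surjective _ hp z
    rw [cmp_nat] at hz
    obtain ⟨w', hw'⟩ := sec_exact J U (ModuleCat.ofHom (a.lTensor M)) (ModuleCat.ofHom (p.lTensor M))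
      (lTensor_exact M hex hp) _ hz
    obtain ⟨w, rfl⟩ := (cmp_pi_bijective J Λ U M m).2 w'
    rw [← cmp_nat] at hw'
    rw [← (cmp_pi_bijective J Λ U M n).1 hw', ← LinearMap.lTensor_comp_apply, hex.linearMap_comp_eq_zero]
    simp
  · obtain ⟨y', rfl⟩ := sec_surjective J U (ModuleCat.ofHom (p.lTensor M)) (LinearMap.lTensor_surjective _ hp) y
    obtain ⟨z', rfl⟩ := (cmp_pi_bijective J Λ U M n).2 y'
    exact ⟨_, cmp_nat J Λ U M p z'⟩

/-- Flatness of the sections over a coherent ring. -/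
theorem flat_sec (hΛ : ∀ I : Ideal Λ, I.FG → Module.FinitePresentation Λ I) [Module.Flat Λ M] :
    Module.Flat Λ (secM J Λ U M) := by
  refine Module.Flat.iff_lTensor_injective.2 fun I hI => ?_
  haveI := hΛ I hI
  intro x y hxy
  refine (cmp_bijective J Λ U M I).1 ?_
  haveI : Mono (ModuleCat.ofHom ((Submodule.subtype I).lTensor M)) :=
    (ModuleCat.mono_iff_injective _).2 (Module.Flat.lTensor_preserves_injective_linearMap _ Subtype.val_injective)
  refine (ModuleCat.mono_iff_injective ((sec J Λ U).map (ModuleCat.ofHom ((Submodule.subtype I).lTensor M)))).1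
    inferInstance ?_
  rw [← cmp_nat, ← cmp_nat, hxy]

end Compare

end Groth.L09.ConstTensor
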