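import Groth.Agent.L09.SpaceSite
import Mathlib.CategoryTheory.Functor.Flat
import Mathlib.CategoryTheory.Limits.Shapes.IsTerminal

/-!
Contractions of augmented families of spaces and the functors they induce on total sites.
-/

set_option autoImplicit false
set_option linter.unusedSectionVars false
set_option backward.isDefEq.respectTransparency false
set_option backward.isDefEq.respectTransparency.types false
universe u
open CategoryTheory CategoryTheory.Limits Opposite Pseudofunctor.CoGrothendieck TopologicalSpace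
open Groth.L09.SpaceSite

namespace Groth.L09

variable {D : Type} [Category.{0} D]

/-- A contraction of an augmented family of spaces. -/
structure Contraction (Y : (WithInitial D)ᵒᵖ ⥤ TopCat.{u}) where
  /-- The shift. -/
  Ψ : (WithInitial D)ᵒᵖ ⥤ Dᵒᵖ
  /-- The faces. -/
  d : Ψ ⋙ FibDesc.toAug D ⟶ 𝟭 _
  /-- The extra degeneracies. -/
  s : Y ⟶ (Ψ ⋙ FibDesc.toAug D) ⋙ Y
  fac : ∀ i, s.app i ≫ Y.map (d.app i) = 𝟙 _

namespace Contraction

variable {Y : (WithInitial D)ᵒᵖ ⥤ TopCat.{u}} (c : Contraction Y)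

/-- The shifted family. -/
abbrev Y' : (WithInitial D)ᵒᵖ ⥤ TopCat.{u} := (c.Ψ ⋙ FibDesc.toAug D) ⋙ Y

/-- The total category of the family. -/
abbrev A (Y : (WithInitial D)ᵒᵖ ⥤ TopCat.{u}) : Type u := ∫ᶜ (FibDesc.topAug Y)

lemma d_nat {i j : (WithInitial D)ᵒᵖ} (f : i ⟶ j) (x : c.Y'.obj i) :
    Y.map (c.d.app j) (c.Y'.map f x) = Y.map f (Y.map (c.d.app i) x) := by
  have h := congrArg (fun k => Y.map k) (c.d.naturality f)
  simp only [Functor.map_comp] at h
  exact ConcreteCategory.congr_hom h x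

lemma s_nat {i j : (WithInitial D)ᵒᵖ} (f : i ⟶ j) (x : Y.obj i) :
    c.Y'.map f (c.s.app i x) = c.s.app j (Y.map f x) :=
  (ConcreteCategory.congr_hom (c.s.naturality f) x).symm

/-- Preimage along the extra degeneracies. -/
noncomputable def α : A c.Y' ⥤ A Y where
  obj X := SpaceSite.mk X.base ((Opens.map (c.s.app X.base)).obj (ob X))
  map {X Z} f := hom f.base fun x hx => by
    show c.s.app Z.base (Y.map f.base x) ∈ ob Z
    rw [← s_nat]
    exact hom_le f hx
  map_id _ := hom_ext rfl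
  map_comp _ _ := hom_ext rfl

/-- Preimage along the faces. -/
noncomputable def δ : A Y ⥤ A c.Y' where
  obj X := SpaceSite.mk X.base ((Opens.map (Y.map (c.d.app X.base))).obj (ob X))
  map {X Z} f := hom f.base fun x hx => by
    show Y.map (c.d.app Z.base) (c.Y'.map f.base x) ∈ ob Z
    rw [d_nat]
    exact hom_le f hx
  map_id _ := hom_ext rfl
  map_comp _ _ := hom_ext rfl

/-- The shift of indices. -/
noncomputable def ψ : A c.Y' ⥤ ∫ᶜ (FibDesc.part (FibDesc.topAug Y)) where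
  obj X := mkP (c.Ψ.obj X.base) (ob X)
  map {X Z} f := homP (c.Ψ.map f.base) (hom_le f)
  map_id X := homP_ext (c.Ψ.map_id X.base)
  map_comp f g := homP_ext (c.Ψ.map_comp f.base g.base)

/-- The shift of indices into the augmented family. -/
noncomputable abbrev γ : A c.Y' ⥤ A Y := c.ψ ⋙ FibDesc.incl (FibDesc.topAug Y)

/-- `α` is left inverse to `δ`. -/
noncomputable def ν : 𝟭 (A Y) ⟶ c.δ ⋙ c.α where
  app X := hom (X := X) (Z := (c.δ ⋙ c.α).obj X) (𝟙 X.base) fun x hx => by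
    show Y.map (c.d.app X.base) (c.s.app X.base (Y.map (𝟙 X.base) x)) ∈ ob X
    have h := ConcreteCategory.congr_hom (c.fac X.base) (Y.map (𝟙 X.base) x)
    simp at h ⊢
    rw [h]
    exact hx
  naturality X Z f := hom_ext (by
    show f.base ≫ 𝟙 _ = 𝟙 _ ≫ f.base
    simp)

/-- The comparison with the identity. -/
noncomputable def τ : c.δ ⋙ c.γ ⟶ 𝟭 (A Y) where
  app X := hom (X := (c.δ ⋙ c.γ).obj X) (Z := X) (c.d.app X.base) fun x hx => hx
  naturality X Z f := hom_ext (c.d.naturality f.base)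

/-- The face as a morphism of the index category. -/
noncomputable def d₀ (i : Dᵒᵖ) : c.Ψ.obj ((FibDesc.toAug D).obj i) ⟶ i :=
  (FibDesc.toAug D).preimage (X := c.Ψ.obj ((FibDesc.toAug D).obj i)) (Y := i) (c.d.app ((FibDesc.toAug D).obj i))

lemma map_d₀ (i : Dᵒᵖ) : (FibDesc.toAug D).map (c.d₀ i) = c.d.app ((FibDesc.toAug D).obj i) :=
  (FibDesc.toAug D).map_preimage _

lemma d₀_nat {i j : Dᵒᵖ} (f : i ⟶ j) : c.Ψ.map ((FibDesc.toAug D).map f) ≫ c.d₀ j = c.d₀ i ≫ f := by
  apply (FibDesc.toAug D).map_injective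
  rw [Functor.map_comp, Functor.map_comp, map_d₀, map_d₀]
  exact c.d.naturality ((FibDesc.toAug D).map f)

/-- The comparison with the identity of the part. -/
noncomputable def τ₀ :
    (FibDesc.incl (FibDesc.topAug Y) ⋙ c.δ) ⋙ c.ψ ⟶ 𝟭 (∫ᶜ (FibDesc.part (FibDesc.topAug Y))) where
  app X := homP (X := ((FibDesc.incl (FibDesc.topAug Y) ⋙ c.δ) ⋙ c.ψ).obj X) (Z := X) (c.d₀ X.base)
    fun x hx => by
      show Y.map ((FibDesc.toAug D).map (c.d₀ X.base)) x ∈ obP X
      rw [map_d₀]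
      exact hx
  naturality _ _ f := homP_ext (c.d₀_nat f.base)

lemma τ₀_incl (X : ∫ᶜ (FibDesc.part (FibDesc.topAug Y))) :
    (FibDesc.incl (FibDesc.topAug Y)).map (c.τ₀.app X) = c.τ.app ((FibDesc.incl (FibDesc.topAug Y)).obj X) :=
  hom_ext (c.map_d₀ X.base)

/-- `α` on fibres. -/
noncomputable def αIso (i : (WithInitial D)ᵒᵖ) :
    ι (FibDesc.topAug c.Y') i ⋙ c.α ≅ Opens.map (c.s.app i) ⋙ ι (FibDesc.topAug Y) i :=
  NatIso.ofComponents (fun _ => Iso.refl _) fun _ => hom_ext (by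
    show 𝟙 i ≫ 𝟙 _ = 𝟙 _ ≫ 𝟙 _
    rfl)

/-- `δ` on fibres. -/
noncomputable def δIso (i : (WithInitial D)ᵒᵖ) :
    ι (FibDesc.topAug Y) i ⋙ c.δ ≅ Opens.map (Y.map (c.d.app i)) ⋙ ι (FibDesc.topAug c.Y') i :=
  NatIso.ofComponents (fun _ => Iso.refl _) fun _ => hom_ext (by
    show 𝟙 i ≫ 𝟙 _ = 𝟙 _ ≫ 𝟙 _
    rfl)

/-- `ψ` on fibres. -/
noncomputable def ψIso (i : (WithInitial D)ᵒᵖ) :
    ι (FibDesc.topAug c.Y') i ⋙ c.ψ ≅ 𝟭 (Opens (c.Y'.obj i)) ⋙ ι (FibDesc.part (FibDesc.topAug Y)) (c.Ψ.obj i) :=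
  NatIso.ofComponents (fun _ => Iso.refl _) fun _ => homP_ext (by
    show c.Ψ.map (𝟙 i) ≫ 𝟙 _ = 𝟙 _ ≫ 𝟙 _
    simp)

lemma map_isContinuous {T T' : TopCat.{u}} (f : T ⟶ T') :
    (Opens.map f).IsContinuous (Opens.grothendieckTopology T') (Opens.grothendieckTopology T) := inferInstance

instance α_isContinuous : c.α.IsContinuous (JA c.Y') (JA Y) :=
  isContinuous_of_fibres (isPreFibSite c.Y') (isPreFibSite Y) _ fun i =>
    ⟨i, Opens.map (c.s.app i), map_isContinuous _, ⟨c.αIso i⟩⟩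

instance δ_isContinuous : c.δ.IsContinuous (JA Y) (JA c.Y') :=
  isContinuous_of_fibres (isPreFibSite Y) (isPreFibSite c.Y') _ fun i =>
    ⟨i, Opens.map (Y.map (c.d.app i)), map_isContinuous _, ⟨c.δIso i⟩⟩

instance ψ_isContinuous : c.ψ.IsContinuous (JA c.Y') (JP Y) :=
  isContinuous_of_fibres (isPreFibSite c.Y') (isPreFibSite_part Y) _ fun i =>
    ⟨c.Ψ.obj i, 𝟭 _, Functor.isContinuous_id _, ⟨c.ψIso i⟩⟩

instance ψ_isCocontinuous : c.ψ.IsCocontinuous (JA c.Y') (JP Y) where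
  cover_lift {X S} hS := by
    refine (FibSiteTop.mem_total_iff (isPreFibSite c.Y') _ _).2 ?_
    have h := (FibSiteTop.mem_total_iff (isPreFibSite_part Y) _ _).1 hS
    refine GrothendieckTopology.superset_covering _ ?_ h
    intro W a ha
    have e : c.ψ.map ((ι (FibDesc.topAug c.Y') X.base).map a) =
          (ι (FibDesc.part (FibDesc.topAug Y)) (c.Ψ.obj X.base)).map a :=
      homP_ext (c.Ψ.map_id _)
    show S.arrows (c.ψ.map ((ι (FibDesc.topAug c.Y') X.base).map a))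
    rw [e]
    exact ha

instance γ_isContinuous : c.γ.IsContinuous (JA c.Y') (JA Y) :=
  Functor.isContinuous_comp c.ψ (FibDesc.incl (FibDesc.topAug Y)) (JA c.Y') (JP Y) (JA Y)

instance γ_isCocontinuous : c.γ.IsCocontinuous (JA c.Y') (JA Y) :=
  isCocontinuous_comp c.ψ (FibDesc.incl (FibDesc.topAug Y)) (JA c.Y') (JP Y)

instance inclδ_isContinuous : (FibDesc.incl (FibDesc.topAug Y) ⋙ c.δ).IsContinuous (JP Y) (JA c.Y') :=
  Functor.isContinuous_comp (FibDesc.incl (FibDesc.topAug Y)) c.δ (JP Y) (JA Y) (JA c.Y')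

instance α_flat : RepresentablyFlat c.α := by
  refine ⟨fun X => ?_⟩
  let top : A c.Y' := SpaceSite.mk X.base ⊤
  let s₀ : X ⟶ c.α.obj top := hom (𝟙 X.base) fun x _ => trivial
  let W : StructuredArrow X c.α → Opens (c.Y'.obj X.base) := fun g =>
    (Opens.map (c.Y'.map g.hom.base)).obj (ob g.right)
  have hW : ∀ g : StructuredArrow X c.α, ob X ≤ (Opens.map (c.s.app X.base)).obj (W g) := fun g x hx => by
    show c.Y'.map g.hom.base (c.s.app X.base x) ∈ ob g.right
    rw [s_nat]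
    exact hom_le g.hom hx
  let can : ∀ V : Opens (c.Y'.obj X.base), ob X ≤ (Opens.map (c.s.app X.base)).obj V → StructuredArrow X c.α :=
    fun V hV => StructuredArrow.mk (Y := SpaceSite.mk X.base V) (hom (Z := c.α.obj (SpaceSite.mk X.base V)) (𝟙 X.base) (fun x hx => by
      show Y.map (𝟙 X.base) x ∈ (Opens.map (c.s.app X.base)).obj V
      rw [Y.map_id]
      exact hV hx))
  let toG : ∀ (V : Opens (c.Y'.obj X.base)) (hV) (g : StructuredArrow X c.α), V ≤ W g → (can V hV ⟶ g) := fun V hV g h =>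
    StructuredArrow.homMk (hom (X := SpaceSite.mk (Y := c.Y') X.base V) (Z := g.right) g.hom.base h)
      (hom_ext (Category.id_comp g.hom.base))
  refine { nonempty := ⟨StructuredArrow.mk s₀⟩, cone_objs := fun g g' => ?_, cone_maps := fun g g' a b => ?_ }
  · have hh : ob X ≤ (Opens.map (c.s.app X.base)).obj (W g ⊓ W g') := fun x hx => ⟨hW g hx, hW g' hx⟩
    exact ⟨can (W g ⊓ W g') hh, toG _ hh g inf_le_left, toG _ hh g' inf_le_right, trivial⟩
  · let k := toG (W g) (hW g) g le_rfl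
    refine ⟨can (W g) (hW g), k, StructuredArrow.ext (k ≫ a) (k ≫ b) (hom_ext ?_)⟩
    have ha := congrArg Pseudofunctor.CoGrothendieck.Hom.base (StructuredArrow.w a)
    have hb := congrArg Pseudofunctor.CoGrothendieck.Hom.base (StructuredArrow.w b)
    show g.hom.base ≫ a.right.base = g.hom.base ≫ b.right.base
    exact ha.trans hb.symm

end Contraction

end Groth.L09
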