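import Mathlib.CategoryTheory.Limits.VanKampen
import Mathlib.CategoryTheory.Limits.Shapes.DisjointCoproduct
import Mathlib.CategoryTheory.Limits.Types.Coproducts
import Mathlib.CategoryTheory.Limits.Types.Pullbacks
import Mathlib.CategoryTheory.Limits.FunctorCategory.EpiMono
import Mathlib.CategoryTheory.Sites.Limits
import Mathlib.CategoryTheory.Sites.LeftExact
import Mathlib.CategoryTheory.Sites.LocallyBijective
import Mathlib.CategoryTheory.Adjunction.Limits

/-! Coproducts of presheaves and sheaves of sets: disjoint and universal. -/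

set_option autoImplicit false
universe w v u

open CategoryTheory Category Limits Opposite

namespace Groth.L09.CoprodTopos

lemma types_cofan_exists {ι : Type w} {F : Discrete ι ⥤ Type w} {c : Cocone F} (hc : IsColimit c) (x : c.pt) :
    ∃ (i : ι) (a : F.obj ⟨i⟩), c.ι.app ⟨i⟩ a = x := by
  obtain ⟨⟨i⟩, a, h⟩ := Types.jointly_surjective' (J := Discrete ι) (F := F) (colimit.isoColimitCocone ⟨c, hc⟩ |>.inv x)
  refine ⟨i, a, ?_⟩
  have := congrArg (colimit.isoColimitCocone ⟨c, hc⟩).hom h
  rw [← types_comp_apply (colimit.ι F ⟨i⟩), colimit.isoColimitCocone_ι_hom] at this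
  exact this.trans (ConcreteCategory.congr_hom (colimit.isoColimitCocone ⟨c, hc⟩).inv_hom_id x)

lemma types_cofan_inj {ι : Type w} {F : Discrete ι ⥤ Type w} {c : Cocone F} (hc : IsColimit c)
    {i j : ι} {a : F.obj ⟨i⟩} {b : F.obj ⟨j⟩} (h : c.ι.app ⟨i⟩ a = c.ι.app ⟨j⟩ b) :
    ∃ e : i = j, e ▸ a = b := by
  let c' : Cofan (fun i => F.obj ⟨i⟩) := (Cocone.precompose Discrete.natIsoFunctor.inv).obj c
  have hc' : IsColimit c' := (IsColimit.precomposeInvEquiv Discrete.natIsoFunctor c).symm hc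
  have hi : ∀ k (z : F.obj ⟨k⟩), c'.inj k z = c.ι.app ⟨k⟩ z := fun k z => by
    simp [c', Cofan.inj]
  have h' : c'.inj i a = c'.inj j b := by rw [hi, hi]; exact h
  obtain rfl := Cofan.eq_of_inj_apply_eq_of_isColimit hc' a b h'
  exact ⟨rfl, Cofan.inj_injective_of_isColimit hc' i h'⟩

theorem types_isVanKampenColimit {ι : Type w} {F : Discrete ι ⥤ Type w} {c : Cocone F} (hc : IsColimit c) :
    IsVanKampenColimit c := by
  intro F' c' α f eq hα
  have eq' : ∀ (i : ι) (a : F'.obj ⟨i⟩), c.ι.app ⟨i⟩ (α.app ⟨i⟩ a) = f (c'.ι.app ⟨i⟩ a) := fun i a =>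
    ConcreteCategory.congr_hom (NatTrans.congr_app eq ⟨i⟩) a
  constructor
  · rintro ⟨hc'⟩ ⟨j⟩
    refine (Types.isPullback_iff _ _ _ _).mpr ⟨(NatTrans.congr_app eq ⟨j⟩).symm, fun a b h => ?_, fun y b h => ?_⟩
    · obtain ⟨e, he⟩ := types_cofan_inj hc' h.1
      exact he
    · obtain ⟨i, a, rfl⟩ := types_cofan_exists hc' y
      obtain ⟨rfl, rfl⟩ := types_cofan_inj hc (i := i) (j := j) (a := α.app ⟨i⟩ a) (b := b) ((eq' i a).trans h)
      exact ⟨a, rfl, rfl⟩
  · intro H
    have hsurj : ∀ y : c'.pt, ∃ (i : ι) (a : F'.obj ⟨i⟩), c'.ι.app ⟨i⟩ a = y := fun y => by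
      obtain ⟨j, b, hb⟩ := types_cofan_exists hc (f y)
      obtain ⟨a, ha, -⟩ := Types.exists_of_isPullback (H ⟨j⟩) y b hb.symm
      exact ⟨j, a, ha⟩
    have hinj : ∀ {i j : ι} (a : F'.obj ⟨i⟩) (a' : F'.obj ⟨j⟩), c'.ι.app ⟨i⟩ a = c'.ι.app ⟨j⟩ a' →
        ∃ e : i = j, e ▸ a = a' := fun {i j} a a' h => by
      obtain ⟨rfl, he⟩ := types_cofan_inj hc (i := i) (j := j) (a := α.app ⟨i⟩ a) (b := α.app ⟨j⟩ a') ((eq' i a).trans ((congrArg f h).trans (eq' j a').symm))
      exact ⟨rfl, ((Types.isPullback_iff _ _ _ _).mp (H ⟨i⟩)).2.1 a a' ⟨h, he⟩⟩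
    choose I A hA using hsurj
    refine ⟨{ desc := fun s => ↾fun y => s.ι.app ⟨I y⟩ (A y), fac := fun s k => ?_, uniq := fun s m hm => ?_ }⟩
    · obtain ⟨i⟩ := k
      ext a
      obtain ⟨e, he⟩ := hinj _ _ (hA (c'.ι.app ⟨i⟩ a))
      show s.ι.app ⟨I (c'.ι.app ⟨i⟩ a)⟩ (A (c'.ι.app ⟨i⟩ a)) = s.ι.app ⟨i⟩ a
      have : ∀ {k l : ι} (e : k = l) (z : F'.obj ⟨k⟩) (b : F'.obj ⟨l⟩), e ▸ z = b → s.ι.app ⟨k⟩ z = s.ι.app ⟨l⟩ b := by
        intro k l e z b hb
        subst e
        subst hb
        rfl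
      exact this e _ _ he
    · ext y
      show m y = s.ι.app ⟨I y⟩ (A y)
      conv_lhs => rw [← hA y]
      exact ConcreteCategory.congr_hom (hm ⟨I y⟩) (A y)

variable {C : Type u} [Category.{v} C]

theorem psh_isVanKampenColimit {ι : Type w} {F : Discrete ι ⥤ (C ⥤ Type w)} {c : Cocone F}
    (hc : IsColimit c) : IsVanKampenColimit c :=
  isVanKampenColimit_of_evaluation F c fun _ => types_isVanKampenColimit (isColimitOfPreserves _ hc)

lemma psh_inj_mono {ι : Type w} {F : Discrete ι ⥤ (C ⥤ Type w)} {c : Cocone F} (hc : IsColimit c) (i : ι) :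
    Mono (c.ι.app ⟨i⟩) := by
  have : ∀ X, Mono ((c.ι.app ⟨i⟩).app X) := fun X => (CategoryTheory.mono_iff_injective _).mpr fun a b h => by
    obtain ⟨e, he⟩ := types_cofan_inj (isColimitOfPreserves ((evaluation C (Type w)).obj X) hc)
      (i := i) (j := i) (a := a) (b := b) h
    exact he
  exact NatTrans.mono_of_mono_app _

lemma psh_isInitial_of_isEmpty {P : C ⥤ Type w} (h : ∀ X, IsEmpty (P.obj X)) : Nonempty (IsInitial P) :=
  ⟨IsInitial.ofUniqueHom (fun Q =>
    { app := fun X => ↾fun z => (h X).elim z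
      naturality := fun X Y i => by
        ext z
        exact (h X).elim z }) (fun Q m => by
    ext X z
    exact (h X).elim z)⟩

section Sheaf

variable {J : GrothendieckTopology C} [HasSheafify J (Type w)] {ι : Type w} (X : ι → Sheaf J (Type w))

/-- The coproduct of sheaves as sheafification of the coproduct of presheaves. -/
noncomputable def shfCocone : Cocone (Discrete.functor X) :=
  (Cocone.precompose ((Functor.rightUnitor _).inv ≫
      Functor.whiskerLeft (Discrete.functor X) (asIso (sheafificationAdjunction J (Type w)).counit).inv ≫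
      (Functor.associator _ _ _).inv)).obj
    ((presheafToSheaf J (Type w)).mapCocone (colimit.cocone (Discrete.functor X ⋙ sheafToPresheaf J (Type w))))

noncomputable def shfCoconeIsColimit : IsColimit (shfCocone X) := by
  have : PreservesColimitsOfSize.{w, w} (presheafToSheaf J (Type w)) :=
    (sheafificationAdjunction J (Type w)).leftAdjoint_preservesColimits
  exact (IsColimit.precomposeHomEquiv ((Functor.rightUnitor _).symm ≪≫
      Functor.isoWhiskerLeft (Discrete.functor X) (asIso (sheafificationAdjunction J (Type w)).counit).symm ≪≫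
      (Functor.associator _ _ _).symm) _).symm
    (isColimitOfPreserves _ (colimit.isColimit _))

theorem shf_isUniversalColimit : IsUniversalColimit (shfCocone X) := by
  refine IsUniversalColimit.precompose_isIso _ ?_
  exact IsUniversalColimit.map_reflective (sheafificationAdjunction J (Type w))
    (psh_isVanKampenColimit (colimit.isColimit _)).isUniversal

theorem shf_coproductDisjoint : CoproductDisjoint X := by
  let G := sheafToPresheaf J (Type w)
  let L := presheafToSheaf J (Type w)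
  have hc := colimit.isColimit (Discrete.functor X ⋙ G)
  let c := colimit.cocone (Discrete.functor X ⋙ G)
  let ε : ∀ k, X k ≅ L.obj (G.obj (X k)) := fun k =>
    ((asIso (sheafificationAdjunction J (Type w)).counit).app (X k)).symm
  have hinj : ∀ k, Cofan.inj (shfCocone X) k = (ε k).hom ≫ L.map (c.ι.app ⟨k⟩) := fun k => by
    simp [shfCocone, Cofan.inj, ε, c, L, G]
  have : ∀ k, Mono (Cofan.inj (shfCocone X) k) := fun k => by
    have := psh_inj_mono hc k
    rw [hinj]
    have : Mono (L.map (c.ι.app ⟨k⟩)) := inferInstanceAs <| Mono ((presheafToSheaf J (Type w)).map (c.ι.app ⟨k⟩))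
    exact @mono_comp _ _ _ _ _ _ _ _ this
  have hpb : ∀ i j : ι, IsPullback (L.map (pullback.fst (c.ι.app ⟨i⟩) (c.ι.app ⟨j⟩)) ≫ (ε i).inv)
      (L.map (pullback.snd (c.ι.app ⟨i⟩) (c.ι.app ⟨j⟩)) ≫ (ε j).inv)
      (Cofan.inj (shfCocone X) i) (Cofan.inj (shfCocone X) j) := fun i j => by
    refine ((IsPullback.of_hasPullback (c.ι.app ⟨i⟩) (c.ι.app ⟨j⟩)).map L).of_iso (Iso.refl _) (ε i).symm (ε j).symm
      (Iso.refl _) (by simp) (by simp) ?_ ?_
    · rw [hinj]; exact (comp_id _).trans ((ε i).inv_hom_id_assoc _).symm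
    · rw [hinj]; exact (comp_id _).trans ((ε j).inv_hom_id_assoc _).symm
  refine CoproductDisjoint.of_cofan (shfCoconeIsColimit X) (fun {i j} _ => (hpb i j).cone)
    (fun {i j} _ => (hpb i j).isLimit) (fun {i j} hij => ?_)
  have hP : Nonempty (IsInitial (pullback (c.ι.app ⟨i⟩) (c.ι.app ⟨j⟩))) :=
    psh_isInitial_of_isEmpty fun U => ⟨fun z => by
      have h := ConcreteCategory.congr_hom (NatTrans.congr_app (pullback.condition (f := c.ι.app ⟨i⟩) (g := c.ι.app ⟨j⟩)) U) z
      exact hij (types_cofan_inj (isColimitOfPreserves ((evaluation Cᵒᵖ (Type w)).obj U) hc)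
        (i := i) (j := j) h).1⟩
  have : PreservesColimitsOfSize.{w, w} (presheafToSheaf J (Type w)) :=
    (sheafificationAdjunction J (Type w)).leftAdjoint_preservesColimits
  exact IsInitial.isInitialObj L _ hP.some

theorem exists_disjointUniversal : ∃ (c : Cofan X) (_ : IsColimit c), CoproductDisjoint X ∧ IsUniversalColimit c :=
  ⟨shfCocone X, shfCoconeIsColimit X, shf_coproductDisjoint X, shf_isUniversalColimit X⟩

omit X in
/-- Every coproduct of sheaves of sets is universal. -/
theorem shf_universal_of_isColimit {F : Discrete ι ⥤ Sheaf J (Type w)} {c : Cocone F} (hc : IsColimit c) :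
    IsUniversalColimit c :=
  (IsUniversalColimit.precompose_isIso (Discrete.natIsoFunctor (F := F)).hom (shf_isUniversalColimit _)).of_iso
    (IsColimit.uniqueUpToIso
      ((IsColimit.precomposeHomEquiv (Discrete.natIsoFunctor (F := F)) _).symm (shfCoconeIsColimit _)) hc)

end Sheaf

section Small

variable {C : Type w} [SmallCategory C] {J : GrothendieckTopology C}

/-- A family of morphisms into `X` identifies the sheafification of `X` with the coproduct of the
sheafifications of the sources as soon as the canonical map is locally bijective. -/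
theorem isColimit_sheafify_of_locallyBijective {ι : Type w} {X : Cᵒᵖ ⥤ Type w} (Y : ι → Cᵒᵖ ⥤ Type w) (s : ∀ i, Y i ⟶ X)
    (hsurj : ∀ (U : C) (x : X.obj (op U)), ∃ S ∈ J U, ∀ ⦃V : C⦄ (k : V ⟶ U), S k →
      ∃ (i : ι) (y : (Y i).obj (op V)), (s i).app (op V) y = X.map k.op x)
    (hdiag : ∀ (i : ι) (U : C) (y y' : (Y i).obj (op U)), (s i).app (op U) y = (s i).app (op U) y' →
      ∃ S ∈ J U, ∀ ⦃V : C⦄ (k : V ⟶ U), S k → (Y i).map k.op y = (Y i).map k.op y')
    (hne : ∀ (i j : ι), i ≠ j → ∀ (U : C) (y : (Y i).obj (op U)) (y' : (Y j).obj (op U)),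
      (s i).app (op U) y = (s j).app (op U) y' → (⊥ : Sieve U) ∈ J U) :
    Nonempty (IsColimit (Cofan.mk ((presheafToSheaf J (Type w)).obj X)
      (fun i => (presheafToSheaf J (Type w)).map (s i)))) := by
  let σ := Sigma.desc s
  have hex : ∀ (U : Cᵒᵖ) (z : (∐ Y).obj U), ∃ (i : ι) (a : (Y i).obj U), (Sigma.ι Y i).app U a = z := fun U z =>
    types_cofan_exists (isColimitOfPreserves ((evaluation Cᵒᵖ (Type w)).obj U) (coproductIsCoproduct Y)) z
  have hσ : ∀ (i : ι) (U : Cᵒᵖ) (a : (Y i).obj U), σ.app U ((Sigma.ι Y i).app U a) = (s i).app U a := fun i U a =>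
    ConcreteCategory.congr_hom (NatTrans.congr_app (Sigma.ι_desc s i) U) a
  have : Presheaf.IsLocallyInjective J σ := ⟨fun {U} z z' h => by
    obtain ⟨U⟩ := U
    obtain ⟨i, a, rfl⟩ := hex _ z
    obtain ⟨j, b, rfl⟩ := hex _ z'
    rw [hσ, hσ] at h
    by_cases hij : i = j
    · subst hij
      obtain ⟨S, hS, hS'⟩ := hdiag i U a b h
      refine J.superset_covering (fun V k hk => ?_) hS
      show (∐ Y).map k.op _ = (∐ Y).map k.op _
      rw [← NatTrans.naturality_apply, ← NatTrans.naturality_apply, hS' k hk]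
    · exact J.superset_covering bot_le (hne i j hij U a b h)⟩
  have : Presheaf.IsLocallySurjective J σ := ⟨fun {U} x => by
    obtain ⟨S, hS, hS'⟩ := hsurj U x
    refine J.superset_covering (fun V k hk => ?_) hS
    obtain ⟨i, y, hy⟩ := hS' k hk
    exact ⟨(Sigma.ι Y i).app _ y, (hσ i _ y).trans hy⟩⟩
  have hW : J.W σ := GrothendieckTopology.W_of_isLocallyBijective J σ
  rw [GrothendieckTopology.W_iff] at hW
  have : PreservesColimitsOfSize.{w, w} (presheafToSheaf J (Type w)) :=
    (sheafificationAdjunction J (Type w)).leftAdjoint_preservesColimits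
  exact ⟨IsColimit.ofIsoColimit (isColimitCofanMkObjOfIsColimit (presheafToSheaf J (Type w)) _ _ (coproductIsCoproduct Y))
    (Cofan.ext (asIso ((presheafToSheaf J (Type w)).map σ)) fun i => by
      simp [← Functor.map_comp, σ])⟩

end Small

end Groth.L09.CoprodTopos
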