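import Mathlib.AlgebraicTopology.SimplicialObject.Coskeletal
import Mathlib.AlgebraicTopology.SimplicialSet.Basic

set_option autoImplicit false
open CategoryTheory Simplicial Opposite SSet
universe u

namespace Groth.L09.Cosk

noncomputable def homEquiv (U : SSet.{u}) (n : ℕ) [SimplicialObject.IsCoskeletal U n] (W : SSet.{u}) :
    (W ⟶ U) ≃ ((SimplexCategory.Truncated.inclusion n).op ⋙ W ⟶ (SimplexCategory.Truncated.inclusion n).op ⋙ U) :=
  U.homEquivOfIsRightKanExtension (𝟙 _) W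

lemma homEquiv_app {U : SSet.{u}} {n : ℕ} [SimplicialObject.IsCoskeletal U n] {W : SSet.{u}} (φ : W ⟶ U)
    (m : (SimplexCategory.Truncated n)ᵒᵖ) : (homEquiv U n W φ).app m = φ.app (op m.unop.obj) := rfl

lemma homEquiv_symm_app {U : SSet.{u}} {n : ℕ} [SimplicialObject.IsCoskeletal U n] {W : SSet.{u}}
    (ψ : (SimplexCategory.Truncated.inclusion n).op ⋙ W ⟶ (SimplexCategory.Truncated.inclusion n).op ⋙ U)
    (m : ℕ) (hm : m ≤ n) :
    ((homEquiv U n W).symm ψ).app (op ⦋m⦌) = ψ.app (op ⟨⦋m⦌, hm⟩) :=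
  (homEquiv_app ((homEquiv U n W).symm ψ) (op ⟨⦋m⦌, hm⟩)).symm.trans
    (NatTrans.congr_app ((homEquiv U n W).apply_symm_apply ψ) _)

lemma hom_ext {U : SSet.{u}} (n : ℕ) [SimplicialObject.IsCoskeletal U n] {W : SSet.{u}} {φ φ' : W ⟶ U}
    (h : ∀ m : ℕ, m ≤ n → φ.app (op ⦋m⦌) = φ'.app (op ⦋m⦌)) : φ = φ' :=
  (homEquiv U n W).injective (NatTrans.ext (funext fun m => h m.unop.obj.len m.unop.property))

end Groth.L09.Cosk

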