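import Mathlib.RingTheory.DividedPowers.DPMorphism
import Mathlib.RingTheory.Ideal.Maps
import Mathlib.Algebra.Ring.Subring.Basic
import Mathlib.RingTheory.MvPolynomial.Basic

/-! # Divided power envelopes -/

set_option autoImplicit false
set_option linter.style.haveILetI false

universe u

open Finset

noncomputable section

namespace Groth.L09.DPEnvelope

variable {A B : Type u} [CommRing A] [CommRing B] [Algebra A B] {I : Ideal A}
  (γ : DividedPowers I) (J : Ideal B)

/-- Formal expressions in elements and divided powers. -/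
inductive Tm (B : Type u) : Type u
  | var (b : B) : Tm B
  | add (s t : Tm B) : Tm B
  | mul (s t : Tm B) : Tm B
  | neg (t : Tm B) : Tm B
  | dp (n : ℕ) (t : Tm B) : Tm B

/-- A target of the envelope. -/
structure Obj where
  C : Type u
  [ring : CommRing C]
  [alg : Algebra A C]
  K : Ideal C
  δ : DividedPowers K
  dp : γ.IsDPMorphism δ (algebraMap A C)
  ψ : B →ₐ[A] C
  le : J.map ψ ≤ K

attribute [instance] Obj.ring Obj.alg

variable {γ J}

/-- The value of an expression. -/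
def Obj.ev (O : Obj γ J) : Tm B → O.C
  | .var b => O.ψ b
  | .add s t => O.ev s + O.ev t
  | .mul s t => O.ev s * O.ev t
  | .neg t => -O.ev t
  | .dp n t => O.δ.dpow n (O.ev t)

/-- What an expression can see of a target. -/
def Obj.kind (O : Obj γ J) : (Tm B → Tm B → Prop) × (Tm B → Prop) :=
  (fun s t => O.ev s = O.ev t, fun t => O.ev t ∈ O.K)

/-- The values of expressions. -/
def Obj.rng (O : Obj γ J) : Subring O.C where
  carrier := Set.range O.ev
  mul_mem' := by rintro _ _ ⟨s, rfl⟩ ⟨t, rfl⟩; exact ⟨.mul s t, rfl⟩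
  one_mem' := ⟨.var 1, map_one O.ψ⟩
  add_mem' := by rintro _ _ ⟨s, rfl⟩ ⟨t, rfl⟩; exact ⟨.add s t, rfl⟩
  zero_mem' := ⟨.var 0, map_zero O.ψ⟩
  neg_mem' := by rintro _ ⟨t, rfl⟩; exact ⟨.neg t, rfl⟩

variable (γ J)

/-- The index set: all kinds of targets. -/
def Idx : Type u := {r : (Tm B → Tm B → Prop) × (Tm B → Prop) // ∃ O : Obj γ J, O.kind = r}

/-- A chosen target of each kind. -/
def rep (r : Idx γ J) : Obj γ J := r.2.choose

theorem kind_rep (r : Idx γ J) : (rep γ J r).kind = r.1 := r.2.choose_spec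

/-- The product of the chosen targets. -/
abbrev Big : Type u := ∀ r : Idx γ J, (rep γ J r).C

/-- The map to the product. -/
def emb : B →+* Big γ J := Pi.ringHom fun r => (rep γ J r).ψ.toRingHom

/-- Stable under divided powers. -/
def Closed (S : Subring (Big γ J)) : Prop :=
  Set.range (emb γ J) ⊆ S ∧ ∀ x ∈ S, (∀ r, x r ∈ (rep γ J r).K) →
    ∀ n : ℕ, (fun r => (rep γ J r).δ.dpow n (x r)) ∈ S

/-- The ring of the envelope. -/
def env : Subring (Big γ J) := sInf {S | Closed γ J S}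

theorem closed_env : Closed γ J (env γ J) := by
  refine ⟨fun x hx => ?_, fun x hx hK n => ?_⟩
  · exact Subring.mem_sInf.2 fun S hS => hS.1 hx
  · exact Subring.mem_sInf.2 fun S hS => hS.2 x (Subring.mem_sInf.1 hx S hS) hK n

/-- The structure map. -/
def str : B →+* env γ J := (emb γ J).codRestrict _ fun b => (closed_env γ J).1 ⟨b, rfl⟩

/-- The divided power ideal. -/
def envIdeal : Ideal (env γ J) where
  carrier := {x | ∀ r, x.1 r ∈ (rep γ J r).K}
  add_mem' := fun hx hy r => (rep γ J r).K.add_mem (hx r) (hy r)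
  zero_mem' := fun r => (rep γ J r).K.zero_mem
  smul_mem' := fun c _ hx r => (rep γ J r).K.mul_mem_left (c.1 r) (hx r)

theorem mem_envIdeal {x : env γ J} : x ∈ envIdeal γ J ↔ ∀ r, x.1 r ∈ (rep γ J r).K := Iff.rfl

open Classical in
/-- The divided powers. -/
def envDpow (n : ℕ) (x : env γ J) : env γ J :=
  if h : x ∈ envIdeal γ J then ⟨_, (closed_env γ J).2 x.1 x.2 h n⟩ else 0

theorem envDpow_apply {n : ℕ} {x : env γ J} (h : x ∈ envIdeal γ J) (r : Idx γ J) :
    (envDpow γ J n x).1 r = (rep γ J r).δ.dpow n (x.1 r) := by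
  rw [envDpow, dif_pos h]

theorem envDpow_mem {n : ℕ} {x : env γ J} (hn : n ≠ 0) (h : x ∈ envIdeal γ J) : envDpow γ J n x ∈ envIdeal γ J :=
  fun r => by
    rw [envDpow_apply γ J h]
    exact (rep γ J r).δ.dpow_mem hn (h r)

/-- The divided power structure. -/
def envDP : DividedPowers (envIdeal γ J) where
  dpow := envDpow γ J
  dpow_null {n x} h := dif_neg h
  dpow_zero {x} h := Subtype.ext (funext fun r => (envDpow_apply γ J h r).trans ((rep γ J r).δ.dpow_zero (h r)))
  dpow_one {x} h := Subtype.ext (funext fun r => (envDpow_apply γ J h r).trans ((rep γ J r).δ.dpow_one (h r)))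
  dpow_mem hn h := envDpow_mem γ J hn h
  dpow_add {n x y} hx hy := Subtype.ext (funext fun r => by
    rw [envDpow_apply γ J ((envIdeal γ J).add_mem hx hy)]
    refine ((rep γ J r).δ.dpow_add (hx r) (hy r)).trans ?_
    rw [AddSubmonoidClass.coe_finset_sum, Finset.sum_apply]
    refine Finset.sum_congr rfl fun k _ => ?_
    show _ = (envDpow γ J k.1 x).1 r * (envDpow γ J k.2 y).1 r
    rw [envDpow_apply γ J hx, envDpow_apply γ J hy])
  dpow_mul {n a x} hx := Subtype.ext (funext fun r => by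
    rw [envDpow_apply γ J ((envIdeal γ J).mul_mem_left a hx)]
    refine ((rep γ J r).δ.dpow_mul (hx r)).trans ?_
    show _ = (a ^ n : env γ J).1 r * (envDpow γ J n x).1 r
    rw [envDpow_apply γ J hx]
    rfl)
  mul_dpow {m n x} hx := Subtype.ext (funext fun r => by
    show (envDpow γ J m x).1 r * (envDpow γ J n x).1 r =
      ((Nat.choose (m + n) m : env γ J)).1 r * (envDpow γ J (m + n) x).1 r
    rw [envDpow_apply γ J hx, envDpow_apply γ J hx, envDpow_apply γ J hx, (rep γ J r).δ.mul_dpow (hx r)]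
    simp)
  dpow_comp {m n x} hn hx := Subtype.ext (funext fun r => by
    show _ = ((Nat.uniformBell m n : env γ J)).1 r * (envDpow γ J (m * n) x).1 r
    rw [envDpow_apply γ J (envDpow_mem γ J hn hx), envDpow_apply γ J hx, envDpow_apply γ J hx,
      (rep γ J r).δ.dpow_comp hn (hx r)]
    simp)

theorem map_le_envIdeal : J.map (str γ J) ≤ envIdeal γ J :=
  Ideal.map_le_iff_le_comap.2 fun b hb r => (rep γ J r).le (Ideal.mem_map_of_mem (rep γ J r).ψ hb)

theorem isDPMorphism_str (hIJ : I.map (algebraMap A B) ≤ J) :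
    γ.IsDPMorphism (envDP γ J) ((str γ J).comp (algebraMap A B)) := by
  have hmem : ∀ a ∈ I, str γ J (algebraMap A B a) ∈ envIdeal γ J := fun a ha =>
    map_le_envIdeal γ J (Ideal.mem_map_of_mem _ (hIJ (Ideal.mem_map_of_mem _ ha)))
  refine ⟨Ideal.map_le_iff_le_comap.2 hmem, fun {n} a ha => Subtype.ext (funext fun r => ?_)⟩
  refine (envDpow_apply γ J (hmem a ha) r).trans ?_
  show (rep γ J r).δ.dpow n ((rep γ J r).ψ (algebraMap A B a)) = (rep γ J r).ψ (algebraMap A B (γ.dpow n a))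
  rw [AlgHom.commutes, AlgHom.commutes]
  exact (rep γ J r).dp.dpow_comp a ha

theorem existsUnique_lift (O : Obj γ J) :
    ∃! χ : env γ J →+* O.C, χ.comp (str γ J) = O.ψ ∧ (envDP γ J).IsDPMorphism O.δ χ := by
  let r : Idx γ J := ⟨O.kind, O, rfl⟩
  let R := rep γ J r
  have hk : R.kind = O.kind := kind_rep γ J r
  have heq : ∀ s t, R.ev s = R.ev t ↔ O.ev s = O.ev t := fun s t => Iff.of_eq (congrFun (congrFun (congrArg Prod.fst hk) s) t)
  have hK : ∀ t, R.ev t ∈ R.K ↔ O.ev t ∈ O.K := fun t => Iff.of_eq (congrFun (congrArg Prod.snd hk) t)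
  have hrng : ∀ x : env γ J, x.1 r ∈ R.rng := by
    intro x
    let S : Subring (Big γ J) := R.rng.comap (Pi.evalRingHom (fun r => (rep γ J r).C) r)
    have hS : Closed γ J S := by
      refine ⟨?_, fun y hy _ n => ?_⟩
      · rintro _ ⟨b, rfl⟩
        exact ⟨.var b, rfl⟩
      · obtain ⟨t, ht⟩ := hy
        exact ⟨.dp n t, congrArg (R.δ.dpow n) ht⟩
    exact Subring.mem_sInf.1 x.2 S hS
  choose tm htm using hrng
  let χ : env γ J →+* O.C :=
    { toFun := fun x => O.ev (tm x)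
      map_one' := ((heq _ (.var 1)).1 ((htm 1).trans (map_one R.ψ).symm)).trans (map_one O.ψ)
      map_zero' := ((heq _ (.var 0)).1 ((htm 0).trans (map_zero R.ψ).symm)).trans (map_zero O.ψ)
      map_add' := fun x y => (heq _ (.add (tm x) (tm y))).1
        ((htm (x + y)).trans (congrArg₂ (· + ·) (htm x).symm (htm y).symm))
      map_mul' := fun x y => (heq _ (.mul (tm x) (tm y))).1
        ((htm (x * y)).trans (congrArg₂ (· * ·) (htm x).symm (htm y).symm)) }
  have h1 : χ.comp (str γ J) = O.ψ := RingHom.ext fun b => (heq _ (.var b)).1 (htm (str γ J b))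
  have hmemK : ∀ x ∈ envIdeal γ J, χ x ∈ O.K := fun x hx => (hK _).1 (by rw [htm]; exact hx r)
  have h2 : (envDP γ J).IsDPMorphism O.δ χ := by
    refine ⟨Ideal.map_le_iff_le_comap.2 hmemK, fun {n} x hx => ?_⟩
    refine ((heq (tm (envDpow γ J n x)) (.dp n (tm x))).1 ?_).symm
    rw [htm, envDpow_apply γ J hx]
    exact congrArg (R.δ.dpow n) (htm x).symm
  refine ⟨χ, ⟨h1, h2⟩, fun χ' hχ' => RingHom.ext fun x => ?_⟩
  let S : Subring (Big γ J) :=
    { carrier := {y | ∃ hy : y ∈ env γ J, χ' ⟨y, hy⟩ = χ ⟨y, hy⟩}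
      mul_mem' := by rintro a b ⟨ha, h⟩ ⟨hb, h'⟩; exact ⟨mul_mem ha hb, (map_mul χ' ⟨a, ha⟩ ⟨b, hb⟩).trans ((congrArg₂ (· * ·) h h').trans (map_mul χ _ _).symm)⟩
      one_mem' := ⟨one_mem _, (map_one χ').trans (map_one χ).symm⟩
      add_mem' := by rintro a b ⟨ha, h⟩ ⟨hb, h'⟩; exact ⟨add_mem ha hb, (map_add χ' ⟨a, ha⟩ ⟨b, hb⟩).trans ((congrArg₂ (· + ·) h h').trans (map_add χ _ _).symm)⟩
      zero_mem' := ⟨zero_mem _, (map_zero χ').trans (map_zero χ).symm⟩
      neg_mem' := by rintro a ⟨ha, h⟩; exact ⟨neg_mem ha, (map_neg χ' ⟨a, ha⟩).trans ((congrArg (- ·) h).trans (map_neg χ _).symm)⟩ }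
  have hS : Closed γ J S := by
    refine ⟨?_, ?_⟩
    · rintro _ ⟨b, rfl⟩
      exact ⟨(str γ J b).2, (RingHom.congr_fun hχ'.1 b).trans (RingHom.congr_fun h1 b).symm⟩
    · rintro y ⟨hy, h⟩ hyK n
      refine ⟨(closed_env γ J).2 y hy hyK n, ?_⟩
      have e : envDpow γ J n ⟨y, hy⟩ = ⟨_, (closed_env γ J).2 y hy hyK n⟩ := dif_pos hyK
      rw [← e]
      exact ((hχ'.2.dpow_comp ⟨y, hy⟩ hyK).symm.trans (congrArg (O.δ.dpow n) h)).trans (h2.dpow_comp ⟨y, hy⟩ hyK)
  obtain ⟨_, h⟩ := Subring.mem_sInf.1 x.2 S hS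
  exact h

end Groth.L09.DPEnvelope
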