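import Mathlib.RingTheory.Flat.EquationalCriterion
import Mathlib.RingTheory.Artinian.Module
import Mathlib.RingTheory.Nakayama
import Mathlib.RingTheory.HopkinsLevitzki
import Mathlib.RingTheory.LocalRing.MaximalIdeal.Basic
import Mathlib.LinearAlgebra.Dimension.Free

/-!
Endomorphisms of a flat deformation over an Artinian local ring of a module whose endomorphisms are
scalars are scalars.
-/

set_option autoImplicit false

open scoped Pointwise

namespace Groth.L09.DefModEnd

variable {K : Type*} [Field K] {R : Type*} [CommRing R] [IsLocalRing R]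
  {F : Type*} [AddCommGroup F] [Module R F] [Module.Flat R F]

/-- in a flat module `a • x ∈ J • ⊤` puts `x` in `m • ⊤` when the colon ideal `(J : a)` is proper. -/
lemma mem_maximal_smul_of_smul_mem (a : R) (J : Ideal R) (ha : a ∉ J) (x : F)
    (hx : a • x ∈ J • (⊤ : Submodule R F)) : x ∈ IsLocalRing.maximalIdeal R • (⊤ : Submodule R F) := by
  classical
  have hx' : a • x ∈ J • Submodule.span R (Set.range (id : F → F)) := by
    rwa [Set.range_id, Submodule.span_univ]
  obtain ⟨c, hc, hsum⟩ := (Submodule.mem_ideal_smul_span_iff_exists_sum _ id _).1 hx'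
  let f : Option c.support → R := fun o => o.elim a (fun i => -c i.1)
  let y : Option c.support → F := fun o => o.elim x (fun i => i.1)
  have h0 : ∑ o, f o • y o = 0 := by
    rw [Fintype.sum_option]
    show a • x + ∑ i : c.support, (-c i.1) • (i.1 : F) = 0
    have : ∑ i : c.support, c i.1 • (i.1 : F) = a • x := by
      rw [← hsum]
      exact Finset.sum_coe_sort c.support (fun i => c i • i)
    simp only [neg_smul, Finset.sum_neg_distrib, this, add_neg_cancel]
  obtain ⟨k, A, z, hyz, hfA⟩ := Module.Flat.isTrivialRelation_of_sum_smul_eq_zero h0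
  have hx0 : x = ∑ j, A none j • z j := hyz none
  rw [hx0]
  refine Submodule.sum_mem _ fun j _ => Submodule.smul_mem_smul ?_ Submodule.mem_top
  have hj : a * A none j = ∑ i : c.support, c i.1 * A (some i) j := by
    have := hfA j
    rw [Fintype.sum_option] at this
    simp only [f, Option.elim_none, Option.elim_some, neg_mul, Finset.sum_neg_distrib] at this
    exact eq_of_sub_eq_zero ((sub_eq_add_neg _ _).trans this)
  by_contra hu
  obtain ⟨v, hv⟩ := (IsLocalRing.notMem_maximalIdeal.1 hu).exists_right_inv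
  apply ha
  have h1 : a * A none j ∈ J := by
    rw [hj]
    exact Submodule.sum_mem _ fun i _ => J.mul_mem_right _ (hc i.1)
  have h2 := J.mul_mem_right v h1
  rwa [mul_assoc, hv, mul_one] at h2

variable [IsArtinianRing R] {E : Type*} [AddCommGroup E] [Module K E]
  {D : Type*} [Ring D] [Module D E] [Module D F] [SMulCommClass R D F]
  (res : R →+* K) (hres : Function.Surjective res)
  (θ : F →ₗ[D] E) (hθ : ∀ (r : R) (x : F), θ (r • x) = res r • θ x)
  (hsurj : Function.Surjective θ)
  (hker : ∀ x : F, θ x = 0 ↔ x ∈ IsLocalRing.maximalIdeal R • (⊤ : Submodule R F))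
  (hE : ∀ ψ : E →ₗ[D] E, ∃ c : K, ∀ y : E, ψ y = c • y)

include hres hθ hsurj hker hE

/-- endomorphisms are scalars. -/
theorem exists_smul_eq (φ : F →ₗ[R] F) (hφ : ∀ (d : D) (x : F), φ (d • x) = d • φ x) :
    ∃ r : R, ∀ x : F, φ x = r • x := by
  suffices H : ∀ (J : Ideal R) (φ : F →ₗ[R] F), (∀ (d : D) (x : F), φ (d • x) = d • φ x) →
      (∀ x, φ x ∈ J • (⊤ : Submodule R F)) → ∃ r : R, ∀ x : F, φ x = r • x from
    H ⊤ φ hφ fun x => by simp
  intro J
  induction J using (wellFounded_lt (α := Ideal R)).induction with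
  | h J ih =>
  intro φ hφ hJ
  haveI : IsNoetherianRing R := inferInstance
  by_cases hJ0 : J = ⊥
  · refine ⟨0, fun x => ?_⟩
    have := hJ x
    rw [hJ0, Submodule.bot_smul] at this
    simpa using this
  obtain ⟨J', hJ', hmax⟩ := (wellFounded_gt (α := Ideal R)).has_min {I | I < J} ⟨⊥, bot_lt_iff_ne_bot.2 hJ0⟩
  replace hJ' : J' < J := hJ'
  obtain ⟨a, haJ, haJ'⟩ := SetLike.exists_of_lt hJ'
  have hsup : J' ⊔ Ideal.span {a} = J := by
    refine eq_of_le_of_not_lt (sup_le hJ'.le (by simpa [Ideal.span_le] using haJ)) fun h => hmax _ h ?_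
    exact lt_of_le_of_ne le_sup_left fun he => haJ' (he ▸ Ideal.mem_sup_right (Ideal.mem_span_singleton_self a))
  have hmJ : IsLocalRing.maximalIdeal R * J ≤ J' := by
    have hle : J' ⊔ IsLocalRing.maximalIdeal R * J ≤ J := sup_le hJ'.le Ideal.mul_le_right
    rcases eq_or_lt_of_le hle with h | h
    · exfalso
      refine hJ'.not_ge (Submodule.le_of_le_smul_of_le_jacobson_bot (IsNoetherian.noetherian J)
        (IsLocalRing.maximalIdeal_le_jacobson ⊥) ?_)
      exact h.ge
    · have : J' ⊔ IsLocalRing.maximalIdeal R * J = J' :=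
        (eq_of_le_of_not_lt le_sup_left fun h' => hmax _ h h').symm
      exact le_sup_right.trans this.le
  have hz : ∀ x, θ x = 0 → φ x ∈ J' • (⊤ : Submodule R F) := fun x hx => by
    have h1 : φ x ∈ (IsLocalRing.maximalIdeal R • (⊤ : Submodule R F)).map φ := ⟨x, (hker x).1 hx, rfl⟩
    rw [Submodule.map_smul''] at h1
    have h2 : (⊤ : Submodule R F).map φ ≤ J • ⊤ := by
      rintro _ ⟨w, -, rfl⟩
      exact hJ w
    have h3 := Submodule.smul_mono le_rfl h2 h1
    rw [← Submodule.smul_assoc] at h3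
    exact Submodule.smul_mono hmJ le_rfl h3
  have hdec : ∀ x, ∃ z : F, φ x - a • z ∈ J' • (⊤ : Submodule R F) := fun x => by
    have h := hJ x
    rw [← hsup, Submodule.sup_smul, Submodule.ideal_span_singleton_smul] at h
    obtain ⟨p, hp, q, hq, hpq⟩ := Submodule.mem_sup.1 h
    obtain ⟨z, -, rfl⟩ := (Submodule.mem_smul_pointwise_iff_exists _ _ _).1 hq
    exact ⟨z, by rw [← hpq, add_sub_cancel_right]; exact hp⟩
  choose z hz' using hdec
  have key : ∀ x w, θ x = θ w → ∀ t, φ x - a • t ∈ J' • (⊤ : Submodule R F) → θ (z w) = θ t := by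
    intro x w hxw t ht
    have h1 : a • (z w - t) ∈ J' • (⊤ : Submodule R F) := by
      have h2 := hz (w - x) (by rw [map_sub, hxw, sub_self])
      have h3 := Submodule.sub_mem _ (Submodule.add_mem _ h2 ht) (hz' w)
      have h4 : φ (w - x) + (φ x - a • t) - (φ w - a • z w) = a • (z w - t) := by
        rw [map_sub, smul_sub]; abel
      rwa [h4] at h3
    have h5 := (hker _).2 (mem_maximal_smul_of_smul_mem a J' haJ' _ h1)
    rwa [map_sub, sub_eq_zero] at h5
  let g : E → E := fun y => θ (z (Function.surjInv hsurj y))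
  have hg : ∀ x t, φ x - a • t ∈ J' • (⊤ : Submodule R F) → g (θ x) = θ t := fun x t ht =>
    key x _ (Function.surjInv_eq hsurj _).symm t ht
  have hD : ∀ (d : D) (w : F), w ∈ J' • (⊤ : Submodule R F) → d • w ∈ J' • (⊤ : Submodule R F) := fun d w hw => by
    let L : F →ₗ[R] F :=
      { toFun := fun v => d • v, map_add' := smul_add d, map_smul' := fun r v => (smul_comm r d v).symm }
    have : L w ∈ (J' • (⊤ : Submodule R F)).map L := ⟨w, hw, rfl⟩
    rw [Submodule.map_smul''] at this
    exact Submodule.smul_mono le_rfl le_top this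
  let ψ : E →ₗ[D] E :=
    { toFun := g
      map_add' := fun p q => by
        obtain ⟨x, rfl⟩ := hsurj p
        obtain ⟨y, rfl⟩ := hsurj q
        rw [← map_add θ, hg (x + y) (z x + z y), map_add θ, hg x (z x) (hz' x), hg y (z y) (hz' y)]
        have := Submodule.add_mem _ (hz' x) (hz' y)
        convert this using 1
        rw [map_add, smul_add]; abel
      map_smul' := fun d p => by
        obtain ⟨x, rfl⟩ := hsurj p
        rw [← map_smul θ, hg (d • x) (d • z x), map_smul θ, hg x (z x) (hz' x)]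
        · rfl
        have := hD d _ (hz' x)
        rwa [smul_sub, ← hφ, ← smul_comm] at this }
  obtain ⟨c, hc⟩ := hE ψ
  obtain ⟨s, rfl⟩ := hres c
  obtain ⟨r, hr⟩ := ih J' hJ' (φ - (a * s) • LinearMap.id) (fun d x => by
      simp [hφ, smul_sub, smul_comm (a * s) d x]) (fun x => by
      have h1 : θ (z x - s • x) = 0 := by
        rw [map_sub, hθ, sub_eq_zero, ← hc]
        exact (hg x (z x) (hz' x)).symm
      have h2 : a • (z x - s • x) ∈ J' • (⊤ : Submodule R F) := by
        have h6 : a • (z x - s • x) ∈ Ideal.span {a} • (IsLocalRing.maximalIdeal R • (⊤ : Submodule R F)) :=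
          Submodule.smul_mem_smul (Ideal.mem_span_singleton_self a) ((hker _).1 h1)
        rw [← Submodule.smul_assoc] at h6
        refine Submodule.smul_mono ?_ le_rfl h6
        rw [smul_eq_mul, mul_comm]
        exact le_trans (Ideal.mul_mono le_rfl (by simpa [Ideal.span_le] using haJ)) hmJ
      have h3 := Submodule.add_mem _ (hz' x) h2
      convert h3 using 1
      simp only [LinearMap.sub_apply, LinearMap.smul_apply, LinearMap.id_apply, smul_sub, mul_smul]
      abel)
  refine ⟨r + a * s, fun x => ?_⟩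
  have := hr x
  simp only [LinearMap.sub_apply, LinearMap.smul_apply, LinearMap.id_apply, sub_eq_iff_eq_add] at this
  rw [this, add_smul]

variable [Nontrivial E]

/-- scalars act faithfully. -/
theorem smul_injective {r s : R} (h : ∀ x : F, r • x = s • x) : r = s := by
  by_contra hne
  obtain ⟨y, hy⟩ := exists_ne (0 : E)
  obtain ⟨x, rfl⟩ := hsurj y
  refine hy ((hker x).2 (mem_maximal_smul_of_smul_mem (r - s) ⊥ (fun h0 => hne (sub_eq_zero.1 h0)) x ?_))
  rw [sub_smul, h, sub_self]
  exact zero_mem _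

theorem existsUnique_smul_eq (φ : F →ₗ[R] F) (hφ : ∀ (d : D) (x : F), φ (d • x) = d • φ x) :
    ∃! r : R, ∀ x : F, φ x = r • x := by
  obtain ⟨r, hr⟩ := exists_smul_eq res hres θ hθ hsurj hker hE φ hφ
  exact ⟨r, hr, fun s hs => smul_injective res hres θ hθ hsurj hker hE fun x => (hs x).symm.trans (hr x)⟩

theorem existsUnique_residue_one (φ : F →ₗ[R] F) (hφ : ∀ (d : D) (x : F), φ (d • x) = d • φ x)
    (hφθ : ∀ x, θ (φ x) = θ x) : ∃! r : R, res r = 1 ∧ ∀ x : F, φ x = r • x := by
  obtain ⟨r, hr, hu⟩ := existsUnique_smul_eq res hres θ hθ hsurj hker hE φ hφ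
  obtain ⟨y, hy⟩ := exists_ne (0 : E)
  obtain ⟨x, rfl⟩ := hsurj y
  refine ⟨r, ⟨?_, hr⟩, fun s hs => hu s hs.2⟩
  refine smul_left_injective K hy ?_
  show res r • θ x = (1 : K) • θ x
  rw [← hθ, ← hr, hφθ, one_smul]

end Groth.L09.DefModEnd
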