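import Mathlib.CategoryTheory.Sites.Point.Conservative
import Mathlib.CategoryTheory.Sites.Point.OfIsCofiltered
import Mathlib.CategoryTheory.Limits.Shapes.WidePullbacks
import Mathlib.CategoryTheory.Limits.Constructions.FiniteProductsOfBinaryProducts
import Mathlib.CategoryTheory.Functor.OfSequence
import Mathlib.CategoryTheory.Limits.Types.Filtered
import Mathlib.CategoryTheory.ObjectProperty.Small
import Mathlib.Topology.Compactness.Compact
import Mathlib.Topology.Separation.Basic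
import Mathlib.Topology.Constructions
import Mathlib.Topology.Order

/-!
Deligne's theorem: a finitary site with finite limits has enough points.
-/

set_option autoImplicit false
set_option linter.unusedSectionVars false
universe w u

open CategoryTheory Category Limits Opposite
open CategoryTheory.GrothendieckTopology.Point

namespace Groth.L09.Deligne

variable {C : Type u} [SmallCategory C]

section Elements

variable (F : C ⥤ Type u)

lemma exists_common [IsCofiltered F.Elements] {W W' : C} (w : F.obj W) (w' : F.obj W') :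
    ∃ (V : C) (v : F.obj V) (h : V ⟶ W) (h' : V ⟶ W'), F.map h v = w ∧ F.map h' v = w' := by
  obtain ⟨⟨V, v⟩, f, g, -⟩ := IsCofilteredOrEmpty.cone_objs (C := F.Elements) ⟨W, w⟩ ⟨W', w'⟩
  exact ⟨V, v, f.1, g.1, f.2, g.2⟩

lemma exists_equalize [IsCofiltered F.Elements] {W Y : C} (w : F.obj W) (f g : W ⟶ Y)
    (e : F.map f w = F.map g w) :
    ∃ (V : C) (v : F.obj V) (k : V ⟶ W), F.map k v = w ∧ k ≫ f = k ≫ g := by
  obtain ⟨⟨V, v⟩, k, hk⟩ := IsCofilteredOrEmpty.cone_maps (C := F.Elements)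
    (CategoryOfElements.homMk ⟨W, w⟩ ⟨Y, F.map g w⟩ f e) (CategoryOfElements.homMk ⟨W, w⟩ ⟨Y, F.map g w⟩ g rfl)
  exact ⟨V, v, k.1, k.2, congrArg Subtype.val hk⟩

lemma exists_equalize_finite [IsCofiltered F.Elements] {W : C} (w : F.obj W) {ι : Type w} [Finite ι] {Y : ι → C}
    (f g : ∀ i, W ⟶ Y i) (e : ∀ i, F.map (f i) w = F.map (g i) w) :
    ∃ (V : C) (v : F.obj V) (k : V ⟶ W), F.map k v = w ∧ ∀ i, k ≫ f i = k ≫ g i := by
  classical
  have := Fintype.ofFinite ι
  suffices ∀ s : Finset ι, ∃ (V : C) (v : F.obj V) (k : V ⟶ W), F.map k v = w ∧ ∀ i ∈ s, k ≫ f i = k ≫ g i by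
    obtain ⟨V, v, k, hk, h⟩ := this Finset.univ
    exact ⟨V, v, k, hk, fun i => h i (Finset.mem_univ i)⟩
  intro s
  induction s using Finset.induction_on with
  | empty => exact ⟨W, w, 𝟙 W, FunctorToTypes.map_id_apply _ _, fun i hi => by simp at hi⟩
  | insert a s _ ih =>
    obtain ⟨V, v, k, hk, h⟩ := ih
    obtain ⟨V', v', k', hk', h'⟩ := exists_equalize F v (k ≫ f a) (k ≫ g a)
      (by rw [FunctorToTypes.map_comp_apply, FunctorToTypes.map_comp_apply, hk, e a])
    refine ⟨V', v', k' ≫ k, by rw [FunctorToTypes.map_comp_apply, hk', hk], fun i hi => ?_⟩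
    rcases Finset.mem_insert.1 hi with rfl | hi
    · simpa using h'
    · simp [h i hi]

end Elements

variable (J : GrothendieckTopology C) (X : C) (S : Sieve X)

/-- A pro-object over `X` on which the sieve `S` never becomes covering. -/
structure St : Type (u + 1) where
  F : C ⥤ Type u
  cofiltered : IsCofiltered F.Elements
  x : F.obj X
  inv : ∀ (W : C) (w : F.obj W) (h : W ⟶ X), F.map h w = x → S.pullback h ∉ J W

attribute [instance] St.cofiltered

variable {J X S} (Φ : St J X S)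

/-- A lifting problem: an element and a finite covering family. -/
structure Task : Type u where
  Y : C
  y : Φ.F.obj Y
  n : ℕ
  V : Fin n → C
  g : ∀ k, V k ⟶ Y
  mem : Sieve.ofArrows V g ∈ J Y

/-- An element with compatible maps to finitely many tasks. -/
structure Data (A : Finset (Task Φ)) : Type u where
  W : C
  w : Φ.F.obj W
  φ : ∀ t : A, W ⟶ t.1.Y
  hφ : ∀ t : A, Φ.F.map (φ t) w = t.1.y

variable {Φ}

/-- A choice on finitely many tasks is admissible. -/
def Good (A : Finset (Task Φ)) (d : ∀ t : A, Fin t.1.n) : Prop :=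
  ∀ (D : Data Φ A) (h : D.W ⟶ X), Φ.F.map h D.w = Φ.x →
    ∃ (Q : C) (k : Q ⟶ D.W), (∀ t : A, ∃ l : Q ⟶ t.1.V (d t), l ≫ t.1.g (d t) = k ≫ D.φ t) ∧
      S.pullback (k ≫ h) ∉ J Q

lemma exists_data (Φ : St J X S) (A : Finset (Task Φ)) : ∃ (D : Data Φ A) (h : D.W ⟶ X), Φ.F.map h D.w = Φ.x := by
  classical
  induction A using Finset.induction_on with
  | empty => exact ⟨⟨X, Φ.x, fun t => absurd t.2 (Finset.notMem_empty _), fun t => absurd t.2 (Finset.notMem_empty _)⟩,
      𝟙 X, FunctorToTypes.map_id_apply _ _⟩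
  | insert a A _ ih =>
    obtain ⟨D, h, hh⟩ := ih
    obtain ⟨V, v, p, q, hp, hq⟩ := exists_common Φ.F D.w a.y
    refine ⟨⟨V, v, fun t => if ht : t.1 ∈ A then p ≫ D.φ ⟨t.1, ht⟩ else q ≫ eqToHom (by
      rcases Finset.mem_insert.1 t.2 with e | e
      · rw [e]
      · exact absurd e ht), fun t => ?_⟩, p ≫ h, by rw [FunctorToTypes.map_comp_apply, hp, hh]⟩
    split_ifs with ht
    · rw [FunctorToTypes.map_comp_apply, hp, D.hφ]
    · rcases Finset.mem_insert.1 t.2 with e | e
      · obtain ⟨t, ht'⟩ := t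
        dsimp at e
        subst e
        simp [hq]
      · exact absurd e ht

/-- Finitely many tasks always have an admissible choice. -/
lemma exists_good (Φ : St J X S) (A : Finset (Task Φ)) : ∃ d : ∀ t : A, Fin t.1.n, Good A d := by
  classical
  by_contra hc
  simp only [Good, not_exists, not_forall, not_and, not_not] at hc
  choose D h hh hbad using hc
  obtain ⟨D₀, h₀, hh₀⟩ := exists_data Φ A
  -- a common refinement
  have : ∀ s : Finset (∀ t : A, Fin t.1.n), ∃ (V : C) (v : Φ.F.obj V) (p : V ⟶ D₀.W), Φ.F.map p v = D₀.w ∧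
      ∀ d ∈ s, ∃ q : V ⟶ (D d).W, Φ.F.map q v = (D d).w ∧ (∀ t, q ≫ (D d).φ t = p ≫ D₀.φ t) ∧ q ≫ h d = p ≫ h₀ := by
    intro s
    induction s using Finset.induction_on with
    | empty => exact ⟨D₀.W, D₀.w, 𝟙 _, FunctorToTypes.map_id_apply _ _, fun d hd => by simp at hd⟩
    | insert d s _ ih =>
      obtain ⟨V, v, p, hp, hs⟩ := ih
      obtain ⟨V', v', a, b, ha, hb⟩ := exists_common Φ.F v (D d).w
      obtain ⟨V₁, v₁, k, hk, hk'⟩ := exists_equalize_finite Φ.F v'
        (Y := fun o : Option A => match o with | none => X | some t => t.1.Y)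
        (fun o => match o with | none => b ≫ h d | some t => b ≫ (D d).φ t)
        (fun o => match o with | none => a ≫ p ≫ h₀ | some t => a ≫ p ≫ D₀.φ t)
        (by
          rintro (_ | t)
          · simp [FunctorToTypes.map_comp_apply, hb, hh, ha, hp, hh₀]
          · simp [FunctorToTypes.map_comp_apply, hb, ha, hp, (D d).hφ, D₀.hφ])
      refine ⟨V₁, v₁, k ≫ a ≫ p, by simp [FunctorToTypes.map_comp_apply, hk, ha, hp], fun d' hd' => ?_⟩
      rcases Finset.mem_insert.1 hd' with rfl | hd'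
      · exact ⟨k ≫ b, by simp [FunctorToTypes.map_comp_apply, hk, hb],
          fun t => by simpa using hk' (some t), by simpa using hk' none⟩
      · obtain ⟨q, hq, hq', hq''⟩ := hs d' hd'
        exact ⟨k ≫ a ≫ q, by simp [FunctorToTypes.map_comp_apply, hk, ha, hq],
          fun t => by simp [hq' t], by simp [hq'']⟩
  obtain ⟨V, v, p, hp, hV⟩ := this Finset.univ
  refine Φ.inv V v (p ≫ h₀) (by rw [FunctorToTypes.map_comp_apply, hp, hh₀]) ?_
  have hT : Finset.univ.inf (fun t : A => (Sieve.ofArrows t.1.V t.1.g).pullback (p ≫ D₀.φ t)) ∈ J V := by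
    refine Finset.inf_induction (J.top_mem V) (fun _ ha _ hb => J.intersection_covering ha hb) fun t _ => ?_
    exact J.pullback_stable _ t.1.mem
  refine J.transitive hT _ fun Q k hk => ?_
  have hk' : ∀ t : A, (Sieve.ofArrows t.1.V t.1.g).pullback (p ≫ D₀.φ t) k := fun t =>
    (Finset.inf_le (f := fun t : A => (Sieve.ofArrows t.1.V t.1.g).pullback (p ≫ D₀.φ t)) (Finset.mem_univ t)) _ hk
  have hl : ∀ t : A, ∃ (i : Fin t.1.n) (l : Q ⟶ t.1.V i), l ≫ t.1.g i = k ≫ p ≫ D₀.φ t := fun t => by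
    obtain ⟨_, l, _, ⟨i⟩, e⟩ := hk' t
    exact ⟨i, l, e⟩
  choose d l hl using hl
  obtain ⟨q, -, hq', hq''⟩ := hV d (Finset.mem_univ _)
  have := hbad d Q (k ≫ q) fun t => ⟨l t, by rw [assoc, hq' t, hl t]⟩
  rwa [assoc, hq'', Sieve.pullback_comp] at this

lemma good_restrict {A B : Finset (Task Φ)} (hAB : A ⊆ B) (c : ∀ t : Task Φ, Fin t.n)
    (hB : Good B fun t => c t.1) : Good A fun t => c t.1 := by
  classical
  intro D h hh
  obtain ⟨D', h', hh'⟩ := exists_data Φ B
  obtain ⟨V, v, a, b, ha, hb⟩ := exists_common Φ.F D.w D'.w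
  obtain ⟨V₁, v₁, k, hk, hk'⟩ := exists_equalize_finite Φ.F v (Y := fun t : A => t.1.Y)
    (fun t => a ≫ D.φ t) (fun t => b ≫ D'.φ ⟨t.1, hAB t.2⟩)
    (fun t => by simp [FunctorToTypes.map_comp_apply, ha, hb, D.hφ, D'.hφ])
  let E : Data Φ B := ⟨V₁, v₁, fun t => k ≫ b ≫ D'.φ t, fun t => by
    simp [FunctorToTypes.map_comp_apply, hk, hb, D'.hφ]⟩
  obtain ⟨Q, q, hq, hq'⟩ := hB E (k ≫ a ≫ h) (by simp [E, FunctorToTypes.map_comp_apply, hk, ha, hh])
  refine ⟨Q, q ≫ k ≫ a, fun t => ?_, by simpa [E] using hq'⟩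
  obtain ⟨l, hl⟩ := hq ⟨t.1, hAB t.2⟩
  refine ⟨l, hl.trans ?_⟩
  have h2 := q ≫= hk' t
  simpa [E] using h2.symm

/-- Compactness: a choice for all tasks at once. -/
lemma exists_choice (Φ : St J X S) :
    ∃ c : ∀ t : Task Φ, Fin t.n, ∀ A : Finset (Task Φ), Good A fun t => c t.1 := by
  classical
  have hne : ∀ t : Task Φ, Nonempty (Fin t.n) := fun t =>
    ⟨(exists_good Φ {t}).choose ⟨t, Finset.mem_singleton_self t⟩⟩
  let K : Finset (Task Φ) → Set (∀ t : Task Φ, Fin t.n) := fun A => {c | Good A fun t => c t.1}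
  have hne' : ∀ A, (K A).Nonempty := fun A => by
    obtain ⟨d, hd⟩ := exists_good Φ A
    refine ⟨fun t => if ht : t ∈ A then d ⟨t, ht⟩ else (hne t).some, ?_⟩
    show Good A _
    convert hd using 1
    ext t
    simp [t.2]
  have hcl : ∀ A, IsClosed (K A) := fun A =>
    IsClosed.preimage (f := fun (c : ∀ t : Task Φ, Fin t.n) (t : A) => c t.1)
      (continuous_pi fun t : A => continuous_apply t.1) (isClosed_discrete {d : ∀ t : A, Fin t.1.n | Good A d})
  have : Nonempty (Finset (Task Φ)) := ⟨∅⟩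
  obtain ⟨c, hc⟩ := IsCompact.nonempty_iInter_of_directed_nonempty_isCompact_isClosed K
    (fun A B => ⟨A ∪ B, fun c hc => good_restrict Finset.subset_union_left c hc,
      fun c hc => good_restrict Finset.subset_union_right c hc⟩)
    hne' (fun A => (hcl A).isCompact) hcl
  exact ⟨c, fun A => Set.mem_iInter.1 hc A⟩

/-! ### One step -/

variable [HasFiniteLimits C]

section Step

variable (c : ∀ t : Task Φ, Fin t.n)

/-- Refinements. -/
structure Ref (Φ : St J X S) : Type u where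
  A : Finset (Task Φ)
  D : Data Φ A

/-- Morphisms of refinements. -/
@[ext]
structure Ref.Hom (o o' : Ref Φ) : Type u where
  h : o.D.W ⟶ o'.D.W
  hw : Φ.F.map h o.D.w = o'.D.w
  le : o'.A ⊆ o.A
  comm : ∀ t : o'.A, h ≫ o'.D.φ t = o.D.φ ⟨t.1, le t.2⟩

instance : Category.{u} (Ref Φ) where
  Hom := Ref.Hom
  id o := ⟨𝟙 _, FunctorToTypes.map_id_apply _ _, subset_rfl, fun _ => id_comp _⟩
  comp a b := ⟨a.h ≫ b.h, by rw [FunctorToTypes.map_comp_apply, a.hw, b.hw], b.le.trans a.le,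
    fun t => by rw [assoc, b.comm, a.comm]⟩
  id_comp a := Ref.Hom.ext (id_comp _)
  comp_id a := Ref.Hom.ext (comp_id _)
  assoc a b d := Ref.Hom.ext (assoc _ _ _)

@[ext]
lemma Ref.hom_ext {o o' : Ref Φ} (a b : o ⟶ o') (e : a.h = b.h) : a = b := Ref.Hom.ext e

@[simp] lemma Ref.id_h (o : Ref Φ) : (𝟙 o : o ⟶ o).h = 𝟙 o.D.W := rfl

@[simp] lemma Ref.comp_h {o o' o'' : Ref Φ} (a : o ⟶ o') (b : o' ⟶ o'') : (a ≫ b).h = a.h ≫ b.h := rfl

instance : InitiallySmall.{u} (Ref Φ) := initiallySmall_of_essentiallySmall _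

/-- The trivial refinement of an element. -/
def Ref.triv {W : C} (w : Φ.F.obj W) : Ref Φ :=
  ⟨∅, ⟨W, w, fun t => absurd t.2 (Finset.notMem_empty _), fun t => absurd t.2 (Finset.notMem_empty _)⟩⟩

/-- Forget tasks. -/
def Ref.toTriv {o : Ref Φ} {W : C} {w : Φ.F.obj W} (h : o.D.W ⟶ W) (hw : Φ.F.map h o.D.w = w) :
    o ⟶ Ref.triv w :=
  ⟨h, hw, Finset.empty_subset _, fun t => absurd t.2 (Finset.notMem_empty _)⟩

instance : IsCofiltered (Ref Φ) where
  cone_objs o o' := by
    classical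
    obtain ⟨V, v, a, b, ha, hb⟩ := exists_common Φ.F o.D.w o'.D.w
    obtain ⟨V₁, v₁, k, hk, hk'⟩ := exists_equalize_finite Φ.F v
      (Y := fun t : {t : o.A // t.1 ∈ o'.A} => t.1.1.Y)
      (fun t => a ≫ o.D.φ t.1) (fun t => b ≫ o'.D.φ ⟨t.1.1, t.2⟩)
      (fun t => by simp [FunctorToTypes.map_comp_apply, ha, hb, o.D.hφ, o'.D.hφ])
    let φ : ∀ t : ↥(o.A ∪ o'.A), V₁ ⟶ t.1.Y := fun t =>
      if ht : t.1 ∈ o.A then k ≫ a ≫ o.D.φ ⟨t.1, ht⟩
      else k ≫ b ≫ o'.D.φ ⟨t.1, (Finset.mem_union.1 t.2).resolve_left ht⟩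
    refine ⟨⟨o.A ∪ o'.A, ⟨V₁, v₁, φ, fun t => ?_⟩⟩,
      ⟨k ≫ a, by simp [FunctorToTypes.map_comp_apply, hk, ha], Finset.subset_union_left, fun t => ?_⟩,
      ⟨k ≫ b, by simp [FunctorToTypes.map_comp_apply, hk, hb], Finset.subset_union_right, fun t => ?_⟩, trivial⟩
    · simp only [φ]
      split_ifs <;> simp [FunctorToTypes.map_comp_apply, hk, ha, hb, o.D.hφ, o'.D.hφ]
    · simp [φ, t.2]
    · simp only [φ]
      split_ifs with ht
      · simpa using (hk' ⟨⟨t.1, ht⟩, t.2⟩).symm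
      · simp
  cone_maps o o' f g := by
    obtain ⟨V, v, k, hk, hk'⟩ := exists_equalize Φ.F o.D.w f.h g.h (f.hw.trans g.hw.symm)
    refine ⟨⟨o.A, ⟨V, v, fun t => k ≫ o.D.φ t, fun t => by
      simp [FunctorToTypes.map_comp_apply, hk, o.D.hφ]⟩⟩, ⟨k, hk, subset_rfl, fun _ => rfl⟩, Ref.hom_ext _ _ hk'⟩
  nonempty := ⟨Ref.triv Φ.x⟩

/-- The object cut out by the chosen members. -/
noncomputable abbrev obj (o : Ref Φ) : C :=
  widePullback.{u} o.D.W (fun t : o.A => pullback (o.D.φ t) (t.1.g (c t.1))) (fun _ => pullback.fst _ _)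

/-- Its map to the underlying element. -/
noncomputable abbrev base (o : Ref Φ) : obj c o ⟶ o.D.W := WidePullback.base _

/-- The pro-object of refinements. -/
noncomputable def pr : Ref Φ ⥤ C where
  obj := obj c
  map {o o'} a := WidePullback.lift (base c o ≫ a.h)
    (fun t => WidePullback.π _ ⟨t.1, Ref.Hom.le a t.2⟩ ≫
      pullback.map _ _ _ _ a.h (𝟙 _) (𝟙 _) (by rw [comp_id, a.comm]) (by simp))
    (fun t => by
      rw [assoc]
      simp only [pullback.map]
      rw [pullback.lift_fst]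
      exact (assoc _ _ _).symm.trans (congrArg (· ≫ a.h) (WidePullback.π_arrow _ _)))
  map_id o := by
    apply WidePullback.hom_ext
    · intro t
      simp only [WidePullback.lift_π, id_comp]
      apply pullback.hom_ext <;> simp [pullback.map]
    · simp only [WidePullback.lift_base, id_comp]
      exact comp_id _
  map_comp {o o' o''} a b := by
    apply WidePullback.hom_ext
    · intro t
      simp only [WidePullback.lift_π, assoc]
      rw [WidePullback.lift_π_assoc]
      simp only [assoc]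
      refine congrArg (WidePullback.π _ _ ≫ ·) (pullback.hom_ext ?_ ?_)
      · simp only [pullback.map, comp_id, assoc]
        rw [pullback.lift_fst, pullback.lift_fst]
        exact ((pullback.lift_fst_assoc _ _ _ _).trans (assoc _ _ _)).symm
      · simp only [pullback.map, comp_id, assoc]
        rw [pullback.lift_snd, pullback.lift_snd]
        exact (pullback.lift_snd _ _ _).symm
    · simp only [WidePullback.lift_base, assoc]
      rw [WidePullback.lift_base_assoc]
      exact (assoc _ _ _).symm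

lemma pr_map_base {o o' : Ref Φ} (a : o ⟶ o') : (pr c).map a ≫ base c o' = base c o ≫ a.h :=
  WidePullback.lift_base _ _ _ _

/-- The refined fibre functor. -/
noncomputable abbrev F' : C ⥤ Type u := ofIsCofiltered.fiber.{u} (pr c)

/-- The unit of the refinement. -/
noncomputable def η : Φ.F ⟶ F' c where
  app Y := ↾fun y => ofIsCofiltered.fiberMk (p := pr c) (U := Ref.triv y) (base c (Ref.triv y))
  naturality Y Y' f := by
    ext y
    refine Eq.trans ?_ (ofIsCofiltered.fiber_map_fiberMk (p := pr c) (base c (Ref.triv y)) f).symm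
    let a : Ref.triv y ⟶ Ref.triv (Φ.F.map f y) := Ref.toTriv f rfl
    show ofIsCofiltered.fiberMk (p := pr c) (U := Ref.triv (Φ.F.map f y)) (base c _) = _
    rw [← ofIsCofiltered.fiberMk_map_comp (pr c) a, pr_map_base]
    rfl

lemma η_eq {o : Ref Φ} {Y : C} {y : Φ.F.obj Y} (h : o.D.W ⟶ Y) (hy : Φ.F.map h o.D.w = y) :
    (η c).app Y y = ofIsCofiltered.fiberMk (p := pr c) (base c o ≫ h) := by
  show ofIsCofiltered.fiberMk (p := pr c) (U := Ref.triv y) (base c _) = _
  rw [← ofIsCofiltered.fiberMk_map_comp (pr c) (Ref.toTriv h hy), pr_map_base]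
  rfl

lemma solved (t : Task Φ) : ∃ z : (F' c).obj (t.V (c t)), (F' c).map (t.g (c t)) z = (η c).app t.Y t.y := by
  classical
  let o : Ref Φ := ⟨{t}, ⟨t.Y, t.y, fun s => eqToHom (by rw [Finset.mem_singleton.1 s.2]),
    fun ⟨s, hs⟩ => by
      obtain rfl := Finset.mem_singleton.1 hs
      simp⟩⟩
  let t' : o.A := ⟨t, Finset.mem_singleton_self t⟩
  let z : (pr c).obj o ⟶ t.V (c t) := WidePullback.π _ t' ≫ pullback.snd (o.D.φ t') (t'.1.g (c t'.1))
  refine ⟨ofIsCofiltered.fiberMk (p := pr c) z, ?_⟩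
  rw [ofIsCofiltered.fiber_map_fiberMk, η_eq c (o := o) (𝟙 t.Y) (FunctorToTypes.map_id_apply _ _)]
  congr 1
  rw [comp_id]
  show (WidePullback.π _ t' ≫ pullback.snd (o.D.φ t') (t.g (c t))) ≫ t.g (c t) = base c o
  rw [assoc, ← pullback.condition]
  exact (congrArg (WidePullback.π _ t' ≫ ·) (comp_id _)).trans (WidePullback.π_arrow _ t')

/-- The refined state. -/
noncomputable def stNext (hc : ∀ A : Finset (Task Φ), Good A fun t => c t.1) : St J X S where
  F := F' c
  cofiltered := inferInstance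
  x := (η c).app X Φ.x
  inv := by
    intro W' z h hz hmem
    obtain ⟨o, a, rfl⟩ := ofIsCofiltered.fiberMk_jointly_surjective z
    rw [ofIsCofiltered.fiber_map_fiberMk] at hz
    let o₁ := IsCofiltered.min o (Ref.triv Φ.x)
    let m₁ : o₁ ⟶ o := IsCofiltered.minToLeft _ _
    let m₂ : o₁ ⟶ Ref.triv Φ.x := IsCofiltered.minToRight _ _
    obtain ⟨h₂, hw₂⟩ : ∃ q : o₁.D.W ⟶ X, Φ.F.map q o₁.D.w = Φ.x := ⟨m₂.h, m₂.hw⟩
    have hη := η_eq c (o := o₁) (Y := X) (y := Φ.x) h₂ hw₂
    replace hz := ((ofIsCofiltered.fiberMk_map_comp (pr c) m₁ (a ≫ h)).trans hz).trans hη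
    obtain ⟨o₂, m, hm⟩ := ofIsCofiltered.exists_of_fiberMk_eq_fiberMk hz
    replace hm : (pr c).map m ≫ (pr c).map m₁ ≫ a ≫ h = base c o₂ ≫ m.h ≫ h₂ :=
      hm.trans ((assoc _ _ _).symm.trans ((congrArg (· ≫ h₂) (pr_map_base c m)).trans (assoc _ _ _)))
    obtain ⟨Q, k, hk, hk'⟩ := hc o₂.A o₂.D (m.h ≫ h₂) (by
      rw [FunctorToTypes.map_comp_apply, m.hw, hw₂])
    choose l hl using hk
    let lf : Q ⟶ obj c o₂ := WidePullback.lift k (fun t => pullback.lift k (l t) (hl t).symm)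
      (fun t => pullback.lift_fst _ _ _)
    have e : k ≫ m.h ≫ h₂ = (lf ≫ (pr c).map m ≫ (pr c).map m₁ ≫ a) ≫ h := by
      simp only [assoc]
      exact ((congrArg (· ≫ m.h ≫ h₂) (WidePullback.lift_base _ _ _ _).symm).trans (assoc _ _ _)).trans
        (congrArg (lf ≫ ·) hm.symm)
    apply hk'
    rw [e, Sieve.pullback_comp]
    exact J.pullback_stable _ hmem

end Step

lemma exists_next (Φ : St J X S) : ∃ (Ψ : St J X S) (α : Φ.F ⟶ Ψ.F), α.app X Φ.x = Ψ.x ∧
    ∀ t : Task Φ, ∃ (k : Fin t.n) (z : Ψ.F.obj (t.V k)), Ψ.F.map (t.g k) z = α.app t.Y t.y := by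
  obtain ⟨c, hc⟩ := exists_choice Φ
  exact ⟨stNext c hc, η c, rfl, fun t => ⟨c t, solved c t⟩⟩

/-- The initial state. -/
def st₀ (hS : S ∉ J X) : St J X S where
  F := coyoneda.obj (op X)
  cofiltered :=
    { nonempty := ⟨⟨X, 𝟙 X⟩⟩
      cone_objs := fun a b => ⟨⟨X, 𝟙 X⟩, CategoryOfElements.homMk _ _ a.2 (id_comp _),
        CategoryOfElements.homMk _ _ b.2 (id_comp _), trivial⟩
      cone_maps := fun a b f g => ⟨⟨X, 𝟙 X⟩, CategoryOfElements.homMk _ _ a.2 (id_comp _),
        Subtype.ext (f.2.trans g.2.symm)⟩ }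
  x := 𝟙 X
  inv := fun W w h e hmem => hS (by
    have h2 := J.pullback_stable (w : X ⟶ W) hmem
    have e' : (w : X ⟶ W) ≫ h = 𝟙 X := e
    rwa [← Sieve.pullback_comp, e', Sieve.pullback_id] at h2)

noncomputable def stSeq (hS : S ∉ J X) : ℕ → St J X S
  | 0 => st₀ hS
  | n + 1 => (exists_next (stSeq hS n)).choose

noncomputable def stStep (hS : S ∉ J X) (n : ℕ) : (stSeq hS n).F ⟶ (stSeq hS (n + 1)).F :=
  (exists_next (stSeq hS n)).choose_spec.choose

section Colim

variable (hJ : ∀ (U : C) (R : Sieve U), R ∈ J U →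
  ∃ (n : ℕ) (V : Fin n → C) (g : ∀ k, V k ⟶ U), (∀ k, R (g k)) ∧ Sieve.ofArrows V g ∈ J U) (hS : S ∉ J X)

noncomputable abbrev seq : ℕ ⥤ C ⥤ Type u := Functor.ofSequence (stStep hS)

noncomputable abbrev Fω : C ⥤ Type u := colimit (seq hS)

noncomputable abbrev inω (n : ℕ) : (stSeq hS n).F ⟶ Fω hS := colimit.ι (seq hS) n

noncomputable abbrev trans' {n m : ℕ} (h : n ≤ m) : (stSeq hS n).F ⟶ (stSeq hS m).F := (seq hS).map (homOfLE h)

lemma inω_trans {n m : ℕ} (h : n ≤ m) {Y : C} (y : (stSeq hS n).F.obj Y) :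
    (inω hS m).app Y ((trans' hS h).app Y y) = (inω hS n).app Y y :=
  ConcreteCategory.congr_hom (NatTrans.congr_app (colimit.w (seq hS) (homOfLE h)) Y) y

lemma inω_surj {Y : C} (z : (Fω hS).obj Y) : ∃ (n : ℕ) (y : (stSeq hS n).F.obj Y), (inω hS n).app Y y = z :=
  Types.jointly_surjective_of_isColimit
    (isColimitOfPreserves ((evaluation C (Type u)).obj Y) (colimit.isColimit (seq hS))) z

lemma inω_eq {n : ℕ} {Y : C} {a b : (stSeq hS n).F.obj Y} (e : (inω hS n).app Y a = (inω hS n).app Y b) :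
    ∃ (m : ℕ) (h : n ≤ m), (trans' hS h).app Y a = (trans' hS h).app Y b := by
  obtain ⟨m, g, hg⟩ := (Types.FilteredColimit.isColimit_eq_iff'
    (isColimitOfPreserves ((evaluation C (Type u)).obj Y) (colimit.isColimit (seq hS))) a b).1 e
  exact ⟨m, leOfHom g, hg⟩

lemma st_x (n : ℕ) : (inω hS n).app X (stSeq hS n).x = (inω hS 0).app X (stSeq hS 0).x := by
  induction n with
  | zero => rfl
  | succ n ih =>
    rw [← ih, ← inω_trans hS (Nat.le_succ n)]
    congr 1
    show _ = ((Functor.ofSequence (stStep hS)).map (homOfLE (Nat.le_add_right n 1))).app X (stSeq hS n).x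
    rw [Functor.ofSequence_map_homOfLE_succ]
    exact (exists_next (stSeq hS n)).choose_spec.choose_spec.1.symm

lemma cofiltered_ω : IsCofiltered (Fω hS).Elements where
  nonempty := ⟨⟨X, (inω hS 0).app X (stSeq hS 0).x⟩⟩
  cone_objs := by
    rintro ⟨A, a⟩ ⟨B, b⟩
    obtain ⟨n, a, rfl⟩ := inω_surj hS a
    obtain ⟨m, b, rfl⟩ := inω_surj hS b
    obtain ⟨V, v, p, q, hp, hq⟩ := exists_common (stSeq hS (max n m)).F
      ((trans' hS (le_max_left n m)).app A a) ((trans' hS (le_max_right n m)).app B b)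
    refine ⟨⟨V, (inω hS _).app V v⟩, CategoryOfElements.homMk _ _ p ?_, CategoryOfElements.homMk _ _ q ?_, trivial⟩
    · exact (NatTrans.naturality_apply (inω hS _) p v).symm.trans ((congrArg _ hp).trans (inω_trans hS _ _))
    · exact (NatTrans.naturality_apply (inω hS _) q v).symm.trans ((congrArg _ hq).trans (inω_trans hS _ _))
  cone_maps := by
    rintro ⟨A, a⟩ ⟨B, b⟩ ⟨f, hf⟩ ⟨g, hg⟩
    obtain ⟨n, a, rfl⟩ := inω_surj hS a
    have e : (inω hS n).app B ((stSeq hS n).F.map f a) = (inω hS n).app B ((stSeq hS n).F.map g a) :=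
      (NatTrans.naturality_apply (inω hS n) f a).trans ((hf.trans hg.symm).trans (NatTrans.naturality_apply (inω hS n) g a).symm)
    obtain ⟨m, h, e⟩ := inω_eq hS e
    rw [NatTrans.naturality_apply, NatTrans.naturality_apply] at e
    obtain ⟨V, v, k, hk, hk'⟩ := exists_equalize (stSeq hS m).F _ f g e
    refine ⟨⟨V, (inω hS m).app V v⟩, CategoryOfElements.homMk _ _ k ?_, Subtype.ext hk'⟩
    exact (NatTrans.naturality_apply (inω hS m) k v).symm.trans ((congrArg _ hk).trans (inω_trans hS _ _))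

include hJ in
lemma jointly_surjective_ω {Y : C} (R : Sieve Y) (hR : R ∈ J Y) (z : (Fω hS).obj Y) :
    ∃ (V : C) (g : V ⟶ Y) (_ : R g) (v : (Fω hS).obj V), (Fω hS).map g v = z := by
  obtain ⟨n, y, rfl⟩ := inω_surj hS z
  obtain ⟨m, V, g, hg, hcov⟩ := hJ Y R hR
  obtain ⟨k, v, hv⟩ := (exists_next (stSeq hS n)).choose_spec.choose_spec.2 ⟨Y, y, m, V, g, hcov⟩
  refine ⟨V k, g k, hg k, (inω hS (n + 1)).app _ v, ?_⟩
  rw [← inω_trans hS (Nat.le_succ n) y]
  refine (NatTrans.naturality_apply (inω hS (n + 1)) (g k) v).symm.trans (congrArg _ (hv.trans ?_))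
  show (stStep hS n).app Y y = ((Functor.ofSequence (stStep hS)).map (homOfLE (Nat.le_add_right n 1))).app Y y
  rw [Functor.ofSequence_map_homOfLE_succ]
  rfl

noncomputable def point : GrothendieckTopology.Point.{u} J where
  fiber := Fω hS
  isCofiltered := cofiltered_ω hS
  initiallySmall := initiallySmall_of_essentiallySmall _
  jointly_surjective R hR z := jointly_surjective_ω hJ hS R hR z

lemma point_spec {V : C} (g : V ⟶ X) (hg : S g) (v : (point hJ hS).fiber.obj V) :
    (point hJ hS).fiber.map g v ≠ (inω hS 0).app X (stSeq hS 0).x := by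
  intro e
  obtain ⟨n, v, rfl⟩ := inω_surj hS v
  rw [← st_x hS n] at e
  obtain ⟨m, h, e'⟩ := inω_eq hS ((NatTrans.naturality_apply (inω hS n) g v).trans e)
  have hx : (trans' hS h).app X (stSeq hS n).x = (stSeq hS m).x := by
    clear e e' hg v g
    induction m, h using Nat.le_induction with
    | base =>
      show ((seq hS).map (𝟙 n)).app X _ = _
      rw [CategoryTheory.Functor.map_id]
      rfl
    | succ m h ih =>
      refine (ConcreteCategory.congr_hom (NatTrans.congr_app ((seq hS).map_comp (homOfLE h) (homOfLE (Nat.le_add_right m 1))) X)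
        (stSeq hS n).x).trans ?_
      show ((seq hS).map (homOfLE (Nat.le_add_right m 1))).app X ((trans' hS h).app X _) = _
      rw [ih, Functor.ofSequence_map_homOfLE_succ]
      exact (exists_next (stSeq hS m)).choose_spec.choose_spec.1
  rw [NatTrans.naturality_apply, hx] at e'
  refine (stSeq hS m).inv V _ g e' ?_
  rw [Sieve.pullback_eq_top_of_mem S hg]
  exact J.top_mem V

end Colim

theorem hasEnoughPoints (J : GrothendieckTopology C)
    (hJ : ∀ (U : C) (R : Sieve U), R ∈ J U →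
      ∃ (n : ℕ) (V : Fin n → C) (g : ∀ k, V k ⟶ U), (∀ k, R (g k)) ∧ Sieve.ofArrows V g ∈ J U) :
    GrothendieckTopology.HasEnoughPoints.{u} J := by
  let P : ObjectProperty (GrothendieckTopology.Point.{u} J) :=
    ObjectProperty.ofObj fun p : Σ X : C, {S : Sieve X // S ∉ J X} => point hJ p.2.2
  refine ⟨⟨P, inferInstance, ObjectProperty.IsConservativeFamilyOfPoints.mk' fun X S h => ?_⟩⟩
  by_contra hS
  obtain ⟨V, g, hg, v, hv⟩ := h ⟨point hJ hS, ObjectProperty.ofObj_apply (fun p : Σ X : C, {S : Sieve X // S ∉ J X} =>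
    point hJ p.2.2) ⟨X, S, hS⟩⟩ ((inω hS 0).app X (stSeq hS 0).x)
  exact point_spec hJ hS g hg v hv

end Groth.L09.Deligne
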