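import Mathlib.Algebra.Homology.DerivedCategory.DerivabilityStructureInjectives
import Mathlib.Algebra.Homology.DerivedCategory.KInjective
import Mathlib.Algebra.Homology.DerivedCategory.ExactFunctor
import Mathlib.Algebra.Homology.Additive
import Mathlib.Algebra.Homology.QuasiIso
import Mathlib.CategoryTheory.Adjunction.Additive

/-!
Full faithfulness on bounded below derived categories of an exact left adjoint, through injective resolutions.
-/

set_option autoImplicit false
set_option linter.unusedSectionVars false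
universe w₁ w₂ v₁ v₂ u₁ u₂

open CategoryTheory Category Limits

namespace Groth.L09.DerivedCrit

variable {B : Type u₁} [Category.{v₁} B] [Abelian B]
  {P : Type u₂} [Category.{v₂} P] [Abelian P]
  {F : B ⥤ P} {R : P ⥤ B} [F.Additive] [R.Additive] (adj : F ⊣ R)

/-- The unit on complexes. -/
noncomputable def unitC (L : CochainComplex B ℤ) :
    L ⟶ (R.mapHomologicalComplex _).obj ((F.mapHomologicalComplex _).obj L) where
  f i := adj.unit.app (L.X i)
  comm' i j _ := (adj.unit.naturality (L.d i j)).symm

/-- The counit on complexes. -/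
noncomputable def counitC (J : CochainComplex P ℤ) :
    (F.mapHomologicalComplex _).obj ((R.mapHomologicalComplex _).obj J) ⟶ J where
  f i := adj.counit.app (J.X i)
  comm' i j _ := (adj.counit.naturality (J.d i j)).symm

/-- Transposition on complexes. -/
noncomputable def tr {L : CochainComplex B ℤ} {J : CochainComplex P ℤ}
    (e : (F.mapHomologicalComplex _).obj L ⟶ J) : L ⟶ (R.mapHomologicalComplex _).obj J :=
  unitC adj L ≫ (R.mapHomologicalComplex _).map e

/-- Inverse transposition on complexes. -/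
noncomputable def tr' {L : CochainComplex B ℤ} {J : CochainComplex P ℤ}
    (φ : L ⟶ (R.mapHomologicalComplex _).obj J) : (F.mapHomologicalComplex _).obj L ⟶ J :=
  (F.mapHomologicalComplex _).map φ ≫ counitC adj J

lemma tr'_tr {L : CochainComplex B ℤ} {J : CochainComplex P ℤ}
    (e : (F.mapHomologicalComplex _).obj L ⟶ J) : tr' adj (tr adj e) = e := by
  ext i
  exact ((adj.homEquiv_counit _ _ _).symm.trans (congrArg _ (adj.homEquiv_unit _ _ _).symm)).trans
    ((adj.homEquiv _ _).symm_apply_apply (e.f i))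

lemma tr_tr' {L : CochainComplex B ℤ} {J : CochainComplex P ℤ}
    (φ : L ⟶ (R.mapHomologicalComplex _).obj J) : tr adj (tr' adj φ) = φ := by
  ext i
  exact ((adj.homEquiv_unit _ _ _).symm.trans (congrArg _ (adj.homEquiv_counit _ _ _).symm)).trans
    ((adj.homEquiv _ _).apply_symm_apply (φ.f i))

/-- The transpose of a quasi-isomorphism to injectives is a quasi-isomorphism. -/
def Computes : Prop :=
  ∀ (n : ℤ) (L : CochainComplex B ℤ) [L.IsStrictlyGE n] (J : CochainComplex P ℤ) [J.IsStrictlyGE n]
    [∀ i, Injective (J.X i)] (e : (F.mapHomologicalComplex _).obj L ⟶ J) [QuasiIso e],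
    QuasiIso (tr adj e)

variable [HasDerivedCategory.{w₁} B] [HasDerivedCategory.{w₂} P]

include adj in
lemma isKInjective_obj [PreservesFiniteLimits F] [PreservesFiniteColimits F] (n : ℤ) (J : CochainComplex P ℤ)
    [J.IsStrictlyGE n] [∀ i, Injective (J.X i)] :
    CochainComplex.IsKInjective ((R.mapHomologicalComplex (ComplexShape.up ℤ)).obj J) :=
  have : ∀ i, Injective (((R.mapHomologicalComplex (ComplexShape.up ℤ)).obj J).X i) := fun i =>
    Injective.injective_of_adjoint adj (J.X i)
  CochainComplex.isKInjective_of_injective _ n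

variable [PreservesFiniteLimits F] [PreservesFiniteColimits F]

lemma exists_Q_map_eq {A : Type u₂} [Category.{v₂} A] [Abelian A] [HasDerivedCategory.{w₂} A]
    {K : CochainComplex A ℤ} {J : CochainComplex A ℤ} [J.IsKInjective]
    (h : DerivedCategory.Q.obj K ⟶ DerivedCategory.Q.obj J) : ∃ w : K ⟶ J, DerivedCategory.Q.map w = h := by
  obtain ⟨g, hg⟩ := (CochainComplex.IsKInjective.Qh_map_bijective ((HomotopyCategory.quotient _ _).obj K) J).2
    ((DerivedCategory.quotientCompQhIso A).hom.app K ≫ h ≫ (DerivedCategory.quotientCompQhIso A).inv.app J)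
  obtain ⟨w, rfl⟩ := (HomotopyCategory.quotient _ _).map_surjective g
  refine ⟨w, ?_⟩
  have := (DerivedCategory.quotientCompQhIso A).hom.naturality w
  rw [← cancel_epi ((DerivedCategory.quotientCompQhIso A).hom.app K), ← this]
  simp [hg]

lemma homotopic_of_Q_map_eq {K : CochainComplex P ℤ} {J : CochainComplex P ℤ} [J.IsKInjective]
    {w w' : K ⟶ J} (h : DerivedCategory.Q.map w = DerivedCategory.Q.map w') : Nonempty (Homotopy w w') := by
  refine ⟨HomotopyCategory.homotopyOfEq _ _
    ((CochainComplex.IsKInjective.Qh_map_bijective ((HomotopyCategory.quotient _ _).obj K) J).1 ?_)⟩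
  have e := fun k : K ⟶ J => (DerivedCategory.quotientCompQhIso P).hom.naturality k
  exact (cancel_mono ((DerivedCategory.quotientCompQhIso P).hom.app J)).1
    ((e w).trans ((congrArg (_ ≫ ·) h).trans (e w').symm))

lemma Q_map_eq_of_homotopy {K J : CochainComplex B ℤ} {φ φ' : K ⟶ J} (h : Homotopy φ φ') :
    DerivedCategory.Q.map φ = DerivedCategory.Q.map φ' := by
  have e := fun k : K ⟶ J => (DerivedCategory.quotientCompQhIso B).hom.naturality k
  rw [← cancel_epi ((DerivedCategory.quotientCompQhIso B).hom.app K)]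
  refine (e φ).symm.trans ?_
  refine Eq.trans ?_ (e φ')
  rw [Functor.comp_map, Functor.comp_map, HomotopyCategory.eq_of_homotopy _ _ h]

/-- The image of a morphism to a transposed complex. -/
lemma map_Q_comp {K : CochainComplex B ℤ} {J : CochainComplex P ℤ}
    (φ : K ⟶ (R.mapHomologicalComplex _).obj J) :
    F.mapDerivedCategory.map (DerivedCategory.Q.map φ) ≫
        F.mapDerivedCategoryFactors.hom.app _ ≫ DerivedCategory.Q.map (counitC adj J) =
      F.mapDerivedCategoryFactors.hom.app K ≫ DerivedCategory.Q.map (tr' adj φ) := by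
  rw [Functor.mapDerivedCategoryFactors_hom_naturality_assoc, tr', Functor.map_comp]

/-- The main computation. -/
lemma map_comp_eq {K L : CochainComplex B ℤ} {J : CochainComplex P ℤ}
    (e : (F.mapHomologicalComplex _).obj L ⟶ J) (g : DerivedCategory.Q.obj K ⟶ DerivedCategory.Q.obj L)
    (φ : K ⟶ (R.mapHomologicalComplex _).obj J) (h : g ≫ DerivedCategory.Q.map (tr adj e) = DerivedCategory.Q.map φ) :
    F.mapDerivedCategory.map g ≫ F.mapDerivedCategoryFactors.hom.app L ≫ DerivedCategory.Q.map e =
      F.mapDerivedCategoryFactors.hom.app K ≫ DerivedCategory.Q.map (tr' adj φ) := by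
  rw [← map_Q_comp adj φ, ← h, Functor.map_comp, assoc, map_Q_comp, tr'_tr]

variable [EnoughInjectives P]

/-- If transposes of injective resolutions are quasi-isomorphisms, `F` is fully faithful on `D⁺`. -/
theorem bijective_of_computes (hc : Computes adj) (K L : DerivedCategory.Plus B) :
    Function.Bijective fun g : K.obj ⟶ L.obj => F.mapDerivedCategory.map g := by
  obtain ⟨X, n, K', eK, hK⟩ := K
  obtain ⟨Z, m, L', eL, hL⟩ := L
  have : CochainComplex.IsStrictlyGE ((F.mapHomologicalComplex (ComplexShape.up ℤ)).obj L') m := inferInstance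
  obtain ⟨⟨J₀, _⟩, hJ, ⟨i⟩, hi⟩ := CochainComplex.Plus.exists_quasiIso_injective
    (C := P) ⟨(F.mapHomologicalComplex (ComplexShape.up ℤ)).obj L', ⟨m, inferInstance⟩⟩ m
  let J : CochainComplex P ℤ := ((InjectiveObject.ι P).mapHomologicalComplex (ComplexShape.up ℤ)).obj J₀
  have : ∀ j, Injective (J.X j) := fun j => (J₀.X j).property
  have : J.IsStrictlyGE m := inferInstance
  have : J.IsKInjective := CochainComplex.isKInjective_of_injective J m
  have := isKInjective_obj adj m J
  let e : (F.mapHomologicalComplex (ComplexShape.up ℤ)).obj L' ⟶ J := i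
  have : QuasiIso e := hi
  have : QuasiIso (tr adj e) := hc m L' J e
  have hψ : IsIso (DerivedCategory.Q.map (tr adj e)) := (DerivedCategory.isIso_Q_map_iff_quasiIso B _).2 this
  have hQe : IsIso (DerivedCategory.Q.map e) := (DerivedCategory.isIso_Q_map_iff_quasiIso P _).2 ‹QuasiIso e›
  have key : Function.Bijective
      fun g : DerivedCategory.Q.obj K' ⟶ DerivedCategory.Q.obj L' => F.mapDerivedCategory.map g := by
    refine ⟨fun g g' hg => ?_, fun h => ?_⟩
    · obtain ⟨φ, hφ⟩ := exists_Q_map_eq (g ≫ DerivedCategory.Q.map (tr adj e))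
      obtain ⟨φ', hφ'⟩ := exists_Q_map_eq (g' ≫ DerivedCategory.Q.map (tr adj e))
      have h1 := map_comp_eq adj e g φ hφ.symm
      have h2 := map_comp_eq adj e g' φ' hφ'.symm
      dsimp only at hg
      rw [hg, h2, cancel_epi] at h1
      obtain ⟨H⟩ := homotopic_of_Q_map_eq h1
      rw [← cancel_mono (DerivedCategory.Q.map (tr adj e)), ← hφ, ← hφ', ← tr_tr' adj φ, ← tr_tr' adj φ']
      exact (Q_map_eq_of_homotopy ((R.mapHomotopy H).compLeft _)).symm
    · obtain ⟨w, hw⟩ := exists_Q_map_eq (F.mapDerivedCategoryFactors.inv.app K' ≫ h ≫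
        F.mapDerivedCategoryFactors.hom.app L' ≫ DerivedCategory.Q.map e)
      refine ⟨DerivedCategory.Q.map (tr adj w) ≫ inv (DerivedCategory.Q.map (tr adj e)), ?_⟩
      rw [← cancel_mono (F.mapDerivedCategoryFactors.hom.app L' ≫ DerivedCategory.Q.map e)]
      refine (map_comp_eq adj e _ (tr adj w) (by simp)).trans ?_
      rw [tr'_tr, hw]
      simp
  let c := Iso.homCongr eK eL
  have : (fun g : X ⟶ Z => F.mapDerivedCategory.map g) =
      (Iso.homCongr (F.mapDerivedCategory.mapIso eK) (F.mapDerivedCategory.mapIso eL)).symm ∘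
        (fun g => F.mapDerivedCategory.map g) ∘ c := by
    funext g
    simp [c, Iso.homCongr]
  rw [this]
  exact (Equiv.bijective _).comp (key.comp c.bijective)

/-- Conversely. -/
theorem computes_of_bijective
    (hf : ∀ K L : DerivedCategory.Plus B, Function.Bijective fun g : K.obj ⟶ L.obj => F.mapDerivedCategory.map g) :
    Computes adj := by
  intro n L _ J _ _ e _
  rw [← DerivedCategory.isIso_Q_map_iff_quasiIso]
  have : J.IsKInjective := CochainComplex.isKInjective_of_injective J n
  have := isKInjective_obj adj n J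
  have hQe : IsIso (DerivedCategory.Q.map e) := (DerivedCategory.isIso_Q_map_iff_quasiIso P _).2 ‹_›
  have hb : ∀ K : CochainComplex B ℤ, K.IsStrictlyGE n → Function.Bijective
      fun g : DerivedCategory.Q.obj K ⟶ DerivedCategory.Q.obj L => g ≫ DerivedCategory.Q.map (tr adj e) := by
    intro K hK
    have hff := hf ⟨DerivedCategory.Q.obj K, n, inferInstance⟩ ⟨DerivedCategory.Q.obj L, n, inferInstance⟩
    refine ⟨fun g g' hg => hff.1 ?_, fun k => ?_⟩
    · dsimp only at hg ⊢
      obtain ⟨φ, hφ⟩ := exists_Q_map_eq (g ≫ DerivedCategory.Q.map (tr adj e))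
      have h1 := map_comp_eq adj e g φ hφ.symm
      have h2 := map_comp_eq adj e g' φ (hg.symm.trans hφ.symm)
      exact (cancel_mono (F.mapDerivedCategoryFactors.hom.app L ≫ DerivedCategory.Q.map e)).1 (h1.trans h2.symm)
    · obtain ⟨φ, rfl⟩ := exists_Q_map_eq k
      obtain ⟨g, hg⟩ := hff.2 (F.mapDerivedCategoryFactors.hom.app K ≫ DerivedCategory.Q.map (tr' adj φ) ≫
        inv (DerivedCategory.Q.map e) ≫ F.mapDerivedCategoryFactors.inv.app L)
      obtain ⟨φ', hφ'⟩ := exists_Q_map_eq (g ≫ DerivedCategory.Q.map (tr adj e))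
      have h1 := map_comp_eq adj e g φ' hφ'.symm
      dsimp only at hg
      rw [hg] at h1
      simp only [assoc, Iso.inv_hom_id_app_assoc, IsIso.inv_hom_id, comp_id, cancel_epi] at h1
      obtain ⟨H⟩ := homotopic_of_Q_map_eq h1
      refine ⟨g, ?_⟩
      dsimp only
      rw [← hφ', ← tr_tr' adj φ, ← tr_tr' adj φ']
      exact (Q_map_eq_of_homotopy ((R.mapHomotopy H).compLeft _)).symm
  have : CochainComplex.IsStrictlyGE ((R.mapHomologicalComplex (ComplexShape.up ℤ)).obj J) n := inferInstance
  obtain ⟨k, hk⟩ := (hb _ this).2 (𝟙 _)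
  refine ⟨k, (hb L inferInstance).1 ?_, hk⟩
  show (DerivedCategory.Q.map (tr adj e) ≫ k) ≫ _ = 𝟙 _ ≫ _
  rw [assoc, id_comp]
  exact (congrArg (_ ≫ ·) hk).trans (comp_id _)

end Groth.L09.DerivedCrit
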