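import Groth.Agent.L09.DerivedRetract
import Mathlib.CategoryTheory.Adjunction.FullyFaithful

/-!
An abstract criterion for full faithfulness of an inverse image on derived categories.
-/

set_option autoImplicit false
universe w₁ w₂ v₁ v₂ v₃ u₁ u₂ u₃

open CategoryTheory Category Limits

namespace Groth.L09.DerivedDescent

variable {B : Type u₁} [Category.{v₁} B] [Abelian B] [HasDerivedCategory.{w₁} B]
  {P : Type u₂} [Category.{v₂} P] [Abelian P] [HasDerivedCategory.{w₂} P]
  {A : Type u₃} [Category.{v₃} A] [Preadditive A]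
  {Ext : B ⥤ A} {Res : A ⥤ B} (adj : Ext ⊣ Res) (I : A ⥤ P) (Dc : P ⥤ A)

include adj in
theorem bijective_map [IsIso adj.unit] (a : 𝟭 P ⟶ Dc ⋙ I) (p : 𝟭 A ⟶ I ⋙ Dc)
    (hc : ∀ E : A, a.app (I.obj E) = I.map (p.app E)) (hp : ∀ L : B, IsIso (p.app (Ext.obj L)))
    [(Ext ⋙ I).Additive] [PreservesFiniteLimits (Ext ⋙ I)] [PreservesFiniteColimits (Ext ⋙ I)]
    [Dc.Additive] [I.Additive] [Res.Additive]
    [PreservesFiniteLimits Dc] [PreservesFiniteColimits Dc]
    [PreservesFiniteLimits I] [PreservesFiniteColimits I]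
    [PreservesFiniteLimits Res] [PreservesFiniteColimits Res] (K L : DerivedCategory B) :
    Function.Bijective (fun g : K ⟶ L => (Ext ⋙ I).mapDerivedCategory.map g) := by
  have : PreservesFiniteLimits (Dc ⋙ I) := comp_preservesFiniteLimits _ _
  have : PreservesFiniteColimits (Dc ⋙ I) := comp_preservesFiniteColimits _ _
  have : PreservesFiniteLimits (Dc ⋙ Res) := comp_preservesFiniteLimits _ _
  have : PreservesFiniteColimits (Dc ⋙ Res) := comp_preservesFiniteColimits _ _
  let pI : ∀ X : B, Ext.obj X ≅ Dc.obj (I.obj (Ext.obj X)) := fun X => @asIso _ _ _ _ (p.app (Ext.obj X)) (hp X)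
  let e : (Ext ⋙ I) ⋙ Dc ⋙ Res ≅ 𝟭 B :=
    NatIso.ofComponents (fun X => (Res.mapIso (pI X)).symm ≪≫ ((asIso adj.unit).app X).symm) (fun {X Y} f => by
      rw [Iso.trans_hom, Iso.trans_hom, ← cancel_epi (Res.map (pI X).hom), ← cancel_epi (adj.unit.app X)]
      have h1 : Ext.map f ≫ (pI Y).hom = (pI X).hom ≫ Dc.map (I.map (Ext.map f)) := p.naturality (Ext.map f)
      have h2 : f ≫ adj.unit.app Y = adj.unit.app X ≫ Res.map (Ext.map f) := adj.unit.naturality f
      simp only [Iso.symm_hom, Functor.mapIso_inv, Functor.comp_map, ← assoc]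
      simp only [Iso.app_inv, asIso_inv, assoc]
      rw [← Res.map_comp_assoc, ← h1, Res.map_comp_assoc, ← Res.map_comp_assoc (pI Y).hom, Iso.hom_inv_id,
        Res.map_id, id_comp, ← reassoc_of% h2]
      simp [← Res.map_comp_assoc])
  let b : (Dc ⋙ Res) ⋙ Ext ⋙ I ⟶ Dc ⋙ I :=
    { app := fun E => I.map (adj.counit.app (Dc.obj E))
      naturality := fun E E' f => by
        simp only [Functor.comp_map, ← I.map_comp]
        exact congrArg (fun k => I.map k) (adj.counit.naturality (Dc.map f)) }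
  refine DerivedRetract.bijective_mapDerivedCategory (Ext ⋙ I) (Dc ⋙ Res) (Dc ⋙ I) e a b ?_ ?_ K L
  · intro X
    show IsIso (a.app (I.obj (Ext.obj X)))
    rw [hc]
    have := hp X
    infer_instance
  · intro X
    have : IsIso (Ext.map (adj.unit.app X) ≫ adj.counit.app (Ext.obj X)) := by
      have h := adj.left_triangle_components X
      exact (congrArg (fun k => IsIso k) h).mpr (IsIso.id (Ext.obj X))
    have : IsIso (adj.counit.app (Ext.obj X)) := IsIso.of_isIso_comp_left (Ext.map (adj.unit.app X)) _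
    have : IsIso (adj.counit.app (Dc.obj (I.obj (Ext.obj X)))) :=
      (NatTrans.isIso_app_iff_of_iso adj.counit (pI X)).1 this
    show IsIso (I.map (adj.counit.app (Dc.obj (I.obj (Ext.obj X)))))
    infer_instance

end Groth.L09.DerivedDescent
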