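import Groth.Agent.L09.DerivedRetract
import Mathlib.Algebra.Homology.DerivedCategory.Plus

/-!
Calculus of full faithfulness on bounded below derived categories.
-/

set_option autoImplicit false
set_option linter.unusedSectionVars false
universe w₁ w₂ w₃ v₁ v₂ v₃ u₁ u₂ u₃

open CategoryTheory Category Limits

namespace Groth.L09.DerivedFF

variable {A : Type u₁} [Category.{v₁} A] [Abelian A] [HasDerivedCategory.{w₁} A]
  {B : Type u₂} [Category.{v₂} B] [Abelian B] [HasDerivedCategory.{w₂} B]
  {C : Type u₃} [Category.{v₃} C] [Abelian C] [HasDerivedCategory.{w₃} C]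

/-- Full faithfulness on `D⁺`. -/
def FF (F : A ⥤ B) [F.Additive] [PreservesFiniteLimits F] [PreservesFiniteColimits F] : Prop :=
  ∀ K L : DerivedCategory.Plus A, Function.Bijective fun g : K.obj ⟶ L.obj => F.mapDerivedCategory.map g

variable {F F' : A ⥤ B} [F.Additive] [PreservesFiniteLimits F] [PreservesFiniteColimits F]
  [F'.Additive] [PreservesFiniteLimits F'] [PreservesFiniteColimits F']

lemma mem_plus_map (K : DerivedCategory.Plus A) :
    ∃ K' : DerivedCategory.Plus B, Nonempty (F.mapDerivedCategory.obj K.obj ≅ K'.obj) := by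
  obtain ⟨X, n, K', e, hK⟩ := K
  have : CochainComplex.IsStrictlyGE ((F.mapHomologicalComplex (ComplexShape.up ℤ)).obj K') n := inferInstance
  exact ⟨⟨DerivedCategory.Q.obj ((F.mapHomologicalComplex (ComplexShape.up ℤ)).obj K'), n, inferInstance⟩,
    ⟨F.mapDerivedCategory.mapIso e ≪≫ F.mapDerivedCategoryFactors.app K'⟩⟩

lemma of_iso (e : F ≅ F') (h : FF F) : FF F' := fun K L => by
  let e' := DerivedRetract.natIso e
  have : (fun g : K.obj ⟶ L.obj => F'.mapDerivedCategory.map g) =
      (Iso.homCongr (e'.app K.obj) (e'.app L.obj)) ∘ fun g => F.mapDerivedCategory.map g := by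
    funext g
    simp [Iso.homCongr]
  rw [this]
  exact (Equiv.bijective _).comp (h K L)

variable {G : B ⥤ C} [G.Additive] [PreservesFiniteLimits G] [PreservesFiniteColimits G]
  [(F ⋙ G).Additive] [PreservesFiniteLimits (F ⋙ G)] [PreservesFiniteColimits (F ⋙ G)]

lemma bijective_map_map (hG : FF G) (K L : DerivedCategory.Plus A) :
    Function.Bijective fun g : F.mapDerivedCategory.obj K.obj ⟶ F.mapDerivedCategory.obj L.obj =>
      G.mapDerivedCategory.map g := by
  obtain ⟨K', ⟨a⟩⟩ := mem_plus_map (F := F) K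
  obtain ⟨L', ⟨b⟩⟩ := mem_plus_map (F := F) L
  have : (fun g : F.mapDerivedCategory.obj K.obj ⟶ F.mapDerivedCategory.obj L.obj => G.mapDerivedCategory.map g) =
      (Iso.homCongr (G.mapDerivedCategory.mapIso a) (G.mapDerivedCategory.mapIso b)).symm ∘
        (fun g => G.mapDerivedCategory.map g) ∘ Iso.homCongr a b := by
    funext g
    simp [Iso.homCongr]
  rw [this]
  exact (Equiv.bijective _).comp ((hG K' L').comp (Equiv.bijective _))

lemma map_comp_eq (K L : DerivedCategory.Plus A) :
    (fun g : K.obj ⟶ L.obj => (F ⋙ G).mapDerivedCategory.map g) =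
      Iso.homCongr ((DerivedRetract.compIso F G).app K.obj) ((DerivedRetract.compIso F G).app L.obj) ∘
        (fun g => G.mapDerivedCategory.map g) ∘ (fun g => F.mapDerivedCategory.map g) := by
  funext g
  have h : (F.mapDerivedCategory ⋙ G.mapDerivedCategory).map g ≫ (DerivedRetract.compIso F G).hom.app L.obj =
      (DerivedRetract.compIso F G).hom.app K.obj ≫ (F ⋙ G).mapDerivedCategory.map g :=
    (DerivedRetract.compIso F G).hom.naturality g
  simp only [Function.comp_apply, Iso.homCongr_apply, Iso.app_inv, Iso.app_hom]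
  rw [← Functor.comp_map F.mapDerivedCategory G.mapDerivedCategory, h, Iso.inv_hom_id_app_assoc]

theorem comp (hF : FF F) (hG : FF G) : FF (F ⋙ G) := fun K L => by
  rw [map_comp_eq]
  exact (Equiv.bijective _).comp ((bijective_map_map hG K L).comp (hF K L))

theorem of_comp (hG : FF G) (h : FF (F ⋙ G)) : FF F := fun K L => by
  have h' := h K L
  rw [map_comp_eq] at h'
  exact (Function.Bijective.of_comp_iff' (bijective_map_map hG K L) _).1
    ((Function.Bijective.of_comp_iff' (Equiv.bijective _) _).1 h')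

theorem of_equivalence (H : C ⥤ B) [H.Additive] [PreservesFiniteLimits H] [PreservesFiniteColimits H]
    (e₁ : G ⋙ H ≅ 𝟭 B) (e₂ : H ⋙ G ≅ 𝟭 C) : FF G := fun K L => by
  have := comp_preservesFiniteLimits G H
  have := comp_preservesFiniteColimits G H
  have := comp_preservesFiniteLimits H G
  have := comp_preservesFiniteColimits H G
  let a := DerivedRetract.compIso G H ≪≫ DerivedRetract.natIso e₁ ≪≫ DerivedRetract.idIso
  let b := DerivedRetract.compIso H G ≪≫ DerivedRetract.natIso e₂ ≪≫ DerivedRetract.idIso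
  let E : DerivedCategory B ≌ DerivedCategory C :=
    CategoryTheory.Equivalence.mk G.mapDerivedCategory H.mapDerivedCategory a.symm b
  exact E.fullyFaithfulFunctor.map_bijective _ _

/-- Full faithfulness transported along a commutative square. -/
theorem transfer {X₁ : Type u₁} [Category.{v₁} X₁] [Abelian X₁] [HasDerivedCategory.{w₁} X₁]
    {X₂ : Type u₁} [Category.{v₁} X₂] [Abelian X₂] [HasDerivedCategory.{w₁} X₂]
    {Q₁ : Type u₂} [Category.{v₂} Q₁] [Abelian Q₁] [HasDerivedCategory.{w₂} Q₁]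
    {Q₂ : Type u₂} [Category.{v₂} Q₂] [Abelian Q₂] [HasDerivedCategory.{w₂} Q₂]
    (P₁ : A ⥤ X₁) (G₁ : X₁ ⥤ Q₁) (P₂ : A ⥤ X₂) (G₂ : X₂ ⥤ Q₂) (S : Q₂ ⥤ Q₁)
    [P₁.Additive] [PreservesFiniteLimits P₁] [PreservesFiniteColimits P₁]
    [G₁.Additive] [PreservesFiniteLimits G₁] [PreservesFiniteColimits G₁]
    [P₂.Additive] [PreservesFiniteLimits P₂] [PreservesFiniteColimits P₂]
    [G₂.Additive] [PreservesFiniteLimits G₂] [PreservesFiniteColimits G₂]
    [S.Additive] [PreservesFiniteLimits S] [PreservesFiniteColimits S]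
    (e : P₁ ⋙ G₁ ≅ (P₂ ⋙ G₂) ⋙ S) (h₁ : FF P₁) (k₁ : FF G₁) (k₂ : FF G₂) (k : FF S) : FF P₂ := by
  have := comp_preservesFiniteLimits P₁ G₁
  have := comp_preservesFiniteColimits P₁ G₁
  have := comp_preservesFiniteLimits P₂ G₂
  have := comp_preservesFiniteColimits P₂ G₂
  have := comp_preservesFiniteLimits (P₂ ⋙ G₂) S
  have := comp_preservesFiniteColimits (P₂ ⋙ G₂) S
  exact of_comp k₂ (of_comp k (of_iso e (comp h₁ k₁)))

end Groth.L09.DerivedFF
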