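import Groth.Agent.L09.DerivedCrit
import Mathlib.Algebra.Homology.ShortComplex.PreservesHomology

/-!
Transport of the injective criterion along commutative squares of functors.
-/

set_option autoImplicit false
set_option linter.unusedSectionVars false
universe v v₁ v₂ v₃ v₁' v₂' v₃' u u₁ u₂ u₃ u₁' u₂' u₃' t

open CategoryTheory Category Limits

namespace Groth.L09.DerivedCrit

section Jointly

variable {B : Type u₁} [Category.{v₁} B] [Abelian B] {T : Type t} {B' : T → Type u₁'}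
  [∀ i, Category.{v₁'} (B' i)] [∀ i, Abelian (B' i)] (r : ∀ i, B ⥤ B' i) [∀ i, (r i).Additive]
  [∀ i, PreservesFiniteLimits (r i)] [∀ i, PreservesFiniteColimits (r i)]

lemma quasiIso_of_jointly (hr : ∀ {X Y : B} (f : X ⟶ Y), (∀ i, IsIso ((r i).map f)) → IsIso f)
    {K L : CochainComplex B ℤ} (φ : K ⟶ L)
    (h : ∀ i, QuasiIso (((r i).mapHomologicalComplex (ComplexShape.up ℤ)).map φ)) : QuasiIso φ := by
  refine ⟨fun n => ?_⟩
  rw [quasiIsoAt_iff_isIso_homologyMap]
  refine hr _ fun i => ?_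
  have h' := (h i).quasiIsoAt n
  rw [quasiIsoAt_iff, ShortComplex.quasiIso_iff] at h'
  have := ShortComplex.mapHomologyIso_hom_naturality
    ((HomologicalComplex.shortComplexFunctor B (ComplexShape.up ℤ) n).map φ) (r i)
  show IsIso ((r i).map (ShortComplex.homologyMap ((HomologicalComplex.shortComplexFunctor B (ComplexShape.up ℤ) n).map φ)))
  exact (IsIso.of_isIso_fac_left (f := (((HomologicalComplex.shortComplexFunctor B (ComplexShape.up ℤ) n).obj K).mapHomologyIso (r i)).hom)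
    (hh := @IsIso.comp_isIso _ _ _ _ _ _ _ h' inferInstance) this.symm)

end Jointly

variable {B : Type u₁} [Category.{v₁} B] [Abelian B] {P : Type u₂} [Category.{v₂} P] [Abelian P]
  {F : B ⥤ P} {R : P ⥤ B} [F.Additive] [R.Additive] (adj : F ⊣ R)
  {B' : Type u₁'} [Category.{v₁'} B'] [Abelian B'] {P' : Type u₂'} [Category.{v₂'} P'] [Abelian P']
  {F' : B' ⥤ P'} {R' : P' ⥤ B'} [F'.Additive] [R'.Additive] (adj' : F' ⊣ R')
  {rB : B ⥤ B'} [rB.Additive] [PreservesFiniteLimits rB] [PreservesFiniteColimits rB]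
  {rP : P ⥤ P'} [rP.Additive] [PreservesFiniteLimits rP] [PreservesFiniteColimits rP]
  (ν : rB ⋙ F' ⟶ F ⋙ rP)

/-- The base change map attached to a comparison of the left adjoints. -/
noncomputable def base (J : P) : rB.obj (R.obj J) ⟶ R'.obj (rP.obj J) :=
  adj'.homEquiv _ _ (ν.app (R.obj J) ≫ rP.map (adj.counit.app J))

lemma base_natural {J J' : P} (f : J ⟶ J') :
    rB.map (R.map f) ≫ base adj adj' ν J' = base adj adj' ν J ≫ R'.map (rP.map f) := by
  have h1 : F'.map (rB.map (R.map f)) ≫ ν.app (R.obj J') = ν.app (R.obj J) ≫ rP.map (F.map (R.map f)) :=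
    ν.naturality (R.map f)
  rw [base, base, ← adj'.homEquiv_naturality_left, ← adj'.homEquiv_naturality_right, reassoc_of% h1, assoc,
    ← rP.map_comp, ← rP.map_comp, adj.counit_naturality]

lemma base_tr (L : B) (J : P) (e : F.obj L ⟶ J) :
    rB.map (adj.unit.app L ≫ R.map e) ≫ base adj adj' ν J =
      adj'.unit.app (rB.obj L) ≫ R'.map (ν.app L ≫ rP.map e) := by
  have h1 : F'.map (rB.map (adj.homEquiv _ _ e)) ≫ ν.app (R.obj J) = ν.app L ≫ rP.map (F.map (adj.homEquiv _ _ e)) :=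
    ν.naturality _
  refine Eq.trans ?_ (adj'.homEquiv_unit _ _ _)
  rw [base, ← adj'.homEquiv_naturality_left]
  refine congrArg _ ?_
  have h2 : adj.unit.app L ≫ R.map e = adj.homEquiv _ _ e := (adj.homEquiv_unit _ _ _).symm
  refine (congrArg (fun k => F'.map (rB.map k) ≫ _) h2).trans ?_
  rw [reassoc_of% h1, ← rP.map_comp, ← adj.homEquiv_counit, Equiv.symm_apply_apply]

/-- A quasi-isomorphism stays one after restriction. -/
theorem quasiIso_map_tr [IsIso ν] (hβ : ∀ J, IsIso (base adj adj' ν J))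
    (hinj : ∀ J : P, Injective J → Injective (rP.obj J)) (hc : Computes adj')
    (n : ℤ) (L : CochainComplex B ℤ) [L.IsStrictlyGE n] (J : CochainComplex P ℤ) [J.IsStrictlyGE n]
    [∀ i, Injective (J.X i)] (e : (F.mapHomologicalComplex _).obj L ⟶ J) [QuasiIso e] :
    QuasiIso ((rB.mapHomologicalComplex (ComplexShape.up ℤ)).map (tr adj e)) := by
  let rL : CochainComplex B' ℤ := (rB.mapHomologicalComplex (ComplexShape.up ℤ)).obj L
  let rJ : CochainComplex P' ℤ := (rP.mapHomologicalComplex (ComplexShape.up ℤ)).obj J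
  have : ∀ i, Injective (rJ.X i) := fun i => hinj (J.X i) inferInstance
  let a : (F'.mapHomologicalComplex _).obj rL ⟶
      (rP.mapHomologicalComplex (ComplexShape.up ℤ)).obj ((F.mapHomologicalComplex _).obj L) :=
    { f := fun i => ν.app (L.X i)
      comm' := fun i j _ => (ν.naturality (L.d i j)).symm }
  have : ∀ i, IsIso (a.f i) := fun i => inferInstanceAs (IsIso (ν.app (L.X i)))
  have : IsIso a := HomologicalComplex.Hom.isIso_of_components _
  let e' : (F'.mapHomologicalComplex _).obj rL ⟶ rJ := a ≫ (rP.mapHomologicalComplex _).map e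
  have : QuasiIso e' := inferInstanceAs (QuasiIso (a ≫ (rP.mapHomologicalComplex _).map e))
  have h' := hc n rL rJ e'
  let c : (rB.mapHomologicalComplex (ComplexShape.up ℤ)).obj ((R.mapHomologicalComplex _).obj J) ⟶
      (R'.mapHomologicalComplex _).obj rJ :=
    { f := fun i => base adj adj' ν (J.X i)
      comm' := fun i j _ => (base_natural adj adj' ν (J.d i j)).symm }
  have : ∀ i, IsIso (c.f i) := fun i => hβ (J.X i)
  have : IsIso c := HomologicalComplex.Hom.isIso_of_components _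
  have key : (rB.mapHomologicalComplex (ComplexShape.up ℤ)).map (tr adj e) ≫ c = tr adj' e' := by
    ext i
    exact base_tr adj adj' ν (L.X i) (J.X i) (e.f i)
  rw [← quasiIso_iff_comp_right _ c, key]
  exact h'

/-- Locality of the criterion. -/
theorem computes_of_family {T : Type t} {B' : T → Type u₁'} [∀ i, Category.{v₁'} (B' i)] [∀ i, Abelian (B' i)]
    {P' : T → Type u₂'} [∀ i, Category.{v₂'} (P' i)] [∀ i, Abelian (P' i)]
    (F' : ∀ i, B' i ⥤ P' i) (R' : ∀ i, P' i ⥤ B' i) [∀ i, (F' i).Additive] [∀ i, (R' i).Additive]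
    (adj' : ∀ i, F' i ⊣ R' i) (rB : ∀ i, B ⥤ B' i) [∀ i, (rB i).Additive]
    [∀ i, PreservesFiniteLimits (rB i)] [∀ i, PreservesFiniteColimits (rB i)]
    (rP : ∀ i, P ⥤ P' i) [∀ i, (rP i).Additive]
    [∀ i, PreservesFiniteLimits (rP i)] [∀ i, PreservesFiniteColimits (rP i)]
    (hr : ∀ {X Y : B} (f : X ⟶ Y), (∀ i, IsIso ((rB i).map f)) → IsIso f)
    (ν : ∀ i, rB i ⋙ F' i ⟶ F ⋙ rP i) (hν : ∀ i, IsIso (ν i))
    (hβ : ∀ i J, IsIso (base adj (adj' i) (ν i) J))
    (hinj : ∀ i (J : P), Injective J → Injective ((rP i).obj J)) (hc : ∀ i, Computes (adj' i)) :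
    Computes adj := fun n L _ J _ _ e _ =>
  quasiIso_of_jointly rB hr _ fun i =>
    have := hν i
    quasiIso_map_tr adj (adj' i) (ν i) (hβ i) (hinj i) (hc i) n L J e

section Paste

variable {B : Type u₁} [Category.{v₁} B] {A : Type u₃} [Category.{v₃} A] {P : Type u₂} [Category.{v₂} P]
  {B' : Type u₁'} [Category.{v₁'} B'] {A' : Type u₃'} [Category.{v₃'} A'] {P' : Type u₂'} [Category.{v₂'} P']
  {Ext : B ⥤ A} {Res : A ⥤ B} (ae : Ext ⊣ Res) {I : A ⥤ P} {I₁ : P ⥤ A} (ai : I ⊣ I₁)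
  {Ext' : B' ⥤ A'} {Res' : A' ⥤ B'} (ae' : Ext' ⊣ Res') {I' : A' ⥤ P'} {I₁' : P' ⥤ A'} (ai' : I' ⊣ I₁')
  {rB : B ⥤ B'} {rA : A ⥤ A'} {rP : P ⥤ P'}
  (θ₁ : Res ⋙ rB ⟶ rA ⋙ Res') (θ₂ : rA ⋙ I' ⟶ I ⋙ rP)

/-- The comparison of the extensions. -/
noncomputable def ν₁ : rB ⋙ Ext' ⟶ Ext ⋙ rA where
  app L := (ae'.homEquiv _ _).symm (rB.map (ae.unit.app L) ≫ θ₁.app (Ext.obj L))
  naturality L L' f := by
    have h1 : rB.map (Res.map (Ext.map f)) ≫ θ₁.app (Ext.obj L') = θ₁.app (Ext.obj L) ≫ Res'.map (rA.map (Ext.map f)) :=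
      θ₁.naturality _
    simp only [Functor.comp_map]
    rw [← ae'.homEquiv_naturality_left_symm, ← ae'.homEquiv_naturality_right_symm, assoc, ← h1,
      ← rB.map_comp_assoc, ← rB.map_comp_assoc]
    exact congrArg (fun k => (ae'.homEquiv _ _).symm (rB.map k ≫ θ₁.app (Ext.obj L'))) (ae.unit.naturality f)

/-- The comparison of the composites. -/
noncomputable def νPaste : rB ⋙ Ext' ⋙ I' ⟶ (Ext ⋙ I) ⋙ rP where
  app L := I'.map ((ν₁ ae ae' θ₁).app L) ≫ θ₂.app (Ext.obj L)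
  naturality L L' f := by
    have h1 : Ext'.map (rB.map f) ≫ (ν₁ ae ae' θ₁).app L' = (ν₁ ae ae' θ₁).app L ≫ rA.map (Ext.map f) :=
      (ν₁ ae ae' θ₁).naturality f
    have h2 : I'.map (rA.map (Ext.map f)) ≫ θ₂.app (Ext.obj L') = θ₂.app (Ext.obj L) ≫ rP.map (I.map (Ext.map f)) :=
      θ₂.naturality _
    simp only [Functor.comp_map, assoc]
    rw [← I'.map_comp_assoc, h1, I'.map_comp_assoc, h2]

/-- The base change of the second square. -/
noncomputable def base₂ (J : P) : rA.obj (I₁.obj J) ⟶ I₁'.obj (rP.obj J) :=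
  ai'.homEquiv _ _ (θ₂.app (I₁.obj J) ≫ rP.map (ai.counit.app J))

lemma base₁_eq (Z : A) :
    ae'.homEquiv _ _ ((ν₁ ae ae' θ₁).app (Res.obj Z) ≫ rA.map (ae.counit.app Z)) = θ₁.app Z := by
  have h1 : rB.map (Res.map (ae.counit.app Z)) ≫ θ₁.app Z =
      θ₁.app (Ext.obj (Res.obj Z)) ≫ Res'.map (rA.map (ae.counit.app Z)) := θ₁.naturality _
  rw [ae'.homEquiv_naturality_right]
  refine (congrArg (· ≫ _) ((ae'.homEquiv _ _).apply_symm_apply _)).trans ?_
  rw [assoc, ← h1, ← rB.map_comp_assoc, ae.right_triangle_components, rB.map_id, id_comp]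

lemma base_paste (J : P) :
    (ae'.comp ai').homEquiv _ _ ((νPaste ae ae' θ₁ θ₂).app ((I₁ ⋙ Res).obj J) ≫ rP.map ((ae.comp ai).counit.app J)) =
      θ₁.app (I₁.obj J) ≫ Res'.map (base₂ ai ai' θ₂ J) := by
  have h2 : I'.map (rA.map (ae.counit.app (I₁.obj J))) ≫ θ₂.app (I₁.obj J) =
      θ₂.app (Ext.obj (Res.obj (I₁.obj J))) ≫ rP.map (I.map (ae.counit.app (I₁.obj J))) := θ₂.naturality _
  rw [Adjunction.comp_homEquiv, ← base₁_eq ae ae' θ₁ (I₁.obj J), base₂]
  refine Eq.trans ?_ (ae'.homEquiv_naturality_right _ _)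
  refine Eq.trans (congrArg (ae'.homEquiv _ _) ?_) rfl
  refine Eq.trans ?_ (ai'.homEquiv_naturality_left _ _)
  refine congrArg (ai'.homEquiv _ _) ?_
  simp only [νPaste, Adjunction.comp_counit_app, Functor.comp_obj, Functor.comp_map, Functor.id_obj, Functor.map_comp,
    assoc, reassoc_of% h2]

/-- The first comparison is an isomorphism when its conjugate is. -/
theorem isIso_ν₁ {ρB : B' ⥤ B} (aB : rB ⊣ ρB) {ρA : A' ⥤ A} (aA : rA ⊣ ρA)
    (h : ∀ W, IsIso (aB.homEquiv _ _ (θ₁.app (ρA.obj W) ≫ Res'.map (aA.counit.app W)))) :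
    IsIso (ν₁ ae ae' θ₁) := by
  have : ∀ L, IsIso ((ν₁ ae ae' θ₁).app L) := fun L => by
    refine isIso_of_coyoneda_map_bijective _ fun W => ?_
    have := h W
    let T := aB.homEquiv _ _ (θ₁.app (ρA.obj W) ≫ Res'.map (aA.counit.app W))
    let e₁ := ((aA.homEquiv (Ext.obj L) W).trans (ae.homEquiv L (ρA.obj W)))
    let e₂ := (aB.homEquiv L (Res'.obj W)).symm.trans (ae'.homEquiv (rB.obj L) W).symm
    have : (fun g : rA.obj (Ext.obj L) ⟶ W => (ν₁ ae ae' θ₁).app L ≫ g) =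
        e₂ ∘ (fun k => k ≫ T) ∘ e₁ := by
      funext g
      obtain ⟨k, rfl⟩ := (aA.homEquiv _ _).symm.surjective g
      obtain ⟨k, rfl⟩ := (ae.homEquiv _ _).symm.surjective k
      simp only [Function.comp_apply, e₁, e₂, T, Equiv.trans_apply, Equiv.apply_symm_apply]
      refine Eq.trans ?_ (congrArg (fun z => (ae'.homEquiv (rB.obj L) W).symm z)
        ((congrArg (fun z => (aB.homEquiv L (Res'.obj W)).symm z) (aB.homEquiv_naturality_left k _)).symm.trans
          ((aB.homEquiv _ _).symm_apply_apply _)).symm)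
      refine (Equiv.eq_symm_apply _).2 ?_
      refine (ae'.homEquiv_naturality_right _ _).trans ?_
      refine (congrArg (· ≫ _) ((ae'.homEquiv _ _).apply_symm_apply _)).trans ?_
      rw [aA.homEquiv_counit]
      refine (congrArg (_ ≫ ·) (Res'.map_comp _ _)).trans ?_
      have h1 : rB.map (Res.map ((ae.homEquiv L (ρA.obj W)).symm k)) ≫ θ₁.app (ρA.obj W) =
        θ₁.app (Ext.obj L) ≫ Res'.map (rA.map ((ae.homEquiv L (ρA.obj W)).symm k)) := θ₁.naturality _
      rw [assoc, ← reassoc_of% h1, ← rB.map_comp_assoc, ← ae.homEquiv_unit, Equiv.apply_symm_apply]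
    exact (congrArg Function.Bijective this).mpr
      (e₂.bijective.comp ((Iso.homToEquiv (asIso T)).bijective.comp e₁.bijective))
  exact NatIso.isIso_of_isIso_app _

end Paste

end Groth.L09.DerivedCrit
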