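import Mathlib.Algebra.TrivSqZeroExt.Basic
import Mathlib.RingTheory.Derivation.Basic
import Mathlib.LinearAlgebra.Finsupp.LSum

/-!
Universal property of a ring of differential operators `O[∂]` and its derivations.
-/

set_option autoImplicit false
universe u v w x

open scoped BigOperators

namespace Groth.L09.DiffOp

variable {K : Type u} [CommRing K] {O : Type v} [CommRing O] [Algebra K O] (δ : O → O)
  {D : Type w} [Ring D] [Algebra K D] (ι : O →ₐ[K] D) (d : D)
  (hd : ∀ f : O, d * ι f = ι f * d + ι (δ f))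
  (hbasis : Function.Bijective (fun c : ℕ →₀ O => c.sum (fun i f => ι f * d ^ i)))

include hbasis in
lemma induction_on {motive : D → Prop} (h0 : motive 0) (hadd : ∀ P Q, motive P → motive Q → motive (P + Q))
    (hsingle : ∀ f i, motive (ι f * d ^ i)) (P : D) : motive P := by
  obtain ⟨c, rfl⟩ := hbasis.2 P
  exact Finset.sum_induction _ motive hadd h0 fun i _ => hsingle _ _

include hd hbasis in
lemma exists_algHom {A : Type x} [Ring A] [Algebra K A] (φ : O →ₐ[K] A) (T : A)
    (hT : ∀ f : O, T * φ f = φ f * T + φ (δ f)) :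
    ∃ Φ : D →ₐ[K] A, (∀ f, Φ (ι f) = φ f) ∧ Φ d = T := by
  let L : (ℕ →₀ O) →ₗ[K] D := Finsupp.lsum K fun i => (LinearMap.mulRight K (d ^ i)).comp ι.toLinearMap
  have hL : Function.Bijective L := by
    have : (L : (ℕ →₀ O) → D) = fun c => c.sum (fun i f => ι f * d ^ i) := funext fun c => rfl
    rw [this]
    exact hbasis
  let e := LinearEquiv.ofBijective L hL
  let Φ : D →ₗ[K] A := (Finsupp.lsum K fun i => (LinearMap.mulRight K (T ^ i)).comp φ.toLinearMap).comp e.symm.toLinearMap
  have hΦ : ∀ f i, Φ (ι f * d ^ i) = φ f * T ^ i := fun f i => by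
    have h1 : e (Finsupp.single i f) = ι f * d ^ i := by
      show L _ = _
      simp [L]
    show (Finsupp.lsum K fun i => (LinearMap.mulRight K (T ^ i)).comp φ.toLinearMap) (e.symm (ι f * d ^ i)) = _
    rw [← h1, LinearEquiv.symm_apply_apply]
    simp
  have hι : ∀ f, Φ (ι f) = φ f := fun f => by simpa using hΦ f 0
  have hdT : Φ d = T := by simpa using hΦ 1 1
  have hmι : ∀ f Q, Φ (ι f * Q) = φ f * Φ Q := fun f Q => by
    induction Q using induction_on ι d hbasis with
    | h0 => simp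
    | hadd P Q hP hQ => rw [mul_add, map_add, hP, hQ, map_add, mul_add]
    | hsingle g i => rw [← mul_assoc, ← map_mul, hΦ, hΦ, map_mul, mul_assoc]
  have hmd : ∀ Q, Φ (d * Q) = T * Φ Q := fun Q => by
    induction Q using induction_on ι d hbasis with
    | h0 => simp
    | hadd P Q hP hQ => rw [mul_add, map_add, hP, hQ, map_add, mul_add]
    | hsingle g i =>
      rw [← mul_assoc, hd, add_mul, mul_assoc, ← pow_succ', map_add, hΦ, hΦ, hΦ, ← mul_assoc T, hT, add_mul,
        pow_succ', mul_assoc]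
  have hmul : ∀ P Q, Φ (P * Q) = Φ P * Φ Q := fun P Q => by
    induction P using induction_on ι d hbasis with
    | h0 => simp
    | hadd P P' hP hP' => rw [add_mul, map_add, hP, hP', map_add, add_mul]
    | hsingle f i =>
      induction i generalizing Q with
      | zero => rw [pow_zero, mul_one, hmι, hι]
      | succ i ih =>
        rw [pow_succ, ← mul_assoc, mul_assoc _ d Q, ih, hmd]
        conv_rhs => rw [mul_assoc, ← pow_succ, hΦ, pow_succ, ← mul_assoc]
        rw [hΦ, mul_assoc (φ f * T ^ i)]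
  exact ⟨AlgHom.ofLinearMap Φ (by rw [← map_one ι, hι, map_one]) hmul, hι, hdT⟩

include hbasis in
lemma hom_unique {A : Type x} [Ring A] [Algebra K A] {Φ Ψ : D →ₐ[K] A} (h₁ : ∀ f, Φ (ι f) = Ψ (ι f))
    (h₂ : Φ d = Ψ d) : Φ = Ψ := by
  ext P
  induction P using induction_on ι d hbasis with
  | h0 => simp
  | hadd P Q hP hQ => rw [map_add, hP, hQ, map_add]
  | hsingle f i => rw [map_mul, map_pow, h₁, h₂, map_mul, map_pow]

variable {E : Type x} [AddCommGroup E] [Module K E] (ρ : D →ₐ[K] Module.End K E)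

include hd in
lemma der_relation (s : D →ₗ[K] Module.End K E) (hs : ∀ P Q : D, s (P * Q) = s P * ρ Q + ρ P * s Q) (f : O) :
    (s (ι f) * ρ d - ρ d * s (ι f)) + (ρ (ι f) * s d - s d * ρ (ι f)) + s (ι (δ f)) = 0 := by
  have h := congrArg s (hd f)
  rw [map_add, hs, hs] at h
  have h3 : s (ι (δ f)) = s d * ρ (ι f) + ρ d * s (ι f) - (s (ι f) * ρ d + ρ (ι f) * s d) := by
    rw [h]; abel
  rw [h3]; abel

include hd hbasis in
lemma existsUnique_der (r : O →ₗ[K] Module.End K E) (v : Module.End K E)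
    (hr : ∀ f g : O, r (f * g) = r f * ρ (ι g) + ρ (ι f) * r g)
    (hrel : ∀ f : O, (r f * ρ d - ρ d * r f) + (ρ (ι f) * v - v * ρ (ι f)) + r (δ f) = 0) :
    ∃! s : D →ₗ[K] Module.End K E,
      (∀ P Q : D, s (P * Q) = s P * ρ Q + ρ P * s Q) ∧ s ∘ₗ ι.toLinearMap = r ∧ s d = v := by
  have r1 : r 1 = 0 := by
    have := hr 1 1
    simp only [map_one, mul_one, one_mul] at this
    exact left_eq_add.1 this
  let φl : O →ₗ[K] TrivSqZeroExt (Module.End K E) (Module.End K E) :=
    { toFun := fun f => TrivSqZeroExt.inl (ρ (ι f)) + TrivSqZeroExt.inr (r f)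
      map_add' := fun f g => by ext <;> simp
      map_smul' := fun c f => by ext <;> simp }
  let φ : O →ₐ[K] TrivSqZeroExt (Module.End K E) (Module.End K E) := AlgHom.ofLinearMap φl (by ext <;> simp [φl, r1]) (fun f g => by
    ext <;> simp [φl, hr]
    abel)
  let T : TrivSqZeroExt (Module.End K E) (Module.End K E) := TrivSqZeroExt.inl (ρ d) + TrivSqZeroExt.inr v
  obtain ⟨Φ, hΦι, hΦd⟩ := exists_algHom δ ι d hd hbasis φ T (fun f => by
    have h := hrel f
    have hf : ρ d * ρ (ι f) = ρ (ι f) * ρ d + ρ (ι (δ f)) := by rw [← map_mul, hd, map_add, map_mul]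
    ext : 1
    · simp [φ, φl, T, hf]
    · simp [φ, φl, T]
      have h3 : r (δ f) = ρ d * r f + v * ρ (ι f) - (r f * ρ d + ρ (ι f) * v) := by
        refine eq_of_sub_eq_zero ?_
        rw [← h]; abel
      rw [h3]; abel)
  have hfst : ∀ P, (Φ P).fst = ρ P := fun P => AlgHom.congr_fun (hom_unique (A := Module.End K E) ι d hbasis
    (Φ := (TrivSqZeroExt.fstHom K (Module.End K E) (Module.End K E)).comp Φ) (Ψ := ρ)
    (fun f => by simp [hΦι, φ, φl]) (by simp [hΦd, T])) P
  refine ⟨{ toFun := fun P => (Φ P).snd, map_add' := fun P Q => by simp, map_smul' := fun c P => by simp },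
    ⟨fun P Q => ?_, ?_, ?_⟩, ?_⟩
  · show (Φ (P * Q)).snd = (Φ P).snd * ρ Q + ρ P * (Φ Q).snd
    simp [hfst]
    abel
  · ext1 f
    show (Φ (ι f)).snd = r f
    simp [hΦι, φ, φl]
  · show (Φ d).snd = v
    simp [hΦd, T]
  rintro s ⟨hs, hsι, hsd⟩
  ext1 P
  show s P = (Φ P).snd
  induction P using induction_on ι d hbasis with
  | h0 => simp
  | hadd P Q hP hQ => rw [map_add, hP, hQ, map_add, TrivSqZeroExt.snd_add]
  | hsingle f i =>
    induction i with
    | zero =>
      rw [pow_zero, mul_one, hΦι]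
      simpa [φ, φl] using LinearMap.congr_fun hsι f
    | succ i ih =>
      rw [pow_succ, ← mul_assoc, hs, hsd, ih, map_mul Φ]
      simp [hfst, hΦd, T, add_mul]
      abel

end Groth.L09.DiffOp
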