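import Mathlib.CategoryTheory.Abelian.Refinements
import Mathlib.CategoryTheory.Abelian.Exact
import Mathlib.CategoryTheory.Subobject.Limits
import Mathlib.CategoryTheory.Subobject.ArtinianObject
import Mathlib.CategoryTheory.Limits.Preserves.Shapes.Kernels
import Mathlib.CategoryTheory.Preadditive.AdditiveFunctor
import Mathlib.Algebra.Group.Nat.Defs
import Mathlib.Data.Nat.Factorial.Basic

/-!
Divisible subobjects and images of multiplication maps in abelian categories, in terms of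
"elements up to refinements".
-/

set_option autoImplicit false

open CategoryTheory CategoryTheory.Limits

universe v u v' u'

namespace Groth.L09.Divisible

variable {V : Type u} [Category.{v} V] [Abelian V]

/-- The element `y` lies in the image of `f`, up to refinement. -/
def InImg {X Y T : V} (f : X ⟶ Y) (y : T ⟶ Y) : Prop :=
  ∃ (T' : V) (π : T' ⟶ T) (_ : Epi π) (x : T' ⟶ X), π ≫ y = x ≫ f

lemma factors_of_epi_comp {Y T T' : V} (P : Subobject Y) (π : T' ⟶ T) [Epi π] (y : T ⟶ Y)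
    (h : P.Factors (π ≫ y)) : P.Factors y := by
  have hπ : StrongEpi π := strongEpi_of_epi π
  have sq : CommSq (P.factorThru _ h) π P.arrow y := ⟨P.factorThru_arrow _ h⟩
  exact (Subobject.factors_iff _ _).2 ⟨sq.lift, sq.fac_right⟩

lemma factors_image_iff {X Y T : V} (f : X ⟶ Y) (y : T ⟶ Y) :
    (imageSubobject f).Factors y ↔ InImg f y := by
  constructor
  · intro h
    obtain ⟨T', π, hπ, x, hx⟩ := surjective_up_to_refinements_of_epi
      (factorThruImageSubobject f) ((imageSubobject f).factorThru y h)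
    refine ⟨T', π, hπ, x, ?_⟩
    have h1 := hx =≫ (imageSubobject f).arrow
    simpa using h1
  · rintro ⟨T', π, hπ, x, hx⟩
    refine factors_of_epi_comp _ π y ?_
    rw [hx]
    exact Subobject.factors_of_factors_right _ (imageSubobject_factors_comp_self f (𝟙 _) |>
      fun h => by simpa using h)

lemma le_iff_factors {Y : V} (D P : Subobject Y) : D ≤ P ↔ P.Factors D.arrow :=
  ⟨fun h => Subobject.factors_of_le _ h D.factors_self,
    fun h => Subobject.le_of_comm (P.factorThru _ h) (P.factorThru_arrow _ h)⟩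

lemma le_image_iff {X Y : V} (f : X ⟶ Y) (D : Subobject Y) :
    D ≤ imageSubobject f ↔ InImg f D.arrow :=
  (le_iff_factors _ _).trans (factors_image_iff f _)

lemma image_le_iff {X Y : V} (f : X ⟶ Y) (P : Subobject Y) :
    imageSubobject f ≤ P ↔ P.Factors f := by
  constructor
  · exact fun h => Subobject.factors_of_le _ h ((factors_image_iff f f).2
      ⟨X, 𝟙 X, inferInstance, 𝟙 X, rfl⟩)
  · exact fun h => imageSubobject_le f (P.factorThru _ h) (P.factorThru_arrow _ h)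

lemma InImg.comp {X Y T S : V} {f : X ⟶ Y} {y : T ⟶ Y} (h : InImg f y) (g : S ⟶ T) :
    InImg f (g ≫ y) :=
  (factors_image_iff _ _).1 (Subobject.factors_of_factors_right g ((factors_image_iff _ _).2 h))

lemma InImg.of_epi_comp {X Y T T' : V} {f : X ⟶ Y} {y : T ⟶ Y} (π : T' ⟶ T) [Epi π]
    (h : InImg f (π ≫ y)) : InImg f y :=
  (factors_image_iff _ _).1 (factors_of_epi_comp _ π y ((factors_image_iff _ _).2 h))

lemma InImg.self {X Y T : V} (f : X ⟶ Y) (x : T ⟶ X) : InImg f (x ≫ f) :=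
  ⟨T, 𝟙 T, inferInstance, x, Category.id_comp _⟩

lemma InImg.trans {X Y Z T : V} {f : X ⟶ Y} {g : Z ⟶ Y} {y : T ⟶ Y} (h : InImg f y)
    (hfg : InImg g f) : InImg g y :=
  (factors_image_iff _ _).1 (Subobject.factors_of_le _
    ((image_le_iff _ _).2 ((factors_image_iff _ _).2 hfg)) ((factors_image_iff _ _).2 h))

section Mult

variable {A : V}

lemma comp_mul {T : V} (a : T ⟶ A) (n : ℕ) : a ≫ (n • 𝟙 A) = n • a := by
  rw [Preadditive.comp_nsmul, Category.comp_id]

lemma mul_comp {T : V} (a : A ⟶ T) (n : ℕ) : (n • 𝟙 A) ≫ a = n • a := by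
  rw [Preadditive.nsmul_comp, Category.id_comp]

lemma smul_kernel_ι (n : ℕ) : n • kernel.ι (n • 𝟙 A) = 0 :=
  (comp_mul _ n).symm.trans (kernel.condition _)

lemma inImg_smul {T : V} (a : T ⟶ A) (n : ℕ) : InImg (n • 𝟙 A) (n • a) := by
  exact (comp_mul a n) ▸ InImg.self (n • 𝟙 A) a

/-- Divisibility (`k • 𝟙 D` epi) in terms of elements. -/
lemma exists_smul_eq {D T : V} {k : ℕ} (h : Epi (k • 𝟙 D)) (u : T ⟶ D) :
    ∃ (T' : V) (π : T' ⟶ T) (_ : Epi π) (x : T' ⟶ D), π ≫ u = k • x := by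
  obtain ⟨T', π, hπ, x, hx⟩ := surjective_up_to_refinements_of_epi (k • 𝟙 D) u
  exact ⟨T', π, hπ, x, by rw [hx, comp_mul]⟩

lemma inImg_mul_iff {T : V} (n : ℕ) (u : T ⟶ A) :
    InImg (n • 𝟙 A) u ↔ ∃ (T' : V) (π : T' ⟶ T) (_ : Epi π) (x : T' ⟶ A), π ≫ u = n • x := by
  simp only [InImg, comp_mul]

lemma inImg_of_dvd {T : V} {a b : ℕ} (h : a ∣ b) {u : T ⟶ A} (hu : InImg (b • 𝟙 A) u) :
    InImg (a • 𝟙 A) u := by
  refine hu.trans ?_
  obtain ⟨c, rfl⟩ := h
  rw [mul_smul]
  exact inImg_smul _ _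

/-- A subobject on which `k` is epi lies in the image of `k`. -/
lemma le_image_of_epi (D : Subobject A) {k : ℕ} (h : Epi (k • 𝟙 (D : V))) :
    D ≤ imageSubobject (k • 𝟙 A) := by
  rw [le_image_iff, inImg_mul_iff]
  obtain ⟨T', π, hπ, x, hx⟩ := exists_smul_eq h (𝟙 (D : V))
  exact ⟨T', π, hπ, x ≫ D.arrow, by
    rw [← Preadditive.nsmul_comp, ← hx, Category.comp_id]⟩

lemma epi_of_le_image (D : Subobject A) {k : ℕ}
    (h : D ≤ imageSubobject (D.arrow ≫ (k • 𝟙 A))) : Epi (k • 𝟙 (D : V)) := by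
  rw [le_image_iff] at h
  obtain ⟨T', π, hπ, x, hx⟩ := h
  have e : x ≫ (k • 𝟙 (D : V)) = π := by
    rw [← cancel_mono D.arrow, hx]
    rw [Category.assoc, mul_comp, comp_mul]
  exact epi_of_epi_fac e

/-- If `p • 𝟙` has full image on an image of multiplication by `m`. -/
lemma epi_on_image_of_le {m k : ℕ}
    (h : imageSubobject (m • 𝟙 A) ≤ imageSubobject ((k * m) • 𝟙 A)) :
    Epi (k • 𝟙 ((imageSubobject (m • 𝟙 A) : Subobject A) : V)) := by
  refine epi_of_le_image _ (h.trans ?_)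
  rw [image_le_iff, factors_image_iff]
  refine ⟨A, 𝟙 A, inferInstance, factorThruImageSubobject (m • 𝟙 A), ?_⟩
  rw [Category.id_comp, ← Category.assoc, imageSubobject_arrow_comp, mul_comp, ← mul_smul, mul_comm]

lemma smul_coker_eq_zero {D : Subobject A} {m : ℕ} :
    m • 𝟙 (cokernel D.arrow) = 0 ↔ imageSubobject (m • 𝟙 A) ≤ D := by
  rw [image_le_iff]
  constructor
  · intro h
    have e : (m • 𝟙 A) ≫ cokernel.π D.arrow = 0 := by
      have h1 := cokernel.π D.arrow ≫= h
      rw [comp_mul, comp_zero] at h1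
      rw [mul_comp, h1]
    exact (Subobject.factors_iff _ _).2 ⟨Abelian.monoLift D.arrow _ e, Abelian.monoLift_comp _ _ e⟩
  · intro h
    rw [← cancel_epi (cokernel.π D.arrow), comp_zero, comp_mul, ← mul_comp,
      ← D.factorThru_arrow _ h, Category.assoc, cokernel.condition, comp_zero]

/-- A divisible subobject with quotient killed by `M` is exactly the image of any multiple of `M`. -/
lemma eq_image_of_dvd {B' : Subobject A} (hB : ∀ k : ℕ, 0 < k → Epi (k • 𝟙 (B' : V)))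
    {M : ℕ} (hM : M • 𝟙 (cokernel B'.arrow) = 0) {L : ℕ} (hL : 0 < L) (hML : M ∣ L) :
    imageSubobject (L • 𝟙 A) = B' := by
  refine le_antisymm ?_ (le_image_of_epi _ (hB L hL))
  refine le_trans ?_ (smul_coker_eq_zero.1 hM)
  rw [image_le_iff, factors_image_iff]
  exact inImg_of_dvd hML (by simpa using InImg.self (L • 𝟙 A) (𝟙 A))

lemma le_of_divisible {B' : Subobject A} {M : ℕ} (hM0 : 0 < M)
    (hM : M • 𝟙 (cokernel B'.arrow) = 0) (D : Subobject A)
    (hD : ∀ k : ℕ, 0 < k → Epi (k • 𝟙 (D : V))) : D ≤ B' :=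
  (le_image_of_epi D (hD M hM0)).trans (smul_coker_eq_zero.1 hM)

/-- Mittag-Leffler for the multiplication system. -/
lemma ml_iff :
    (∀ n : ℕ, 0 < n → ∃ m : ℕ, 0 < m ∧ n ∣ m ∧ ∀ m' : ℕ, 0 < m' → m ∣ m' →
        imageSubobject ((m' / n) • 𝟙 A) = imageSubobject ((m / n) • 𝟙 A)) ↔
      ∃ B' : Subobject A, (∀ k : ℕ, 0 < k → Epi (k • 𝟙 (B' : V))) ∧
        ∃ M : ℕ, 0 < M ∧ M • 𝟙 (cokernel B'.arrow) = 0 := by
  constructor
  · intro h
    obtain ⟨m, hm, -, hst⟩ := h 1 one_pos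
    refine ⟨imageSubobject (m • 𝟙 A), fun k hk => epi_on_image_of_le (le_of_eq ?_),
      m, hm, smul_coker_eq_zero.2 le_rfl⟩
    simpa using (hst (k * m) (Nat.mul_pos hk hm) (dvd_mul_left m k)).symm
  · rintro ⟨B', hB, M, hM0, hM⟩ n hn
    refine ⟨n * M, Nat.mul_pos hn hM0, dvd_mul_right n M, ?_⟩
    rintro m' hm' ⟨c, rfl⟩
    rw [mul_assoc, Nat.mul_div_cancel_left _ hn, Nat.mul_div_cancel_left _ hn,
      eq_image_of_dvd hB hM hM0 dvd_rfl,
      eq_image_of_dvd hB hM (Nat.pos_of_ne_zero fun h0 => by rw [mul_assoc, h0, mul_zero] at hm'; exact hm'.false)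
        (dvd_mul_right M c)]

end Mult

section Ess

variable {C : Type u'} [Category.{v'} C] [Abelian C] (F : C ⥤ V) [F.Full] [F.Faithful]
  [PreservesFiniteLimits F] [PreservesFiniteColimits F]

lemma ess_kernel {X Y : V} (hX : F.essImage X) (hY : F.essImage Y) (f : X ⟶ Y) :
    F.essImage (kernel f) := by
  obtain ⟨X₀, ⟨i⟩⟩ := hX
  obtain ⟨Y₀, ⟨j⟩⟩ := hY
  haveI := F.additive_of_preserves_binary_products
  refine ⟨kernel (F.preimage (i.hom ≫ f ≫ j.inv)), ⟨PreservesKernel.iso F _ ≪≫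
    kernel.mapIso _ _ i j ?_⟩⟩
  simp

lemma ess_cokernel {X Y : V} (hX : F.essImage X) (hY : F.essImage Y) (f : X ⟶ Y) :
    F.essImage (cokernel f) := by
  obtain ⟨X₀, ⟨i⟩⟩ := hX
  obtain ⟨Y₀, ⟨j⟩⟩ := hY
  haveI := F.additive_of_preserves_binary_products
  refine ⟨cokernel (F.preimage (i.hom ≫ f ≫ j.inv)), ⟨PreservesCokernel.iso F _ ≪≫
    cokernel.mapIso _ _ i j ?_⟩⟩
  simp

lemma ess_of_iso {X Y : V} (hX : F.essImage X) (e : X ≅ Y) : F.essImage Y :=
  ⟨hX.choose, ⟨hX.choose_spec.some ≪≫ e⟩⟩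

/-- The image of a morphism between objects of the essential image is in it. -/
lemma ess_of_epi_mono {X K Y : V} (hX : F.essImage X) (hY : F.essImage Y) (e : X ⟶ K) (j : K ⟶ Y)
    [Epi e] [Mono j] : F.essImage K := by
  have h1 : F.essImage (cokernel (kernel.ι (e ≫ j))) :=
    ess_cokernel F (ess_kernel F hX hY (e ≫ j)) hX _
  have hc := Abelian.epiIsCokernelOfKernel _ (kernelIsKernel e)
  refine ess_of_iso F h1 ?_
  refine cokernel.mapIso (kernel.ι (e ≫ j)) (kernel.ι e) (kernelCompMono e j) (Iso.refl _) ?_ ≪≫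
    (cokernelIsCokernel (kernel.ι e)).coconePointUniqueUpToIso hc
  simp

variable {A : V} (hA : ∀ n : ℕ, 0 < n → F.essImage (kernel (n • 𝟙 A)))

include hA in
/-- The `n`-torsion of a subobject squeezed by the image of `K`. -/
lemma ess_torsion {n K : ℕ} (hn : 0 < n) (hK : 0 < K) (D : Subobject A)
    (h1 : ∀ ⦃T : V⦄ (u : T ⟶ A), n • u = 0 → InImg (K • 𝟙 A) u → D.Factors u)
    (h2 : InImg (K • 𝟙 A) (kernel.ι (n • 𝟙 (D : V)) ≫ D.arrow)) :
    F.essImage (kernel (n • 𝟙 (D : V))) := by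
  let s : kernel ((n * K) • 𝟙 A) ⟶ A := K • kernel.ι _
  have hs : n • s = 0 := by
    rw [← mul_smul]; exact smul_kernel_ι _
  have hsD : D.Factors s := h1 s hs (inImg_smul _ _)
  let e : kernel ((n * K) • 𝟙 A) ⟶ kernel (n • 𝟙 (D : V)) :=
    kernel.lift _ (D.factorThru s hsD) (by
      rw [← cancel_mono D.arrow, comp_mul, Preadditive.nsmul_comp, Subobject.factorThru_arrow,
        hs, zero_comp])
  let j : kernel (n • 𝟙 (D : V)) ⟶ kernel (n • 𝟙 A) :=
    kernel.lift _ (kernel.ι _ ≫ D.arrow) (by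
      rw [comp_mul, ← Preadditive.nsmul_comp, smul_kernel_ι, zero_comp])
  haveI : Mono (j ≫ kernel.ι _) := by simp only [j, kernel.lift_ι]; infer_instance
  haveI : Mono j := mono_of_mono j (kernel.ι _)
  haveI : Epi e := by
    obtain ⟨T', π, hπ, x, hx⟩ := (inImg_mul_iff _ _).1 h2
    have hx0 : x ≫ ((n * K) • 𝟙 A) = 0 := by
      rw [comp_mul, mul_smul, ← hx, ← Preadditive.comp_nsmul, ← Preadditive.nsmul_comp,
        smul_kernel_ι, zero_comp, comp_zero]
    have he : kernel.lift _ x hx0 ≫ e = π := by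
      rw [← cancel_mono (kernel.ι (n • 𝟙 (D : V))), ← cancel_mono D.arrow]
      simp only [e, s, Category.assoc, kernel.lift_ι_assoc, Subobject.factorThru_arrow,
        Preadditive.comp_nsmul, kernel.lift_ι]
      rw [hx]
    exact epi_of_epi_fac he
  exact ess_of_epi_mono F (hA _ (Nat.mul_pos hn hK)) (hA _ hn) e j

include hA in
/-- The `n`-torsion of the quotient by a divisible subobject. -/
lemma ess_torsion_quot {n : ℕ} (hn : 0 < n) (D : Subobject A) (hdiv : Epi (n • 𝟙 (D : V)))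
    (hD : F.essImage (kernel (n • 𝟙 (D : V)))) :
    F.essImage (kernel (n • 𝟙 (cokernel D.arrow))) := by
  let j : kernel (n • 𝟙 (D : V)) ⟶ kernel (n • 𝟙 A) :=
    kernel.lift _ (kernel.ι _ ≫ D.arrow) (by
      rw [comp_mul, ← Preadditive.nsmul_comp, smul_kernel_ι, zero_comp])
  let e : kernel (n • 𝟙 A) ⟶ kernel (n • 𝟙 (cokernel D.arrow)) :=
    kernel.lift _ (kernel.ι _ ≫ cokernel.π D.arrow) (by
      rw [comp_mul, ← Preadditive.nsmul_comp, smul_kernel_ι, zero_comp])
  have w : j ≫ e = 0 := by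
    rw [← cancel_mono (kernel.ι _), Category.assoc, kernel.lift_ι, kernel.lift_ι_assoc,
      Category.assoc, cokernel.condition, comp_zero, zero_comp]
  haveI : Epi e := by
    rw [epi_iff_surjective_up_to_refinements]
    intro T y
    obtain ⟨T₁, π₁, hπ₁, a, ha⟩ :=
      surjective_up_to_refinements_of_epi (cokernel.π D.arrow) (y ≫ kernel.ι _)
    have h0 : (n • a) ≫ cokernel.π D.arrow = 0 := by
      rw [Preadditive.nsmul_comp, ← ha, ← Preadditive.comp_nsmul, ← Preadditive.comp_nsmul,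
        smul_kernel_ι, comp_zero, comp_zero]
    obtain ⟨d, hd⟩ : ∃ d, d ≫ D.arrow = n • a :=
      ⟨Abelian.monoLift D.arrow _ h0, Abelian.monoLift_comp _ _ h0⟩
    obtain ⟨T₂, π₂, hπ₂, d', hd'⟩ := exists_smul_eq hdiv d
    refine ⟨T₂, π₂ ≫ π₁, inferInstance, kernel.lift _ (π₂ ≫ a - d' ≫ D.arrow) ?_, ?_⟩
    · rw [comp_mul, smul_sub, ← Preadditive.comp_nsmul, ← hd, ← Category.assoc, hd',
        Preadditive.nsmul_comp, sub_self]
    · rw [← cancel_mono (kernel.ι _)]
      simp [e, ha]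
  have hex : (ShortComplex.mk j e w).Exact := by
    rw [ShortComplex.exact_iff_exact_up_to_refinements]
    intro T x hx
    dsimp only at x hx ⊢
    have h0 : (x ≫ kernel.ι _) ≫ cokernel.π D.arrow = 0 := by
      have h1 := hx =≫ kernel.ι _
      simpa [e] using h1
    obtain ⟨d, hd⟩ : ∃ d, d ≫ D.arrow = x ≫ kernel.ι _ :=
      ⟨Abelian.monoLift D.arrow _ h0, Abelian.monoLift_comp _ _ h0⟩
    refine ⟨T, 𝟙 T, inferInstance, kernel.lift _ d ?_, ?_⟩
    · rw [← cancel_mono D.arrow, comp_mul, Preadditive.nsmul_comp, hd, ← Preadditive.comp_nsmul,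
        smul_kernel_ι, comp_zero, zero_comp]
    · rw [← cancel_mono (kernel.ι _)]
      simp [j, hd]
  exact ess_of_iso F (ess_cokernel F hD (hA n hn) j)
    ((cokernelIsCokernel j).coconePointUniqueUpToIso hex.gIsCokernel)

include hA in
/-- A quotient by a divisible subobject that is killed by `M` lies in the essential image. -/
lemma ess_coker {M : ℕ} (hM0 : 0 < M) (D : Subobject A)
    (hdiv : ∀ k : ℕ, 0 < k → Epi (k • 𝟙 (D : V))) (hM : M • 𝟙 (cokernel D.arrow) = 0) :
    F.essImage (cokernel D.arrow) := by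
  have h := ess_torsion_quot F hA hM0 D (hdiv M hM0) (ess_torsion F hA hM0 hM0 D
    (fun T u _ hu => Subobject.factors_of_le _ (smul_coker_eq_zero.1 hM)
      ((factors_image_iff _ _).2 hu))
    ((((le_image_iff _ _).1 (le_image_of_epi D (hdiv M hM0)))).comp _))
  haveI : IsIso (kernel.ι (M • 𝟙 (cokernel D.arrow))) :=
    ⟨⟨kernel.lift _ (𝟙 _) (by rw [hM, comp_zero]), by rw [← cancel_mono (kernel.ι _)]; simp,
      kernel.lift_ι _ _ _⟩⟩
  exact ess_of_iso F h (asIso (kernel.ι (M • 𝟙 (cokernel D.arrow))))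

include hA in
/-- Stabilisation of the images of multiplication inside the `n`-torsion. -/
lemma exists_stab (hart : ∀ X : C, IsArtinianObject X) {n : ℕ} (hn : 0 < n) :
    ∃ K : ℕ, 0 < K ∧ ∀ L : ℕ, 0 < L → ∀ ⦃T : V⦄ (u : T ⟶ A), n • u = 0 →
      InImg (K • 𝟙 A) u → InImg (L • 𝟙 A) u := by
  obtain ⟨X, ⟨i⟩⟩ := hA n hn
  have hY : ∀ k : ℕ, ∃ (Y : C), Nonempty (F.obj Y ≅ kernel ((n * k.factorial) • 𝟙 A)) :=
    fun k => hA _ (Nat.mul_pos hn k.factorial_pos)
  choose Y hY using hY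
  let iY := fun k => (hY k).some
  let g : ∀ k : ℕ, kernel ((n * k.factorial) • 𝟙 A) ⟶ kernel (n • 𝟙 A) := fun k =>
    kernel.lift _ (k.factorial • kernel.ι _) (by
      rw [comp_mul, ← mul_smul]; exact smul_kernel_ι _)
  let f : ∀ k : ℕ, Y k ⟶ X := fun k => F.preimage ((iY k).hom ≫ g k ≫ i.inv)
  have anti : ∀ k, imageSubobject (f (k + 1)) ≤ imageSubobject (f k) := by
    intro k
    let t : kernel ((n * (k + 1).factorial) • 𝟙 A) ⟶ kernel ((n * k.factorial) • 𝟙 A) :=
      kernel.lift _ ((k + 1) • kernel.ι _) (by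
        rw [comp_mul, ← mul_smul, show n * k.factorial * (k + 1) = n * (k + 1).factorial by
          rw [Nat.factorial_succ, mul_assoc, mul_comm k.factorial]]
        exact smul_kernel_ι _)
    have ht : t ≫ g k = g (k + 1) := by
      rw [← cancel_mono (kernel.ι _)]
      simp only [t, g, Category.assoc, kernel.lift_ι, Preadditive.comp_nsmul]
      rw [← mul_smul, show k.factorial * (k + 1) = (k + 1).factorial by
        rw [Nat.factorial_succ, mul_comm]]
    have hf : F.preimage ((iY (k + 1)).hom ≫ t ≫ (iY k).inv) ≫ f k = f (k + 1) := by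
      apply F.map_injective
      simp [f, reassoc_of% ht]
    rw [← hf]
    exact imageSubobject_comp_le _ _
  have mono' : Antitone (fun k => imageSubobject (f k)) := antitone_nat_of_succ_le anti
  haveI := hart X
  obtain ⟨N, hN⟩ := antitone_chain_condition_of_isArtinianObject
    ⟨fun k => imageSubobject (f k), fun a b h => mono' h⟩
  refine ⟨N.factorial, N.factorial_pos, fun L hL T u hnu hu => ?_⟩
  obtain ⟨T₁, π₁, hπ₁, x, hx⟩ := (inImg_mul_iff _ _).1 hu
  let M := max N L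
  have hle : imageSubobject (f N) ≤ imageSubobject (f M) := le_of_eq (hN M (le_max_left _ _))
  obtain ⟨Z, q, hq, y, hy⟩ :=
    (factors_image_iff _ _).1 ((image_le_iff _ _).1 hle)
  haveI : Epi (F.map q) := inferInstance
  let x' : T₁ ⟶ F.obj (Y N) := kernel.lift _ x (by
    rw [comp_mul, mul_smul, ← hx, ← Preadditive.comp_nsmul, hnu, comp_zero]) ≫ (iY N).inv
  obtain ⟨T₂, π₂, hπ₂, z, hz⟩ := surjective_up_to_refinements_of_epi (F.map q) x'
  have key : (π₂ ≫ π₁) ≫ u = (z ≫ F.map y ≫ (iY M).hom ≫ kernel.ι _) ≫ (M.factorial • 𝟙 A) := by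
    have h1 := congrArg F.map hy
    simp only [Functor.map_comp, f, Functor.map_preimage] at h1
    have h2 := z ≫= (h1 =≫ (i.hom ≫ kernel.ι _))
    simp only [Category.assoc] at h2
    rw [← reassoc_of% hz] at h2
    simp [x', g, Preadditive.comp_nsmul] at h2
    rw [comp_mul, Category.assoc π₂, hx]
    simpa [Preadditive.comp_nsmul] using h2
  have h3 : InImg (M.factorial • 𝟙 A) ((π₂ ≫ π₁) ≫ u) := by rw [key]; exact InImg.self _ _
  exact inImg_of_dvd (Nat.dvd_factorial hL (le_max_right _ _)) (InImg.of_epi_comp _ h3)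

end Ess

end Groth.L09.Divisible
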