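import Groth.Agent.L09.Divisible
import Mathlib.CategoryTheory.Abelian.Indization
import Mathlib.CategoryTheory.Abelian.GrothendieckAxioms.Indization
import Mathlib.CategoryTheory.Limits.Indization.Category
import Mathlib.RingTheory.Int.Basic
import Mathlib.RingTheory.Coprime.Lemmas
import Mathlib.Tactic.Ring
import Mathlib.Data.Nat.Factorization.Basic
import Mathlib.Algebra.BigOperators.Group.Finset.Basic

/-!
Cofinite type ind-objects: elements and torsion.
-/

set_option autoImplicit false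

open CategoryTheory CategoryTheory.Limits

universe v

namespace Groth.L09.Divisible

variable {C : Type v} [SmallCategory C] [Abelian C]

lemma ind_hom_ext {A Z : Ind C} {f g : A ⟶ Z}
    (h : ∀ (X : C) (x : Ind.yoneda.obj X ⟶ A), x ≫ f = x ≫ g) : f = g := by
  apply (Ind.inclusion C).map_injective
  ext ⟨X⟩ a
  let e := Ind.yonedaCompInclusion.app X
  let x : Ind.yoneda.obj X ⟶ A := (Ind.inclusion C).preimage (e.hom ≫ yonedaEquiv.symm a)
  have h1 := congrArg (fun φ => e.inv ≫ (Ind.inclusion C).map φ) (h X x)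
  simp only [x, Functor.map_comp, Functor.map_preimage, Category.assoc] at h1
  erw [Iso.inv_hom_id_assoc, Iso.inv_hom_id_assoc] at h1
  have h2 := congrArg yonedaEquiv h1
  rw [yonedaEquiv_comp, yonedaEquiv_comp, Equiv.apply_symm_apply] at h2
  exact h2

lemma ind_le_iff {A : Ind C} (P : Subobject A) {B : Ind C} (f : B ⟶ A) :
    P.Factors f ↔ ∀ (X : C) (x : Ind.yoneda.obj X ⟶ B), P.Factors (x ≫ f) := by
  refine ⟨fun h X x => Subobject.factors_of_factors_right x h, fun h => ?_⟩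
  have h0 : f ≫ cokernel.π P.arrow = 0 := ind_hom_ext (fun X x => by
    rw [comp_zero, ← Category.assoc, ← P.factorThru_arrow _ (h X x), Category.assoc,
      cokernel.condition, comp_zero])
  exact (Subobject.factors_iff _ _).2 ⟨Abelian.monoLift P.arrow _ h0, Abelian.monoLift_comp _ _ h0⟩

lemma exists_smul_eq_zero (htor : ∀ X : C, ∃ n : ℕ, 0 < n ∧ n • 𝟙 X = 0) {A : Ind C} {X : C}
    (x : Ind.yoneda.obj X ⟶ A) : ∃ n : ℕ, 0 < n ∧ n • x = 0 := by
  haveI := (Ind.yoneda (C := C)).additive_of_preserves_binary_products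
  obtain ⟨n, hn, h⟩ := htor X
  refine ⟨n, hn, ?_⟩
  have h1 : n • 𝟙 (Ind.yoneda.obj X) = 0 := by
    rw [← (Ind.yoneda (C := C)).map_id X, ← Functor.map_nsmul, h, Functor.map_zero]
  rw [← mul_comp, h1, zero_comp]

lemma smul_eq_zero_of_ess {Q : Ind C} (hQ : (Ind.yoneda (C := C)).essImage Q)
    (htor : ∀ X : C, ∃ n : ℕ, 0 < n ∧ n • 𝟙 X = 0) : ∃ n : ℕ, 0 < n ∧ n • 𝟙 Q = 0 := by
  obtain ⟨X, ⟨i⟩⟩ := hQ
  obtain ⟨n, hn, h⟩ := exists_smul_eq_zero htor i.hom
  refine ⟨n, hn, ?_⟩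
  rw [← cancel_epi i.hom, Preadditive.comp_nsmul, Category.comp_id, h, comp_zero]

variable {A : Ind C}
  (hA : ∀ n : ℕ, 0 < n → (Ind.yoneda (C := C)).essImage (kernel (n • 𝟙 A)))
  (hart : ∀ X : C, IsArtinianObject X)

include hA hart in
lemma exists_prime_stab {p : ℕ} (hp : p.Prime) :
    ∃ N : ℕ, ∀ n : ℕ, 0 < n → ∀ ⦃T : Ind C⦄ (u : T ⟶ A), n • u = 0 →
      InImg ((p ^ (N + 1)) • 𝟙 A) ((p ^ N) • u) := by
  obtain ⟨K, hK, hst⟩ := exists_stab (Ind.yoneda (C := C)) hA hart hp.pos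
  obtain ⟨a, r, hr, rfl⟩ := Nat.exists_eq_pow_mul_and_not_dvd hK.ne' p hp.ne_one
  have base : ∀ ⦃T : Ind C⦄ (w : T ⟶ A) (j : ℕ), p • w = 0 → InImg ((p ^ a) • 𝟙 A) w →
      InImg ((p ^ j) • 𝟙 A) w := by
    intro T w j hw hwa
    obtain ⟨s, t, hst'⟩ : IsCoprime (r : ℤ) (p : ℤ) :=
      Nat.isCoprime_iff_coprime.2 ((hp.coprime_iff_not_dvd.2 hr).symm)
    refine hst (p ^ j) (pow_pos hp.pos _) w hw ?_
    rw [inImg_mul_iff] at hwa ⊢
    obtain ⟨T', π, hπ, x, hx⟩ := hwa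
    refine ⟨T', π, hπ, s • x, ?_⟩
    have hpw : p • (π ≫ w) = 0 := by rw [← Preadditive.comp_nsmul, hw, comp_zero]
    calc π ≫ w = (s * r + t * p : ℤ) • (π ≫ w) := by rw [hst', one_smul]
      _ = (s * r : ℤ) • (π ≫ w) := by
          rw [add_smul, mul_smul t, natCast_zsmul, hpw, smul_zero, add_zero]
      _ = (p ^ a * r) • (s • x) := by
          rw [hx, ← natCast_zsmul, ← natCast_zsmul, ← mul_smul, ← mul_smul]
          push_cast
          ring_nf
  have main : ∀ n : ℕ, 0 < n → ∀ ⦃T : Ind C⦄ (z : T ⟶ A), n • z = 0 → ∀ j, a ≤ j →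
      InImg ((p ^ j) • 𝟙 A) z → InImg ((p ^ (j + 1)) • 𝟙 A) z := by
    intro n
    induction n using Nat.strong_induction_on with
    | _ n ih =>
      intro hn T z hz j hj hzj
      by_cases hpn : p ∣ n
      · obtain ⟨m, rfl⟩ := hpn
        have hm : 0 < m := Nat.pos_of_ne_zero fun h => by simp [h] at hn
        obtain ⟨T₁, π₁, hπ₁, x, hx⟩ := (inImg_mul_iff _ _).1 hzj
        have h1 : InImg ((p ^ (j + 2)) • 𝟙 A) (p • (π₁ ≫ z)) := by
          refine ih m (lt_mul_of_one_lt_left hm hp.one_lt) hm _ ?_ (j + 1) (by omega) ?_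
          · rw [← mul_smul, mul_comm, ← Preadditive.comp_nsmul, hz, comp_zero]
          · rw [hx, ← mul_smul, ← pow_succ']
            exact inImg_smul _ _
        obtain ⟨T₂, π₂, hπ₂, y, hy⟩ := (inImg_mul_iff _ _).1 h1
        have hw : InImg ((p ^ (j + 1)) • 𝟙 A) (π₂ ≫ π₁ ≫ z - (p ^ (j + 1)) • y) := by
          refine base _ _ ?_ ?_
          · rw [smul_sub, ← mul_smul, ← pow_succ', ← hy, Preadditive.comp_nsmul, sub_self]
          · refine (inImg_mul_iff _ _).2 ⟨T₂, 𝟙 T₂, inferInstance,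
              (p ^ (j - a)) • (π₂ ≫ x) - (p ^ (j + 1 - a)) • y, ?_⟩
            rw [Category.id_comp, hx, Preadditive.comp_nsmul, smul_sub, ← mul_smul, ← mul_smul,
              ← pow_add, ← pow_add, show a + (j - a) = j by omega,
              show a + (j + 1 - a) = j + 1 by omega]
        obtain ⟨T₃, π₃, hπ₃, w, hw'⟩ := (inImg_mul_iff _ _).1 hw
        refine InImg.of_epi_comp (π₂ ≫ π₁) (InImg.of_epi_comp π₃ ?_)
        refine (inImg_mul_iff _ _).2 ⟨T₃, 𝟙 T₃, inferInstance, w + π₃ ≫ y, ?_⟩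
        rw [Category.id_comp, Category.assoc π₂, smul_add, ← hw', ← Preadditive.comp_nsmul,
          ← Preadditive.comp_add, sub_add_cancel]
      · obtain ⟨s, t, hst'⟩ : IsCoprime ((p ^ (j + 1) : ℕ) : ℤ) (n : ℤ) :=
          Nat.isCoprime_iff_coprime.2 (Nat.Coprime.pow_left _ (hp.coprime_iff_not_dvd.2 hpn))
        refine (inImg_mul_iff _ _).2 ⟨T, 𝟙 T, inferInstance, s • z, ?_⟩
        rw [Category.id_comp]
        calc z = (s * (p ^ (j + 1) : ℕ) + t * n : ℤ) • z := by rw [hst', one_smul]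
          _ = _ := by
            rw [add_smul, mul_smul t, natCast_zsmul, hz, smul_zero, add_zero, mul_smul,
              natCast_zsmul, smul_comm]
  exact ⟨a, fun n hn T u hu => main n hn _ (by rw [smul_comm, hu, smul_zero]) a le_rfl
    (inImg_smul _ _)⟩

/-- Divisibility by all positive integers reduces to primes. -/
lemma div_of_prime {D : Ind C} (h : ∀ p : ℕ, p.Prime → Epi (p • 𝟙 D)) (k : ℕ) (hk : 0 < k) :
    Epi (k • 𝟙 D) := by
  induction k using Nat.strong_induction_on with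
  | _ k ih =>
    by_cases h1 : k = 1
    · subst h1; rw [one_smul]; infer_instance
    · obtain ⟨p, hp, m, rfl⟩ := Nat.exists_prime_and_dvd h1
      have hm : 0 < m := Nat.pos_of_ne_zero fun h => by simp [h] at hk
      haveI := h p hp
      haveI := ih m (lt_mul_of_one_lt_left hm hp.one_lt) hm
      rw [mul_smul, ← comp_mul (m • 𝟙 D) p]
      infer_instance

include hA hart in
/-- If almost all primes act surjectively, some image of multiplication is divisible. -/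
lemma exists_divisible_image (htor : ∀ X : C, ∃ n : ℕ, 0 < n ∧ n • 𝟙 X = 0)
    (hfin : {p : ℕ | p.Prime ∧ ¬ Epi (p • 𝟙 A)}.Finite) :
    ∃ M : ℕ, 0 < M ∧
      ∀ k : ℕ, 0 < k → Epi (k • 𝟙 ((imageSubobject (M • 𝟙 A) : Subobject A) : Ind C)) := by
  classical
  choose N hN using fun (p : {p : ℕ // p.Prime}) => exists_prime_stab hA hart p.2
  let S := hfin.toFinset
  let e : ℕ → ℕ := fun p => if h : p.Prime then p ^ N ⟨p, h⟩ else 1
  let M := ∏ p ∈ S, e p
  have he : ∀ p, 0 < e p := fun p => by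
    simp only [e]; split_ifs with h
    · exact pow_pos h.pos _
    · exact one_pos
  refine ⟨M, Finset.prod_pos (fun p _ => he p), div_of_prime fun p hp => epi_on_image_of_le ?_⟩
  rw [image_le_iff, ind_le_iff]
  intro X x
  rw [comp_mul, factors_image_iff]
  by_cases hpS : Epi (p • 𝟙 A)
  · obtain ⟨T', π, hπ, y, hy⟩ := exists_smul_eq hpS x
    refine (inImg_mul_iff _ _).2 ⟨T', π, hπ, y, ?_⟩
    rw [Preadditive.comp_nsmul, hy, ← mul_smul, mul_comm]
  · have hmem : p ∈ S := hfin.mem_toFinset.2 ⟨hp, hpS⟩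
    obtain ⟨r, hr⟩ : e p ∣ M := Finset.dvd_prod_of_mem _ hmem
    obtain ⟨n, hn, hnx⟩ := exists_smul_eq_zero htor x
    obtain ⟨T', π, hπ, y, hy⟩ := (inImg_mul_iff _ _).1 (hN ⟨p, hp⟩ n hn x hnx)
    refine (inImg_mul_iff _ _).2 ⟨T', π, hπ, y, ?_⟩
    have hep : e p = p ^ N ⟨p, hp⟩ := by simp [e, hp]
    rw [hep] at hr
    rw [Preadditive.comp_nsmul, hr, mul_comm (p ^ _) r, mul_smul, ← Preadditive.comp_nsmul π, hy,
      ← mul_smul]
    show (r * p ^ (N ⟨p, hp⟩ + 1)) • y = _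
    congr 1
    ring

lemma finite_of_divisible (htor : ∀ X : C, ∃ n : ℕ, 0 < n ∧ n • 𝟙 X = 0)
    (B' : Subobject A) (hB : ∀ k : ℕ, 0 < k → Epi (k • 𝟙 (B' : Ind C)))
    (hQ : (Ind.yoneda (C := C)).essImage (cokernel B'.arrow)) :
    {p : ℕ | p.Prime ∧ ¬ Epi (p • 𝟙 A)}.Finite := by
  obtain ⟨M, hM0, hM⟩ := smul_eq_zero_of_ess hQ htor
  refine (Set.finite_Iic M).subset ?_
  rintro p ⟨hp, hne⟩
  by_contra hle
  simp only [Set.mem_Iic, not_le] at hle
  refine hne ?_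
  obtain ⟨s, t, hst⟩ : IsCoprime (p : ℤ) (M : ℤ) := Nat.isCoprime_iff_coprime.2
    (hp.coprime_iff_not_dvd.2 fun hd => absurd (Nat.le_of_dvd hM0 hd) (by omega))
  rw [epi_iff_surjective_up_to_refinements]
  intro T u
  obtain ⟨b, hb⟩ : ∃ b, b ≫ B'.arrow = M • u := by
    have h := Subobject.factors_of_le (M • u) (smul_coker_eq_zero.1 hM)
      ((factors_image_iff _ _).2 (inImg_smul u M))
    exact ⟨B'.factorThru _ h, B'.factorThru_arrow _ h⟩
  obtain ⟨T', π, hπ, c, hc⟩ := exists_smul_eq (hB p hp.pos) b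
  refine ⟨T', π, hπ, s • (π ≫ u) + t • (c ≫ B'.arrow), ?_⟩
  rw [comp_mul, smul_add, smul_comm p t, ← Preadditive.nsmul_comp, ← hc, Category.assoc, hb,
    Preadditive.comp_nsmul, smul_comm p s]
  calc π ≫ u = (s * p + t * M : ℤ) • (π ≫ u) := by rw [hst, one_smul]
    _ = _ := by rw [add_smul, mul_smul, mul_smul, natCast_zsmul, natCast_zsmul]

include hA hart in
/-- The largest divisible subobject of an ind-object of cofinite type. -/
lemma exists_largest_divisible :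
    ∃ D : Subobject A, (∀ k : ℕ, 0 < k → Epi (k • 𝟙 (D : Ind C))) ∧
      (∀ D' : Subobject A, (∀ k : ℕ, 0 < k → Epi (k • 𝟙 (D' : Ind C))) → D' ≤ D) ∧
      (∀ n : ℕ, 0 < n → (Ind.yoneda (C := C)).essImage (kernel (n • 𝟙 (D : Ind C)))) ∧
      (∀ n : ℕ, 0 < n → (Ind.yoneda (C := C)).essImage (kernel (n • 𝟙 (cokernel D.arrow)))) := by
  classical
  choose K hK hst using fun (n : {n : ℕ // 0 < n}) =>
    exists_stab (Ind.yoneda (C := C)) hA hart n.2
  let Tn : {n : ℕ // 0 < n} → Subobject A := fun n =>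
    imageSubobject ((K n) • kernel.ι (((n : ℕ) * K n) • 𝟙 A))
  have memT : ∀ (n : {n : ℕ // 0 < n}) ⦃T : Ind C⦄ (u : T ⟶ A), (n : ℕ) • u = 0 →
      InImg ((K n) • 𝟙 A) u → (Tn n).Factors u := by
    intro n T u hnu hu
    obtain ⟨T', π, hπ, x, hx⟩ := (inImg_mul_iff _ _).1 hu
    refine (factors_image_iff _ _).2 ⟨T', π, hπ, kernel.lift _ x ?_, ?_⟩
    · rw [comp_mul, mul_smul, ← hx, ← Preadditive.comp_nsmul, hnu, comp_zero]
    · rw [Preadditive.comp_nsmul, kernel.lift_ι, hx]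
  let T0 : Subobject A := iSup Tn
  have hT0 : ∀ k : ℕ, 0 < k → Epi (k • 𝟙 (T0 : Ind C)) := by
    intro k hk
    refine epi_of_le_image _ (iSup_le fun n => ?_)
    rw [image_le_iff, factors_image_iff]
    let s : kernel (((n : ℕ) * K n) • 𝟙 A) ⟶ A := (K n) • kernel.ι _
    let nk : {n : ℕ // 0 < n} := ⟨(n : ℕ) * k, Nat.mul_pos n.2 hk⟩
    have hns : (n : ℕ) • s = 0 := by rw [← mul_smul]; exact smul_kernel_ι _
    obtain ⟨T', π, hπ, x, hx⟩ := (inImg_mul_iff _ _).1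
      (hst n (k * K nk) (Nat.mul_pos hk (hK nk)) s hns (inImg_smul _ _))
    have hf : T0.Factors ((K nk) • x) := by
      refine Subobject.factors_of_le _ (le_iSup Tn nk) (memT nk _ ?_ (inImg_smul _ _))
      show ((n : ℕ) * k) • _ = 0
      rw [← mul_smul, mul_assoc, mul_smul, ← hx, ← Preadditive.comp_nsmul, hns, comp_zero]
    refine ⟨T', π, hπ, T0.factorThru _ hf, ?_⟩
    rw [← Category.assoc, Subobject.factorThru_arrow, comp_mul, ← mul_smul]
    exact hx
  let Dset : Set (Subobject A) := {D' | ∀ k : ℕ, 0 < k → Epi (k • 𝟙 (D' : Ind C))}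
  let D : Subobject A := sSup Dset
  have hmax : ∀ D' : Subobject A, (∀ k : ℕ, 0 < k → Epi (k • 𝟙 (D' : Ind C))) → D' ≤ D :=
    fun D' hD' => le_sSup hD'
  have hdiv : ∀ k : ℕ, 0 < k → Epi (k • 𝟙 (D : Ind C)) := fun k hk => by
    refine epi_of_le_image _ (sSup_le fun D' hD' => ?_)
    rw [le_image_iff]
    obtain ⟨T', π, hπ, x, hx⟩ := exists_smul_eq (hD' k hk) (𝟙 (D' : Ind C))
    refine ⟨T', π, hπ, x ≫ Subobject.ofLE D' D (hmax D' hD'), ?_⟩
    rw [Category.assoc, Subobject.ofLE_arrow_assoc, comp_mul, Preadditive.comp_nsmul,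
      ← Preadditive.nsmul_comp, ← hx, Category.comp_id]
  refine ⟨D, hdiv, hmax, fun n hn => ?_, fun n hn => ?_⟩
  all_goals
    have hDn : (Ind.yoneda (C := C)).essImage (kernel (n • 𝟙 (D : Ind C))) :=
      ess_torsion _ hA hn (hK ⟨n, hn⟩) D
        (fun T u hnu hu => Subobject.factors_of_le _ ((le_iSup Tn ⟨n, hn⟩).trans (hmax T0 hT0))
          (memT ⟨n, hn⟩ u hnu hu))
        ((((le_image_iff _ _).1 (le_image_of_epi D (hdiv _ (hK ⟨n, hn⟩))))).comp _)
  · exact hDn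
  · exact ess_torsion_quot _ hA hn D (hdiv n hn) hDn

end Groth.L09.Divisible
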