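import Groth.Prelude.Def_SGA4a
import Mathlib.CategoryTheory.Sites.Canonical
import Mathlib.CategoryTheory.Sites.EffectiveEpimorphic
import Mathlib.CategoryTheory.Sites.LocallyBijective
import Mathlib.CategoryTheory.Limits.Types.Colimits

/-!
An equivalence relation is effective and universal iff its quotient stays a quotient among sheaves
for the canonical topology.
-/

set_option autoImplicit false
universe u

open CategoryTheory CategoryTheory.Limits Opposite

namespace Groth.L09.EquivRelSheaf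

variable {C : Type u} [SmallCategory C]

local notation "𝐉" => Sheaf.canonicalTopology C

lemma effectiveEpi_iff {X Y : C} (f : X ⟶ Y) :
    EffectiveEpi f ↔ ∀ W, Presieve.IsSheafFor (yoneda.obj W) (Presieve.singleton f) := by
  rw [← Sieve.effectiveEpimorphic_singleton, Presieve.EffectiveEpimorphic.iff_forall_isSheafFor_yoneda]

lemma singleton_mem [HasPullbacks C] {X B : C} (π : X ⟶ B)
    (h : ∀ (B' : C) (g : B' ⟶ B), EffectiveEpi (pullback.snd π g)) :
    Sieve.generate (Presieve.singleton π) ∈ 𝐉 B := by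
  refine Sheaf.mem_finestTopology_of_forall_isSheafFor ?_
  rintro _ ⟨W, rfl⟩ Y g
  have hW := (effectiveEpi_iff (pullback.snd π g)).1 (h Y g) W
  rw [← Sieve.pullbackArrows_comm g, ← Presieve.isSheafFor_iff_generate, Presieve.pullback_singleton]
  exact hW

lemma effectiveEpi_of_mem [HasPullbacks C] {X B B' : C} (π : X ⟶ B) (g : B' ⟶ B)
    (h : Sieve.generate (Presieve.singleton π) ∈ 𝐉 B) : EffectiveEpi (pullback.snd π g) := by
  rw [effectiveEpi_iff]
  intro W
  have h1 := (Sheaf.isSheaf_yoneda_obj W) _ ((Sheaf.canonicalTopology C).pullback_stable g h)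
  rw [← Sieve.pullbackArrows_comm g, ← Presieve.isSheafFor_iff_generate, Presieve.pullback_singleton] at h1
  exact h1

variable {R X B : C} {p₁ p₂ : R ⟶ X} (π : X ⟶ B) (w : p₁ ≫ π = p₂ ≫ π)

/-- the cofork among representable sheaves. -/
abbrev sheafCofork : Cofork ((Sheaf.canonicalTopology C).yoneda.map p₁) ((Sheaf.canonicalTopology C).yoneda.map p₂) :=
  Cofork.ofπ ((Sheaf.canonicalTopology C).yoneda.map π) (by rw [← Functor.map_comp, ← Functor.map_comp, w])

lemma isColimit_of_effective [HasPullbacks C] (hpb : IsPullback p₁ p₂ π π)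
    (h : ∀ (B' : C) (g : B' ⟶ B), EffectiveEpi (pullback.snd π g)) :
    Nonempty (IsColimit (sheafCofork π w)) := by
  have hS := singleton_mem π h
  refine ⟨Cofork.IsColimit.ofExistsUnique fun s => ?_⟩
  have hF := ((isSheaf_iff_isSheaf_of_type _ s.pt.obj).1 s.pt.property) _ hS
  rw [← Presieve.isSheafFor_iff_generate, Presieve.isSheafFor_singleton] at hF
  let a : s.pt.obj.obj (op X) := yonedaEquiv s.π.hom
  have hcond : s.pt.obj.map p₁.op a = s.pt.obj.map p₂.op a := by
    simp only [a, map_yonedaEquiv]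
    have h0 := congrArg (fun q => yonedaEquiv q.hom) s.condition
    simpa [yonedaEquiv, GrothendieckTopology.yoneda] using h0
  obtain ⟨b, hb, hu⟩ := hF a (fun {Z} q₁ q₂ hq => by
    rw [← hpb.lift_fst q₁ q₂ hq]
    conv_rhs => rw [← hpb.lift_snd q₁ q₂ hq]
    simp only [op_comp, Functor.map_comp, ConcreteCategory.comp_apply]
    rw [hcond])
  have hnat : ∀ (m : yoneda.obj B ⟶ s.pt.obj),
      s.pt.obj.map π.op (yonedaEquiv m) = yonedaEquiv (yoneda.map π ≫ m) := fun m => yonedaEquiv_naturality m π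
  refine ⟨⟨yonedaEquiv.symm b⟩, ?_, fun m hm => ?_⟩
  · apply Sheaf.hom_ext
    apply yonedaEquiv.injective
    refine (hnat _).symm.trans ?_
    rw [Equiv.apply_symm_apply]
    exact hb
  · apply Sheaf.hom_ext
    apply yonedaEquiv.injective
    refine (hu _ ((hnat m.hom).trans ?_)).trans (Equiv.apply_symm_apply _ _).symm
    exact congrArg yonedaEquiv (congrArg InducedCategory.Hom.hom hm : _)

/-- the presheaf quotient. -/
noncomputable abbrev Q (p₁ p₂ : R ⟶ X) : Cᵒᵖ ⥤ Type u := coequalizer (yoneda.map p₁) (yoneda.map p₂)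

/-- the comparison. -/
noncomputable def q : Q p₁ p₂ ⟶ yoneda.obj B :=
  coequalizer.desc (yoneda.map π) (by rw [← Functor.map_comp, ← Functor.map_comp, w])

lemma W_q (hc : IsColimit ((yoneda ⋙ presheafToSheaf (Sheaf.canonicalTopology C) (Type u)).mapCocone
    (Cofork.ofπ π w))) : (Sheaf.canonicalTopology C).W (q π w) := by
  rw [GrothendieckTopology.W_iff]
  let F := presheafToSheaf (Sheaf.canonicalTopology C) (Type u)
  let d := parallelPair (yoneda.map p₁) (yoneda.map p₂)
  have h1 : IsColimit (F.mapCocone (colimit.cocone d)) := isColimitOfPreserves F (colimit.isColimit d)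
  have h2 := isColimitCoforkMapOfIsColimit F
    (coequalizer.condition (yoneda.map p₁) (yoneda.map p₂)) (coequalizerIsCoequalizer _ _)
  have h3 := isColimitMapCoconeCoforkEquiv (yoneda ⋙ F) w hc
  have he : (h2.coconePointUniqueUpToIso h3).hom = F.map (q π w) := by
    refine Cofork.IsColimit.hom_ext h2 ?_
    refine (IsColimit.comp_coconePointUniqueUpToIso_hom h2 h3 WalkingParallelPair.one).trans ?_
    show (yoneda ⋙ F).map π = F.map (coequalizer.π _ _) ≫ F.map (q π w)
    rw [← Functor.map_comp, q, coequalizer.π_desc]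
    rfl
  rw [← he]
  exact Iso.isIso_hom _

lemma exists_rep {T : C} (x : (Q p₁ p₂).obj (op T)) :
    ∃ a : T ⟶ X, (coequalizer.π (yoneda.map p₁) (yoneda.map p₂)).app (op T) a = x := by
  have hs : Epi ((coequalizer.π (yoneda.map p₁) (yoneda.map p₂)).app (op T)) := inferInstance
  exact (epi_iff_surjective _).1 hs x

lemma rel_of_eq (hR : SGA4.IsEquivRel p₁ p₂) {T : C} (a b : T ⟶ X)
    (h : (coequalizer.π (yoneda.map p₁) (yoneda.map p₂)).app (op T) a =
      (coequalizer.π (yoneda.map p₁) (yoneda.map p₂)).app (op T) b) :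
    ∃ f : T ⟶ R, f ≫ p₁ = a ∧ f ≫ p₂ = b := by
  let st : Setoid (T ⟶ X) := ⟨_, (hR T).2⟩
  let ev := (evaluation Cᵒᵖ (Type u)).obj (op T)
  have hcol := isColimitCoforkMapOfIsColimit ev
    (coequalizer.condition (yoneda.map p₁) (yoneda.map p₂)) (coequalizerIsCoequalizer _ _)
  let g : ev.obj (yoneda.obj X) ⟶ Quotient st := ↾fun (a : T ⟶ X) => Quotient.mk st a
  have hg : ev.map (yoneda.map p₁) ≫ g = ev.map (yoneda.map p₂) ≫ g := by
    ext (f : T ⟶ R)
    exact Quotient.sound (s := st) ⟨f, rfl, rfl⟩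
  obtain ⟨l, hl⟩ := Cofork.IsColimit.desc' hcol g hg
  exact Quotient.exact ((ConcreteCategory.congr_hom hl a).symm.trans
    ((congrArg l h).trans (ConcreteCategory.congr_hom hl b)))

lemma q_π {T : C} (a : T ⟶ X) :
    (q π w).app (op T) ((coequalizer.π (yoneda.map p₁) (yoneda.map p₂)).app (op T) a) = a ≫ π := by
  show ((coequalizer.π (yoneda.map p₁) (yoneda.map p₂) ≫ q π w).app (op T)) a = _
  rw [q, coequalizer.π_desc]
  rfl

lemma effective_of_isColimit [HasPullbacks C] (hR : SGA4.IsEquivRel p₁ p₂)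
    (hc : IsColimit ((yoneda ⋙ presheafToSheaf (Sheaf.canonicalTopology C) (Type u)).mapCocone
      (Cofork.ofπ π w))) :
    IsPullback p₁ p₂ π π ∧ ∀ (B' : C) (g : B' ⟶ B), EffectiveEpi (pullback.snd π g) := by
  have hW := (GrothendieckTopology.W_iff_isLocallyBijective _ _).1 (W_q π w hc)
  haveI := hW.1
  haveI := hW.2
  have hcov : Sieve.generate (Presieve.singleton π) ∈ 𝐉 B := by
    refine GrothendieckTopology.superset_covering _ ?_
      (Presheaf.imageSieve_mem (Sheaf.canonicalTopology C) (q π w) (U := op B) (𝟙 B : B ⟶ B))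
    intro V g hg
    obtain ⟨t, ht⟩ := hg
    obtain ⟨a, rfl⟩ := exists_rep t
    rw [q_π] at ht
    exact ⟨X, a, π, Presieve.singleton_self π, ht.trans (Category.comp_id g)⟩
  have key : ∀ s : PullbackCone π π, ∃ f : s.pt ⟶ R, f ≫ p₁ = s.fst ∧ f ≫ p₂ = s.snd := by
    intro s
    let π_T : ∀ {V : C}, (V ⟶ X) → (Q p₁ p₂).obj (op V) := fun {V} a =>
      (coequalizer.π (yoneda.map p₁) (yoneda.map p₂)).app (op V) a
    have hnat : ∀ {V : C} (g : V ⟶ s.pt) (a : s.pt ⟶ X), π_T (g ≫ a) = (Q p₁ p₂).map g.op (π_T a) :=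
      fun g a => NatTrans.naturality_apply (coequalizer.π (yoneda.map p₁) (yoneda.map p₂)) g.op a
    have hS := Presheaf.equalizerSieve_mem (Sheaf.canonicalTopology C) (q π w) (X := op s.pt)
      (π_T s.fst) (π_T s.snd) (by rw [q_π, q_π]; exact s.condition)
    have hrel : ∀ ⦃V : C⦄ (g : V ⟶ s.pt), Presheaf.equalizerSieve (F := Q p₁ p₂) (X := op s.pt) (π_T s.fst) (π_T s.snd) g →
        ∃ f : V ⟶ R, f ≫ p₁ = g ≫ s.fst ∧ f ≫ p₂ = g ≫ s.snd := fun V g hg => by
      have hg' : (Q p₁ p₂).map g.op (π_T s.fst) = (Q p₁ p₂).map g.op (π_T s.snd) := hg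
      exact rel_of_eq hR _ _ ((hnat g s.fst).trans (hg'.trans (hnat g s.snd).symm))
    let fam : Presieve.FamilyOfElements (yoneda.obj R) _ := fun V g hg => (hrel g hg).choose
    have hfam : fam.Compatible := by
      intro Y₁ Y₂ Z g₁ g₂ f₁ f₂ h₁ h₂ he
      apply (hR Z).1
      show ((g₁ ≫ (hrel f₁ h₁).choose) ≫ p₁, (g₁ ≫ (hrel f₁ h₁).choose) ≫ p₂) =
        ((g₂ ≫ (hrel f₂ h₂).choose) ≫ p₁, (g₂ ≫ (hrel f₂ h₂).choose) ≫ p₂)
      simp only [Category.assoc, (hrel f₁ h₁).choose_spec.1, (hrel f₁ h₁).choose_spec.2,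
        (hrel f₂ h₂).choose_spec.1, (hrel f₂ h₂).choose_spec.2]
      rw [reassoc_of% he, reassoc_of% he]
    obtain ⟨f, hf, -⟩ := (Sheaf.isSheaf_yoneda_obj R) _ hS fam hfam
    refine ⟨f, ?_, ?_⟩
    · refine ((Sheaf.isSheaf_yoneda_obj X) _ hS).isSeparatedFor.ext fun V g hg => ?_
      show g ≫ f ≫ p₁ = g ≫ s.fst
      have := hf g hg
      exact (Category.assoc _ _ _).symm.trans ((congrArg (· ≫ p₁) this).trans (hrel g hg).choose_spec.1)
    · refine ((Sheaf.isSheaf_yoneda_obj X) _ hS).isSeparatedFor.ext fun V g hg => ?_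
      show g ≫ f ≫ p₂ = g ≫ s.snd
      have := hf g hg
      exact (Category.assoc _ _ _).symm.trans ((congrArg (· ≫ p₂) this).trans (hrel g hg).choose_spec.2)
  refine ⟨IsPullback.of_isLimit' ⟨w⟩ (PullbackCone.IsLimit.mk _ (fun s => (key s).choose)
      (fun s => (key s).choose_spec.1) (fun s => (key s).choose_spec.2)
      (fun s m h1 h2 => (hR s.pt).1 (Prod.ext (h1.trans (key s).choose_spec.1.symm)
        (h2.trans (key s).choose_spec.2.symm)))),
    fun B' g => effectiveEpi_of_mem π g hcov⟩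

theorem main [HasPullbacks C] (hR : SGA4.IsEquivRel p₁ p₂) (hc : IsColimit (Cofork.ofπ π w)) :
    SGA4.IsEffectiveUniversalEquivRel p₁ p₂ ↔
      Nonempty (IsColimit ((yoneda ⋙ presheafToSheaf (Sheaf.canonicalTopology C) (Type u)).mapCocone
        (Cofork.ofπ π w))) := by
  constructor
  · rintro ⟨B', π', hpb, hpo, heff⟩
    have hc' : IsColimit (Cofork.ofπ π' hpb.w : Cofork p₁ p₂) :=
      Cofork.IsColimit.ofExistsUnique fun s => ⟨hpo.desc s.π s.π s.condition, hpo.inl_desc _ _ _,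
        fun m hm => hpo.hom_ext (hm.trans (hpo.inl_desc _ _ _).symm) (hm.trans (hpo.inr_desc _ _ _).symm)⟩
    obtain ⟨h⟩ := isColimit_of_effective π' hpb.w hpb heff
    have h1 : IsColimit ((Sheaf.canonicalTopology C).yoneda.mapCocone (Cofork.ofπ π' hpb.w)) :=
      (isColimitMapCoconeCoforkEquiv _ _).symm h
    let e : (Sheaf.canonicalTopology C).yoneda ≅ yoneda ⋙ presheafToSheaf (Sheaf.canonicalTopology C) (Type u) :=
      NatIso.ofComponents (fun Z => sheafificationIso ((Sheaf.canonicalTopology C).yoneda.obj Z))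
        (fun f => Sheaf.hom_ext (toSheafify_naturality (Sheaf.canonicalTopology C) (yoneda.map f)))
    exact ⟨(IsColimit.mapCoconeEquiv e h1).ofIsoColimit ((Cocone.functoriality _ _).mapIso (hc'.uniqueUpToIso hc))⟩
  · rintro ⟨h⟩
    obtain ⟨hpb, heff⟩ := effective_of_isColimit π w hR h
    refine ⟨B, π, hpb, ⟨⟨w⟩, ⟨PushoutCocone.IsColimit.mk _ (fun s => Cofork.IsColimit.desc hc s.inl ?_)
      (fun s => ?_) (fun s => ?_) (fun s m h1 h2 => ?_)⟩⟩, heff⟩
    · obtain ⟨σ, h1, h2⟩ := (hR X).2.refl (𝟙 X)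
      have hs : σ ≫ p₁ ≫ s.inl = σ ≫ p₂ ≫ s.inr := congrArg (σ ≫ ·) s.condition
      rw [← Category.assoc, h1, ← Category.assoc, h2, Category.id_comp, Category.id_comp] at hs
      rw [s.condition, hs]
    · exact Cofork.IsColimit.π_desc' hc _ _
    · obtain ⟨σ, h1, h2⟩ := (hR X).2.refl (𝟙 X)
      have hs : σ ≫ p₁ ≫ s.inl = σ ≫ p₂ ≫ s.inr := congrArg (σ ≫ ·) s.condition
      rw [← Category.assoc, h1, ← Category.assoc, h2, Category.id_comp, Category.id_comp] at hs
      exact (Cofork.IsColimit.π_desc' hc _ _).trans hs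
    · exact Cofork.IsColimit.hom_ext hc (h1.trans (Cofork.IsColimit.π_desc' hc _ _).symm)

end Groth.L09.EquivRelSheaf
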