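import Groth.Agent.L10.BigColim.Sections
import Groth.Agent.L27.Colim.Etale
import Groth.Agent.L29.DCoh.HomologyColim
import Groth.Prelude.Def_EtCech
import Mathlib.Algebra.Category.Grp.AB
import Mathlib.Algebra.Category.Grp.FilteredColimits
import Mathlib.CategoryTheory.Limits.Types.Filtered
import Mathlib.CategoryTheory.Limits.Shapes.ConcreteCategory

/-! # Cech groups of finite families commute with filtered colimits -/

set_option autoImplicit false
set_option linter.style.haveILetI false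
set_option backward.isDefEq.respectTransparency.types false
set_option backward.isDefEq.respectTransparency false

universe u

open CategoryTheory CategoryTheory.Limits AlgebraicGeometry Opposite

noncomputable section

namespace Groth.L09.EtColimCech

open Groth.L27 Groth.L27.Colim

variable {X : Scheme.{u}}

theorem qcqs_of_iso {A B : X.Etale} (e : A ≅ B) (hA : Qcqs A) : Qcqs B := by
  let e' : A.left ≅ B.left := (MorphismProperty.Over.forget _ _ X ⋙ Over.forget X).mapIso e
  haveI : IsIso e'.inv := inferInstance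
  obtain ⟨_, _⟩ := hA
  exact ⟨e'.hom.homeomorph.compactSpace, quasiSeparatedSpace_of_quasiSeparated e'.inv⟩

theorem exists_limit_fan {U : X.Etale} (hU : Qcqs U) : ∀ {n : ℕ} (f : Fin n → Over U), (∀ i, Qcqs (f i).left) →
    ∃ (Q : Over U) (p : ∀ i, Q ⟶ f i), Qcqs Q.left ∧ Nonempty (IsLimit (Fan.mk Q p))
  | 0, f, _ => ⟨Over.mk (𝟙 U), fun i => i.elim0, hU, ⟨Fan.IsLimit.mk _
      (fun s => Over.homMk s.pt.hom (Category.comp_id _)) (fun _ i => i.elim0)
      (fun s m _ => Over.OverMorphism.ext ((Category.comp_id _).symm.trans (Over.w m)))⟩⟩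
  | n + 1, f, hf => by
    obtain ⟨Q, p, hQ, ⟨hp⟩⟩ := exists_limit_fan hU (fun i => f i.succ) fun i => hf i.succ
    obtain ⟨P, a, b, hP, hab, hlift⟩ := exists_pb_qcqs (f 0).hom Q.hom (hf 0) hQ hU
    let Q' : Over U := Over.mk (a ≫ (f 0).hom)
    let a' : Q' ⟶ f 0 := Over.homMk a rfl
    let b' : Q' ⟶ Q := Over.homMk b hab.symm
    have key : ∀ (T : Over U) (u : T ⟶ f 0) (v : T ⟶ Q), ∃! l : T ⟶ Q', l ≫ a' = u ∧ l ≫ b' = v := fun T u v => by
      obtain ⟨l, ⟨h1, h2⟩, hl⟩ := hlift T.left u.left v.left ((Over.w u).trans (Over.w v).symm)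
      refine ⟨Over.homMk l ((Category.assoc _ _ _).symm.trans ((congrArg (· ≫ (f 0).hom) h1).trans (Over.w u))),
        ⟨Over.OverMorphism.ext h1, Over.OverMorphism.ext h2⟩, fun m hm => Over.OverMorphism.ext ?_⟩
      exact hl m.left ⟨congrArg CommaMorphism.left hm.1, congrArg CommaMorphism.left hm.2⟩
    choose l hl hlu using key
    refine ⟨Q', fun i => Fin.cases (motive := fun i => Q' ⟶ f i) a' (fun j => b' ≫ p j) i, hP,
      ⟨Fan.IsLimit.mk _ (fun s => l s.pt (s.proj 0) (Fan.IsLimit.desc hp fun j => s.proj j.succ))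
        (fun s i => ?_) (fun s m hm => ?_)⟩⟩
    · refine Fin.cases ?_ (fun j => ?_) i
      · exact (hl _ _ _).1
      · show _ ≫ (Fin.cases (motive := fun i => Q' ⟶ f i) a' (fun j => b' ≫ p j) j.succ) = _
        rw [Fin.cases_succ, ← Category.assoc, (hl _ _ _).2]
        exact Fan.IsLimit.fac hp _ j
    · refine hlu _ _ _ m ⟨hm 0, Fan.IsLimit.hom_ext hp _ _ fun j => ?_⟩
      rw [Category.assoc]
      refine Eq.trans ?_ (Fan.IsLimit.fac hp _ j).symm
      have h := hm j.succ
      exact h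

theorem qcqs_prod {U : X.Etale} (hU : Qcqs U) [HasFiniteProducts (Over U)] {n : ℕ} (f : Fin n → Over U)
    (hf : ∀ i, Qcqs (f i).left) : Qcqs (∏ᶜ f).left := by
  obtain ⟨Q, p, hQ, ⟨hp⟩⟩ := exists_limit_fan hU f hf
  exact qcqs_of_iso ((Over.forget U).mapIso (hp.conePointUniqueUpToIso (productIsProduct f))) hQ

variable {I : Type (u + 1)} [SmallCategory I] [IsFiltered I]
  {D : I ⥤ Sheaf X.smallEtaleTopology AddCommGrpCat.{u + 1}} {c : Cocone D}

theorem exists_common' {κ : Type (u + 1)} [Finite κ] (k : κ → I) : ∃ m : I, ∀ i, Nonempty (k i ⟶ m) := by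
  classical
  haveI := Fintype.ofFinite κ
  obtain ⟨m, hm⟩ := IsFiltered.sup_objs_exists (Finset.univ.image k)
  exact ⟨m, fun i => hm (Finset.mem_image_of_mem k (Finset.mem_univ i))⟩

theorem exists_factor_all' {κ : Type (u + 1)} [Finite κ] {j : I} {k : κ → I} (h : ∀ i, j ⟶ k i) :
    ∃ (m : I) (f : j ⟶ m), ∀ i, ∃ g : k i ⟶ m, h i ≫ g = f := by
  classical
  haveI := Fintype.ofFinite κ
  let O : Finset I := insert j (Finset.univ.image k)
  let H : Finset (Σ' (a b : I) (_ : a ∈ O) (_ : b ∈ O), a ⟶ b) :=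
    Finset.univ.image fun i => ⟨j, k i, Finset.mem_insert_self _ _,
      Finset.mem_insert_of_mem (Finset.mem_image_of_mem k (Finset.mem_univ i)), h i⟩
  obtain ⟨m, T, hT⟩ := IsFiltered.sup_exists O H
  exact ⟨m, T (Finset.mem_insert_self _ _), fun i =>
    ⟨_, hT _ _ (Finset.mem_image_of_mem _ (Finset.mem_univ i))⟩⟩

/-- Finite products of sections. -/
def prodSec (X : Scheme.{u}) {κ : Type (u + 1)} (W : κ → X.Etale) :
    Sheaf X.smallEtaleTopology AddCommGrpCat.{u + 1} ⥤ AddCommGrpCat.{u + 1} where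
  obj F := ∏ᶜ fun i => F.obj.obj (op (W i))
  map φ := Limits.Pi.map fun i => φ.hom.app (op (W i))
  map_id F := Pi.hom_ext _ _ fun i => by simp
  map_comp φ ψ := Pi.hom_ext _ _ fun i => by simp

theorem prodSec_π {κ : Type (u + 1)} (W : κ → X.Etale) {F G : Sheaf X.smallEtaleTopology AddCommGrpCat.{u + 1}}
    (φ : F ⟶ G) (x : (prodSec X W).obj F) (i : κ) :
    Pi.π (fun i => G.obj.obj (op (W i))) i ((prodSec X W).map φ x) =
      φ.hom.app (op (W i)) (Pi.π (fun i => F.obj.obj (op (W i))) i x) := by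
  show ((Limits.Pi.map fun i => φ.hom.app (op (W i))) ≫ Pi.π (fun i => G.obj.obj (op (W i))) i) x = _
  rw [Limits.Pi.map_π]
  rfl

theorem pi_ext {κ : Type (u + 1)} {A : κ → AddCommGrpCat.{u + 1}} (x y : ↑(∏ᶜ A))
    (h : ∀ i, Pi.π A i x = Pi.π A i y) : x = y :=
  (Concrete.productEquiv A).injective (funext fun i => by
    rw [Concrete.productEquiv_apply_apply, Concrete.productEquiv_apply_apply]
    exact h i)

theorem nonempty_isColimit_prodSec (hc : IsColimit c) {κ : Type (u + 1)} [Finite κ] (W : κ → X.Etale)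
    (hW : ∀ i, Qcqs (W i)) : Nonempty (IsColimit ((prodSec X W).mapCocone c)) := by
  haveI : ReflectsColimit (D ⋙ prodSec X W) (forget AddCommGrpCat.{u + 1}) := reflectsColimit_of_reflectsIsomorphisms _ _
  refine ⟨isColimitOfReflects (forget AddCommGrpCat.{u + 1}) (Types.FilteredColimit.isColimitOf _ _ (fun x => ?_)
    fun i j xi xj e => ?_)⟩
  · choose k y hy using fun i => Groth.L10.BigColim.exists_rep good hc (hW i)
      (Pi.π (fun i => c.pt.obj.obj (op (W i))) i x)
    obtain ⟨m, hm⟩ := exists_common' k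
    let z := (Concrete.productEquiv fun i => (D.obj m).obj.obj (op (W i))).symm fun i =>
      (D.map (hm i).some).hom.app (op (W i)) (y i)
    refine ⟨m, z, pi_ext _ _ fun i => ?_⟩
    refine Eq.trans ?_ (prodSec_π W (c.ι.app m) z i).symm
    rw [Concrete.productEquiv_symm_apply_π]
    exact ((Groth.L10.BigColim.ι_map (hm i).some (y i)).trans (hy i)).symm
  · let m := IsFiltered.max i j
    let a := (prodSec X W).map (D.map (IsFiltered.leftToMax i j)) xi
    let b := (prodSec X W).map (D.map (IsFiltered.rightToMax i j)) xj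
    have hzero : ∀ l, ∃ (k : I) (h : m ⟶ k), (D.map h).hom.app (op (W l))
        (Pi.π (fun l => (D.obj m).obj.obj (op (W l))) l a - Pi.π (fun l => (D.obj m).obj.obj (op (W l))) l b) = 0 := fun l => by
      refine Groth.L10.BigColim.exists_map_eq_zero good hc (hW l) m _ ?_
      rw [map_sub, sub_eq_zero, prodSec_π, prodSec_π, Groth.L10.BigColim.ι_map, Groth.L10.BigColim.ι_map]
      exact (prodSec_π W (c.ι.app i) xi l).symm.trans
        ((congrArg (Pi.π (fun l => c.pt.obj.obj (op (W l))) l) e).trans (prodSec_π W (c.ι.app j) xj l))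
    choose k h hk using hzero
    obtain ⟨n, f, hn⟩ := exists_factor_all' h
    refine ⟨n, IsFiltered.leftToMax i j ≫ f, IsFiltered.rightToMax i j ≫ f, pi_ext _ _ fun l => ?_⟩
    show Pi.π (fun l => (D.obj n).obj.obj (op (W l))) l ((prodSec X W).map (D.map _) xi) =
      Pi.π (fun l => (D.obj n).obj.obj (op (W l))) l ((prodSec X W).map (D.map _) xj)
    rw [prodSec_π, prodSec_π, ← Groth.L10.BigColim.map_map, ← Groth.L10.BigColim.map_map, ← prodSec_π W (D.map (IsFiltered.leftToMax i j)),
      ← prodSec_π W (D.map (IsFiltered.rightToMax i j)), ← sub_eq_zero, ← map_sub]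
    obtain ⟨g, hg⟩ := hn l
    rw [← hg, ← Groth.L10.BigColim.map_map, hk l, map_zero]

variable (X) in
theorem preservesColimitsOfShape_cech (U : X.Etale) (hU : Qcqs U) [HasFiniteProducts (Over U)] {ι : Type (u + 1)}
    [Finite ι] (Uf : ι → Over U) (hUf : ∀ i, Qcqs (Uf i).left) (q : ℕ) (I : Type (u + 1)) [SmallCategory I] [IsFiltered I] :
    PreservesColimitsOfShape I
      (sheafToPresheaf X.smallEtaleTopology AddCommGrpCat.{u + 1} ⋙ EtCech.cechHFunctor Uf q) := by
  haveI : PreservesColimitsOfShape I (HomologicalComplex.homologyFunctor AddCommGrpCat.{u + 1} (ComplexShape.up ℕ) q) :=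
    Groth.L29.DC.HomologyColim.preservesColimitsOfShape_homology _ q
  let G : Sheaf X.smallEtaleTopology AddCommGrpCat.{u + 1} ⥤ CochainComplex AddCommGrpCat.{u + 1} ℕ :=
    sheafToPresheaf X.smallEtaleTopology AddCommGrpCat.{u + 1} ⋙
      (Functor.whiskeringLeft (Over U)ᵒᵖ X.Etaleᵒᵖ AddCommGrpCat.{u + 1}).obj (Over.forget U).op ⋙
      cechComplexFunctor Uf
  haveI : PreservesColimitsOfShape I G := ⟨fun {D} => ⟨fun {c} hc => ⟨HomologicalComplex.isColimitOfEval _ _ fun n => by
    let W : (Fin (n + 1) → ι) → X.Etale := fun i => (∏ᶜ fun a => Uf (i a)).left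
    let e : prodSec X W ≅ G ⋙ HomologicalComplex.eval _ _ n :=
      NatIso.ofComponents (fun F => Iso.refl _) fun φ => by
        refine (Category.comp_id _).trans (Eq.trans ?_ (Category.id_comp _).symm)
        rfl
    exact IsColimit.mapCoconeEquiv e (nonempty_isColimit_prodSec hc W fun i => qcqs_prod hU _ fun a => hUf (i a)).some⟩⟩⟩
  exact inferInstanceAs (PreservesColimitsOfShape I (G ⋙ HomologicalComplex.homologyFunctor _ _ q))

end Groth.L09.EtColimCech
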