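import Groth.Agent.L27.Colim.Etale
import Mathlib.CategoryTheory.Sites.Limits
import Mathlib.CategoryTheory.Sites.LocallyBijective
import Mathlib.CategoryTheory.Limits.Types.Filtered

/-! # Sections of filtered colimits of sheaves of sets on the small etale site -/

set_option autoImplicit false
set_option linter.style.haveILetI false
set_option backward.isDefEq.respectTransparency.types false

universe u

open CategoryTheory CategoryTheory.Limits AlgebraicGeometry Opposite

noncomputable section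

namespace Groth.L09.EtColimType

open Groth.L27 Groth.L27.Colim

variable {X : Scheme.{u}} {I : Type (u + 1)} [SmallCategory I] [IsFiltered I]
  {D : I ⥤ Sheaf X.smallEtaleTopology (Type (u + 1))} {c : Cocone D} (hc : IsColimit c)

theorem exists_finite_cover {K : X.Etale} (hK : Qcqs K) {R : Sieve K} (hR : R ∈ X.smallEtaleTopology K) :
    ∃ (ι : Type u) (_ : Finite ι) (W : ι → X.Etale) (g : ∀ i, W i ⟶ K), (∀ i, Qcqs (W i)) ∧ (∀ i, R.arrows (g i)) ∧
      Sieve.ofArrows W g ∈ X.smallEtaleTopology K := by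
  obtain ⟨_, _⟩ := hK
  choose V g v hg hv using (EtSite.mem_topology_iff R).1 hR
  have : ∀ x : K.left, ∃ O : (V x).left.Opens, IsAffineOpen O ∧ v x ∈ O := fun x => by
    obtain ⟨_, ⟨O, hO, rfl⟩, hx, -⟩ := (V x).left.isBasis_affineOpens.exists_subset_of_mem_open
      (Set.mem_univ (v x)) isOpen_univ
    exact ⟨O, hO, hx⟩
  choose O hO hvO using this
  haveI : ∀ x, AlgebraicGeometry.Etale (V x).hom := fun x => (V x).prop
  haveI : ∀ x, AlgebraicGeometry.Etale (g x).left := fun x => EtSite.etale_left (g x)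
  obtain ⟨σ, hσ⟩ := isCompact_univ.elim_finite_subcover (fun x => (g x).left '' (O x : Set (V x).left))
    (fun x => (g x).left.isOpenMap _ (O x).2) (fun x _ => Set.mem_iUnion.2 ⟨x, v x, hvO x, hv x⟩)
  let W : σ → X.Etale := fun i => Scheme.Etale.mk ((O i.1).ι ≫ (V i.1).hom)
  let m : ∀ i, W i ⟶ V i.1 := fun i => MorphismProperty.Over.homMk (O i.1).ι rfl
  refine ⟨σ, inferInstance, W, fun i => m i ≫ g i.1, fun i => ?_, fun i => R.downward_closed (hg i.1) (m i), ?_⟩
  · haveI : IsAffine (O i.1).toScheme := hO i.1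
    exact ⟨inferInstanceAs (CompactSpace (O i.1).toScheme), inferInstanceAs (QuasiSeparatedSpace (O i.1).toScheme)⟩
  · refine (EtSite.mem_topology_iff _).2 fun x => ?_
    obtain ⟨i, hi, z, hz, rfl⟩ := Set.mem_iUnion₂.1 (hσ (Set.mem_univ x))
    refine ⟨W ⟨i, hi⟩, m ⟨i, hi⟩ ≫ g i, (⟨z, hz⟩ : O i), Sieve.ofArrows_mk W (fun i => m i ≫ g i.1) ⟨i, hi⟩, ?_⟩
    exact Scheme.Hom.comp_apply (O i).ι (g i).left _

theorem exists_common {ι : Type u} [Finite ι] (k : ι → I) : ∃ m : I, ∀ i, Nonempty (k i ⟶ m) := by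
  classical
  haveI := Fintype.ofFinite ι
  obtain ⟨m, hm⟩ := IsFiltered.sup_objs_exists (Finset.univ.image k)
  exact ⟨m, fun i => hm (Finset.mem_image_of_mem k (Finset.mem_univ i))⟩

theorem exists_factor_all {ι : Type u} [Finite ι] {j : I} {k : ι → I} (h : ∀ i, j ⟶ k i) :
    ∃ (m : I) (f : j ⟶ m), ∀ i, ∃ g : k i ⟶ m, h i ≫ g = f := by
  classical
  haveI := Fintype.ofFinite ι
  let O : Finset I := insert j (Finset.univ.image k)
  let H : Finset (Σ' (a b : I) (_ : a ∈ O) (_ : b ∈ O), a ⟶ b) :=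
    Finset.univ.image fun i => ⟨j, k i, Finset.mem_insert_self _ _,
      Finset.mem_insert_of_mem (Finset.mem_image_of_mem k (Finset.mem_univ i)), h i⟩
  obtain ⟨m, T, hT⟩ := IsFiltered.sup_exists O H
  exact ⟨m, T (Finset.mem_insert_self _ _), fun i =>
    ⟨_, hT _ _ (Finset.mem_image_of_mem _ (Finset.mem_univ i))⟩⟩

omit [IsFiltered I] in
theorem map_map {i j k : I} (f : i ⟶ j) (g : j ⟶ k) {V : X.Etale} (y : (D.obj i).obj.obj (op V)) :
    (D.map g).hom.app (op V) ((D.map f).hom.app (op V) y) = (D.map (f ≫ g)).hom.app (op V) y :=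
  congr($(D.map_comp f g).hom.app (op V) y).symm

include hc in
/-- Locally, sections of a colimit come from a stage and agree at a stage if they agree. -/
theorem locally_rep (U : X.Etale) :
    (∀ x : c.pt.obj.obj (op U), ∃ R ∈ X.smallEtaleTopology U, ∀ (V : X.Etale) (g : V ⟶ U), R.arrows g →
      ∃ (j : I) (y : (D.obj j).obj.obj (op V)), (c.ι.app j).hom.app (op V) y = c.pt.obj.map g.op x) ∧
    (∀ (j : I) (y y' : (D.obj j).obj.obj (op U)), (c.ι.app j).hom.app (op U) y = (c.ι.app j).hom.app (op U) y' →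
      ∃ R ∈ X.smallEtaleTopology U, ∀ (V : X.Etale) (g : V ⟶ U), R.arrows g →
        ∃ (k : I) (h : j ⟶ k), (D.map h).hom.app (op V) ((D.obj j).obj.map g.op y) =
          (D.map h).hom.app (op V) ((D.obj j).obj.map g.op y')) := by
  let J := X.smallEtaleTopology
  let P := colimit.cocone (D ⋙ sheafToPresheaf J (Type (u + 1)))
  have hP : ∀ V : X.Etale, IsColimit (((evaluation X.Etaleᵒᵖ (Type (u + 1))).obj (op V)).mapCocone P) := fun V =>
    isColimitOfPreserves _ (colimit.isColimit _)
  let e := hc.coconePointUniqueUpToIso (Sheaf.isColimitSheafifyCocone P (colimit.isColimit _))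
  let θ : CategoryTheory.sheafify J P.pt ⟶ c.pt.obj := e.inv.hom
  haveI : IsIso θ := inferInstanceAs (IsIso ((sheafToPresheaf J _).map e.inv))
  let τ : P.pt ⟶ c.pt.obj := toSheafify J P.pt ≫ θ
  have hτ : ∀ j, P.ι.app j ≫ τ = (c.ι.app j).hom := fun j => by
    rw [← hc.comp_coconePointUniqueUpToIso_inv (Sheaf.isColimitSheafifyCocone P (colimit.isColimit _)) j]
    exact (Category.assoc _ _ _).symm.trans (congrArg (· ≫ θ) (Sheaf.sheafifyCocone_ι_app_val P j).symm)
  haveI : Presheaf.IsLocallyInjective J θ := Presheaf.isLocallyInjective_of_injective J θ fun V =>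
    (CategoryTheory.mono_iff_injective (θ.app V)).1 inferInstance
  haveI : Presheaf.IsLocallySurjective J θ := Presheaf.isLocallySurjective_of_surjective J θ fun V =>
    (CategoryTheory.epi_iff_surjective (θ.app V)).1 inferInstance
  haveI : Presheaf.IsLocallyInjective J τ := Presheaf.isLocallyInjective_comp J _ _
  haveI : Presheaf.IsLocallySurjective J τ := Presheaf.isLocallySurjective_comp J _ _
  have hτ' : ∀ (j : I) (V : X.Etale) (y : (D.obj j).obj.obj (op V)),
      τ.app (op V) ((P.ι.app j).app (op V) y) = (c.ι.app j).hom.app (op V) y := fun j V y =>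
    congr($(hτ j).app (op V) y)
  constructor
  · refine fun x => ⟨_, Presheaf.imageSieve_mem J τ x, fun V g ⟨z, hz⟩ => ?_⟩
    obtain ⟨j, y, hy⟩ := Concrete.isColimit_exists_rep _ (hP V) z
    exact ⟨j, y, (hτ' j V y).symm.trans ((congrArg (τ.app (op V)) hy).trans hz)⟩
  · intro j y y' hy
    refine ⟨_, Presheaf.equalizerSieve_mem J τ ((P.ι.app j).app (op U) y) ((P.ι.app j).app (op U) y')
      ((hτ' j U y).trans (hy.trans (hτ' j U y').symm)), fun V g hg => ?_⟩
    have h0 : (P.ι.app j).app (op V) ((D.obj j).obj.map g.op y) =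
        (P.ι.app j).app (op V) ((D.obj j).obj.map g.op y') :=
      (NatTrans.naturality_apply (P.ι.app j) g.op y).trans
        (hg.trans (NatTrans.naturality_apply (P.ι.app j) g.op y').symm)
    obtain ⟨k, f, f', hk⟩ := (Concrete.isColimit_rep_eq_iff_exists _ (hP V) _ _).1 h0
    refine ⟨_, f ≫ IsFiltered.coeqHom f f', ?_⟩
    refine ((map_map f (IsFiltered.coeqHom f f') _).symm.trans ?_)
    refine ((congrArg ((D.map (IsFiltered.coeqHom f f')).hom.app (op V)) hk).trans (map_map f' _ _)).trans ?_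
    rw [IsFiltered.coeq_condition f f']

theorem ι_map {j k : I} (h : j ⟶ k) {V : X.Etale} (y : (D.obj j).obj.obj (op V)) :
    (c.ι.app k).hom.app (op V) ((D.map h).hom.app (op V) y) = (c.ι.app j).hom.app (op V) y :=
  congr($(c.w h).hom.app (op V) y)

theorem sheafFor (F : Sheaf X.smallEtaleTopology (Type (u + 1))) {K : X.Etale} {ι : Type u} (W : ι → X.Etale)
    (g : ∀ i, W i ⟶ K) (h : Sieve.ofArrows W g ∈ X.smallEtaleTopology K) :
    Presieve.IsSheafFor F.obj (Presieve.ofArrows W g) :=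
  (Presieve.isSheafFor_iff_generate _).2 ((isSheaf_iff_isSheaf_of_type _ _).1 F.property _ h)

theorem ext_cover (F : Sheaf X.smallEtaleTopology (Type (u + 1))) {K : X.Etale} {ι : Type u} (W : ι → X.Etale)
    (g : ∀ i, W i ⟶ K) (h : Sieve.ofArrows W g ∈ X.smallEtaleTopology K) (x y : F.obj.obj (op K))
    (e : ∀ i, F.obj.map (g i).op x = F.obj.map (g i).op y) : x = y :=
  (sheafFor F W g h).isSeparatedFor.ext fun Z f hf => by cases hf with | mk i => exact e i

include hc in
theorem exists_map_eq {K : X.Etale} (hK : Qcqs K) (j : I) (y y' : (D.obj j).obj.obj (op K))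
    (hy : (c.ι.app j).hom.app (op K) y = (c.ι.app j).hom.app (op K) y') :
    ∃ (k : I) (h : j ⟶ k), (D.map h).hom.app (op K) y = (D.map h).hom.app (op K) y' := by
  obtain ⟨R, hR, hR'⟩ := (locally_rep hc K).2 j y y' hy
  obtain ⟨ι, _, W, g, -, hg, hcov⟩ := exists_finite_cover hK hR
  choose k h hk using fun i => hR' _ _ (hg i)
  obtain ⟨m, f, hf⟩ := exists_factor_all h
  refine ⟨m, f, ext_cover (D.obj m) W g hcov _ _ fun i => ?_⟩
  obtain ⟨l, hl⟩ := hf i
  rw [← NatTrans.naturality_apply (D.map f).hom, ← NatTrans.naturality_apply (D.map f).hom, ← hl, ← map_map,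
    ← map_map, hk i]

include hc in
theorem exists_rep {K : X.Etale} (hK : Qcqs K) (x : c.pt.obj.obj (op K)) :
    ∃ (j : I) (y : (D.obj j).obj.obj (op K)), (c.ι.app j).hom.app (op K) y = x := by
  obtain ⟨R, hR, hR'⟩ := (locally_rep hc K).1 x
  obtain ⟨ι, _, W, g, hW, hg, hcov⟩ := exists_finite_cover hK hR
  choose k y hy using fun i => hR' _ _ (hg i)
  obtain ⟨m, hm⟩ := exists_common k
  let z : ∀ i, (D.obj m).obj.obj (op (W i)) := fun i => (D.map (hm i).some).hom.app (op (W i)) (y i)
  have hz : ∀ i, (c.ι.app m).hom.app (op (W i)) (z i) = c.pt.obj.map (g i).op x := fun i => (ι_map (hm i).some (y i)).trans (hy i)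
  choose P a b hP hab hlift using fun p : ι × ι => exists_pb_qcqs (g p.1) (g p.2) (hW p.1) (hW p.2) hK
  have heq : ∀ p : ι × ι, ∃ (l : I) (h : m ⟶ l), (D.map h).hom.app (op (P p)) ((D.obj m).obj.map (a p).op (z p.1)) =
      (D.map h).hom.app (op (P p)) ((D.obj m).obj.map (b p).op (z p.2)) := fun p => by
    refine exists_map_eq hc (hP p) m _ _ ?_
    rw [NatTrans.naturality_apply, NatTrans.naturality_apply, hz, hz]
    show c.pt.obj.map (a p).op (c.pt.obj.map (g p.1).op x) = c.pt.obj.map (b p).op (c.pt.obj.map (g p.2).op x)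
    rw [← Functor.map_comp_apply, ← Functor.map_comp_apply, ← op_comp, ← op_comp, hab]
  choose l h hl using heq
  obtain ⟨n, f, hn⟩ := exists_factor_all h
  let w : ∀ i, (D.obj n).obj.obj (op (W i)) := fun i => (D.map f).hom.app (op (W i)) (z i)
  have hw : ∀ p : ι × ι, (D.obj n).obj.map (a p).op (w p.1) = (D.obj n).obj.map (b p).op (w p.2) := fun p => by
    obtain ⟨s, hs⟩ := hn p
    rw [← NatTrans.naturality_apply (D.map f).hom, ← NatTrans.naturality_apply (D.map f).hom, ← hs, ← map_map,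
      ← map_map, hl p]
  obtain ⟨t, ht, -⟩ := (Presieve.isSheafFor_arrows_iff _ g).1 (sheafFor (D.obj n) W g hcov) w
    fun i j Q u v e => by
      obtain ⟨r, ⟨hr₁, hr₂⟩, -⟩ := hlift (i, j) Q u v e
      rw [← hr₁, ← hr₂, op_comp, op_comp, Functor.map_comp_apply, Functor.map_comp_apply, hw (i, j)]
  refine ⟨n, t, ext_cover c.pt W g hcov _ _ fun i => ?_⟩
  refine (NatTrans.naturality_apply (c.ι.app n).hom (g i).op t).symm.trans ?_
  rw [ht i, ι_map, hz]

include hc in
/-- Sections over a qcqs object of a filtered colimit are the colimit of the sections. -/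
theorem nonempty_isColimit {K : X.Etale} (hK : Qcqs K) :
    Nonempty (IsColimit ((sheafToPresheaf X.smallEtaleTopology (Type (u + 1)) ⋙
      (evaluation X.Etaleᵒᵖ (Type (u + 1))).obj (op K)).mapCocone c)) := by
  refine ⟨Types.FilteredColimit.isColimitOf _ _ (fun x => ?_) fun i j yi yj e => ?_⟩
  · obtain ⟨j, y, hy⟩ := exists_rep hc hK x
    exact ⟨j, y, hy.symm⟩
  · let m := IsFiltered.max i j
    obtain ⟨k, h, hk⟩ := exists_map_eq hc hK m ((D.map (IsFiltered.leftToMax i j)).hom.app (op K) yi)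
      ((D.map (IsFiltered.rightToMax i j)).hom.app (op K) yj) (by rw [ι_map, ι_map]; exact e)
    rw [map_map, map_map] at hk
    exact ⟨k, _, _, hk⟩

end Groth.L09.EtColimType
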