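import Groth.Prelude.Def_CohProp
import Groth.Prelude.Def_EtOpen
import Groth.Agent.L27.FLC.Rep
import Mathlib.Algebra.Category.Grp.Basic
import Mathlib.Data.ZMod.Basic

/-!
Finite locally constant sheaves of sets are represented by finite etale schemes: linearise with
`ZMod 2`, represent, and cut out the open and closed part of points whose section is a basis vector.
-/

set_option autoImplicit false
universe u

open CategoryTheory CategoryTheory.Limits AlgebraicGeometry Opposite TopologicalSpace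

set_option backward.isDefEq.respectTransparency.types false
set_option backward.isDefEq.respectTransparency false
set_option linter.style.haveILetI false

noncomputable section

namespace Groth.L09.FLCSet

open Groth.L27 Fppf Groth.L25.HomScheme
open Groth.L25.HomScheme.Fam (sig inc sigMap isPullback_inc)

variable {S : Scheme.{u}} (F : EtDesc.Sh S)

local notation "JS" => S.smallEtaleTopology

/-- `c` trivializes `F` over `U`. -/
structure IsTrivSet (U : S.Etale) {M : Type} (c : M → F.obj.obj (op U)) : Prop where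
  inj : ∀ (W : S.Etale) (g : W ⟶ U), Nonempty W.left → ∀ m n,
    F.obj.map g.op (c m) = F.obj.map g.op (c n) → m = n
  loc : ∀ (W : S.Etale) (g : W ⟶ U) (x : F.obj.obj (op W)) (w : W.left),
    ∃ (W' : S.Etale) (d : W' ⟶ W) (w' : W'.left) (m : M),
      d.left w' = w ∧ F.obj.map d.op x = F.obj.map (d ≫ g).op (c m)

theorem exists_isTrivSet (U : S.Etale) (M : Type (u + 1)) [Finite M]
    (ε : F.over U ≅ (CohProp.constSh S M).over U) :
    ∃ (n : ℕ) (c : Fin n → F.obj.obj (op U)), IsTrivSet F U c := by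
  let C : S.Etaleᵒᵖ ⥤ Type (u + 1) := (Functor.const _).obj M
  let t := toSheafify JS C
  let σ := Finite.equivFin M
  let c : Fin (Nat.card M) → F.obj.obj (op U) := fun m =>
    ε.inv.hom.app (op (Over.mk (𝟙 U))) (t.app (op U) (σ.symm m))
  have hnat : ∀ {W : S.Etale} (g : W ⟶ U) (m : Fin (Nat.card M)),
      F.obj.map g.op (c m) = ε.inv.hom.app (op (Over.mk g)) (t.app (op W) (σ.symm m)) := fun {W} g m =>
    (NatTrans.naturality_apply ε.inv.hom (Over.homMk g (Category.comp_id g) : Over.mk g ⟶ Over.mk (𝟙 U)).op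
      (t.app (op U) (σ.symm m))).symm.trans
      (congrArg (ε.inv.hom.app (op (Over.mk g))) (NatTrans.naturality_apply t g.op (σ.symm m)).symm)
  refine ⟨_, c, ⟨fun W g ⟨w⟩ m n h => ?_, fun W g x w => ?_⟩⟩
  · rw [hnat, hnat] at h
    have h0 : t.app (op W) (σ.symm m) = t.app (op W) (σ.symm n) := by
      have h1 := congrArg (ε.hom.hom.app (op (Over.mk g))) h
      refine Eq.trans ?_ (Eq.trans h1 ?_)
      · exact (ConcreteCategory.congr_hom (congrArg (fun k => k.hom.app (op (Over.mk g))) ε.inv_hom_id) _).symm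
      · exact ConcreteCategory.congr_hom (congrArg (fun k => k.hom.app (op (Over.mk g))) ε.inv_hom_id) _
    obtain ⟨W', d, -, hd, -⟩ := (EtSite.mem_topology_iff _).1
      (Presheaf.equalizerSieve_mem JS t (X := op W) (σ.symm m) (σ.symm n) h0) w
    exact σ.symm.injective hd
  · obtain ⟨W', d, w', ⟨m, hm⟩, hw⟩ := (EtSite.mem_topology_iff _).1
      (Presheaf.imageSieve_mem JS t (U := op W) (ε.hom.hom.app (op (Over.mk g)) x)) w
    refine ⟨W', d, w', σ m, hw, ?_⟩
    rw [hnat, σ.symm_apply_apply]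
    let k : Over.mk (d ≫ g) ⟶ Over.mk g := Over.homMk d rfl
    refine Eq.trans ?_ (congrArg (ε.inv.hom.app (op (Over.mk (d ≫ g)))) hm).symm
    refine Eq.trans ?_ (NatTrans.naturality_apply ε.inv.hom k.op _).symm
    refine congrArg ((F.over U).obj.map k.op) ?_
    exact (ConcreteCategory.congr_hom (congrArg (fun k : F.over U ⟶ F.over U => k.hom.app (op (Over.mk g))) ε.hom_inv_id) x).symm

/-- Free `ZMod 2`-modules on the sections. -/
def freeP : S.Etaleᵒᵖ ⥤ AddCommGrpCat.{u + 1} where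
  obj W := AddCommGrpCat.of ((F.obj.obj W) →₀ ZMod 2)
  map g := AddCommGrpCat.ofHom (Finsupp.mapDomain.addMonoidHom (F.obj.map g))
  map_id W := AddCommGrpCat.ext fun p => by
    show Finsupp.mapDomain (F.obj.map (𝟙 W)) p = p
    rw [F.obj.map_id]
    exact Finsupp.mapDomain_id
  map_comp {U V W} f g := AddCommGrpCat.ext fun p => by
    show Finsupp.mapDomain (F.obj.map (f ≫ g)) p = Finsupp.mapDomain (F.obj.map g) (Finsupp.mapDomain (F.obj.map f) p)
    rw [← Finsupp.mapDomain_comp]
    exact congrArg (Finsupp.mapDomain · p) (funext fun x => Functor.map_comp_apply F.obj f g x)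

/-- The linearisation. -/
def lin : EtCoh.Ab S := (presheafToSheaf JS AddCommGrpCat.{u + 1}).obj (freeP F)

/-- The unit of the linearisation. -/
def η : freeP F ⟶ (lin F).obj := toSheafify JS (freeP F)

/-- A section as a basis vector. -/
def δ (W : S.Etale) (x : F.obj.obj (op W)) : (lin F).obj.obj (op W) :=
  (η F).app (op W) (Finsupp.single x 1)

theorem δ_map {W W' : S.Etale} (g : W' ⟶ W) (x : F.obj.obj (op W)) :
    (lin F).obj.map g.op (δ F W x) = δ F W' (F.obj.map g.op x) :=
  (NatTrans.naturality_apply (η F) g.op _).symm.trans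
    (congrArg ((η F).app (op W')) (Finsupp.mapDomain_single (f := F.obj.map g.op)))

theorem δ_injective (W : S.Etale) : Function.Injective (δ F W) := fun x y h => by
  refine EtSite.ext_of_locally F fun w => ?_
  obtain ⟨W', d, w', hd, hw⟩ := (EtSite.mem_topology_iff _).1
    (Presheaf.equalizerSieve_mem JS (toSheafify JS (freeP F)) (X := op W)
      (Finsupp.single x (1 : ZMod 2)) (Finsupp.single y 1) h) w
  refine ⟨W', d, w', hw, ?_⟩
  change Finsupp.mapDomain (F.obj.map d.op) (Finsupp.single x (1 : ZMod 2)) =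
    Finsupp.mapDomain (F.obj.map d.op) (Finsupp.single y 1) at hd
  rw [Finsupp.mapDomain_single, Finsupp.mapDomain_single] at hd
  exact Finsupp.single_left_injective one_ne_zero hd

section Triv

variable {F} {U : S.Etale} {M : Type} (c : M → F.obj.obj (op U))

/-- The constant sections of the linearisation. -/
def sHom : (M →₀ ZMod 2) →+ (lin F).obj.obj (op U) :=
  ((η F).app (op U)).hom.comp (Finsupp.mapDomain.addMonoidHom c)

theorem map_sHom {W : S.Etale} (g : W ⟶ U) (b : M →₀ ZMod 2) :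
    (lin F).obj.map g.op (sHom c b) =
      (η F).app (op W) (Finsupp.mapDomain (fun m => F.obj.map g.op (c m)) b) :=
  (NatTrans.naturality_apply (η F) g.op _).symm.trans
    (congrArg ((η F).app (op W)) Finsupp.mapDomain_comp.symm)

theorem sHom_single (m : M) : sHom c (Finsupp.single m 1) = δ F U (c m) :=
  congrArg ((η F).app (op U)) Finsupp.mapDomain_single

theorem isTriv_sHom (hc : IsTrivSet F U c) : FLC.IsTriv (lin F) U (sHom c) := by
  refine ⟨fun W g ⟨w⟩ b hb => ?_, fun W g x w => ?_⟩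
  · rw [map_sHom] at hb
    obtain ⟨W', d, w', hd, -⟩ := (EtSite.mem_topology_iff _).1
      (Presheaf.equalizerSieve_mem JS (toSheafify JS (freeP F)) (X := op W)
        (Finsupp.mapDomain (fun m => F.obj.map g.op (c m)) b) 0 (hb.trans (map_zero _).symm)) w
    change Finsupp.mapDomain (F.obj.map d.op) (Finsupp.mapDomain (fun m => F.obj.map g.op (c m)) b) =
      Finsupp.mapDomain (F.obj.map d.op) 0 at hd
    rw [Finsupp.mapDomain_zero, ← Finsupp.mapDomain_comp] at hd
    refine Finsupp.mapDomain_injective (fun m n h => hc.inj W' (d ≫ g) ⟨w'⟩ m n ?_)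
      (hd.trans Finsupp.mapDomain_zero.symm)
    rw [op_comp, Functor.map_comp_apply, Functor.map_comp_apply]
    exact h
  · obtain ⟨W₁, d₁, w₁, ⟨p, hp⟩, hw₁⟩ := (EtSite.mem_topology_iff _).1
      (Presheaf.imageSieve_mem JS (toSheafify JS (freeP F)) (U := op W) x) w
    have key : ∀ (p : F.obj.obj (op W₁) →₀ ZMod 2), ∀ (V : S.Etale) (e : V ⟶ W₁) (v : V.left),
        ∃ (V' : S.Etale) (d : V' ⟶ V) (v' : V'.left) (b : M →₀ ZMod 2), d.left v' = v ∧
          Finsupp.mapDomain (F.obj.map (d ≫ e).op) p =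
            Finsupp.mapDomain (fun m => F.obj.map (d ≫ e ≫ d₁ ≫ g).op (c m)) b := by
      intro p
      induction p using Finsupp.induction with
      | zero => exact fun V e v => ⟨V, 𝟙 _, v, 0, rfl, by rw [Finsupp.mapDomain_zero, Finsupp.mapDomain_zero]⟩
      | single_add a r p _ _ ih =>
        intro V e v
        obtain ⟨V₁, k₁, v₁, b₁, hv₁, h₁⟩ := ih V e v
        obtain ⟨V₂, k₂, v₂, m, hv₂, h₂⟩ :=
          hc.loc V₁ (k₁ ≫ e ≫ d₁ ≫ g) (F.obj.map (k₁ ≫ e).op a) v₁
        refine ⟨V₂, k₂ ≫ k₁, v₂, Finsupp.single m r + b₁, ?_, ?_⟩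
        · rw [← hv₁, ← hv₂]; rfl
        rw [Finsupp.mapDomain_add, Finsupp.mapDomain_add, Finsupp.mapDomain_single, Finsupp.mapDomain_single]
        refine congrArg₂ (· + ·) (congrArg (Finsupp.single · r) ?_) ?_
        · rw [Category.assoc, op_comp, Functor.map_comp_apply, h₂, Category.assoc]
        · have h := congrArg (Finsupp.mapDomain (F.obj.map k₂.op)) h₁
          rw [← Finsupp.mapDomain_comp, ← Finsupp.mapDomain_comp] at h
          refine Eq.trans ?_ (h.trans ?_)
          · exact congrArg (Finsupp.mapDomain · p) (funext fun y => by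
              rw [Category.assoc, op_comp, Functor.map_comp_apply]; rfl)
          · exact congrArg (Finsupp.mapDomain · b₁) (funext fun y => by
              exact ((congrArg (fun q => F.obj.map (Quiver.Hom.op q) (c y)) (Category.assoc k₂ k₁ (e ≫ d₁ ≫ g))).trans
              (Functor.map_comp_apply F.obj (k₁ ≫ e ≫ d₁ ≫ g).op k₂.op (c y))).symm)
    obtain ⟨W₂, d₂, w₂, b, hw₂, hb⟩ := key p W₁ (𝟙 _) w₁
    rw [Category.comp_id, Category.id_comp] at hb
    refine ⟨W₂, d₂ ≫ d₁, w₂, b, ?_, ?_⟩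
    · rw [← hw₁, ← hw₂]; rfl
    rw [op_comp, Functor.map_comp_apply, map_sHom, Category.assoc]
    refine (congrArg ((lin F).obj.map d₂.op) hp).symm.trans ?_
    exact (NatTrans.naturality_apply (η F) d₂.op p).symm.trans (congrArg ((η F).app (op W₂)) hb)

end Triv

section Rep

open Groth.L27.FLC (fam zarSep zarGlue sep_fst desc_fst)

/-- A sheaf with trivializations is represented by a finite etale scheme. -/
theorem exists_rep_of_isTriv (G₀ : EtCoh.Ab S) {ι : Type u} (U : ι → S.Etale) (hU : EtCoh.Covers U)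
    (hloc : ∀ i, ∃ (M : Type) (_ : AddCommGroup M) (_ : Finite M) (s : M →+ G₀.obj.obj (op (U i))),
      FLC.IsTriv G₀ (U i) s) :
    ∃ (A : Over S) (η : (fam G₀).obj A),
      (fam G₀).IsRep A η ∧ IsFinite A.hom ∧ AlgebraicGeometry.Etale A.hom := by
  have hloc : ∀ i, ∃ (A : Over S) (r : A ⟶ (EtFppf.a S).obj (U i)) (ξ : (fam G₀).obj A),
      (fam G₀).IsRepOn r ξ ∧ IsFinite r.left ∧ AlgebraicGeometry.Etale r.left := fun i => by
    obtain ⟨M, _, _, s, hs⟩ := hloc i
    exact FLC.exists_rep_local G₀ s hs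
  choose A r ξ hrep hrf hre using hloc
  let P : ι → Over S := fun i => (EtFppf.a S).obj (U i)
  obtain ⟨η₁, hη₁, -⟩ := Fam.exists_isRepOn_sigma (P := P) (r := r) (zarSep G₀) (zarGlue G₀) hrep
  haveI : AlgebraicGeometry.Etale (sig P).hom := IsZariskiLocalAtSource.sigmaDesc fun i => (U i).prop
  haveI : Surjective (sig P).hom := ⟨fun x => by
    obtain ⟨i, z, hz⟩ := hU x
    refine ⟨(inc P i).left z, ?_⟩
    exact ((Scheme.Hom.comp_apply (inc P i).left (sig P).hom z).symm.trans
      (congrArg (fun m : (P i).left ⟶ S => m z) (Over.w (inc P i)))).trans hz⟩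
  let 𝒰 : (sig P).left.OpenCover := sigmaOpenCover fun i => (P i).left
  have hQ : ∀ (Q : MorphismProperty Scheme.{u}) [IsZariskiLocalAtTarget Q], (∀ i, Q (r i).left) →
      Q (sigMap r).left := by
    intro Q _ hq
    refine IsZariskiLocalAtTarget.of_openCover 𝒰 fun i => ?_
    show Q (pullback.snd (sigMap r).left (inc P i).left)
    rw [← (isPullback_inc (r := r) i).flip.isoPullback_inv_snd]
    exact (MorphismProperty.cancel_left_of_respectsIso Q _ _).2 (hq i)
  haveI hf : IsFinite (sigMap r).left := hQ @IsFinite hrf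
  have he : AlgebraicGeometry.Etale (sigMap r).left := hQ @AlgebraicGeometry.Etale hre
  obtain ⟨A₀, η, hη, q, sq, -⟩ := hη₁.exists_rep
    (Groth.L20.isIndQuasiAffineHom_of_isQuasiAffineHom _ ⟨inferInstance, fun V hV => by
      have : IsAffine ((sigMap r).left ⁻¹ᵁ V) := hV.preimage (sigMap r).left
      infer_instance⟩) (sep_fst G₀ (sig P)) (desc_fst G₀ (sig P))
  have hp : (@Surjective ⊓ @Flat ⊓ @LocallyOfFinitePresentation : MorphismProperty Scheme.{u}) (sig P).hom :=
    ⟨⟨inferInstance, inferInstance⟩, inferInstance⟩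
  exact ⟨A₀, η, hη,
    MorphismProperty.of_isPullback_of_descendsAlong (P := (@IsFinite : MorphismProperty Scheme.{u})) sq hp hf,
    MorphismProperty.of_isPullback_of_descendsAlong (P := (@AlgebraicGeometry.Etale : MorphismProperty Scheme.{u})) sq hp he⟩


end Rep

theorem etale_left {V W : S.Etale} (g : V ⟶ W) : AlgebraicGeometry.Etale g.left := etale_a_map g

/-- A finite locally constant sheaf of sets is represented by a finite etale scheme. -/
theorem exists_repSh_iso (hF : CohProp.IsFinLocConstSet F) :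
    ∃ (U : S.Etale) (_ : IsFinite U.hom), Nonempty (F ≅ EtDesc.repSh U) := by
  classical
  obtain ⟨ι, U, hU, hF⟩ := hF
  choose M hM ε using hF
  haveI := hM
  choose n c hc using fun i => exists_isTrivSet F (U i) (M i) (ε i).some
  obtain ⟨A₀, ξ, hrep, hfin, het⟩ := exists_rep_of_isTriv (lin F) U hU fun i =>
    ⟨Fin (n i) →₀ ZMod 2, inferInstance, Finite.of_equiv _ Finsupp.equivFunOnFinite.symm, sHom (c i),
      isTriv_sHom (c i) (hc i)⟩
  haveI := hfin
  haveI := het
  let T : S.Etale := Scheme.Etale.mk A₀.hom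
  obtain ⟨uT, huT⟩ : ∃ uT : (lin F).obj.obj (op T), FLC.ev (lin F) T uT = ξ := FLC.ev_surjective (lin F) T ξ
  have univ : ∀ (W : S.Etale) (v : (lin F).obj.obj (op W)), ∃! a : W ⟶ T, (lin F).obj.map a.op uT = v := by
    intro W v
    obtain ⟨b, hb, hb'⟩ := hrep ((EtFppf.a S).obj W) (FLC.ev (lin F) W v)
    have hev : ∀ a : W ⟶ T,
        FLC.ev (lin F) W ((lin F).obj.map a.op uT) = (FLC.fam (lin F)).res ((EtFppf.a S).map a) ξ := fun a => by
      rw [FLC.ev_nat, huT]; rfl
    let a₀ : W ⟶ T := MorphismProperty.Over.homMk b.left (Over.w b)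
    have ha₀ : (EtFppf.a S).map a₀ = b := Over.OverMorphism.ext rfl
    refine ⟨a₀, FLC.ev_injective (lin F) W ?_, fun a ha => ?_⟩
    · rw [hev, ha₀]; exact hb
    · have h := hb' ((EtFppf.a S).map a) ((hev a).symm.trans (congrArg (FLC.ev (lin F) W) ha))
      exact MorphismProperty.Over.Hom.ext (congrArg (fun q => q.left) h)
  -- the points whose section is a basis vector
  let Z : Set T.left := {t | ∃ (W : S.Etale) (d : W ⟶ T) (w : W.left) (x : F.obj.obj (op W)),
    d.left w = t ∧ (lin F).obj.map d.op uT = δ F W x}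
  have hZo : IsOpen Z := isOpen_iff_forall_mem_open.2 (by
    rintro _ ⟨W, d, w, x, rfl, h⟩
    haveI := etale_left d
    exact ⟨Set.range d.left, by rintro _ ⟨z, rfl⟩; exact ⟨W, d, z, x, rfl, h⟩,
      d.left.isOpenMap.isOpen_range, ⟨w, rfl⟩⟩)
  have hZc : IsClosed Z := ⟨isOpen_iff_forall_mem_open.2 (by
    intro t ht
    obtain ⟨i, y, hy⟩ := hU (T.hom t)
    let P : S.Etale := Scheme.Etale.mk (𝟙 S)
    obtain ⟨W, a, b, w, hwa, -, -⟩ := EtSite.exists_common
      (MorphismProperty.Over.homMk T.hom (Category.comp_id _) : T ⟶ P)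
      (MorphismProperty.Over.homMk (U i).hom (Category.comp_id _) : U i ⟶ P) t y hy.symm
    obtain ⟨W', d, w', m, hw', hd⟩ := (isTriv_sHom (c i) (hc i)).loc W b ((lin F).obj.map a.op uT) w
    haveI := etale_left (d ≫ a)
    refine ⟨Set.range (d ≫ a).left, ?_, (d ≫ a).left.isOpenMap.isOpen_range, ⟨w', ?_⟩⟩
    · rintro _ ⟨z, rfl⟩ ⟨W₂, e, w₂, x, he, hx⟩
      obtain ⟨W₃, p, q, w₃, -, -, hpq⟩ := EtSite.exists_common (d ≫ a) e z w₂ he.symm
      obtain ⟨W₄, r, w₄, k, -, hk⟩ := (hc i).loc W₃ (p ≫ d ≫ b) (F.obj.map q.op x) w₃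
      have h1 : (lin F).obj.map (p ≫ d ≫ b).op (sHom (c i) m) = δ F W₃ (F.obj.map q.op x) := by
        rw [← δ_map, ← hx, op_comp, Functor.map_comp_apply, ← hd, ← Functor.map_comp_apply,
          ← Functor.map_comp_apply, ← Functor.map_comp_apply, ← op_comp, ← op_comp, ← op_comp, Category.assoc, hpq]
      have h2 : m = Finsupp.single k 1 := by
        refine sub_eq_zero.1 ((isTriv_sHom (c i) (hc i)).inj W₄ (r ≫ p ≫ d ≫ b) ⟨w₄⟩ _ ?_)
        rw [map_sub, map_sub, sub_eq_zero, sHom_single, δ_map, ← hk, ← δ_map, ← h1, ← Functor.map_comp_apply,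
          ← op_comp]
      refine ht ⟨W', d ≫ a, w', F.obj.map (d ≫ b).op (c i k), ?_, ?_⟩
      · rw [← hwa, ← hw']; rfl
      · rw [← δ_map, ← sHom_single, ← h2, ← hd, op_comp, Functor.map_comp_apply]
    · rw [← hwa, ← hw']; rfl)⟩
  let Zo : T.left.Opens := ⟨Z, hZo⟩
  haveI : IsOpenImmersion Zo.ι := inferInstanceAs (IsOpenImmersion (Scheme.Opens.ι (X := A₀.left) Zo))
  haveI : IsClosedImmersion Zo.ι := IsClosedImmersion.of_isPreimmersion _ (by rw [Scheme.Opens.range_ι]; exact hZc)
  let Zet : S.Etale := Scheme.Etale.mk (Zo.ι ≫ T.hom)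
  let ιZ : Zet ⟶ T := MorphismProperty.Over.homMk Zo.ι rfl
  haveI hmono : Mono ιZ.left := inferInstanceAs (Mono Zo.ι)
  have hval : ∀ (W : S.Etale) (a : W ⟶ Zet), ∃ x, δ F W x = (lin F).obj.map (a ≫ ιZ).op uT := by
    intro W a
    obtain ⟨v, hv⟩ : ∃ v, v = (lin F).obj.map (a ≫ ιZ).op uT := ⟨_, rfl⟩
    let Sv : Sieve W :=
      { arrows := fun V g => ∃ x, δ F V x = (lin F).obj.map g.op v
        downward_closed := fun {Y V g} hg k => by
          obtain ⟨x, hx⟩ := hg
          refine ⟨F.obj.map k.op x, ?_⟩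
          rw [← δ_map, hx, op_comp, Functor.map_comp_apply] }
    have hSv : Sv ∈ JS W := (EtSite.mem_topology_iff _).2 fun w => by
      obtain ⟨W₂, e, w₂, x, he, hx⟩ := (a.left w).2
      obtain ⟨W₃, p, q, w₃, hp, -, hpq⟩ := EtSite.exists_common (a ≫ ιZ) e w w₂ he.symm
      refine ⟨W₃, p, w₃, ⟨F.obj.map q.op x, ?_⟩, hp⟩
      rw [← δ_map, ← hx, ← Functor.map_comp_apply, ← op_comp, ← hpq, op_comp, Functor.map_comp_apply, hv]
    let fam : Presieve.FamilyOfElements F.obj Sv.arrows := fun V g hg => hg.choose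
    have hcompat : fam.Compatible := fun Y₁ Y₂ V g₁ g₂ f₁ f₂ h₁ h₂ e => δ_injective F V (by
      rw [← δ_map, ← δ_map, h₁.choose_spec, h₂.choose_spec, ← Functor.map_comp_apply, ← Functor.map_comp_apply,
        ← op_comp, ← op_comp, e])
    obtain ⟨y, hy, -⟩ := (isSheaf_iff_isSheaf_of_type _ _).1 F.property Sv hSv fam hcompat
    rw [← hv]
    refine ⟨y, EtSite.ext_of_locally (lin F) fun w => ?_⟩
    obtain ⟨V, g, z, hg, hz⟩ := (EtSite.mem_topology_iff _).1 hSv w
    refine ⟨V, g, z, hz, ?_⟩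
    rw [δ_map, hy g hg]
    exact hg.choose_spec
  have hlift : ∀ (W : S.Etale) (x : F.obj.obj (op W)),
      ∃! a : W ⟶ Zet, (lin F).obj.map (a ≫ ιZ).op uT = δ F W x := by
    intro W x
    obtain ⟨a₁, ha₁, huniq⟩ := univ W (δ F W x)
    have hr : Set.range a₁.left ⊆ Set.range Zo.ι := by
      rintro _ ⟨w, rfl⟩
      rw [Scheme.Opens.range_ι]
      exact ⟨W, a₁, w, x, rfl, ha₁⟩
    let a : W ⟶ Zet := MorphismProperty.Over.homMk (IsOpenImmersion.lift Zo.ι a₁.left hr) (by
      show IsOpenImmersion.lift Zo.ι a₁.left hr ≫ Zo.ι ≫ T.hom = W.hom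
      rw [IsOpenImmersion.lift_fac_assoc]
      exact MorphismProperty.Over.w a₁)
    have ha : a ≫ ιZ = a₁ := MorphismProperty.Over.Hom.ext ((show (a ≫ ιZ).left = a.left ≫ ιZ.left from rfl).trans (IsOpenImmersion.lift_fac Zo.ι a₁.left hr))
    refine ⟨a, by show (lin F).obj.map (a ≫ ιZ).op uT = _; rw [ha]; exact ha₁, fun a' ha' => ?_⟩
    refine MorphismProperty.Over.Hom.ext ((cancel_mono ιZ.left).1 ?_)
    exact congrArg (fun q : W ⟶ T => q.left) ((huniq _ ha').trans ha.symm)
  choose L hL hL' using hlift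
  let Ψ : F.obj ⟶ yoneda.obj Zet ⋙ uliftFunctor.{u + 1, u} :=
    { app := fun W => TypeCat.ofHom fun x => ULift.up (L W.unop x)
      naturality := fun W W' g => ConcreteCategory.hom_ext _ _ fun x => by
        refine congrArg ULift.up (hL' W'.unop (F.obj.map g x) (g.unop ≫ L W.unop x) ?_).symm
        show (lin F).obj.map ((g.unop ≫ L W.unop x) ≫ ιZ).op uT = δ F W'.unop (F.obj.map g x)
        rw [Category.assoc, op_comp, Functor.map_comp_apply, hL, δ_map]
        rfl }
  haveI : ∀ W, IsIso (Ψ.app W) := fun W => by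
    rw [isIso_iff_bijective]
    refine ⟨fun x y h => δ_injective F W.unop ?_, fun ⟨a⟩ => ?_⟩
    · have h' : L W.unop x = L W.unop y := congrArg ULift.down h
      rw [← hL W.unop x, h', hL]
    · obtain ⟨x, hx⟩ := hval W.unop a
      exact ⟨x, congrArg ULift.up (hL' W.unop x a hx.symm).symm⟩
  haveI : IsIso Ψ := NatIso.isIso_of_isIso_app Ψ
  haveI : IsFinite T.hom := hfin
  exact ⟨Zet, inferInstanceAs (IsFinite (Zo.ι ≫ T.hom)),
    ⟨sheafificationIso F ≪≫ (presheafToSheaf JS (Type (u + 1))).mapIso (asIso Ψ)⟩⟩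

end Groth.L09.FLCSet
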