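import Groth.Agent.L09.FamSite

/-!
Changes of index category with multi-initial structured arrows are multi-flat.
-/

set_option autoImplicit false
set_option linter.unusedSectionVars false
set_option linter.unusedVariables false
set_option backward.isDefEq.respectTransparency false
set_option backward.isDefEq.respectTransparency.types false
universe u
open CategoryTheory CategoryTheory.Limits Opposite Pseudofunctor.CoGrothendieck TopologicalSpace

namespace Groth.L09.FamSite

variable {K K' : Type} [Category.{0} K] [Category.{0} K'] (Z : K ⥤ TopCat.{u}) (φ : K' ⥤ K)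

/-- Every component of the structured arrows has an initial object. -/
structure MultiInitial (k : K) where
  /-- The components. -/
  H : Type
  /-- The component of an arrow. -/
  idx : StructuredArrow k φ → H
  idx_eq : ∀ {g g' : StructuredArrow k φ}, (g ⟶ g') → idx g = idx g'
  /-- The initial objects. -/
  ini : H → StructuredArrow k φ
  /-- The arrows from the initial objects. -/
  toArr : ∀ g, ini (idx g) ⟶ g
  uniq : ∀ h g (a b : ini h ⟶ g), a = b
  idx_uniq : ∀ h, idx (ini h) = h

theorem isMultiFlat_reindex (M : ∀ k, MultiInitial φ k) : MultiFlat.IsMultiFlat (reindex Z φ) := fun x => by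
  let c := M x.unop.base
  let base : CostructuredArrow (reindex Z φ).op x → StructuredArrow x.unop.base φ := fun g =>
    StructuredArrow.mk (Y := g.left.unop.base) g.hom.unop.base
  let baseMap : ∀ {g g' : CostructuredArrow (reindex Z φ).op x}, (g ⟶ g') → (base g' ⟶ base g) := fun {g g'} f =>
    StructuredArrow.homMk f.left.unop.base
      (congrArg (fun z : (reindex Z φ).op.obj g.left ⟶ x => z.unop.base) (CostructuredArrow.w f))
  let π : CostructuredArrow (reindex Z φ).op x ⥤ Discrete (ULift.{u} c.H) :=
    { obj := fun g => ⟨⟨c.idx (base g)⟩⟩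
      map := fun {g g'} f => Discrete.eqToHom (congrArg ULift.up (c.idx_eq (baseMap f)).symm) }
  refine ⟨ULift.{u} c.H, π, fun d => ?_⟩
  obtain ⟨⟨h⟩⟩ := d
  -- the canonical objects over the initial arrow of the component
  let u := c.ini h
  let can : ∀ (W : Opens (Z.obj (φ.obj u.right))), ob x.unop ≤ (Opens.map (Z.map u.hom)).obj W →
      CostructuredArrow (reindex Z φ).op x := fun W hW =>
    CostructuredArrow.mk (Y := op (mk (Z := φ ⋙ Z) u.right W))
      (hom (X := x.unop) (Z := Z) (Y := (reindex Z φ).obj (mk (Z := φ ⋙ Z) u.right W)) u.hom hW).op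
  -- preimages
  have pre : ∀ g : CostructuredArrow (reindex Z φ).op x, c.idx (base g) = h →
      ∃ (k : u ⟶ base g),
        ob x.unop ≤ (Opens.map (Z.map u.hom)).obj ((Opens.map (Z.map (φ.map k.right))).obj (ob g.left.unop)) := by
    intro g hg
    let k : u ⟶ base g := eqToHom (congrArg c.ini hg.symm) ≫ c.toArr (base g)
    refine ⟨k, fun z hz => ?_⟩
    show Z.map (φ.map k.right) (Z.map u.hom z) ∈ ob g.left.unop
    rw [map_map_apply, StructuredArrow.w k]
    exact hom_le g.hom.unop hz
  refine
    { nonempty := ?ne
      cocone_objs := fun a b => ?objs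
      cocone_maps := fun {a b} f f' => ?maps }
  case ne => exact ⟨CostructuredArrow.mk (Y := can ⊤ (fun _ _ => trivial)) (Discrete.eqToHom (congrArg ULift.up (c.idx_uniq h)))⟩
  case objs =>
    have ha : c.idx (base a.left) = h := congrArg ULift.down (Discrete.eq_of_hom a.hom)
    have hb : c.idx (base b.left) = h := congrArg ULift.down (Discrete.eq_of_hom b.hom)
    obtain ⟨ka, hka⟩ := pre a.left ha
    obtain ⟨kb, hkb⟩ := pre b.left hb
    let W := (Opens.map (Z.map (φ.map ka.right))).obj (ob a.left.left.unop) ⊓
      (Opens.map (Z.map (φ.map kb.right))).obj (ob b.left.left.unop)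
    have hW : ob x.unop ≤ (Opens.map (Z.map u.hom)).obj W := fun z hz => ⟨hka hz, hkb hz⟩
    let t : CostructuredArrow π ⟨⟨h⟩⟩ := CostructuredArrow.mk (Y := can W hW) (Discrete.eqToHom (congrArg ULift.up (c.idx_uniq h)))
    refine ⟨t, CostructuredArrow.homMk (CostructuredArrow.homMk
        (hom (X := mk (Z := φ ⋙ Z) u.right W) (Y := a.left.left.unop) ka.right inf_le_left).op
        (Quiver.Hom.unop_inj (hom_ext (StructuredArrow.w ka)))) (Subsingleton.elim _ _),
      CostructuredArrow.homMk (CostructuredArrow.homMk
        (hom (X := mk (Z := φ ⋙ Z) u.right W) (Y := b.left.left.unop) kb.right inf_le_right).op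
        (Quiver.Hom.unop_inj (hom_ext (StructuredArrow.w kb)))) (Subsingleton.elim _ _), trivial⟩
  case maps =>
    have hb : c.idx (base b.left) = h := congrArg ULift.down (Discrete.eq_of_hom b.hom)
    obtain ⟨kb, hkb⟩ := pre b.left hb
    let W := (Opens.map (Z.map (φ.map kb.right))).obj (ob b.left.left.unop)
    let t : CostructuredArrow π ⟨⟨h⟩⟩ := CostructuredArrow.mk (Y := can W hkb) (Discrete.eqToHom (congrArg ULift.up (c.idx_uniq h)))
    refine ⟨t, CostructuredArrow.homMk (CostructuredArrow.homMk
        (hom (X := mk (Z := φ ⋙ Z) u.right W) (Y := b.left.left.unop) kb.right le_rfl).op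
        (Quiver.Hom.unop_inj (hom_ext (StructuredArrow.w kb)))) (Subsingleton.elim _ _), ?_⟩
    refine CostructuredArrow.ext _ _ (CostructuredArrow.ext _ _ (Quiver.Hom.unop_inj (hom_ext ?_)))
    exact congrArg (fun z : u ⟶ base a.left => z.right) (c.uniq h _ (kb ≫ baseMap f.left) (kb ≫ baseMap f'.left))

end Groth.L09.FamSite
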