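import Mathlib.CategoryTheory.Functor.Flat
import Mathlib.CategoryTheory.Sites.Pullback
import Mathlib.Algebra.Category.Grp.FilteredColimits
import Mathlib.Algebra.Category.Grp.AB
import Mathlib.Algebra.Category.Grp.Limits
import Mathlib.CategoryTheory.Abelian.GrothendieckAxioms.Basic
import Mathlib.CategoryTheory.Preadditive.Injective.Basic

/-!
Left Kan extensions of abelian presheaves along functors whose comma categories are disjoint unions of filtered ones.
-/

set_option autoImplicit false
set_option linter.unusedSectionVars false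
universe u

open CategoryTheory Category Limits

namespace Groth.L09.MultiFlat

/-- Colimits over a disjoint union of filtered categories are exact. -/
theorem preservesFiniteLimits_colim {J : Type u} [SmallCategory J] {H : Type u} (π : J ⥤ Discrete H)
    (h : ∀ c, IsFiltered (CostructuredArrow π c)) :
    PreservesFiniteLimits (colim : (J ⥤ AddCommGrpCat.{u}) ⥤ AddCommGrpCat.{u}) := by
  have h1 : PreservesFiniteLimits (π.lan : (J ⥤ AddCommGrpCat.{u}) ⥤ Discrete H ⥤ AddCommGrpCat.{u}) := by
    refine ⟨fun K _ _ => preservesLimitsOfShape_of_evaluation _ K fun c => ?_⟩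
    have := h c
    have : PreservesFiniteLimits (colim : (CostructuredArrow π c ⥤ AddCommGrpCat.{u}) ⥤ AddCommGrpCat.{u}) :=
      HasExactColimitsOfShape.preservesFiniteLimits
    exact preservesLimitsOfShape_of_natIso (lanEvaluationIsoColim _ _ _).symm
  have : PreservesFiniteLimits (colim : (Discrete H ⥤ AddCommGrpCat.{u}) ⥤ AddCommGrpCat.{u}) :=
    HasExactColimitsOfShape.preservesFiniteLimits
  have := comp_preservesFiniteLimits (π.lan : (J ⥤ AddCommGrpCat.{u}) ⥤ Discrete H ⥤ AddCommGrpCat.{u}) colim
  let e : Functor.const (Discrete H) ⋙ (Functor.whiskeringLeft J (Discrete H) AddCommGrpCat.{u}).obj π ≅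
      Functor.const J := NatIso.ofComponents (fun X => NatIso.ofComponents fun _ => Iso.refl _)
  exact preservesFiniteLimits_of_natIso
    ((((π.lanAdjunction AddCommGrpCat.{u}).comp colimConstAdj).ofNatIsoRight e).leftAdjointUniq colimConstAdj)

variable {C D : Type u} [SmallCategory C] [SmallCategory D] (G : C ⥤ D)

/-- The condition on the comma categories. -/
def IsMultiFlat : Prop :=
  ∀ x : Dᵒᵖ, ∃ (H : Type u) (π : CostructuredArrow G.op x ⥤ Discrete H), ∀ c, IsFiltered (CostructuredArrow π c)

theorem preservesFiniteLimits_lan (h : IsMultiFlat G) :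
    PreservesFiniteLimits (G.op.lan : (Cᵒᵖ ⥤ AddCommGrpCat.{u}) ⥤ Dᵒᵖ ⥤ AddCommGrpCat.{u}) := by
  refine ⟨fun K _ _ => preservesLimitsOfShape_of_evaluation _ K fun x => ?_⟩
  obtain ⟨H, π, hπ⟩ := h x
  have := preservesFiniteLimits_colim π hπ
  exact preservesLimitsOfShape_of_natIso (lanEvaluationIsoColim _ _ _).symm

variable (J : GrothendieckTopology C) (K : GrothendieckTopology D) [G.IsContinuous J K]

attribute [local instance] reflectsLimits_of_reflectsIsomorphisms in
theorem preservesFiniteLimits_pullback (h : IsMultiFlat G) :
    PreservesFiniteLimits (G.sheafPullback AddCommGrpCat.{u} J K) :=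
  have := preservesFiniteLimits_lan G h
  Functor.sheafPullbackConstruction.preservesFiniteLimits G AddCommGrpCat.{u} J K

/-- Restriction along such a functor preserves injectives. -/
theorem injective_restrict (h : IsMultiFlat G) (X : Sheaf K AddCommGrpCat.{u}) [Injective X] :
    Injective ((G.sheafPushforwardContinuous AddCommGrpCat.{u} J K).obj X) :=
  have := preservesFiniteLimits_pullback G J K h
  Injective.injective_of_adjoint (G.sheafAdjunctionContinuous AddCommGrpCat.{u} J K) X

end Groth.L09.MultiFlat
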