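import Mathlib.CategoryTheory.Sites.CoverLifting
import Mathlib.CategoryTheory.Limits.Final
import Mathlib.CategoryTheory.Functor.KanExtension.Adjunction

/-!
Base change for restriction and right Kan extension of sheaves along a square of functors.
-/

set_option autoImplicit false
set_option linter.unusedSectionVars false
set_option backward.isDefEq.respectTransparency false
set_option backward.isDefEq.respectTransparency.types false
universe v₁ v₂ v₃ v₄ u₁ u₂ u₃ u₄ v u

open CategoryTheory Category Limits Opposite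

namespace Groth.L09.SheafBC

variable {C₁ : Type u₁} [Category.{v₁} C₁] {C₂ : Type u₂} [Category.{v₂} C₂]
  {C₃ : Type u₃} [Category.{v₃} C₃] {C₄ : Type u₄} [Category.{v₄} C₄]
  {a : C₁ ⥤ C₂} {r : C₂ ⥤ C₄} {l : C₁ ⥤ C₃} {b : C₃ ⥤ C₄}
  (J₁ : GrothendieckTopology C₁) (J₂ : GrothendieckTopology C₂)
  (J₃ : GrothendieckTopology C₃) (J₄ : GrothendieckTopology C₄)
  (A : Type u) [Category.{v} A]
  [a.IsContinuous J₁ J₂] [r.IsContinuous J₂ J₄] [l.IsContinuous J₁ J₃] [b.IsContinuous J₃ J₄]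

/-- The comparison of the two restrictions. -/
noncomputable def θ (e : a ⋙ r ≅ l ⋙ b) :
    b.sheafPushforwardContinuous A J₃ J₄ ⋙ l.sheafPushforwardContinuous A J₁ J₃ ≅
      r.sheafPushforwardContinuous A J₂ J₄ ⋙ a.sheafPushforwardContinuous A J₁ J₂ :=
  NatIso.ofComponents
    (fun Z => (fullyFaithfulSheafToPresheaf _ _).preimageIso
      (Functor.isoWhiskerRight (NatIso.op e) Z.obj))
    (fun {Z Z'} φ => Sheaf.hom_ext (by
      ext y : 2
      exact (φ.hom.naturality (e.hom.app y.unop).op).symm))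

/-- The induced functor on structured arrows. -/
def Φ (e : a ⋙ r ≅ l ⋙ b) (x : C₃) : StructuredArrow (op x) l.op ⥤ StructuredArrow (op (b.obj x)) r.op where
  obj g := StructuredArrow.mk (Y := op (a.obj g.right.unop)) ((b.map g.hom.unop).op ≫ (e.hom.app g.right.unop).op)
  map {g g'} k := StructuredArrow.homMk (a.map k.right.unop).op (Quiver.Hom.unop_inj (by
    show r.map (a.map k.right.unop) ≫ e.hom.app g.right.unop ≫ b.map g.hom.unop =
      e.hom.app g'.right.unop ≫ b.map g'.hom.unop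
    have h1 : r.map (a.map k.right.unop) ≫ e.hom.app g.right.unop = e.hom.app g'.right.unop ≫ b.map (l.map k.right.unop) :=
      e.hom.naturality k.right.unop
    rw [reassoc_of% h1, ← b.map_comp]
    exact congrArg (fun z => _ ≫ b.map z) (congrArg Quiver.Hom.unop (StructuredArrow.w k))))
  map_id g := StructuredArrow.ext _ _ (Quiver.Hom.unop_inj (a.map_id g.right.unop))
  map_comp {g g' g''} k k' := StructuredArrow.ext _ _ (Quiver.Hom.unop_inj (a.map_comp k'.right.unop k.right.unop))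

variable [r.IsCocontinuous J₂ J₄] [l.IsCocontinuous J₁ J₃]
  [∀ (P : C₂ᵒᵖ ⥤ A), r.op.HasPointwiseRightKanExtension P]
  [∀ (P : C₁ᵒᵖ ⥤ A), l.op.HasPointwiseRightKanExtension P]

/-- The base change map. -/
noncomputable def β (e : a ⋙ r ≅ l ⋙ b) (Z : Sheaf J₂ A) :
    (b.sheafPushforwardContinuous A J₃ J₄).obj ((r.sheafPushforwardCocontinuous A J₂ J₄).obj Z) ⟶
      (l.sheafPushforwardCocontinuous A J₁ J₃).obj ((a.sheafPushforwardContinuous A J₁ J₂).obj Z) :=
  (l.sheafAdjunctionCocontinuous A J₁ J₃).homEquiv _ _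
    ((θ J₁ J₂ J₃ J₄ A e).hom.app _ ≫
      (a.sheafPushforwardContinuous A J₁ J₂).map ((r.sheafAdjunctionCocontinuous A J₂ J₄).counit.app Z))

lemma β_fac (e : a ⋙ r ≅ l ⋙ b) (Z : Sheaf J₂ A) (y : C₁) :
    (β J₁ J₂ J₃ J₄ A e Z).hom.app (op (l.obj y)) ≫ (l.op.ranCounit.app (a.op ⋙ Z.obj)).app (op y) =
      ((r.sheafPushforwardCocontinuous A J₂ J₄).obj Z).obj.map (e.hom.app y).op ≫
        (r.op.ranCounit.app Z.obj).app (op (a.obj y)) := by
  have h := congrArg (fun k => k.hom.app (op y))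
    (((l.sheafAdjunctionCocontinuous A J₁ J₃).homEquiv_counit _ _ (β J₁ J₂ J₃ J₄ A e Z)).symm.trans
      (Equiv.symm_apply_apply _ _))
  have e₁ := NatTrans.congr_app (l.sheafAdjunctionCocontinuous_counit_app_hom A J₁ J₃
    ((a.sheafPushforwardContinuous A J₁ J₂).obj Z)) (op y)
  have e₂ := NatTrans.congr_app (r.sheafAdjunctionCocontinuous_counit_app_hom A J₂ J₄ Z) (op (a.obj y))
  rw [Functor.ranAdjunction_counit] at e₁ e₂
  refine (congrArg (_ ≫ ·) e₁).symm.trans (h.trans ?_)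
  exact congrArg (_ ≫ ·) e₂

/-- The base change map is an isomorphism at a point when the functor on structured arrows is initial. -/
theorem isIso_β_app (e : a ⋙ r ≅ l ⋙ b) (Z : Sheaf J₂ A) (x : C₃) [(Φ e x).Initial] :
    IsIso ((β J₁ J₂ J₃ J₄ A e Z).hom.app (op x)) := by
  let hl := l.op.isPointwiseRightKanExtensionRanCounit (a.op ⋙ Z.obj) (op x)
  let hr := (Functor.Initial.isLimitWhiskerEquiv (Φ e x) _).symm
    (r.op.isPointwiseRightKanExtensionRanCounit Z.obj (op (b.obj x)))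
  let i := IsLimit.conePointUniqueUpToIso hr hl
  have : (β J₁ J₂ J₃ J₄ A e Z).hom.app (op x) = i.hom := by
    refine hl.hom_ext fun g => ?_
    refine Eq.trans ?_ (IsLimit.conePointUniqueUpToIso_hom_comp hr hl g).symm
    show (β J₁ J₂ J₃ J₄ A e Z).hom.app (op x) ≫
        ((l.op.ran.obj (a.op ⋙ Z.obj)).map g.hom ≫ (l.op.ranCounit.app (a.op ⋙ Z.obj)).app g.right) =
      (r.op.ran.obj Z.obj).map ((b.map g.hom.unop).op ≫ (e.hom.app g.right.unop).op) ≫
        (r.op.ranCounit.app Z.obj).app (op (a.obj g.right.unop))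
    rw [← assoc]
    refine (congrArg (· ≫ _) ((β J₁ J₂ J₃ J₄ A e Z).hom.naturality g.hom).symm).trans ?_
    refine (assoc _ _ _).trans ((congrArg (_ ≫ ·) (β_fac J₁ J₂ J₃ J₄ A e Z g.right.unop)).trans ?_)
    rw [← assoc, Functor.map_comp]
    rfl
  rw [this]
  infer_instance

theorem isIso_β (e : a ⋙ r ≅ l ⋙ b) (Z : Sheaf J₂ A) [∀ x, (Φ e x).Initial] :
    IsIso (β J₁ J₂ J₃ J₄ A e Z) := by
  have : IsIso ((sheafToPresheaf _ _).map (β J₁ J₂ J₃ J₄ A e Z)) := by
    refine @NatIso.isIso_of_isIso_app _ _ _ _ _ _ _ fun x => ?_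
    exact isIso_β_app J₁ J₂ J₃ J₄ A e Z x.unop
  exact isIso_of_fully_faithful (sheafToPresheaf _ _) _

end Groth.L09.SheafBC
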