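import Groth.Agent.L09.SpaceSite
import Groth.Agent.L09.SheafBC
import Groth.Agent.L09.MultiFlat
import Mathlib.CategoryTheory.Products.Basic

/-!
Total sites of diagrams of spaces over an arbitrary index category and change of index category.
-/

set_option autoImplicit false
set_option linter.unusedSectionVars false
set_option linter.unusedVariables false
set_option backward.isDefEq.respectTransparency false
set_option backward.isDefEq.respectTransparency.types false
universe u
open CategoryTheory CategoryTheory.Limits Opposite Pseudofunctor.CoGrothendieck TopologicalSpace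

namespace Groth.L09.FamSite

variable {K : Type} [Category.{0} K]

/-- The sites of opens of a diagram of spaces. -/
noncomputable abbrev fam (Z : K ⥤ TopCat.{u}) : Pseudofunctor (LocallyDiscrete Kᵒᵖ) Cat.{u, u} :=
  (Z.op ⋙ FibDesc.opensCat).toPseudofunctor'

/-- Their topologies. -/
abbrev top (Z : K ⥤ TopCat.{u}) : FibSite.Topologies (fam Z) := fun i => Opens.grothendieckTopology (Z.obj i)

/-- The total category. -/
abbrev Tot (Z : K ⥤ TopCat.{u}) : Type u := ∫ᶜ (fam Z)

/-- The total topology. -/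
noncomputable abbrev JT (Z : K ⥤ TopCat.{u}) : GrothendieckTopology (Tot Z) := FibSite.totalTopology (fam Z) (top Z)

variable {Z : K ⥤ TopCat.{u}}

/-- The open set of an object. -/
abbrev ob (X : Tot Z) : Opens (Z.obj X.base) := X.fiber

/-- An object. -/
noncomputable abbrev mk (i : K) (U : Opens (Z.obj i)) : Tot Z := ⟨i, U⟩

lemma hom_ext {X Y : Tot Z} {f g : X ⟶ Y} (h : f.base = g.base) : f = g :=
  Hom.ext f g h
    (@Subsingleton.elim _ (inferInstanceAs (Subsingleton (ob X ⟶ (Opens.map (Z.map f.base)).obj (ob Y)))) _ _)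

/-- A morphism. -/
noncomputable def hom {X Y : Tot Z} (f : X.base ⟶ Y.base) (h : ob X ≤ (Opens.map (Z.map f)).obj (ob Y)) : X ⟶ Y :=
  ⟨f, SpaceSite.le_hom h⟩

lemma hom_le {X Y : Tot Z} (f : X ⟶ Y) : ob X ≤ (Opens.map (Z.map f.base)).obj (ob Y) :=
  SpaceSite.le_of (U := ob X) (V := (Opens.map (Z.map f.base)).obj (ob Y)) f.fiber

lemma map_map_apply {i j k : K} (f : i ⟶ j) (g : j ⟶ k) (x : Z.obj i) : Z.map g (Z.map f x) = Z.map (f ≫ g) x :=
  (ConcreteCategory.congr_hom (Z.map_comp f g) x).symm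

variable (Z)

lemma isPreFibSite : FibSite.IsPreFibSite (fam Z) (top Z) := fun _ _ f => by
  show (Opens.map (Z.map f)).IsContinuous _ _
  infer_instance

variable {K' : Type} [Category.{0} K'] (φ : K' ⥤ K)

/-- Change of index category. -/
noncomputable def reindex : Tot (φ ⋙ Z) ⥤ Tot Z where
  obj X := mk (φ.obj X.base) (ob X)
  map {X Y} f := hom (φ.map f.base) (hom_le f)
  map_id X := hom_ext (φ.map_id X.base)
  map_comp f g := hom_ext (φ.map_comp f.base g.base)

/-- `reindex` on fibres. -/
noncomputable def reindexIso (i : K') :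
    ι (fam (φ ⋙ Z)) i ⋙ reindex Z φ ≅ 𝟭 (Opens (Z.obj (φ.obj i))) ⋙ ι (fam Z) (φ.obj i) :=
  NatIso.ofComponents (fun _ => Iso.refl _) fun _ => hom_ext (by
    show φ.map (𝟙 i) ≫ 𝟙 _ = 𝟙 _ ≫ 𝟙 _
    simp)

instance reindex_isContinuous : (reindex Z φ).IsContinuous (JT (φ ⋙ Z)) (JT Z) :=
  SpaceSite.isContinuous_of_fibres (isPreFibSite (φ ⋙ Z)) (isPreFibSite Z) _ fun i =>
    ⟨φ.obj i, 𝟭 _, Functor.isContinuous_id _, ⟨reindexIso Z φ i⟩⟩

instance reindex_isCocontinuous : (reindex Z φ).IsCocontinuous (JT (φ ⋙ Z)) (JT Z) where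
  cover_lift {X S} hS := by
    refine (FibSiteTop.mem_total_iff (isPreFibSite (φ ⋙ Z)) _ _).2 ?_
    have h := (FibSiteTop.mem_total_iff (isPreFibSite Z) _ _).1 hS
    refine GrothendieckTopology.superset_covering _ ?_ h
    intro W a ha
    have e : (reindex Z φ).map ((ι (fam (φ ⋙ Z)) X.base).map a) = (ι (fam Z) (φ.obj X.base)).map a :=
      hom_ext (φ.map_id _)
    show S.arrows ((reindex Z φ).map ((ι (fam (φ ⋙ Z)) X.base).map a))
    rw [e]
    exact ha

/-- The inclusion of the opens of one space. -/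
noncomputable abbrev inclFib (i : K) : Opens (Z.obj i) ⥤ Tot Z := ι (fam Z) i

instance inclFib_isContinuous (i : K) : (inclFib Z i).IsContinuous (Opens.grothendieckTopology (Z.obj i)) (JT Z) :=
  FibSiteTop.isContinuous_ι (isPreFibSite Z) i

instance inclFib_isCocontinuous (i : K) : (inclFib Z i).IsCocontinuous (Opens.grothendieckTopology (Z.obj i)) (JT Z) :=
  FibSiteTop.isCocontinuous_ι (isPreFibSite Z) i

section Initial

variable {K₁ K₂ K₃ : Type} [Category.{0} K₁] [Category.{0} K₂] [Category.{0} K₃]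
  (a : K₁ ⥤ K₂) (r : K₂ ⥤ K) (l : K₁ ⥤ K₃) (b : K₃ ⥤ K)

/-- The square of index categories gives a functor of costructured arrows. -/
def Ψ (e : a ⋙ r ≅ l ⋙ b) (k : K₃) : CostructuredArrow l k ⥤ CostructuredArrow r (b.obj k) where
  obj g := CostructuredArrow.mk (Y := a.obj g.left) (e.hom.app g.left ≫ b.map g.hom)
  map {g g'} m := CostructuredArrow.homMk (a.map m.left) (by
    show r.map (a.map m.left) ≫ e.hom.app g'.left ≫ b.map g'.hom = e.hom.app g.left ≫ b.map g.hom
    have h1 : r.map (a.map m.left) ≫ e.hom.app g'.left = e.hom.app g.left ≫ b.map (l.map m.left) :=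
      e.hom.naturality m.left
    rw [reassoc_of% h1, ← b.map_comp, CostructuredArrow.w m])
  map_id g := CostructuredArrow.ext _ _ (a.map_id _)
  map_comp m m' := CostructuredArrow.ext _ _ (a.map_comp _ _)

end Initial

end Groth.L09.FamSite
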