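import Groth.Prelude.Def_FibClv

/-!
Lemmas on cleavages.
-/

set_option autoImplicit false
universe v₁ v₂ v₃ u₁ u₂ u₃

open CategoryTheory Category Functor

namespace Groth.L09.Clv

variable {𝒮 : Type u₁} {𝒳 : Type u₂} [Category.{v₁} 𝒮] [Category.{v₂} 𝒳] {p : 𝒳 ⥤ 𝒮} (K : FibCat.Cleavage p)

lemma congr_fac {R S : 𝒮} {f f' : R ⟶ S} (h : f = f') (a : p.Fiber S) :
    Fiber.fiberInclusion.map ((K.inverseImageCongr h).hom.app a) ≫ K.lift a.2 f' = K.lift a.2 f := by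
  subst h
  show Fiber.fiberInclusion.map (𝟙 ((K.inverseImage f).obj a)) ≫ K.lift a.2 f = K.lift a.2 f
  rw [CategoryTheory.Functor.map_id]
  exact id_comp _

lemma comp_fac {R S T : 𝒮} (f : T ⟶ S) (g : R ⟶ T) (a : p.Fiber S) :
    Fiber.fiberInclusion.map ((K.comp f g).app a) ≫ K.lift a.2 (g ≫ f) =
      K.lift (K.obj_proj a.2 f) g ≫ K.lift a.2 f :=
  IsCartesian.fac p (g ≫ f) (K.lift a.2 (g ≫ f)) (K.lift (K.obj_proj a.2 f) g ≫ K.lift a.2 f)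

lemma map_fac {R S : 𝒮} (f : R ⟶ S) {a b : p.Fiber S} (φ : a ⟶ b) :
    Fiber.fiberInclusion.map ((K.inverseImage f).map φ) ≫ K.lift b.2 f =
      K.lift a.2 f ≫ Fiber.fiberInclusion.map φ :=
  IsCartesian.fac p f (K.lift b.2 f) (K.lift a.2 f ≫ Fiber.fiberInclusion.map φ)

lemma fiber_ext {R S : 𝒮} (f : R ⟶ S) {b : p.Fiber R} {a : p.Fiber S} {u u' : b ⟶ (K.inverseImage f).obj a}
    (h : Fiber.fiberInclusion.map u ≫ K.lift a.2 f = Fiber.fiberInclusion.map u' ≫ K.lift a.2 f) : u = u' := by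
  apply Fiber.hom_ext
  exact @IsCartesian.ext _ _ _ _ p _ _ _ _ f (K.lift a.2 f) _ _ (Fiber.fiberInclusion.map u) (Fiber.fiberInclusion.map u') u.2 u'.2 h

end Groth.L09.Clv
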