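import Groth.Agent.L09.FibRep
import Mathlib.CategoryTheory.Limits.Shapes.BinaryProducts
import Mathlib.CategoryTheory.Comma.Over.Basic

/-! Helpers for the diagonal of a category fibred in groupoids. -/

set_option autoImplicit false
universe v u

open CategoryTheory CategoryTheory.Limits Category Functor Groth.L09.Fib

namespace Groth.L09.FibDiag
variable {C : Type u} [Category.{v} C] {𝒮 : BasedCategory.{v, max u v} C}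

lemma snd_left {U U' : C} {G' : FibCat.overCat U' ⥤ᵇ 𝒮} {G : FibCat.overCat U ⥤ᵇ 𝒮}
    {x y : (FibCat.fp G' G).obj} (m : x ⟶ y) :
    m.hom.snd.left = eqToHom (fp_snd_obj x) ≫ m.hom.fst.left ≫ eqToHom (fp_snd_obj y).symm :=
  @IsHomLift.fac' _ _ _ _ (FibCat.overCat U).p _ _ _ _ ((FibCat.fp G' G).p.map m) m.hom.snd (FibCat.fp_isHomLift_snd G' G m)

lemma diag_compat {H₁ H₁' H₂ H₂' : 𝒮.obj} {s t : 𝒮.obj} (α₁ : H₁ ≅ s) (α₂ : H₁' ≅ s) (β₁ : H₂ ≅ t) (β₂ : H₂' ≅ t)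
    (p : H₁ ⟶ H₂) (q : H₁' ⟶ H₂') (k : s ⟶ t) (h1 : p ≫ β₁.hom = α₁.hom ≫ k) (h2 : q ≫ β₂.hom = α₂.hom ≫ k) :
    p ≫ (β₁ ≪≫ β₂.symm).hom = (α₁ ≪≫ α₂.symm).hom ≫ q := by
  rw [← cancel_mono β₂.hom]
  simp [h1, h2]

lemma fp_self_w {z z' : (FibCat.fp (FibCat.toSelf 𝒮) (FibCat.toSelf 𝒮)).obj} {R : C}
    (α : z.obj.fst ⟶ z'.obj.fst) (β : z.obj.snd ⟶ z'.obj.snd)
    [hα : 𝒮.p.IsHomLift (𝟙 R) α] [hβ : 𝒮.p.IsHomLift (𝟙 R) β] :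
    (FibCat.toSelf 𝒮).map α ≫ z'.obj.iso.hom = z.obj.iso.hom ≫ (FibCat.toSelf 𝒮).map β := by
  have := (BasedFunctor.isHomLift_iff (FibCat.toSelf 𝒮) (𝟙 R) α).2 hα
  have := (BasedFunctor.isHomLift_iff (FibCat.toSelf 𝒮) (𝟙 R) β).2 hβ
  have := fp_iso_lift z (IsHomLift.domain_eq 𝒮.p (𝟙 R) α)
  have := fp_iso_lift z' (IsHomLift.codomain_eq 𝒮.p (𝟙 R) α)
  exact selfOver_hom_ext (𝟙 R)

lemma eh {X Y Z : C} (h : Y = X) (f : X ⟶ Z) : eqToHom h.symm ≫ eqToHom h ≫ f = f := by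
  subst h; simp

noncomputable def overComp {P U : C} (f : P ⟶ U) : FibCat.overCat P ⥤ᵇ FibCat.overCat U where
  toFunctor := Over.map f
  w := rfl

end Groth.L09.FibDiag
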