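import Groth.Agent.L09.FibFiberwise
import Groth.Prelude.Def_W4stkcategoriessitesFib
import Mathlib.CategoryTheory.Comma.Basic
import Mathlib.CategoryTheory.Adjunction.Basic
import Mathlib.CategoryTheory.FiberedCategory.Fibered

/-!
Every morphism of fibred categories factors as a fully faithful functor with a left adjoint followed
by a fibration.
-/

set_option autoImplicit false
universe v u

open CategoryTheory Category Functor

namespace Groth.L09.FibFactor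

variable {C : Type u} [Category.{v} C] {𝒳 𝒴 : BasedCategory.{v, max u v} C}
  (F : 𝒳 ⥤ᵇ 𝒴)

/-- the vertical morphisms `y ⟶ F x`. -/
def vert : ObjectProperty (Comma (𝟭 𝒴.obj) F.toFunctor) :=
  fun t => 𝒴.p.IsHomLift (𝟙 (𝒳.p.obj t.right)) (t.hom : t.left ⟶ F.obj t.right)

/-- the auxiliary category. -/
abbrev Mid : BasedCategory.{v, max u v} C :=
  BasedCategory.ofFunctor ((vert F).ι ⋙ Comma.snd _ _ ⋙ 𝒳.p)

variable {F}

/-- transfer of lifts along a pair of functors. -/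
lemma lift_transfer {A B : Type*} [Category A] [Category B] (p : A ⥤ C) (q : B ⥤ C) {R S : C} {g : R ⟶ S}
    {a b : A} {r : a ⟶ b} {c d : B} {l : c ⟶ d} (hg : p.IsHomLift g r) (hl : q.IsHomLift (p.map r) l) :
    q.IsHomLift g l := by
  subst_hom_lift p g r
  exact hl

lemma obj_eq (t : (Mid F).obj) : 𝒴.p.obj t.obj.left = 𝒳.p.obj t.obj.right :=
  @IsHomLift.domain_eq _ _ _ _ 𝒴.p _ _ _ _ (𝟙 (𝒳.p.obj t.obj.right)) t.obj.hom t.property

lemma left_lift {t t' : (Mid F).obj} (m : t ⟶ t') :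
    𝒴.p.IsHomLift (𝒳.p.map m.hom.right) m.hom.left := by
  have h : 𝒴.p.IsHomLift (𝟙 (𝒳.p.obj t.obj.right)) (t.obj.hom : t.obj.left ⟶ F.obj t.obj.right) := t.property
  have h' : 𝒴.p.IsHomLift (𝟙 (𝒳.p.obj t'.obj.right)) (t'.obj.hom : t'.obj.left ⟶ F.obj t'.obj.right) := t'.property
  refine IsHomLift.of_fac' 𝒴.p _ _ (obj_eq t) (obj_eq t') ?_
  have hw : m.hom.left ≫ t'.obj.hom = t.obj.hom ≫ F.map m.hom.right := m.hom.w
  have h1 := IsHomLift.fac' 𝒴.p (𝟙 (𝒳.p.obj t.obj.right)) (t.obj.hom : t.obj.left ⟶ F.obj t.obj.right)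
  have h2 := IsHomLift.fac' 𝒴.p (𝟙 (𝒳.p.obj t'.obj.right)) (t'.obj.hom : t'.obj.left ⟶ F.obj t'.obj.right)
  have h3 := CategoryTheory.Functor.congr_hom F.w m.hom.right
  simp only [Functor.comp_map] at h3
  have h4 := congrArg 𝒴.p.map hw
  rw [Functor.map_comp, Functor.map_comp, h1, h2, h3] at h4
  rw [← cancel_mono (eqToHom (obj_eq t') ≫ 𝟙 _ ≫ eqToHom (F.w_obj t'.obj.right).symm)]
  refine h4.trans ?_
  simp

lemma hom_ext {t t' : (Mid F).obj} {m m' : t ⟶ t'} (h₁ : m.hom.left = m'.hom.left) (h₂ : m.hom.right = m'.hom.right) :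
    m = m' := ObjectProperty.hom_ext _ (CommaMorphism.ext h₁ h₂)

variable [𝒳.p.IsFibered] [𝒴.p.IsFibered] (hF : FibCat.PreservesStronglyCartesian F)

include hF

lemma stronglyCartesian_mk {t t' : (Mid F).obj} (m : t ⟶ t') {R S : C} (g : R ⟶ S)
    (hr : 𝒳.p.IsStronglyCartesian g m.hom.right) (hl : 𝒴.p.IsStronglyCartesian g m.hom.left) :
    (Mid F).p.IsStronglyCartesian g m := by
  have hFr := hF g m.hom.right hr
  have hlift : (Mid F).p.IsHomLift g m :=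
    IsHomLift.of_fac' (Mid F).p g m (IsHomLift.domain_eq 𝒳.p g m.hom.right)
      (IsHomLift.codomain_eq 𝒳.p g m.hom.right) (IsHomLift.fac' 𝒳.p g m.hom.right)
  refine ⟨fun {z} h ψ hψ => ?_⟩
  let A : Comma (𝟭 𝒴.obj) F.toFunctor := z.obj
  have hψr : 𝒳.p.IsHomLift (h ≫ g) ψ.hom.right :=
    IsHomLift.of_fac' 𝒳.p (h ≫ g) ψ.hom.right (IsHomLift.domain_eq (Mid F).p (h ≫ g) ψ)
      (IsHomLift.codomain_eq (Mid F).p (h ≫ g) ψ) (IsHomLift.fac' (Mid F).p (h ≫ g) ψ)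
  have hψl : 𝒴.p.IsHomLift (h ≫ g) ψ.hom.left := lift_transfer 𝒳.p 𝒴.p hψr (left_lift ψ)
  obtain ⟨a, ⟨ha, hac⟩, hau⟩ := IsStronglyCartesian.universal_property 𝒳.p g m.hom.right h (h ≫ g) rfl ψ.hom.right
  obtain ⟨b, ⟨hb, hbc⟩, hbu⟩ := IsStronglyCartesian.universal_property 𝒴.p g m.hom.left h (h ≫ g) rfl ψ.hom.left
  have hz : 𝒴.p.IsHomLift (𝟙 (𝒳.p.obj z.obj.right)) (z.obj.hom : z.obj.left ⟶ F.obj z.obj.right) := z.property
  have ht : 𝒴.p.IsHomLift (𝟙 (𝒳.p.obj t.obj.right)) (t.obj.hom : t.obj.left ⟶ F.obj t.obj.right) := t.property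
  let zh : z.obj.left ⟶ F.obj z.obj.right := z.obj.hom
  let th : t.obj.left ⟶ F.obj t.obj.right := t.obj.hom
  have hw : b ≫ th = zh ≫ F.map a := by
    have l1 : 𝒴.p.IsHomLift h (b ≫ th) := @IsHomLift.comp_lift_id_right' _ _ _ _ 𝒴.p _ _ _ _ _ h b hb _ th ht
    have l2 : 𝒴.p.IsHomLift h (zh ≫ F.map a) :=
      @IsHomLift.comp_lift_id_left' _ _ _ _ 𝒴.p _ _ _ _ zh hz _ _ h (F.map a) inferInstance
    apply IsStronglyCartesian.ext 𝒴.p g (F.map m.hom.right) h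
    have w1 : m.hom.left ≫ t'.obj.hom = th ≫ F.map m.hom.right := m.hom.w
    have w2 : ψ.hom.left ≫ t'.obj.hom = zh ≫ F.map ψ.hom.right := ψ.hom.w
    calc (b ≫ th) ≫ F.map m.hom.right = (b ≫ m.hom.left) ≫ t'.obj.hom :=
          (assoc _ _ _).trans ((congrArg (b ≫ ·) w1.symm).trans (assoc _ _ _).symm)
      _ = zh ≫ F.map (a ≫ m.hom.right) := by rw [hbc, hac]; exact w2
      _ = (zh ≫ F.map a) ≫ F.map m.hom.right :=
          (congrArg (zh ≫ ·) (F.toFunctor.map_comp a m.hom.right)).trans (assoc _ _ _).symm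
  let χ : z ⟶ t := ObjectProperty.homMk { left := b, right := a, w := hw }
  refine ⟨χ, ⟨IsHomLift.of_fac' (Mid F).p h χ (IsHomLift.domain_eq 𝒳.p h a)
      (IsHomLift.codomain_eq 𝒳.p h a) (IsHomLift.fac' 𝒳.p h a), hom_ext hbc hac⟩, ?_⟩
  rintro χ' ⟨hχ', hc'⟩
  have hr' : 𝒳.p.IsHomLift h χ'.hom.right :=
    IsHomLift.of_fac' 𝒳.p h χ'.hom.right (IsHomLift.domain_eq (Mid F).p h χ')
      (IsHomLift.codomain_eq (Mid F).p h χ') (IsHomLift.fac' (Mid F).p h χ')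
  have hl' : 𝒴.p.IsHomLift h χ'.hom.left := lift_transfer 𝒳.p 𝒴.p hr' (left_lift χ')
  exact hom_ext (hbu _ ⟨hl', congrArg (fun k => k.hom.left) hc'⟩) (hau _ ⟨hr', congrArg (fun k => k.hom.right) hc'⟩)

lemma exists_lift (t' : (Mid F).obj) {R : C} (g : R ⟶ (Mid F).p.obj t') :
    ∃ (t : (Mid F).obj) (m : t ⟶ t'), 𝒳.p.IsStronglyCartesian g m.hom.right ∧
      𝒴.p.IsStronglyCartesian g m.hom.left := by
  let a := IsPreFibered.pullbackMap (p := 𝒳.p) (rfl : 𝒳.p.obj t'.obj.right = _) g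
  let b := IsPreFibered.pullbackMap (p := 𝒴.p) (obj_eq t') g
  have ha0 : 𝒳.p.IsCartesian g a := IsPreFibered.pullbackMap.IsCartesian _ g
  have hb0 : 𝒴.p.IsCartesian g b := IsPreFibered.pullbackMap.IsCartesian _ g
  have ha : 𝒳.p.IsStronglyCartesian g a := IsFibered.isStronglyCartesian_of_isCartesian 𝒳.p g a
  have hb : 𝒴.p.IsStronglyCartesian g b := IsFibered.isStronglyCartesian_of_isCartesian 𝒴.p g b
  have := hF g a ha
  let th : t'.obj.left ⟶ F.obj t'.obj.right := t'.obj.hom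
  have ht : 𝒴.p.IsHomLift (𝟙 (𝒳.p.obj t'.obj.right)) th := t'.property
  have hl : 𝒴.p.IsHomLift g (b ≫ th) :=
    @IsHomLift.comp_lift_id_right _ _ _ _ 𝒴.p _ _ _ _ _ g b inferInstance th ht
  let f := IsCartesian.map 𝒴.p g (F.map a) (b ≫ th)
  have hf : 𝒴.p.IsHomLift (𝟙 R) f := IsCartesian.map_isHomLift _ _ _ _
  have hR : 𝒳.p.obj (IsPreFibered.pullbackObj (p := 𝒳.p) (rfl : 𝒳.p.obj t'.obj.right = _) g) = R :=
    IsPreFibered.pullbackObj_proj (p := 𝒳.p) rfl g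
  let t : (Mid F).obj := ⟨{ left := _, right := _, hom := f },
    (show ∀ W, W = R → 𝒴.p.IsHomLift (𝟙 W) f from fun W hW => hW.symm ▸ hf) _ hR⟩
  exact ⟨t, ObjectProperty.homMk { left := b, right := a, w := (IsCartesian.fac 𝒴.p g (F.map a) (b ≫ th)).symm },
    ha, hb⟩

lemma isFibered_mid : (Mid F).p.IsFibered :=
  IsFibered.of_exists_isStronglyCartesian (p := (Mid F).p) fun t' R g => by
    obtain ⟨t, m, h1, h2⟩ := exists_lift hF t' g
    exact ⟨t, m, stronglyCartesian_mk hF m g h1 h2⟩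

lemma components {t t' : (Mid F).obj} (m : t ⟶ t') {R S : C} (g : R ⟶ S)
    (h : (Mid F).p.IsStronglyCartesian g m) :
    𝒳.p.IsStronglyCartesian g m.hom.right ∧ 𝒴.p.IsStronglyCartesian g m.hom.left := by
  obtain rfl : (Mid F).p.obj t' = S := @IsHomLift.codomain_eq _ _ _ _ (Mid F).p _ _ _ _ g m h.toIsHomLift
  obtain ⟨t₀, m₀, h1, h2⟩ := exists_lift hF t' g
  have := isFibered_mid hF
  have := stronglyCartesian_mk hF m₀ g h1 h2
  let i := IsCartesian.domainUniqueUpToIso (Mid F).p g m₀ m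
  have hi : (Mid F).p.IsHomLift (𝟙 R) i.hom := inferInstance
  have e : i.hom ≫ m₀ = m := IsCartesian.fac (Mid F).p g m₀ m
  have hir : 𝒳.p.IsHomLift (𝟙 R) i.hom.hom.right :=
    IsHomLift.of_fac' 𝒳.p (𝟙 R) i.hom.hom.right (IsHomLift.domain_eq (Mid F).p (𝟙 R) i.hom)
      (IsHomLift.codomain_eq (Mid F).p (𝟙 R) i.hom) (IsHomLift.fac' (Mid F).p (𝟙 R) i.hom)
  have hil : 𝒴.p.IsHomLift (𝟙 R) i.hom.hom.left := lift_transfer 𝒳.p 𝒴.p hir (left_lift i.hom)
  have i1 : IsIso i.hom.hom.right := inferInstanceAs (IsIso (((vert F).ι ⋙ Comma.snd _ _).map i.hom))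
  have i2 : IsIso i.hom.hom.left := inferInstanceAs (IsIso (((vert F).ι ⋙ Comma.fst _ _).map i.hom))
  have := IsStronglyCartesian.of_isIso 𝒳.p (𝟙 R) i.hom.hom.right
  have := IsStronglyCartesian.of_isIso 𝒴.p (𝟙 R) i.hom.hom.left
  have c1 : 𝒳.p.IsStronglyCartesian (𝟙 R ≫ g) (i.hom.hom.right ≫ m₀.hom.right) := inferInstance
  have c2 : 𝒴.p.IsStronglyCartesian (𝟙 R ≫ g) (i.hom.hom.left ≫ m₀.hom.left) := inferInstance
  rw [id_comp] at c1 c2
  rw [← e]
  exact ⟨c1, c2⟩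

omit hF

variable (F)

/-- the fully faithful functor. -/
def uu : 𝒳 ⥤ᵇ Mid F where
  toFunctor :=
    { obj := fun x => ⟨{ left := F.obj x, right := x, hom := 𝟙 (F.obj x) }, IsHomLift.id (F.w_obj x)⟩
      map := fun {x y} a => ObjectProperty.homMk
        { left := F.map a
          right := a
          w := (comp_id _).trans (id_comp _).symm }
      map_id := fun x => hom_ext (F.toFunctor.map_id x) rfl
      map_comp := fun a b => hom_ext (F.toFunctor.map_comp a b) rfl }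
  w := rfl

/-- the fibration. -/
def vv : Mid F ⥤ᵇ 𝒴 where
  toFunctor := (vert F).ι ⋙ Comma.fst _ _
  w := CategoryTheory.Functor.ext obj_eq (fun t t' m =>
    @IsHomLift.fac' _ _ _ _ 𝒴.p _ _ _ _ (𝒳.p.map m.hom.right) m.hom.left (left_lift m))

/-- the left adjoint. -/
def ww : Mid F ⥤ᵇ 𝒳 where
  toFunctor := (vert F).ι ⋙ Comma.snd _ _
  w := rfl

lemma comp_eq : BasedFunctor.comp (uu F) (vv F) = F := by
  cases F
  rfl

/-- the adjunction. -/
def adj : (ww F).toFunctor ⊣ (uu F).toFunctor :=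
  Adjunction.mkOfHomEquiv
    { homEquiv := fun t x =>
        { toFun := fun a => ObjectProperty.homMk
            { left := t.obj.hom ≫ F.map a
              right := a
              w := comp_id _ }
          invFun := fun m => m.hom.right
          left_inv := fun a => rfl
          right_inv := fun m => hom_ext (m.hom.w.symm.trans (comp_id _)) rfl }
      homEquiv_naturality_left_symm := fun f g => rfl
      homEquiv_naturality_right := fun {t x x'} f g => hom_ext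
        ((congrArg (t.obj.hom ≫ ·) (F.toFunctor.map_comp f g)).trans (assoc _ _ _).symm) rfl }

instance : (uu F).toFunctor.Faithful := ⟨fun {x y a b} h => congrArg (fun k => k.hom.right) h⟩

instance : (uu F).toFunctor.Full := ⟨fun {x y} m => ⟨m.hom.right, hom_ext (by
  have h : m.hom.left ≫ 𝟙 (F.obj y) = 𝟙 (F.obj x) ≫ F.map m.hom.right := m.hom.w
  exact (id_comp _).symm.trans (h.symm.trans (comp_id _))) rfl⟩⟩

variable {F}

include hF

lemma vv_isFibered : (vv F).toFunctor.IsFibered := by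
  refine IsFibered.of_exists_isStronglyCartesian fun t' y b => ?_
  let b' : y ⟶ t'.obj.left := b
  let g : 𝒴.p.obj y ⟶ 𝒳.p.obj t'.obj.right := 𝒴.p.map b' ≫ eqToHom (obj_eq t')
  let a := IsPreFibered.pullbackMap (p := 𝒳.p) (rfl : 𝒳.p.obj t'.obj.right = _) g
  have hsc := hF g a (IsFibered.isStronglyCartesian_of_isCartesian 𝒳.p g a)
  let th : t'.obj.left ⟶ F.obj t'.obj.right := t'.obj.hom
  have ht : 𝒴.p.IsHomLift (𝟙 (𝒳.p.obj t'.obj.right)) th := t'.property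
  have hb : 𝒴.p.IsHomLift g b' := IsHomLift.of_fac 𝒴.p g b' rfl (obj_eq t') (by simp [g])
  have hl : 𝒴.p.IsHomLift g (b' ≫ th) := @IsHomLift.comp_lift_id_right _ _ _ _ 𝒴.p _ _ _ _ _ g b' hb th ht
  let f := IsCartesian.map 𝒴.p g (F.map a) (b' ≫ th)
  have hf : 𝒴.p.IsHomLift (𝟙 (𝒴.p.obj y)) f := IsCartesian.map_isHomLift _ _ _ _
  have hR : 𝒳.p.obj (IsPreFibered.pullbackObj (p := 𝒳.p) (rfl : 𝒳.p.obj t'.obj.right = _) g) = 𝒴.p.obj y :=
    IsPreFibered.pullbackObj_proj (p := 𝒳.p) rfl g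
  let t : (Mid F).obj := ⟨{ left := y, right := _, hom := f },
    (show ∀ W, W = 𝒴.p.obj y → 𝒴.p.IsHomLift (𝟙 W) f from fun W hW => hW.symm ▸ hf) _ hR⟩
  let m : t ⟶ t' := ObjectProperty.homMk { left := b', right := a, w := (IsCartesian.fac 𝒴.p g (F.map a) (b' ≫ th)).symm }
  refine ⟨t, m, ?_⟩
  have hlift : (vv F).toFunctor.IsHomLift b m := IsHomLift.map (vv F).toFunctor m
  refine @IsStronglyCartesian.mk _ _ _ _ (vv F).toFunctor _ _ _ _ b m hlift (fun {z} k ψ hψ => ?_)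
  let k' : z.obj.left ⟶ y := k
  have hψl : ψ.hom.left = k' ≫ b' :=
    (@IsHomLift.eq_of_isHomLift _ _ _ _ (vv F).toFunctor _ _ (k ≫ b') ψ hψ).symm
  let h : 𝒳.p.obj z.obj.right ⟶ 𝒴.p.obj y := eqToHom (obj_eq z).symm ≫ 𝒴.p.map k'
  have hk : 𝒴.p.IsHomLift h k' := IsHomLift.of_fac 𝒴.p h k' (obj_eq z) rfl (by simp [h])
  have hhg : h ≫ g = 𝒳.p.map ψ.hom.right := by
    have h0 := @IsHomLift.fac' _ _ _ _ 𝒴.p _ _ _ _ (𝒳.p.map ψ.hom.right) ψ.hom.left (left_lift ψ)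
    simp only [h, g, assoc]
    rw [← Functor.map_comp_assoc, ← hψl, h0]
    simp
  have hψr : 𝒳.p.IsHomLift (h ≫ g) ψ.hom.right := by rw [hhg]; exact IsHomLift.map _ _
  obtain ⟨α, ⟨hα, hαc⟩, hαu⟩ := IsStronglyCartesian.universal_property 𝒳.p g a h (h ≫ g) rfl ψ.hom.right
  let zh : z.obj.left ⟶ F.obj z.obj.right := z.obj.hom
  have hz : 𝒴.p.IsHomLift (𝟙 (𝒳.p.obj z.obj.right)) zh := z.property
  have hw : k' ≫ f = zh ≫ F.map α := by
    have l1 : 𝒴.p.IsHomLift h (k' ≫ f) := @IsHomLift.comp_lift_id_right _ _ _ _ 𝒴.p _ _ _ _ _ h k' hk f hf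
    have l2 : 𝒴.p.IsHomLift h (zh ≫ F.map α) :=
      @IsHomLift.comp_lift_id_left' _ _ _ _ 𝒴.p _ _ _ _ zh hz _ _ h (F.map α) inferInstance
    apply IsStronglyCartesian.ext 𝒴.p g (F.map a) h
    rw [assoc, IsCartesian.fac, ← assoc, ← hψl, assoc, ← F.toFunctor.map_comp, hαc]
    exact ψ.hom.w
  let χ : z ⟶ t := ObjectProperty.homMk { left := k', right := α, w := hw }
  refine ⟨χ, ⟨IsHomLift.map (vv F).toFunctor χ, hom_ext hψl.symm hαc⟩, ?_⟩
  rintro χ' ⟨hχ', hc⟩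
  have he := @IsHomLift.eq_of_isHomLift _ _ _ _ (vv F).toFunctor z t k χ' hχ'
  have hl' : χ'.hom.left = k' := he.symm
  refine hom_ext hl' (hαu _ ⟨?_, congrArg (fun q => q.hom.right) hc⟩)
  have h0 := @IsHomLift.fac' _ _ _ _ 𝒴.p _ _ _ _ (𝒳.p.map χ'.hom.right) χ'.hom.left (left_lift χ')
  refine IsHomLift.of_fac' 𝒳.p h χ'.hom.right rfl hR ?_
  have h0' := (congrArg 𝒴.p.map hl'.symm).trans h0
  simp only [h]
  rw [h0']
  simp

theorem factorization :
    ∃ (𝒳' : BasedCategory.{v, max u v} C) (u : 𝒳 ⥤ᵇ 𝒳') (v : 𝒳' ⥤ᵇ 𝒴) (w : 𝒳' ⥤ᵇ 𝒳),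
      𝒳'.p.IsFibered ∧ FibCat.PreservesStronglyCartesian u ∧ FibCat.PreservesStronglyCartesian v ∧
        FibCat.PreservesStronglyCartesian w ∧ BasedFunctor.comp u v = F ∧
        u.toFunctor.Full ∧ u.toFunctor.Faithful ∧ Nonempty (w.toFunctor ⊣ u.toFunctor) ∧
        v.toFunctor.IsFibered :=
  ⟨Mid F, uu F, vv F, ww F, isFibered_mid hF,
    fun R S g a b φ hφ => stronglyCartesian_mk hF _ g hφ (hF g φ hφ),
    fun R S g a b φ hφ => (components hF φ g hφ).2,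
    fun R S g a b φ hφ => (components hF φ g hφ).1,
    comp_eq F, inferInstance, inferInstance, ⟨adj F⟩, vv_isFibered hF⟩

end Groth.L09.FibFactor
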