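import Groth.Agent.L09.FibFp

/-!
The inertia of a functor over the base: cartesian morphisms and fibredness.
-/

set_option autoImplicit false
universe v₄ u₄ v₃ u₃ v₂ u₂ v u

open CategoryTheory Category Functor

namespace Groth.L09.Fib

variable {C : Type u} [Category.{v} C] {𝒳 : BasedCategory.{v₂, u₂} C} {𝒴 : BasedCategory.{v₃, u₃} C}
  {F : 𝒳 ⥤ᵇ 𝒴}

lemma inertia_isHomLift_iff {x y : FibCat.InertiaObj F} {R S : C} (f : R ⟶ S) (m : x ⟶ y) :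
    (FibCat.inertia F).p.IsHomLift f m ↔ 𝒳.p.IsHomLift f m.hom := by
  constructor
  · intro h
    exact IsHomLift.of_fac' 𝒳.p f m.hom (IsHomLift.domain_eq (FibCat.inertia F).p f m)
      (IsHomLift.codomain_eq (FibCat.inertia F).p f m) (IsHomLift.fac' (FibCat.inertia F).p f m)
  · intro h
    exact IsHomLift.of_fac' (FibCat.inertia F).p f m
      (@IsHomLift.domain_eq _ _ _ _ 𝒳.p _ _ _ _ f m.hom h)
      (@IsHomLift.codomain_eq _ _ _ _ 𝒳.p _ _ _ _ f m.hom h)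
      (@IsHomLift.fac' _ _ _ _ 𝒳.p _ _ _ _ f m.hom h)

lemma inertia_aut_lift (x : FibCat.InertiaObj F) {U : C} (h : 𝒳.p.obj x.pt = U) :
    𝒳.p.IsHomLift (𝟙 U) x.aut.hom := by
  rw [← BasedFunctor.isHomLift_iff F, x.map_aut]
  exact IsHomLift.id ((F.w_obj x.pt).trans h)

lemma inertia_stronglyCartesian {x y : FibCat.InertiaObj F} {R S : C} (f : R ⟶ S) (m : x ⟶ y)
    (h : 𝒳.p.IsStronglyCartesian f m.hom) : (FibCat.inertia F).p.IsStronglyCartesian f m := by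
  have := (inertia_isHomLift_iff f m).2 h.toIsHomLift
  refine ⟨fun {z} g ψ hψ => ?_⟩
  have hψ1 : 𝒳.p.IsHomLift (g ≫ f) ψ.hom := (inertia_isHomLift_iff _ ψ).1 hψ
  obtain ⟨χ, ⟨hχ, hc⟩, hu⟩ := IsStronglyCartesian.universal_property 𝒳.p f m.hom g (g ≫ f) rfl ψ.hom
  have hz := inertia_aut_lift z (U := (FibCat.inertia F).p.obj z) rfl
  have hx := inertia_aut_lift x (IsHomLift.domain_eq 𝒳.p f m.hom)
  have hcomm : z.aut.hom ≫ χ = χ ≫ x.aut.hom := by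
    apply IsStronglyCartesian.ext 𝒳.p f m.hom g
    rw [assoc, hc, assoc, m.comm, ← assoc χ, hc, ψ.comm]
  exact ⟨⟨χ, hcomm⟩, ⟨(inertia_isHomLift_iff _ _).2 hχ, FibCat.InertiaObj.hom_ext hc⟩,
    fun χ' ⟨h1, h2⟩ => FibCat.InertiaObj.hom_ext
      (hu χ'.hom ⟨(inertia_isHomLift_iff _ _).1 h1, congrArg FibCat.InertiaObj.Hom.hom h2⟩)⟩

lemma exists_inertia_hom [𝒳.p.IsFibered] (hF : FibCat.PreservesStronglyCartesian F) (x : FibCat.InertiaObj F)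
    {R : C} (f : R ⟶ 𝒳.p.obj x.pt) :
    ∃ (w : FibCat.InertiaObj F) (m : w ⟶ x), 𝒳.p.IsStronglyCartesian f m.hom := by
  obtain ⟨a, π, hπ⟩ : ∃ (a : 𝒳.obj) (π : a ⟶ x.pt), 𝒳.p.IsStronglyCartesian f π :=
    ⟨_, IsPreFibered.pullbackMap (p := 𝒳.p) (rfl : 𝒳.p.obj x.pt = _) f, inferInstance⟩
  have hx := inertia_aut_lift x (U := 𝒳.p.obj x.pt) rfl
  let α : a ≅ a := IsCartesian.domainUniqueUpToIso 𝒳.p f π (π ≫ x.aut.hom)
  have hc : α.hom ≫ π = π ≫ x.aut.hom := IsCartesian.fac 𝒳.p f π (π ≫ x.aut.hom)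
  have hα : 𝒳.p.IsHomLift (𝟙 R) α.hom := inferInstance
  refine ⟨⟨a, α, ?_⟩, ⟨π, hc⟩, hπ⟩
  have := hF f π hπ
  have : 𝒴.p.IsHomLift (𝟙 R) (𝟙 (F.obj a)) := IsHomLift.id ((F.w_obj a).trans (IsHomLift.domain_eq 𝒳.p f π))
  apply IsCartesian.ext 𝒴.p f (F.map π)
  rw [← Functor.map_comp, hc, Functor.map_comp, x.map_aut, comp_id, id_comp]

lemma inertia_isFibered [𝒳.p.IsFibered] (hF : FibCat.PreservesStronglyCartesian F) :
    (FibCat.inertia F).p.IsFibered :=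
  IsFibered.of_exists_isStronglyCartesian fun x R f => by
    obtain ⟨w, m, h⟩ := exists_inertia_hom hF x f
    exact ⟨w, m, inertia_stronglyCartesian f m h⟩

lemma inertia_isFibGrpd (hX : FibCat.IsFibGrpd 𝒳.p) (hY : FibCat.IsFibGrpd 𝒴.p) :
    FibCat.IsFibGrpd (FibCat.inertia F).p := by
  have := isFibered_of_isFibGrpd _ hX
  refine ⟨fun {x V} f => ?_, fun {y x} φ => inertia_stronglyCartesian _ φ (hX.isStronglyCartesian φ.hom)⟩
  obtain ⟨w, m, h⟩ := exists_inertia_hom (preservesStronglyCartesian_of_isFibGrpd F hY) x f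
  exact ⟨w, m, (inertia_isHomLift_iff f m).2 h.toIsHomLift⟩

end Groth.L09.Fib
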