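import Mathlib.CategoryTheory.FiberedCategory.Fibered

/-!
Lifts for the opposite functor.
-/

set_option autoImplicit false
universe v₂ u₂ v u

open CategoryTheory Category Functor

namespace Groth.L09.Fib

lemma isHomLift_op_iff {C : Type u} [Category.{v} C] {𝒳 : Type u₂} [Category.{v₂} 𝒳]
    (p : 𝒳 ⥤ C) {R S : C} (f : R ⟶ S) {a b : 𝒳} (φ : a ⟶ b) :
    p.op.IsHomLift f.op φ.op ↔ p.IsHomLift f φ := by
  constructor
  · intro h
    have hd : p.obj b = S := congrArg Opposite.unop (IsHomLift.domain_eq p.op f.op φ.op)
    have hc : p.obj a = R := congrArg Opposite.unop (IsHomLift.codomain_eq p.op f.op φ.op)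
    subst hd; subst hc
    have := IsHomLift.eq_of_isHomLift p.op f.op φ.op
    have e : f = p.map φ := Quiver.Hom.op_inj this
    subst e; infer_instance
  · intro h
    have hd := IsHomLift.domain_eq p f φ
    have hc := IsHomLift.codomain_eq p f φ
    subst hd; subst hc
    have := IsHomLift.eq_of_isHomLift p f φ
    subst this
    exact IsHomLift.map p.op φ.op

end Groth.L09.Fib
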