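import Groth.Agent.L09.FibFp
import Mathlib.CategoryTheory.Limits.Shapes.Terminal
import Mathlib.CategoryTheory.Comma.Over.Pullback
import Mathlib.CategoryTheory.Adjunction.Limits

/-!
Representable categories fibred in groupoids are those with a terminal object; morphisms into fibre products
with slices.
-/

set_option autoImplicit false
universe v₂ u₂ v u

open CategoryTheory CategoryTheory.Limits Category Functor

namespace Groth.L09.Fib

variable {C : Type u} [Category.{v} C]

lemma hasTerminal_of_isRepresentable {𝒳 : BasedCategory.{v₂, u₂} C} (h : FibCat.IsRepresentable 𝒳) :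
    HasTerminal 𝒳.obj := by
  obtain ⟨U, F, hF⟩ := h
  have := isEquivalence_of_isEquivOver hF
  have : HasTerminal (Over U) := Over.mkIdTerminal.hasTerminal
  have : HasTerminal (FibCat.overCat U).obj := this
  exact Adjunction.hasLimitsOfShape_of_equivalence (J := Discrete.{0} PEmpty) F.toFunctor

/-- The classifying functor into the slice over the image of a terminal object. -/
noncomputable def toOver (𝒳 : BasedCategory.{v₂, u₂} C) [HasTerminal 𝒳.obj] :
    𝒳 ⥤ᵇ FibCat.overCat (𝒳.p.obj (⊤_ 𝒳.obj)) where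
  toFunctor :=
    { obj := fun x => Over.mk (𝒳.p.map (terminal.from x))
      map := fun {x y} m => Over.homMk (𝒳.p.map m)
        (show 𝒳.p.map m ≫ 𝒳.p.map (terminal.from y) = 𝒳.p.map (terminal.from x) by
          rw [← Functor.map_comp, terminal.comp_from])
      map_id := fun x => Over.OverMorphism.ext (𝒳.p.map_id x)
      map_comp := fun m n => Over.OverMorphism.ext (𝒳.p.map_comp m n) }
  w := rfl

lemma isRepresentable_of_hasTerminal {𝒳 : BasedCategory.{v, max u v} C} (h : FibCat.IsFibGrpd 𝒳.p)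
    [HasTerminal 𝒳.obj] : FibCat.IsRepresentable 𝒳 := by
  have := isFibered_of_isFibGrpd _ h
  refine ⟨_, toOver 𝒳, ?_⟩
  have : (toOver 𝒳).toFunctor.Faithful := ⟨fun {x y} m m' e => by
    have e' : 𝒳.p.map m = 𝒳.p.map m' := congrArg CommaMorphism.left e
    have := h.isStronglyCartesian (terminal.from y)
    have : 𝒳.p.IsHomLift (𝒳.p.map m) m' := by rw [e']; infer_instance
    exact IsStronglyCartesian.ext 𝒳.p (𝒳.p.map (terminal.from y)) (terminal.from y) (𝒳.p.map m)
      (terminal.hom_ext _ _)⟩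
  have : (toOver 𝒳).toFunctor.Full := ⟨fun {x y} g => by
    have := h.isStronglyCartesian (terminal.from y)
    let gl : 𝒳.p.obj x ⟶ 𝒳.p.obj y := g.left
    have hw : gl ≫ 𝒳.p.map (terminal.from y) = 𝒳.p.map (terminal.from x) := Over.w g
    have : 𝒳.p.IsHomLift (gl ≫ 𝒳.p.map (terminal.from y)) (terminal.from x) :=
      hw.symm ▸ IsHomLift.map 𝒳.p (terminal.from x)
    obtain ⟨χ, ⟨hχ, -⟩, -⟩ := IsStronglyCartesian.universal_property' (p := 𝒳.p)
      (f := 𝒳.p.map (terminal.from y)) (φ := terminal.from y) gl (terminal.from x)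
    exact ⟨χ, Over.OverMorphism.ext (IsHomLift.eq_of_isHomLift 𝒳.p gl χ).symm⟩⟩
  refine isEquivOver_mk _ fun (a : Over (𝒳.p.obj (⊤_ 𝒳.obj))) => ?_
  obtain ⟨y, φ, hφ⟩ := h.exists_lift a.hom
  have hy : 𝒳.p.obj y = a.left := IsHomLift.domain_eq 𝒳.p a.hom φ
  obtain rfl : φ = terminal.from y := terminal.hom_ext _ _
  let e : ((toOver 𝒳).toFunctor.obj y : Over (𝒳.p.obj (⊤_ 𝒳.obj))) ≅ a :=
    Over.isoMk (eqToIso hy) (by
      show eqToHom hy ≫ a.hom = 𝒳.p.map (terminal.from y)
      simpa using (IsHomLift.fac' 𝒳.p a.hom (terminal.from y)).symm)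
  exact ⟨y, e, IsHomLift.of_fac' _ _ _ hy rfl (show eqToHom hy = _ by simp; rfl)⟩

lemma isRepresentable_iff {𝒳 : BasedCategory.{v, max u v} C} (h : FibCat.IsFibGrpd 𝒳.p) :
    FibCat.IsRepresentable 𝒳 ↔ HasTerminal 𝒳.obj :=
  ⟨hasTerminal_of_isRepresentable, fun _ => isRepresentable_of_hasTerminal h⟩

lemma isFibGrpd_overCat (U : C) : FibCat.IsFibGrpd (FibCat.overCat U).p := (isFibSet_overForget (U := U)).1

end Groth.L09.Fib
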