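import Groth.Agent.L24.St.Calc
import Groth.Agent.L09.FibMisc
import Groth.Agent.L09.FibRep

/-!
Representable 1-morphisms: stability.
-/

set_option autoImplicit false
set_option backward.isDefEq.respectTransparency false
set_option backward.isDefEq.respectTransparency.types false

universe v₃ u₃ v₂ u₂ v u

open CategoryTheory CategoryTheory.Limits Category Groth.L24.St

namespace Groth.L09.Fib

variable {C : Type u} [Category.{v} C]

theorem rep_of_eqv {A : BasedCategory.{v₂, u₂} C} {B : BasedCategory.{v₃, u₃} C} {F : A ⥤ᵇ B}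
    (hF : FibCat.IsEquivOver F) (h : FibCat.IsRepresentable B) : FibCat.IsRepresentable A := by
  obtain ⟨U, H, hH⟩ := h
  exact ⟨U, BasedFunctor.comp F H, isEquivOver_comp hF hH⟩

theorem rep_of_eqv' {A : BasedCategory.{v₂, u₂} C} {B : BasedCategory.{v₃, u₃} C} {F : A ⥤ᵇ B}
    (hF : FibCat.IsEquivOver F) (h : FibCat.IsRepresentable A) : FibCat.IsRepresentable B := by
  obtain ⟨G, hG, -⟩ := exists_inverse hF
  exact rep_of_eqv hG h

variable {𝒳 𝒴 𝒵 : BasedCategory.{v, max u v} C}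

theorem isRepresentable1_fpFst {f : 𝒳 ⥤ᵇ 𝒴} (g : 𝒵 ⥤ᵇ 𝒴) (hf : FibCat.IsRepresentable1 f) :
    FibCat.IsRepresentable1 (FibCat.fpFst g f) := fun U G =>
  rep_of_eqv (fpPaste_isEquivOver G g f) (hf U _)

theorem isRepresentable1_comp {f : 𝒳 ⥤ᵇ 𝒴} {g : 𝒴 ⥤ᵇ 𝒵} (hf : FibCat.IsRepresentable1 f)
    (hg : FibCat.IsRepresentable1 g) : FibCat.IsRepresentable1 (BasedFunctor.comp f g) := by
  intro U G
  obtain ⟨V, H, hH⟩ := hg U G
  obtain ⟨K, hK, -⟩ := exists_inverse hH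
  exact rep_of_eqv' (isEquivOver_comp
    (fpMap_isEquivOver hK (isEquivOver_id 𝒳) (Iso.refl (BasedFunctor.comp K (FibCat.fpSnd G g)))
      (Iso.refl (BasedFunctor.comp (BasedFunctor.id 𝒳) f)))
    (fpComp_isEquivOver G f g)) (hf V (BasedFunctor.comp K (FibCat.fpSnd G g)))

theorem isRepresentable1_iff_of_square {𝒳' 𝒴' : BasedCategory.{v, max u v} C} (f : 𝒳 ⥤ᵇ 𝒴)
    (f' : 𝒳' ⥤ᵇ 𝒴') (a : 𝒳' ⥤ᵇ 𝒳) (b : 𝒴' ⥤ᵇ 𝒴) (ha : FibCat.IsEquivOver a)
    (hb : FibCat.IsEquivOver b) (e : BasedFunctor.comp f' b ≅ BasedFunctor.comp a f) :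
    FibCat.IsRepresentable1 f ↔ FibCat.IsRepresentable1 f' := by
  have key : ∀ (U : C) (G : FibCat.overCat U ⥤ᵇ 𝒴') (G2 : FibCat.overCat U ⥤ᵇ 𝒴)
      (γ : G2 ≅ BasedFunctor.comp G b),
      FibCat.IsRepresentable (FibCat.fp G f') ↔ FibCat.IsRepresentable (FibCat.fp G2 f) := by
    intro U G G2 γ
    have h := isEquivOver_comp (fpPost_isEquivOver G f' hb)
      (fpMap_isEquivOver (F := G2) (G := f) (F' := BasedFunctor.comp G b) (G' := BasedFunctor.comp f' b)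
        (a := BasedFunctor.id _) (b := a) (isEquivOver_id _) ha γ e.symm)
    exact ⟨fun hr => rep_of_eqv' h hr, fun hr => rep_of_eqv h hr⟩
  refine ⟨fun hf U G => (key U G _ (Iso.refl _)).2 (hf U _), fun hf' U G2 => ?_⟩
  obtain ⟨c, -, -, ⟨β⟩⟩ := exists_inverse hb
  exact (key U (BasedFunctor.comp G2 c) G2 (whiskerL G2 β).symm).1 (hf' U _)

theorem overId_selfOver_ext {a b : (FibCat.selfOver C).obj} {φ ψ : a ⟶ b} (h : OverId φ)
    (h' : OverId ψ) : φ = ψ := by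
  obtain ⟨e, he⟩ := h.eq
  obtain ⟨e', he'⟩ := h'.eq
  exact he.trans he'.symm

theorem isRepresentable1_of_comp_of_diag {f : 𝒳 ⥤ᵇ 𝒴} {g : 𝒴 ⥤ᵇ 𝒵}
    (hgf : FibCat.IsRepresentable1 (BasedFunctor.comp f g))
    (hΔ : FibCat.IsRepresentable1 (FibCat.diag g)) : FibCat.IsRepresentable1 f := by
  intro U G
  obtain ⟨W, H, hH⟩ := hgf U (BasedFunctor.comp G g)
  obtain ⟨K, hK, -⟩ := exists_inverse hH
  let Q : FibCat.fp (BasedFunctor.comp G g) (BasedFunctor.comp f g) ⥤ᵇ FibCat.fp g g :=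
    fpMap G f (Iso.refl _) (Iso.refl _)
  have hQ : ∀ x, (Q.obj x).obj.iso.hom = x.obj.iso.hom := fun x => by
    change 𝟙 _ ≫ x.obj.iso.hom ≫ 𝟙 _ = x.obj.iso.hom
    simp
  have hrep : FibCat.IsRepresentable (FibCat.fp Q (FibCat.diag g)) :=
    rep_of_eqv' (fpMap_isEquivOver hK (isEquivOver_id 𝒴) (Iso.refl (BasedFunctor.comp K Q))
      (Iso.refl (BasedFunctor.comp (BasedFunctor.id 𝒴) (FibCat.diag g)))) (hΔ W _)
  let P : FibCat.fp G f ⥤ᵇ FibCat.fp (BasedFunctor.comp G g) (BasedFunctor.comp f g) :=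
    fpPost G f g
  have hd : ∀ y : 𝒴.obj, ((FibCat.diag g).obj y).obj.iso.hom = 𝟙 (g.obj y) := fun y => rfl
  let Φ : FibCat.fp G f ⥤ᵇ FibCat.fp Q (FibCat.diag g) :=
    FibCat.fpLift P (BasedFunctor.comp (FibCat.fpSnd G f) f)
      (mkIso2 (fun x => fpIsoMk x.obj.iso (Iso.refl _) (by
          change g.map x.obj.iso.hom ≫ 𝟙 _ = (Q.obj (P.obj x)).obj.iso.hom ≫ g.map (𝟙 (f.obj x.obj.snd))
          refine (Category.comp_id _).trans ?_
          refine Eq.trans ?_ (congrArg (fun t => t ≫ g.map (𝟙 (f.obj x.obj.snd))) (hQ (P.obj x))).symm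
          exact ((congrArg (fun t => g.map x.obj.iso.hom ≫ t) (g.toFunctor.map_id _)).trans
            (Category.comp_id _)).symm))
        (fun x y m => fp_ext m.hom.w
          (by exact (Category.comp_id _).trans (Category.id_comp _).symm))
        (fun x => overId_fp _ (fp_overId x)))
  refine rep_of_eqv (F := Φ) ?_ hrep
  have : Φ.toFunctor.Faithful := ⟨fun {x y m m'} hm =>
    fp_ext (congrArg (fun t => t.hom.fst.hom.fst) hm) (congrArg (fun t => t.hom.fst.hom.snd) hm)⟩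
  have : Φ.toFunctor.Full := ⟨fun {x y} m => by
    have h := m.hom.w
    have h1 : G.map m.hom.fst.hom.fst ≫ y.obj.iso.hom = x.obj.iso.hom ≫ m.hom.snd :=
      congrArg (fun t => t.hom.fst) h
    have h2 : f.map m.hom.fst.hom.snd = m.hom.snd := by
      have h2' : f.map m.hom.fst.hom.snd ≫ 𝟙 (f.obj y.obj.snd) = 𝟙 (f.obj x.obj.snd) ≫ m.hom.snd :=
        congrArg (fun t => t.hom.snd) h
      exact ((Category.comp_id _).symm.trans h2').trans (Category.id_comp _)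
    exact ⟨fpHom m.hom.fst.hom.fst m.hom.fst.hom.snd (by rw [h1, h2]),
      fp_ext (fp_ext rfl rfl) h2⟩⟩
  refine isEquivOver_of_overId _ fun η => ?_
  let α : G.obj η.obj.fst.obj.fst ≅ η.obj.snd :=
    ⟨η.obj.iso.hom.hom.fst, η.obj.iso.inv.hom.fst,
      congrArg (fun k => k.hom.fst) η.obj.iso.hom_inv_id,
      congrArg (fun k => k.hom.fst) η.obj.iso.inv_hom_id⟩
  let β : f.obj η.obj.fst.obj.snd ≅ η.obj.snd :=
    ⟨η.obj.iso.hom.hom.snd, η.obj.iso.inv.hom.snd,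
      congrArg (fun k => k.hom.snd) η.obj.iso.hom_inv_id,
      congrArg (fun k => k.hom.snd) η.obj.iso.inv_hom_id⟩
  have hη := fp_overId η
  have hα : OverId α.hom := (L09.Fib.fp_isHomLift_iff (F := g) (G := g) _ _).1 hη
  have hβ : OverId β.hom := overId_of_lift (L09.Fib.fp_snd_lift (F := g) (G := g) _ _ hη)
  have hw : g.map α.hom = η.obj.fst.obj.iso.hom ≫ g.map β.hom := by
    have h : g.map α.hom ≫ 𝟙 (g.obj η.obj.snd) = (Q.obj η.obj.fst).obj.iso.hom ≫ g.map β.hom :=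
      η.obj.iso.hom.hom.w
    rw [hQ, Category.comp_id] at h
    exact h
  refine ⟨fpObj η.obj.fst.obj.fst η.obj.fst.obj.snd (α ≪≫ β.symm) (hα.comp (OverId.inv hβ)),
    fpIsoMk (fpIsoMk (Iso.refl _) (Iso.refl _) ?_) β ?_, overId_fp _ (overId_fp _ (overId_id _))⟩
  · change g.map (G.map (𝟙 _)) ≫ η.obj.fst.obj.iso.hom = g.map (α.hom ≫ β.inv) ≫ g.map (f.map (𝟙 _))
    have h1 : g.map (α.hom ≫ β.inv) = η.obj.fst.obj.iso.hom := by
      rw [Functor.map_comp, hw, Category.assoc, ← Functor.map_comp, Iso.hom_inv_id]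
      exact (congrArg (fun t => η.obj.fst.obj.iso.hom ≫ t) (g.toFunctor.map_id _)).trans
        (Category.comp_id _)
    have h2 : g.map (G.map (𝟙 η.obj.fst.obj.fst)) = 𝟙 _ :=
      (congrArg g.map (G.toFunctor.map_id _)).trans (g.toFunctor.map_id _)
    have h3 : g.map (f.map (𝟙 η.obj.fst.obj.snd)) = 𝟙 _ :=
      (congrArg g.map (f.toFunctor.map_id _)).trans (g.toFunctor.map_id _)
    erw [h2, h3, Category.id_comp, Category.comp_id, h1]
  · refine fp_ext ?_ ?_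
    · change G.map (𝟙 _) ≫ α.hom = (α.hom ≫ β.inv) ≫ β.hom
      simp
    · change f.map (𝟙 _) ≫ β.hom = 𝟙 _ ≫ β.hom
      simp

end Groth.L09.Fib
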