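import Groth.Agent.L09.FibRep1
import Mathlib.CategoryTheory.Limits.Shapes.Pullback.HasPullback

/-!
Representable 1-morphisms: products and slices.
-/

set_option autoImplicit false
set_option backward.isDefEq.respectTransparency false
set_option backward.isDefEq.respectTransparency.types false

universe v u

open CategoryTheory CategoryTheory.Limits Category Groth.L24.St

namespace Groth.L09.Fib

variable {C : Type u} [Category.{v} C]

theorem selfOver_w {A B : BasedCategory.{v, max u v} C} {x y : (FibCat.fp (FibCat.toSelf A) (FibCat.toSelf B)).obj}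
    (c₁ : x.obj.fst ⟶ y.obj.fst) (c₂ : x.obj.snd ⟶ y.obj.snd) {R S : C} (r : R ⟶ S)
    (h₁ : A.p.IsHomLift r c₁) (h₂ : B.p.IsHomLift r c₂) :
    (FibCat.toSelf A).map c₁ ≫ y.obj.iso.hom = x.obj.iso.hom ≫ (FibCat.toSelf B).map c₂ := by
  obtain ⟨ex, hx⟩ := (fp_overId x).eq
  obtain ⟨ey, hy⟩ := (fp_overId y).eq
  have hx' : x.obj.iso.hom = eqToHom ex := hx
  have hy' : y.obj.iso.hom = eqToHom ey := hy
  show A.p.map c₁ ≫ y.obj.iso.hom = x.obj.iso.hom ≫ B.p.map c₂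
  rw [hx', hy', IsHomLift.fac' A.p r c₁, IsHomLift.fac' B.p r c₂]
  simp only [Category.assoc]
  erw [eqToHom_trans, eqToHom_trans_assoc]

variable {𝒳₁ 𝒳₂ 𝒴₁ 𝒴₂ : BasedCategory.{v, max u v} C}

/-- The first factor of a pair. -/
noncomputable abbrev prodFst (A B : BasedCategory.{v, max u v} C) :
    FibCat.fp (FibCat.toSelf A) (FibCat.toSelf B) ⥤ᵇ A :=
  FibCat.fpFst _ _

theorem isRepresentable1_prodMap (f₁ : 𝒳₁ ⥤ᵇ 𝒴₁) (f₂ : 𝒳₂ ⥤ᵇ 𝒴₂)
    (hf₁ : FibCat.IsRepresentable1 f₁) (hf₂ : FibCat.IsRepresentable1 f₂)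
    (e : BasedFunctor.comp (BasedFunctor.comp (FibCat.fpFst (FibCat.toSelf 𝒳₁) (FibCat.toSelf 𝒳₂)) f₁) (FibCat.toSelf 𝒴₁) ≅ BasedFunctor.comp (BasedFunctor.comp (FibCat.fpSnd (FibCat.toSelf 𝒳₁) (FibCat.toSelf 𝒳₂)) f₂) (FibCat.toSelf 𝒴₂)) :
    FibCat.IsRepresentable1 (FibCat.fpLift (BasedFunctor.comp (FibCat.fpFst (FibCat.toSelf 𝒳₁) (FibCat.toSelf 𝒳₂)) f₁) (BasedFunctor.comp (FibCat.fpSnd (FibCat.toSelf 𝒳₁) (FibCat.toSelf 𝒳₂)) f₂) e) := by
  intro U G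
  let T := FibCat.fpLift (BasedFunctor.comp (FibCat.fpFst (FibCat.toSelf 𝒳₁) (FibCat.toSelf 𝒳₂)) f₁)
    (BasedFunctor.comp (FibCat.fpSnd (FibCat.toSelf 𝒳₁) (FibCat.toSelf 𝒳₂)) f₂) e
  let p₁ : FibCat.fp (FibCat.toSelf 𝒴₁) (FibCat.toSelf 𝒴₂) ⥤ᵇ 𝒴₁ := FibCat.fpFst _ _
  let p₂ : FibCat.fp (FibCat.toSelf 𝒴₁) (FibCat.toSelf 𝒴₂) ⥤ᵇ 𝒴₂ := FibCat.fpSnd _ _
  let G₁ := BasedFunctor.comp G p₁
  let J := BasedFunctor.comp (FibCat.fpFst G₁ f₁) (BasedFunctor.comp G p₂)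
  obtain ⟨V, H, hH⟩ := hf₁ U G₁
  obtain ⟨K, hK, -⟩ := exists_inverse hH
  have hrep : FibCat.IsRepresentable (FibCat.fp J f₂) :=
    rep_of_eqv' (fpMap_isEquivOver hK (isEquivOver_id 𝒳₂) (Iso.refl (BasedFunctor.comp K J))
      (Iso.refl (BasedFunctor.comp (BasedFunctor.id 𝒳₂) f₂))) (hf₂ V _)
  let c1 := BasedFunctor.comp (FibCat.fpSnd G T) (FibCat.fpFst (FibCat.toSelf 𝒳₁) (FibCat.toSelf 𝒳₂))
  let c2 := BasedFunctor.comp (FibCat.fpSnd G T) (FibCat.fpSnd (FibCat.toSelf 𝒳₁) (FibCat.toSelf 𝒳₂))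
  let Φ₁ : FibCat.fp G T ⥤ᵇ FibCat.fp G₁ f₁ :=
    FibCat.fpLift (FibCat.fpFst G T) c1 (whiskerR (FibCat.fpIso G T) p₁)
  let Φ : FibCat.fp G T ⥤ᵇ FibCat.fp J f₂ :=
    FibCat.fpLift Φ₁ c2 (whiskerR (FibCat.fpIso G T) p₂)
  refine rep_of_eqv (F := Φ) ?_ hrep
  have : Φ.toFunctor.Faithful := ⟨fun {x y m m'} hm => fp_ext
    (congrArg (fun t => t.hom.fst.hom.fst) hm)
    (fp_ext (congrArg (fun t => t.hom.fst.hom.snd) hm) (congrArg (fun t => t.hom.snd) hm))⟩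
  have : Φ.toFunctor.Full := ⟨fun {x y} m => by
    have h1 : 𝒳₁.p.IsHomLift ((FibCat.overCat U).p.map m.hom.fst.hom.fst) m.hom.fst.hom.snd :=
      FibCat.fp_isHomLift_snd G₁ f₁ m.hom.fst
    have h2 : 𝒳₂.p.IsHomLift ((FibCat.overCat U).p.map m.hom.fst.hom.fst) m.hom.snd :=
      FibCat.fp_isHomLift_snd J f₂ m
    refine ⟨fpHom m.hom.fst.hom.fst (fpHom m.hom.fst.hom.snd m.hom.snd (selfOver_w _ _ _ h1 h2)) ?_,
      fp_ext (fp_ext rfl rfl) rfl⟩
    exact fp_ext m.hom.fst.hom.w m.hom.w⟩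
  refine isEquivOver_of_overId _ fun η => ?_
  let u0 := η.obj.fst.obj.fst
  let x₁ := η.obj.fst.obj.snd
  let x₂ := η.obj.snd
  have hb : 𝒳₁.p.obj x₁ = 𝒳₂.p.obj x₂ :=
    (fp_snd_obj η.obj.fst).trans ((fp_snd_obj η).symm)
  let X0 : (FibCat.fp (FibCat.toSelf 𝒳₁) (FibCat.toSelf 𝒳₂)).obj :=
    fpObj x₁ x₂ (eqToIso hb) (OverId.of_eq (𝒳 := FibCat.selfOver C) hb rfl)
  have hα : OverId η.obj.fst.obj.iso.hom := fp_overId η.obj.fst
  have hβ : OverId η.obj.iso.hom := fp_overId η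
  let pair : G.obj u0 ≅ T.obj X0 := fpIsoMk η.obj.fst.obj.iso η.obj.iso
    (selfOver_w _ _ (𝟙 ((FibCat.overCat U).p.obj u0)) (hα.lift ((G₁.w_obj u0)))
      (hβ.lift (J.w_obj η.obj.fst)))
  refine ⟨fpObj u0 X0 pair (overId_fp _ hα), fpIsoMk (fpIsoMk (Iso.refl _) (Iso.refl _) ?_)
    (Iso.refl _) ?_, overId_fp _ (overId_fp _ (overId_id _))⟩
  · change p₁.map (G.map (𝟙 u0)) ≫ η.obj.fst.obj.iso.hom = η.obj.fst.obj.iso.hom ≫ f₁.map (𝟙 x₁)
    erw [G.toFunctor.map_id, p₁.toFunctor.map_id, f₁.toFunctor.map_id, Category.id_comp, Category.comp_id]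
  · change p₂.map (G.map (𝟙 u0)) ≫ η.obj.iso.hom = η.obj.iso.hom ≫ f₂.map (𝟙 x₂)
    erw [G.toFunctor.map_id, p₂.toFunctor.map_id, f₂.toFunctor.map_id, Category.id_comp, Category.comp_id]

theorem isRepresentable1_overMap [HasPullbacks C] {X Y : C} (f : X ⟶ Y) :
    FibCat.IsRepresentable1
      (⟨Over.map f, Over.mapForget_eq f⟩ : FibCat.overCat X ⥤ᵇ FibCat.overCat Y) := by
  intro U G
  let F : FibCat.overCat X ⥤ᵇ FibCat.overCat Y := ⟨Over.map f, Over.mapForget_eq f⟩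
  let g : U ⟶ Y := eqToHom (G.w_obj (Over.mk (𝟙 U))).symm ≫ (G.obj (Over.mk (𝟙 U))).hom
  have hG : ∀ a : Over U, (G.obj a).hom = eqToHom (G.w_obj a) ≫ a.hom ≫ g := over_based_hom G
  have hfp : FibCat.IsFibGrpd (FibCat.fp G F).p :=
    fp_isFibGrpd (isFibGrpd_overCat U) (isFibGrpd_overCat X) (isFibGrpd_overCat Y)
  refine (isRepresentable_iff hfp).2 ?_
  let a0 : Over U := Over.mk (pullback.fst g f)
  let b0 : Over X := Over.mk (pullback.snd g f)
  let e0 : (G.obj a0).left = pullback g f := G.w_obj a0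
  let i0 : G.obj a0 ≅ F.obj b0 := Over.isoMk (eqToIso e0) (by
    show eqToHom e0 ≫ pullback.snd g f ≫ f = (G.obj a0).hom
    exact (congrArg (eqToHom e0 ≫ ·) pullback.condition.symm).trans (hG a0).symm)
  let T : (FibCat.fp G F).obj := fpObj a0 b0 i0 (OverId.of_eq (𝒳 := FibCat.overCat Y) e0 rfl)
  have key : ∀ x : (FibCat.fp G F).obj, ∃! m : x ⟶ T, True := by
    intro x
    obtain ⟨ex, hx⟩ := (fp_overId x).eq
    have hx' : x.obj.iso.hom.left = eqToHom ex := hx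
    have e : x.obj.fst.left = x.obj.snd.left := (G.w_obj x.obj.fst).symm.trans ex
    have hw : x.obj.fst.hom ≫ g = (eqToHom e ≫ x.obj.snd.hom) ≫ f := by
      have h := Over.w x.obj.iso.hom
      rw [hx', hG] at h
      have h' : eqToHom ex ≫ x.obj.snd.hom ≫ f =
          eqToHom (G.w_obj x.obj.fst) ≫ x.obj.fst.hom ≫ g := h
      rw [← cancel_epi (eqToHom (G.w_obj x.obj.fst)), ← h']
      simp only [Category.assoc]
      erw [eqToHom_trans_assoc]
    let l : x.obj.fst.left ⟶ pullback g f := pullback.lift x.obj.fst.hom (eqToHom e ≫ x.obj.snd.hom) hw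
    let m1 : x.obj.fst ⟶ a0 := Over.homMk l (pullback.lift_fst _ _ _)
    let m2 : x.obj.snd ⟶ b0 := Over.homMk (eqToHom e.symm ≫ l) (by
      show (eqToHom e.symm ≫ l) ≫ pullback.snd g f = _
      rw [Category.assoc, pullback.lift_snd]
      simp)
    have hGl : ∀ {a : Over U} (φ : a ⟶ a0), (G.map φ).left =
        eqToHom (G.w_obj a) ≫ φ.left ≫ eqToHom (G.w_obj a0).symm := fun φ => Functor.congr_hom G.w φ
    refine ⟨fpHom m1 m2 ?_, trivial, fun m _ => ?_⟩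
    · apply Over.OverMorphism.ext
      show (G.map m1).left ≫ eqToHom e0 = x.obj.iso.hom.left ≫ eqToHom e.symm ≫ l
      rw [hGl, hx']
      simp [m1]
    · have hw2 : (G.map m.hom.fst).left ≫ eqToHom e0 = x.obj.iso.hom.left ≫ m.hom.snd.left :=
        congrArg CommaMorphism.left m.hom.w
      rw [hGl, hx'] at hw2
      simp only [Category.assoc, eqToHom_trans, eqToHom_refl, Category.comp_id] at hw2
      have h2 : m.hom.snd.left = eqToHom e.symm ≫ m.hom.fst.left := by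
        have : eqToHom e.symm ≫ m.hom.fst.left =
            eqToHom (e.symm.trans (G.w_obj x.obj.fst).symm) ≫ eqToHom (G.w_obj x.obj.fst) ≫ m.hom.fst.left := by
          simp
        rw [this, hw2]
        simp
      have h1 : m.hom.fst.left = l := by
        apply pullback.hom_ext
        · rw [pullback.lift_fst]; exact Over.w m.hom.fst
        · rw [pullback.lift_snd]
          have h3 : m.hom.snd.left ≫ pullback.snd g f = x.obj.snd.hom := Over.w m.hom.snd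
          rw [h2, Category.assoc] at h3
          rw [← h3]
          simp
      exact fp_ext (Over.OverMorphism.ext h1) (Over.OverMorphism.ext (h2.trans (by rw [h1]; rfl)))
  exact (IsTerminal.ofUniqueHom (fun x => (key x).choose)
    (fun x m => (key x).choose_spec.2 m trivial)).hasTerminal

end Groth.L09.Fib
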