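import Groth.Agent.L09.FibRep
import Groth.Agent.L09.FibYoneda

/-!
Representability of a morphism from terminal objects of its comma categories.
-/

set_option autoImplicit false
set_option linter.style.haveILetI false
universe v u

open CategoryTheory CategoryTheory.Limits Category Functor

namespace Groth.L09.Fib

variable {C : Type u} [Category.{v} C] {𝒳 𝒴 : BasedCategory.{v, max u v} C}

/-- A morphism of categories fibred in groupoids is representable when every object of the target has a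
terminal lift-with-comparison. -/
lemma isRepresentable1_of_terminal_over (F : 𝒳 ⥤ᵇ 𝒴) (hX : FibCat.IsFibGrpd 𝒳.p) (hY : FibCat.IsFibGrpd 𝒴.p)
    (h : ∀ x₀ : 𝒴.obj, ∃ (H₀ : 𝒳.obj) (γ₀ : F.obj H₀ ⟶ x₀),
      ∀ (H : 𝒳.obj) (γ : F.obj H ⟶ x₀), ∃! n : H ⟶ H₀, F.map n ≫ γ₀ = γ) :
    FibCat.IsRepresentable1 F := by
  intro U G
  have hG := preservesStronglyCartesian_of_isFibGrpd G hY
  let oid : (FibCat.overCat U).obj := Over.mk (𝟙 U)
  let x₀ := G.obj oid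
  obtain ⟨H₀, γ₀, hγ₀⟩ := h x₀
  have hx₀ : 𝒴.p.obj x₀ = U := G.w_obj oid
  have hH₀ : 𝒴.p.obj (F.obj H₀) = 𝒳.p.obj H₀ := F.w_obj H₀
  let b : 𝒳.p.obj H₀ ⟶ U := eqToHom hH₀.symm ≫ 𝒴.p.map γ₀ ≫ eqToHom hx₀
  let w₀ : (FibCat.overCat U).obj := Over.mk b
  have hγl : 𝒴.p.IsHomLift b γ₀ := IsHomLift.of_fac 𝒴.p b γ₀ hH₀ hx₀ rfl
  have hγc : 𝒴.p.IsStronglyCartesian b γ₀ := stronglyCartesian_of_isFibGrpd 𝒴.p hY b γ₀
  have hGc : 𝒴.p.IsStronglyCartesian b (G.map (toTerm (U := U) w₀)) := map_toTerm_sc G hG w₀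
  let i : G.obj w₀ ≅ F.obj H₀ := IsCartesian.domainUniqueUpToIso 𝒴.p b γ₀ (G.map (toTerm (U := U) w₀))
  have hi : i.hom ≫ γ₀ = G.map (toTerm (U := U) w₀) :=
    IsCartesian.fac 𝒴.p b γ₀ (G.map (toTerm (U := U) w₀))
  have hil : 𝒴.p.IsHomLift (𝟙 (𝒳.p.obj H₀)) i.hom := inferInstance
  let o₀ : (FibCat.fp G F).obj := ⟨⟨w₀, H₀, i⟩, hil⟩
  have key : ∀ o : (FibCat.fp G F).obj, ∃! m : o ⟶ o₀, True := by
    rintro ⟨⟨w, H, e⟩, he⟩
    obtain ⟨n, hn, hu⟩ := hγ₀ H (e.inv ≫ G.map (toTerm (U := U) w))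
    have he' : 𝒴.p.IsHomLift (𝟙 ((FibCat.overCat U).p.obj w)) e.hom := he
    have hwb : (FibCat.overCat U).p.obj w = 𝒳.p.obj H :=
      (IsHomLift.codomain_eq 𝒴.p (𝟙 ((FibCat.overCat U).p.obj w)) e.hom).symm.trans (F.w_obj H)
    let ml : w.left ⟶ 𝒳.p.obj H₀ := eqToHom hwb ≫ 𝒳.p.map n
    have hnl : 𝒳.p.IsHomLift ml n := IsHomLift.of_fac 𝒳.p ml n hwb.symm rfl (by simp [ml])
    have hFn : 𝒴.p.IsHomLift ml (F.map n) := inferInstance
    have hc : 𝒴.p.IsHomLift (𝟙 w.left ≫ ml) (e.hom ≫ F.map n) :=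
      @IsHomLift.comp _ _ _ _ 𝒴.p _ _ _ _ _ _ (𝟙 w.left) ml e.hom (F.map n) he' hFn
    rw [id_comp] at hc
    have hcomp : (e.hom ≫ F.map n) ≫ γ₀ = G.map (toTerm (U := U) w) := by
      rw [assoc, hn, Iso.hom_inv_id_assoc]
    have hlb : ml ≫ b = w.hom := by
      have h1 : 𝒴.p.IsHomLift (ml ≫ b) ((e.hom ≫ F.map n) ≫ γ₀) :=
        @IsHomLift.comp _ _ _ _ 𝒴.p _ _ _ _ _ _ ml b _ γ₀ hc hγl
      rw [hcomp] at h1
      have h2 : 𝒴.p.IsHomLift w.hom (G.map (toTerm (U := U) w)) := (map_toTerm_sc G hG w).toIsHomLift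
      have e1 := IsHomLift.fac 𝒴.p (ml ≫ b) (G.map (toTerm (U := U) w))
      have e2 := IsHomLift.fac 𝒴.p w.hom (G.map (toTerm (U := U) w))
      exact e1.trans e2.symm
    let m₁ : w ⟶ w₀ := Over.homMk ml hlb
    have hGm : G.map m₁ ≫ G.map (toTerm (U := U) w₀) = G.map (toTerm (U := U) w) := by
      rw [← Functor.map_comp]
      congr 1
      exact Over.OverMorphism.ext hlb
    have hm₁ : (FibCat.overCat U).p.IsHomLift ml m₁ := IsHomLift.map (FibCat.overCat U).p m₁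
    have hw : G.map m₁ ≫ i.hom = e.hom ≫ F.map n := by
      have hl : 𝒴.p.IsHomLift (ml ≫ 𝟙 _) (G.map m₁ ≫ i.hom) :=
        @IsHomLift.comp _ _ _ _ 𝒴.p _ _ _ _ _ _ ml (𝟙 _) (G.map m₁) i.hom inferInstance hil
      rw [comp_id] at hl
      exact IsStronglyCartesian.ext 𝒴.p b γ₀ ml (by rw [assoc, hi, hGm, hcomp])
    refine ⟨ObjectProperty.homMk ⟨m₁, n, hw⟩, trivial, ?_⟩
    intro μ _
    have h2 : F.map μ.hom.snd ≫ γ₀ = e.inv ≫ G.map (toTerm (U := U) w) := by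
      rw [Iso.eq_inv_comp, ← assoc, ← μ.hom.w]
      show (G.map μ.hom.fst ≫ i.hom) ≫ γ₀ = _
      rw [assoc, hi, ← Functor.map_comp]
      congr 1
      exact Over.OverMorphism.ext (Over.w μ.hom.fst)
    have hn' : μ.hom.snd = n := hu _ h2
    refine ObjectProperty.hom_ext _ (CategoricalPullback.hom_ext ?_ hn')
    refine Over.OverMorphism.ext ?_
    show μ.hom.fst.left = eqToHom hwb ≫ 𝒳.p.map n
    have h3 : 𝒳.p.IsHomLift ((FibCat.overCat U).p.map μ.hom.fst) μ.hom.snd :=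
      fp_snd_lift _ μ ((fp_isHomLift_iff _ μ).2 inferInstance)
    have e4 := IsHomLift.fac 𝒳.p ((FibCat.overCat U).p.map μ.hom.fst) μ.hom.snd
    rw [← hn']
    exact e4.trans (congrArg (fun z => eqToHom hwb ≫ z) (comp_id _))
  haveI : HasTerminal (FibCat.fp G F).obj := by
    haveI : ∀ o, Nonempty (o ⟶ o₀) := fun o => ⟨(key o).exists.choose⟩
    haveI : ∀ o, Subsingleton (o ⟶ o₀) := fun o => ⟨fun m m' => (key o).unique trivial trivial⟩
    exact hasTerminal_of_unique o₀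
  exact isRepresentable_of_hasTerminal (fp_isFibGrpd (isFibGrpd_overCat U) hX hY)

end Groth.L09.Fib
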