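import Mathlib.CategoryTheory.Extensive
import Mathlib.CategoryTheory.Limits.Preserves.Shapes.Pullbacks
import Mathlib.CategoryTheory.Limits.Constructions.FiniteProductsOfBinaryProducts
import Mathlib.CategoryTheory.Limits.Shapes.Pullback.IsPullback.Basic

/-!
Adjoining a point in an extensive category; preservation of pullbacks.
-/

set_option autoImplicit false
set_option linter.unusedSectionVars false
universe v v' u u'

open CategoryTheory Category Limits

namespace Groth.L09.PlusPoint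

variable {E : Type u} [Category.{v} E] {E' : Type u'} [Category.{v'} E']

lemma preservesPullbacks_of [HasPullbacks E'] (F : E' ⥤ E)
    (h : ∀ {P X Y Z : E'} {p : P ⟶ X} {q : P ⟶ Y} {f : X ⟶ Z} {g : Y ⟶ Z},
      IsPullback p q f g → IsPullback (F.map p) (F.map q) (F.map f) (F.map g)) :
    PreservesLimitsOfShape WalkingCospan F := by
  refine ⟨fun {K} => ?_⟩
  have : PreservesLimit (cospan (K.map WalkingCospan.Hom.inl) (K.map WalkingCospan.Hom.inr)) F :=
    preservesLimit_of_preserves_limit_cone (pullbackIsPullback _ _)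
      ((isLimitMapConePullbackConeEquiv F pullback.condition).symm
        (h (IsPullback.of_hasPullback _ _)).isLimit)
  exact preservesLimit_of_iso_diagram F (diagramIsoCospan K).symm

/-- A retract of a square preserved to a pullback is a pullback. -/
lemma isPullback_of_retract {T H : E' ⥤ E} (s : T ⟶ H) (r : H ⟶ T) (hsr : s ≫ r = 𝟙 T)
    {P X Y Z : E'} {p : P ⟶ X} {q : P ⟶ Y} {f : X ⟶ Z} {g : Y ⟶ Z} (w : p ≫ f = q ≫ g)
    (hH : IsPullback (H.map p) (H.map q) (H.map f) (H.map g)) :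
    IsPullback (T.map p) (T.map q) (T.map f) (T.map g) := by
  have e : ∀ A, s.app A ≫ r.app A = 𝟙 _ := fun A => NatTrans.congr_app hsr A
  have c : ∀ (c : PullbackCone (T.map f) (T.map g)),
      (c.fst ≫ s.app X) ≫ H.map f = (c.snd ≫ s.app Y) ≫ H.map g := fun c => by
    rw [assoc, assoc, ← s.naturality, ← s.naturality, c.condition_assoc]
  refine IsPullback.of_isLimit' ⟨by rw [← T.map_comp, ← T.map_comp, w]⟩
    (PullbackCone.IsLimit.mk _ (fun k => hH.lift _ _ (c k) ≫ r.app P) (fun k => ?_) (fun k => ?_)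
      (fun k m h₁ h₂ => ?_))
  · rw [assoc, ← r.naturality, hH.lift_fst_assoc, assoc, e, comp_id]
  · rw [assoc, ← r.naturality, hH.lift_snd_assoc, assoc, e, comp_id]
  · rw [← comp_id m, ← e, ← assoc]
    congr 1
    apply hH.hom_ext
    · rw [hH.lift_fst, assoc, ← s.naturality, ← assoc, h₁]
    · rw [hH.lift_snd, assoc, ← s.naturality, ← assoc, h₂]

variable [FinitaryExtensive E] [HasTerminal E]

variable (E) in
/-- Adjoin a point. -/
@[simps]
noncomputable def plus : E ⥤ E where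
  obj a := a ⨿ ⊤_ E
  map f := coprod.map f (𝟙 _)

lemma isPullback_inl {a b : E} (f : a ⟶ b) :
    IsPullback (coprod.inl : a ⟶ a ⨿ ⊤_ E) f (coprod.map f (𝟙 (⊤_ E))) coprod.inl :=
  (((BinaryCofan.isVanKampen_iff _).1 (FinitaryExtensive.vanKampen _ (coprodIsCoprod b (⊤_ E))))
    (BinaryCofan.mk coprod.inl coprod.inr) f (𝟙 _) (coprod.map f (𝟙 _)) (coprod.inl_map _ _).symm
    (coprod.inr_map _ _).symm).1 ⟨coprodIsCoprod a (⊤_ E)⟩ |>.1

lemma isPullback_inr {a b : E} (f : a ⟶ b) :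
    IsPullback (coprod.inr : ⊤_ E ⟶ a ⨿ ⊤_ E) (𝟙 _) (coprod.map f (𝟙 (⊤_ E))) coprod.inr :=
  (((BinaryCofan.isVanKampen_iff _).1 (FinitaryExtensive.vanKampen _ (coprodIsCoprod b (⊤_ E))))
    (BinaryCofan.mk coprod.inl coprod.inr) f (𝟙 _) (coprod.map f (𝟙 _)) (coprod.inl_map _ _).symm
    (coprod.inr_map _ _).symm).1 ⟨coprodIsCoprod a (⊤_ E)⟩ |>.2

variable [HasPullbacks E]

lemma isPullback_map {P X Y Z : E} {p : P ⟶ X} {q : P ⟶ Y} {f : X ⟶ Z} {g : Y ⟶ Z} (h : IsPullback p q f g) :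
    IsPullback ((plus E).map p) ((plus E).map q) ((plus E).map f) ((plus E).map g) := by
  show IsPullback (coprod.map p (𝟙 (⊤_ E))) (coprod.map q (𝟙 _)) (coprod.map f (𝟙 _)) (coprod.map g (𝟙 _))
  have hQ := IsPullback.of_hasPullback (coprod.map f (𝟙 (⊤_ E))) (coprod.map g (𝟙 (⊤_ E)))
  have w₁ : (p ≫ coprod.inl) ≫ coprod.map f (𝟙 (⊤_ E)) = (q ≫ coprod.inl) ≫ coprod.map g (𝟙 (⊤_ E)) := by
    rw [assoc, assoc, coprod.inl_map, coprod.inl_map, reassoc_of% h.w]
  have w₂ : (coprod.inr : ⊤_ E ⟶ X ⨿ ⊤_ E) ≫ coprod.map f (𝟙 (⊤_ E)) = coprod.inr ≫ coprod.map g (𝟙 (⊤_ E)) := by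
    rw [coprod.inr_map, coprod.inr_map]
  have big₁ : IsPullback (q ≫ coprod.inl) p (coprod.map g (𝟙 (⊤_ E)))
      (coprod.inl ≫ coprod.map f (𝟙 (⊤_ E))) := by
    rw [coprod.inl_map]
    exact h.flip.paste_horiz (isPullback_inl g)
  have sq₁ : IsPullback (pullback.lift _ _ w₁) p (pullback.fst _ _) coprod.inl :=
    IsPullback.of_right (by rw [pullback.lift_snd]; exact big₁) (pullback.lift_fst _ _ w₁) hQ.flip
  have big₂ : IsPullback (coprod.inr : ⊤_ E ⟶ Y ⨿ ⊤_ E) (𝟙 _) (coprod.map g (𝟙 (⊤_ E)))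
      (coprod.inr ≫ coprod.map f (𝟙 (⊤_ E))) := by
    rw [coprod.inr_map, id_comp]
    exact isPullback_inr g
  have sq₂ : IsPullback (pullback.lift _ _ w₂) (𝟙 _) (pullback.fst _ _) coprod.inr :=
    IsPullback.of_right (by rw [pullback.lift_snd]; exact big₂) (by rw [pullback.lift_fst, id_comp]) hQ.flip
  obtain ⟨hk⟩ := (((BinaryCofan.isVanKampen_iff _).1 (FinitaryExtensive.vanKampen _ (coprodIsCoprod X (⊤_ E))))
    (BinaryCofan.mk (pullback.lift _ _ w₁) (pullback.lift _ _ w₂)) p (𝟙 _) (pullback.fst _ _)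
    (pullback.lift_fst _ _ w₁).symm ((id_comp _).trans (pullback.lift_fst _ _ w₂).symm)).2 ⟨sq₁, sq₂⟩
  let e : P ⨿ ⊤_ E ≅ pullback (coprod.map f (𝟙 (⊤_ E))) (coprod.map g (𝟙 (⊤_ E))) :=
    (coprodIsCoprod P (⊤_ E)).coconePointUniqueUpToIso hk
  have e₁ : coprod.inl ≫ e.hom = pullback.lift _ _ w₁ :=
    (coprodIsCoprod P (⊤_ E)).comp_coconePointUniqueUpToIso_hom hk ⟨WalkingPair.left⟩
  have e₂ : coprod.inr ≫ e.hom = pullback.lift _ _ w₂ :=
    (coprodIsCoprod P (⊤_ E)).comp_coconePointUniqueUpToIso_hom hk ⟨WalkingPair.right⟩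
  refine hQ.of_iso' e (Iso.refl _) (Iso.refl _) (Iso.refl _) (Eq.trans ?_ (comp_id _).symm) (Eq.trans ?_ (comp_id _).symm)
    ((id_comp _).trans (comp_id _).symm) ((id_comp _).trans (comp_id _).symm)
  · apply coprod.hom_ext
    · exact ((reassoc_of% e₁) _).trans ((pullback.lift_fst _ _ w₁).trans (coprod.inl_map _ _).symm)
    · exact ((reassoc_of% e₂) _).trans ((pullback.lift_fst _ _ w₂).trans ((coprod.inr_map _ _).trans (id_comp _)).symm)
  · apply coprod.hom_ext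
    · exact ((reassoc_of% e₁) _).trans ((pullback.lift_snd _ _ w₁).trans (coprod.inl_map _ _).symm)
    · exact ((reassoc_of% e₂) _).trans ((pullback.lift_snd _ _ w₂).trans ((coprod.inr_map _ _).trans (id_comp _)).symm)

/-- If a square becomes a pullback after adjoining a point, it is a pullback. -/
lemma isPullback_of_plus {P X Y Z : E} {p : P ⟶ X} {q : P ⟶ Y} {f : X ⟶ Z} {g : Y ⟶ Z} (w : p ≫ f = q ≫ g)
    (h : IsPullback ((plus E).map p) ((plus E).map q) ((plus E).map f) ((plus E).map g)) :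
    IsPullback p q f g := by
  replace h : IsPullback (coprod.map p (𝟙 (⊤_ E))) (coprod.map q (𝟙 _)) (coprod.map f (𝟙 _)) (coprod.map g (𝟙 _)) := h
  have c : ∀ k : PullbackCone f g, (k.fst ≫ coprod.inl) ≫ coprod.map f (𝟙 (⊤_ E)) =
      (k.snd ≫ coprod.inl) ≫ coprod.map g (𝟙 (⊤_ E)) := fun k => by
    rw [assoc, assoc, coprod.inl_map, coprod.inl_map, k.condition_assoc]
  have hl : ∀ k : PullbackCone f g,
      h.lift _ _ (c k) ≫ coprod.map (terminal.from P) (𝟙 (⊤_ E)) = terminal.from _ ≫ coprod.inl := fun k => by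
    have : coprod.map (terminal.from P) (𝟙 (⊤_ E)) = coprod.map p (𝟙 _) ≫ coprod.map (terminal.from X) (𝟙 (⊤_ E)) := by
      rw [coprod.map_map, id_comp, terminal.comp_from]
    rw [this, h.lift_fst_assoc, assoc, coprod.inl_map, ← assoc, terminal.comp_from]
  have hi := isPullback_inl (terminal.from P)
  refine IsPullback.of_isLimit' ⟨w⟩ (PullbackCone.IsLimit.mk _ (fun k => hi.lift _ _ (hl k))
    (fun k => ?_) (fun k => ?_) (fun k m h₁ h₂ => ?_))
  · refine (cancel_mono (coprod.inl : X ⟶ X ⨿ ⊤_ E)).1 ?_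
    rw [assoc, ← coprod.inl_map p (𝟙 (⊤_ E)), hi.lift_fst_assoc, h.lift_fst]
  · refine (cancel_mono (coprod.inl : Y ⟶ Y ⨿ ⊤_ E)).1 ?_
    rw [assoc, ← coprod.inl_map q (𝟙 (⊤_ E)), hi.lift_fst_assoc, h.lift_snd]
  · refine hi.hom_ext ?_ (Subsingleton.elim _ _)
    rw [hi.lift_fst]
    apply h.hom_ext
    · rw [assoc, coprod.inl_map, ← assoc, h₁, h.lift_fst]
    · rw [assoc, coprod.inl_map, ← assoc, h₂, h.lift_snd]

end Groth.L09.PlusPoint
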