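import Groth.Agent.L09.FibSiteMap
import Groth.Agent.L09.PlusPoint
import Mathlib.CategoryTheory.Sites.Limits
import Mathlib.CategoryTheory.Sites.LeftExact
import Mathlib.CategoryTheory.Limits.Preserves.Shapes.BinaryProducts
import Mathlib.CategoryTheory.Limits.Constructions.LimitsOfProductsAndEqualizers
import Mathlib.CategoryTheory.Limits.Constructions.FiniteProductsOfBinaryProducts

/-!
If a cartesian functor of fibred sites is a morphism of the total sites it is one on the fibres.
-/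

set_option autoImplicit false
set_option linter.unusedSectionVars false
set_option linter.unusedVariables false
set_option backward.isDefEq.respectTransparency false
set_option backward.isDefEq.respectTransparency.types false
universe u

open CategoryTheory Category Limits Opposite Pseudofunctor.CoGrothendieck Bicategory
open scoped CategoryTheory.Pseudofunctor.StrongTrans

namespace Groth.L09.FibSiteConv

variable {𝒮 : Type u} [SmallCategory 𝒮] {F : Pseudofunctor (LocallyDiscrete 𝒮ᵒᵖ) Cat.{u, u}}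
  {J : FibSite.Topologies F} (S : 𝒮)
  [(ι F S).IsContinuous (J S) (FibSite.totalTopology F J)]
  [(ι F S).IsCocontinuous (J S) (FibSite.totalTopology F J)]
  [∀ f : S ⟶ S, (FibSite.invImage F f).IsContinuous (J S) (J S)]

/-- Inverse image along an identity. -/
noncomputable def ω : (FibSite.invImage F (𝟙 S)).sheafPushforwardContinuous (Type u) (J S) (J S) ≅ 𝟭 _ :=
  Functor.sheafPushforwardContinuousId' (F'' := FibSite.invImage F (𝟙 S)) (Cat.Hom.toNatIso (F.mapId ⟨op S⟩)) (Type u) (J S)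

/-- The retraction. -/
noncomputable def r : FibSite.coextend F J (Type u) S ⋙ FibSite.restr F J (Type u) S ⟶ 𝟭 _ :=
  FibSiteRan.p S S (𝟙 S) ≫ (ω S).hom

/-- The constant component. -/
noncomputable def point (Z : Sheaf (J S) (Type u)) (pt : ⊤_ _ ⟶ Z) (f : S ⟶ S) :
    Z ⟶ ((FibSite.invImage F f).sheafPushforwardContinuous (Type u) (J S) (J S)).obj Z :=
  terminal.from Z ≫ (PreservesTerminal.iso ((FibSite.invImage F f).sheafPushforwardContinuous (Type u) (J S) (J S))).inv ≫
    ((FibSite.invImage F f).sheafPushforwardContinuous (Type u) (J S) (J S)).map pt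

open Classical in
/-- The component at a morphism of the base of the section. -/
noncomputable def sf (Z : Sheaf (J S) (Type u)) (pt : ⊤_ _ ⟶ Z) (f : S ⟶ S) :
    Z ⟶ ((FibSite.invImage F f).sheafPushforwardContinuous (Type u) (J S) (J S)).obj Z :=
  if h : f = 𝟙 S then (ω S).inv.app Z ≫ eqToHom (by subst h; rfl)
  else point S Z pt f

/-- The section of the retraction on pointed sheaves. -/
noncomputable def sec (Z : Sheaf (J S) (Type u)) (pt : ⊤_ _ ⟶ Z) :
    Z ⟶ (FibSite.coextend F J (Type u) S ⋙ FibSite.restr F J (Type u) S).obj Z :=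
  Fan.IsLimit.lift (FibSiteRan.fanIsLimit S S Z) (sf S Z pt)

lemma sec_p (Z : Sheaf (J S) (Type u)) (pt : ⊤_ _ ⟶ Z) (f : S ⟶ S) :
    sec S Z pt ≫ (FibSiteRan.p S S f).app Z = sf S Z pt f :=
  Fan.IsLimit.fac (FibSiteRan.fanIsLimit S S Z) (sf S Z pt) f

lemma sec_r (Z : Sheaf (J S) (Type u)) (pt : ⊤_ _ ⟶ Z) : sec S Z pt ≫ (r S).app Z = 𝟙 Z := by
  show sec S Z pt ≫ (FibSiteRan.p S S (𝟙 S)).app Z ≫ (ω S).hom.app Z = _
  rw [← assoc, sec_p, sf, dif_pos rfl, eqToHom_refl, comp_id]
  exact (ω S).inv_hom_id_app Z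

lemma sf_natural {Z Z' : Sheaf (J S) (Type u)} (φ : Z ⟶ Z') (pt : ⊤_ _ ⟶ Z) (pt' : ⊤_ _ ⟶ Z') (e : pt ≫ φ = pt')
    (f : S ⟶ S) : φ ≫ sf S Z' pt' f =
      sf S Z pt f ≫ ((FibSite.invImage F f).sheafPushforwardContinuous (Type u) (J S) (J S)).map φ := by
  by_cases h : f = 𝟙 S
  · subst h
    simp only [sf, dif_pos, eqToHom_refl, comp_id]
    exact (ω S).inv.naturality φ
  · simp only [sf, dif_neg h, point, assoc, ← Functor.map_comp, e]
    rw [← assoc φ, terminal.comp_from]

lemma sec_natural {Z Z' : Sheaf (J S) (Type u)} (φ : Z ⟶ Z') (pt : ⊤_ _ ⟶ Z) (pt' : ⊤_ _ ⟶ Z') (e : pt ≫ φ = pt') :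
    φ ≫ sec S Z' pt' = sec S Z pt ≫ (FibSite.coextend F J (Type u) S ⋙ FibSite.restr F J (Type u) S).map φ := by
  refine Fan.IsLimit.hom_ext (FibSiteRan.fanIsLimit S S Z') _ _ fun f => ?_
  refine (assoc _ _ _).trans ((congrArg (φ ≫ ·) (sec_p S Z' pt' f)).trans ((sf_natural S φ pt pt' e f).trans ?_))
  refine Eq.symm ((assoc _ _ _).trans ((congrArg (sec S Z pt ≫ ·) ((FibSiteRan.p S S f).naturality φ)).trans ?_))
  rw [← assoc, sec_p]

variable {G : Pseudofunctor (LocallyDiscrete 𝒮ᵒᵖ) Cat.{u, u}} (α : G ⟶ F) {K : FibSite.Topologies G}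
  [(Pseudofunctor.CoGrothendieck.map α).IsContinuous (FibSite.totalTopology G K) (FibSite.totalTopology F J)]
  [(ι G S).IsContinuous (K S) (FibSite.totalTopology G K)]

lemma isSheaf_restr (P : FibSite.TotSh F J (Type u)) :
    Presheaf.IsSheaf (K S) ((α.app ⟨op S⟩).toFunctor.op ⋙ ((FibSite.restr F J (Type u) S).obj P).obj) := by
  have := Functor.isContinuous_comp (ι G S) (Pseudofunctor.CoGrothendieck.map α) (K S) (FibSite.totalTopology G K)
    (FibSite.totalTopology F J)
  have : ((α.app ⟨op S⟩).toFunctor ⋙ ι F S).IsContinuous (K S) (FibSite.totalTopology F J) :=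
    Functor.isContinuous_of_iso (FibSiteMap.ιMapIso α S) _ _
  exact ((α.app ⟨op S⟩).toFunctor ⋙ ι F S).op_comp_isSheaf (K S) (FibSite.totalTopology F J) P

lemma isSheaf_pointed (Z : Sheaf (J S) (Type u)) (pt : ⊤_ _ ⟶ Z) :
    Presieve.IsSheaf (K S) ((α.app ⟨op S⟩).toFunctor.op ⋙ Z.obj) := by
  have h := (isSheaf_iff_isSheaf_of_type _ _).1 (isSheaf_restr S α ((FibSite.coextend F J (Type u) S).obj Z) (K := K))
  let P' := (α.app ⟨op S⟩).toFunctor.op ⋙ ((FibSite.restr F J (Type u) S).obj ((FibSite.coextend F J (Type u) S).obj Z)).obj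
  let s : (α.app ⟨op S⟩).toFunctor.op ⋙ Z.obj ⟶ P' := Functor.whiskerLeft _ (sec S Z pt).hom
  let t : P' ⟶ (α.app ⟨op S⟩).toFunctor.op ⋙ Z.obj := Functor.whiskerLeft _ ((r S).app Z).hom
  have e : ∀ c z, t.app c (s.app c z) = z := fun c z =>
    ConcreteCategory.congr_hom (NatTrans.congr_app (congrArg (fun k => k.hom) (sec_r S Z pt))
      ((α.app ⟨op S⟩).toFunctor.op.obj c)) z
  intro U R hR x hx
  refine ⟨t.app _ ((h R hR).amalgamate (Presieve.FamilyOfElements.map x s) (hx.map s)), fun V g hg => ?_, fun y hy => ?_⟩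
  · refine (NatTrans.naturality_apply t g.op _).symm.trans ?_
    exact (congrArg (t.app _) ((h R hR).valid_glue (hx.map s) g hg)).trans (e _ _)
  · refine (e _ y).symm.trans (congrArg (t.app _) ?_)
    refine (h R hR).isSeparatedFor.ext fun V g hg => ?_
    refine (NatTrans.naturality_apply s g.op y).symm.trans ?_
    exact (congrArg (s.app _) (hy g hg)).trans ((h R hR).valid_glue (hx.map s) g hg).symm

lemma isContinuous_app [∀ (Q : Sheaf (J S) (Type u)), HasBinaryCoproduct Q (⊤_ _)] :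
    (α.app ⟨op S⟩).toFunctor.IsContinuous (K S) (J S) := by
  refine ⟨fun Z => ?_⟩
  let F' := sheafToPresheaf (J S) (Type u) ⋙ (Functor.whiskeringLeft _ _ (Type u)).obj (α.app ⟨op S⟩).toFunctor.op
  have hsq := (PlusPoint.isPullback_inl (terminal.from Z)).map F'
  have hZ : Presieve.IsSheaf (K S) (F'.obj (Z ⨿ ⊤_ _)) := isSheaf_pointed S α _ coprod.inr
  have hB : Presieve.IsSheaf (K S) (F'.obj ((⊤_ _) ⨿ ⊤_ _)) := isSheaf_pointed S α _ coprod.inr
  have hT : Presieve.IsSheaf (K S) (F'.obj (⊤_ _)) := isSheaf_pointed S α _ (𝟙 _)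
  intro U R hR x hx
  have hp := fun c => (Types.isPullback_iff _ _ _ _).1 (hsq.app c)
  let i := F'.map (coprod.inl : Z ⟶ Z ⨿ ⊤_ _)
  let q := F'.map (terminal.from Z)
  let e := (hZ R hR).amalgamate (Presieve.FamilyOfElements.map x i) (hx.map i)
  let o := (hT R hR).amalgamate (Presieve.FamilyOfElements.map x q) (hx.map q)
  obtain ⟨z, hz₁, hz₂⟩ := (hp (op U)).2.2 e o ((hB R hR).isSeparatedFor.ext fun V g hg => by
    refine (NatTrans.naturality_apply (F'.map (coprod.map (terminal.from Z) (𝟙 (⊤_ _)))) g.op e).symm.trans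
      (Eq.trans ?_ (NatTrans.naturality_apply (F'.map (coprod.inl : ⊤_ _ ⟶ (⊤_ _) ⨿ ⊤_ _)) g.op o))
    refine (congrArg _ ((hZ R hR).valid_glue (hx.map i) g hg)).trans
      (Eq.trans ?_ (congrArg _ ((hT R hR).valid_glue (hx.map q) g hg)).symm)
    exact ConcreteCategory.congr_hom (hp (op V)).1 (x g hg))
  refine ⟨z, fun V g hg => (hp (op V)).2.1 _ _ ⟨?_, ?_⟩, fun y hy => (hp (op U)).2.1 _ _ ⟨?_, ?_⟩⟩
  · exact (NatTrans.naturality_apply i g.op z).trans ((congrArg _ hz₁).trans ((hZ R hR).valid_glue (hx.map i) g hg))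
  · exact (NatTrans.naturality_apply q g.op z).trans ((congrArg _ hz₂).trans ((hT R hR).valid_glue (hx.map q) g hg))
  · refine Eq.trans ?_ hz₁.symm
    refine (hZ R hR).isSeparatedFor.ext fun V g hg => ?_
    exact (NatTrans.naturality_apply i g.op y).symm.trans ((congrArg _ (hy g hg)).trans ((hZ R hR).valid_glue (hx.map i) g hg).symm)
  · refine Eq.trans ?_ hz₂.symm
    refine (hT R hR).isSeparatedFor.ext fun V g hg => ?_
    exact (NatTrans.naturality_apply q g.op y).symm.trans ((congrArg _ (hy g hg)).trans ((hT R hR).valid_glue (hx.map q) g hg).symm)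

end Groth.L09.FibSiteConv

namespace Groth.L09.FibSiteConv

variable {𝒮 : Type u} [SmallCategory 𝒮] {F G : Pseudofunctor (LocallyDiscrete 𝒮ᵒᵖ) Cat.{u, u}}
  {J : FibSite.Topologies F} {K : FibSite.Topologies G} (S : 𝒮) (α : G ⟶ F)
  [(ι F S).IsContinuous (J S) (FibSite.totalTopology F J)]
  [(ι F S).IsCocontinuous (J S) (FibSite.totalTopology F J)]
  [(ι G S).IsContinuous (K S) (FibSite.totalTopology G K)]
  [(ι G S).IsCocontinuous (K S) (FibSite.totalTopology G K)]
  [∀ f : S ⟶ S, (FibSite.invImage G f).IsContinuous (K S) (K S)]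
  [(Pseudofunctor.CoGrothendieck.map α).IsContinuous (FibSite.totalTopology G K) (FibSite.totalTopology F J)]
  [(α.app ⟨op S⟩).toFunctor.IsContinuous (K S) (J S)]

/-- The categorical core: left exactness from a retraction on pointed objects. -/
lemma preservesFiniteLimits_of_retract {A E E' : Type (u + 1)} [Category.{u} A] [Category.{u} E] [Category.{u} E']
    [HasTerminal A] [FinitaryExtensive E] [HasTerminal E] [HasPullbacks E]
    [FinitaryExtensive E'] [HasTerminal E'] [HasPullbacks E']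
    (CG : E ⥤ A) (R : A ⥤ E) (L : E ⥤ E') (hCG : PreservesLimitsOfShape WalkingCospan CG)
    (hRL : PreservesFiniteLimits (R ⋙ L)) (hR : PreservesFiniteLimits R)
    (hLc : PreservesColimitsOfShape (Discrete WalkingPair) L)
    (r : CG ⋙ R ⟶ 𝟭 E) (sec : ∀ (Z : E), (⊤_ E ⟶ Z) → (Z ⟶ (CG ⋙ R).obj Z))
    (sec_r : ∀ Z pt, sec Z pt ≫ r.app Z = 𝟙 Z)
    (sec_natural : ∀ {Z Z' : E} (φ : Z ⟶ Z') (pt : ⊤_ E ⟶ Z) (pt' : ⊤_ E ⟶ Z'), pt ≫ φ = pt' →
      φ ≫ sec Z' pt' = sec Z pt ≫ (CG ⋙ R).map φ) :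
    PreservesFiniteLimits L := by
  let τ : L.obj (⊤_ _) ≅ ⊤_ _ :=
    L.mapIso ((IsTerminal.isTerminalObj R _ terminalIsTerminal).uniqueUpToIso terminalIsTerminal).symm ≪≫
      (IsTerminal.isTerminalObj (R ⋙ L) _ terminalIsTerminal).uniqueUpToIso terminalIsTerminal
  have := preservesTerminal_of_iso L τ
  have := preservesLimitsOfShape_pempty_of_preservesTerminal L
  have : PreservesLimitsOfShape WalkingCospan L := by
    refine PlusPoint.preservesPullbacks_of L fun {P X Y Z p q f g} h => ?_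
    refine PlusPoint.isPullback_of_plus (by rw [← L.map_comp, ← L.map_comp, h.w]) ?_
    let sN : PlusPoint.plus _ ⟶ PlusPoint.plus _ ⋙ (CG ⋙ R) :=
      { app := fun a => sec ((PlusPoint.plus _).obj a) coprod.inr
        naturality := fun a b φ => sec_natural ((PlusPoint.plus _).map φ) coprod.inr coprod.inr
          ((coprod.inr_map _ _).trans (id_comp _)) }
    let rN : PlusPoint.plus _ ⋙ (CG ⋙ R) ⟶ PlusPoint.plus _ := Functor.whiskerLeft (PlusPoint.plus _) r
    have h₁ : IsPullback ((PlusPoint.plus _ ⋙ L).map p) ((PlusPoint.plus _ ⋙ L).map q)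
        ((PlusPoint.plus _ ⋙ L).map f) ((PlusPoint.plus _ ⋙ L).map g) :=
      PlusPoint.isPullback_of_retract (H := (PlusPoint.plus _ ⋙ (CG ⋙ R)) ⋙ L)
        (Functor.whiskerRight sN L) (Functor.whiskerRight rN L)
        (by
          ext a : 2
          show L.map _ ≫ L.map _ = _
          rw [← L.map_comp]
          exact (congrArg (fun k => L.map k) (sec_r _ _)).trans (L.map_id _))
        h.w (((PlusPoint.isPullback_map h).map CG).map (R ⋙ L))
    let κ : ∀ a, (PlusPoint.plus _).obj (L.obj a) ≅ L.obj ((PlusPoint.plus _).obj a) := fun a =>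
      coprod.mapIso (Iso.refl _) τ.symm ≪≫ asIso (coprodComparison L a (⊤_ _))
    have κn : ∀ {a b} (φ : a ⟶ b), (PlusPoint.plus _).map (L.map φ) ≫ (κ b).hom =
        (κ a).hom ≫ L.map ((PlusPoint.plus _).map φ) := fun {a b} φ => by
      show coprod.map (L.map φ) (𝟙 _) ≫ coprod.map (𝟙 _) τ.inv ≫ coprodComparison L b _ =
        (coprod.map (𝟙 _) τ.inv ≫ coprodComparison L a _) ≫ L.map (coprod.map φ (𝟙 _))
      rw [assoc, coprodComparison_natural, L.map_id, coprod.map_map_assoc, coprod.map_map_assoc]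
      simp
    exact h₁.of_iso' (κ P) (κ X) (κ Y) (κ Z) (κn p).symm (κn q).symm (κn f).symm (κn g).symm
  exact preservesFiniteLimits_of_preservesTerminal_and_pullbacks L


lemma preservesFiniteLimits_app
    [PreservesFiniteLimits ((Pseudofunctor.CoGrothendieck.map α).sheafPullback (Type u) (FibSite.totalTopology G K) (FibSite.totalTopology F J))] :
    PreservesFiniteLimits ((α.app ⟨op S⟩).toFunctor.sheafPullback (Type u) (K S) (J S)) := by
  let L := (α.app ⟨op S⟩).toFunctor.sheafPullback (Type u) (K S) (J S)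
  let R := FibSite.restr G K (Type u) S
  let CG := FibSite.coextend G K (Type u) S
  have hR : PreservesFiniteLimits R := inferInstance
  have hRF : PreservesFiniteLimits (FibSite.restr F J (Type u) S) := inferInstance
  have hRL : PreservesFiniteLimits (R ⋙ L) := by
    have : PreservesFiniteLimits ((Pseudofunctor.CoGrothendieck.map α).sheafPullback (Type u)
        (FibSite.totalTopology G K) (FibSite.totalTopology F J) ⋙ FibSite.restr F J (Type u) S) :=
      comp_preservesFiniteLimits _ _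
    exact ⟨fun I _ _ => preservesLimitsOfShape_of_natIso (FibSiteMap.pullbackRestrIso α S).symm⟩
  have hCG : PreservesLimitsOfShape WalkingCospan CG :=
    ((ι G S).sheafAdjunctionCocontinuous (Type u) (K S) (FibSite.totalTopology G K)).rightAdjoint_preservesLimits.preservesLimitsOfShape
  have hLc : PreservesColimitsOfShape (Discrete WalkingPair) L :=
    ((α.app ⟨op S⟩).toFunctor.sheafAdjunctionContinuous (Type u) (K S) (J S)).leftAdjoint_preservesColimits.preservesColimitsOfShape
  exact preservesFiniteLimits_of_retract CG R L hCG hRL hR hLc (r S) (fun Z pt => sec S Z pt) (sec_r S)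
    (fun φ pt pt' e => sec_natural S φ pt pt' e)

end Groth.L09.FibSiteConv
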