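import Groth.Agent.L09.FibSiteRan
import Mathlib.CategoryTheory.Bicategory.Grothendieck
import Mathlib.CategoryTheory.Limits.Preserves.Finite

/-!
Cartesian functors between fibred sites: the base change isomorphism.
-/

set_option autoImplicit false
set_option linter.unusedSectionVars false
set_option linter.unusedVariables false
set_option backward.isDefEq.respectTransparency false
set_option backward.isDefEq.respectTransparency.types false
universe u

open CategoryTheory Category Limits Opposite Pseudofunctor.CoGrothendieck Bicategory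
open scoped CategoryTheory.Pseudofunctor.StrongTrans

namespace Groth.L09.FibSiteMap

variable {𝒮 : Type u} [SmallCategory 𝒮] {F G : Pseudofunctor (LocallyDiscrete 𝒮ᵒᵖ) Cat.{u, u}} (α : G ⟶ F)

attribute [local simp] PrelaxFunctor.map₂_eqToHom

lemma fiber_map_ι {S : 𝒮} {V W : G.obj ⟨op S⟩} (a : V ⟶ W) :
    (α.app ⟨op S⟩).toFunctor.map (a ≫ (G.mapId ⟨op S⟩).inv.toNatTrans.app W) ≫
        (α.naturality (𝟙 S).op.toLoc).hom.toNatTrans.app W =
      (α.app ⟨op S⟩).toFunctor.map a ≫ (F.mapId ⟨op S⟩).inv.toNatTrans.app _ := by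
  rw [Functor.map_comp, assoc]
  simp [Cat.Hom.comp_toFunctor, Pseudofunctor.StrongTrans.naturality_id_hom_app, Cat.Hom.id_toFunctor,
    ← Functor.map_comp_assoc, ← Cat.Hom₂.comp_app]

/-- A cartesian functor commutes with the fibre inclusions. -/
def ιMapIso (S : 𝒮) : ι G S ⋙ Pseudofunctor.CoGrothendieck.map α ≅ (α.app ⟨op S⟩).toFunctor ⋙ ι F S :=
  NatIso.ofComponents (fun V => Iso.refl _) fun {V W} a => by
    refine (comp_id _).trans (Eq.trans ?_ (id_comp _).symm)
    exact Pseudofunctor.CoGrothendieck.Hom.ext _ _ rfl ((fiber_map_ι α a).trans (comp_id _).symm)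

lemma isIso_fiber_map_lift {R S : 𝒮} (f : R ⟶ S) (U : G.obj ⟨op S⟩) :
    IsIso (((Pseudofunctor.CoGrothendieck.map α).map (cartesianLift U f)).fiber :
      (α.app ⟨op R⟩).toFunctor.obj ((FibSite.invImage G f).obj U) ⟶
        (FibSite.invImage F f).obj ((α.app ⟨op S⟩).toFunctor.obj U)) := by
  show IsIso ((α.app ⟨op R⟩).toFunctor.map (𝟙 ((FibSite.invImage G f).obj U)) ≫
    (α.naturality f.op.toLoc).hom.toNatTrans.app U)
  have : IsIso ((α.naturality f.op.toLoc).hom.toNatTrans.app U) :=
    inferInstanceAs (IsIso ((Cat.Hom.toNatIso (α.naturality f.op.toLoc)).hom.app U))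
  infer_instance

/-- The base change transformation for presheaves. -/
noncomputable def θ (S : 𝒮) (P : (F.obj ⟨op S⟩)ᵒᵖ ⥤ Type u) :
    (Pseudofunctor.CoGrothendieck.map α).op ⋙ (ι F S).op.ran.obj P ⟶
      (ι G S).op.ran.obj ((α.app ⟨op S⟩).toFunctor.op ⋙ P) :=
  Functor.liftOfIsRightKanExtension _ ((ι G S).op.ranCounit.app _) _
    { app := fun V => ((ι F S).op.ranCounit.app P).app (op ((α.app ⟨op S⟩).toFunctor.obj V.unop))
      naturality := fun V W a => by
        have e : (Pseudofunctor.CoGrothendieck.map α).map ((ι G S).map a.unop) =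
            (ι F S).map ((α.app ⟨op S⟩).toFunctor.map a.unop) :=
          ((comp_id _).symm.trans ((ιMapIso α S).hom.naturality a.unop)).trans (id_comp _)
        refine (congrArg (fun k => ((ι F S).op.ran.obj P).map k ≫ _) (congrArg Quiver.Hom.op e)).trans ?_
        exact ((ι F S).op.ranCounit.app P).naturality _ }

lemma θ_fac (S : 𝒮) (P : (F.obj ⟨op S⟩)ᵒᵖ ⥤ Type u) (V : (G.obj ⟨op S⟩)ᵒᵖ) :
    (θ α S P).app ((ι G S).op.obj V) ≫ ((ι G S).op.ranCounit.app _).app V =
      ((ι F S).op.ranCounit.app P).app (op ((α.app ⟨op S⟩).toFunctor.obj V.unop)) :=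
  Functor.liftOfIsRightKanExtension_fac_app _ _ _ _ V

lemma θ_bijective (S : 𝒮) (P : (F.obj ⟨op S⟩)ᵒᵖ ⥤ Type u) (X : ∫ᶜ G) :
    Function.Bijective ((θ α S P).app (op X)) := by
  obtain ⟨i, U⟩ := X
  let U' : F.obj ⟨op i⟩ := (α.app ⟨op i⟩).toFunctor.obj U
  let β : ∀ f : S ⟶ i, (α.app ⟨op S⟩).toFunctor.obj ((FibSite.invImage G f).obj U) ⟶ (FibSite.invImage F f).obj U' :=
    fun f => ((Pseudofunctor.CoGrothendieck.map α).map (cartesianLift U f)).fiber
  have key : ∀ (f : S ⟶ i) e,
      ((FibSiteRan.π f).app ((α.app ⟨op S⟩).toFunctor.op ⋙ P)).app (op U) ((θ α S P).app (op ⟨i, U⟩) e) =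
        P.map (β f).op (((FibSiteRan.π f).app P).app (op U') e) := by
    intro f e
    show ((ι G S).op.ranCounit.app ((α.app ⟨op S⟩).toFunctor.op ⋙ P)).app (op ((FibSite.invImage G f).obj U))
      (((ι G S).op.ran.obj ((α.app ⟨op S⟩).toFunctor.op ⋙ P)).map (cartesianLift U f).op ((θ α S P).app (op ⟨i, U⟩) e)) = _
    refine (congrArg _ (NatTrans.naturality_apply (θ α S P) (cartesianLift U f).op e).symm).trans ?_
    refine (ConcreteCategory.congr_hom (θ_fac α S P (op ((FibSite.invImage G f).obj U))) _).trans ?_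
    refine Eq.trans ?_ (NatTrans.naturality_apply ((ι F S).op.ranCounit.app P) (β f).op _)
    refine congrArg (((ι F S).op.ranCounit.app P).app _) ?_
    refine Eq.trans ?_ (Functor.map_comp_apply ((ι F S).op.ran.obj P) _ _ e)
    exact congrArg (fun k => ((ι F S).op.ran.obj P).map k e) (congrArg Quiver.Hom.op
      (FibSiteTop.hom_factor ((Pseudofunctor.CoGrothendieck.map α).map (cartesianLift U f))).symm)
  have hβ : ∀ f, Function.Bijective (P.map (β f).op) := fun f => by
    have := isIso_fiber_map_lift α f U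
    have : IsIso (β f) := this
    exact (isIso_iff_bijective _).1 inferInstance
  have h := FibSiteRan.π_bijective i S ((α.app ⟨op S⟩).toFunctor.op ⋙ P) U
  refine ⟨fun e e' he => (FibSiteRan.π_bijective i S P U').1 (funext fun f => (hβ f).1 ?_), fun y => ?_⟩
  · rw [← key f e, ← key f e', he]
  · obtain ⟨e, he⟩ := (FibSiteRan.π_bijective i S P U').2 fun f => ((hβ f).2
      (((FibSiteRan.π f).app ((α.app ⟨op S⟩).toFunctor.op ⋙ P)).app (op U) y)).choose
    refine ⟨e, h.1 (funext fun f => (key f e).trans ?_)⟩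
    exact (congrArg (P.map (β f).op) (congrFun he f)).trans ((hβ f).2 _).choose_spec

lemma θ_natural (S : 𝒮) {P Q : (F.obj ⟨op S⟩)ᵒᵖ ⥤ Type u} (φ : P ⟶ Q) :
    Functor.whiskerLeft (Pseudofunctor.CoGrothendieck.map α).op ((ι F S).op.ran.map φ) ≫ θ α S Q =
      θ α S P ≫ (ι G S).op.ran.map (Functor.whiskerLeft (α.app ⟨op S⟩).toFunctor.op φ) := by
  refine Functor.hom_ext_of_isRightKanExtension _ ((ι G S).op.ranCounit.app _) _ _ ?_
  ext V e
  show ((ι G S).op.ranCounit.app ((α.app ⟨op S⟩).toFunctor.op ⋙ Q)).app V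
      ((θ α S Q).app ((ι G S).op.obj V) (((ι F S).op.ran.map φ).app ((Pseudofunctor.CoGrothendieck.map α).op.obj ((ι G S).op.obj V)) e)) =
    ((ι G S).op.ranCounit.app ((α.app ⟨op S⟩).toFunctor.op ⋙ Q)).app V
      (((ι G S).op.ran.map (Functor.whiskerLeft (α.app ⟨op S⟩).toFunctor.op φ)).app ((ι G S).op.obj V) ((θ α S P).app ((ι G S).op.obj V) e))
  refine (ConcreteCategory.congr_hom (θ_fac α S Q V) _).trans ?_
  refine (ConcreteCategory.congr_hom (NatTrans.congr_app ((ι F S).op.ranCounit.naturality φ) _) e).trans ?_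
  refine Eq.symm ((ConcreteCategory.congr_hom (NatTrans.congr_app ((ι G S).op.ranCounit.naturality
    (Functor.whiskerLeft (α.app ⟨op S⟩).toFunctor.op φ)) V) _).trans ?_)
  exact congrArg _ (ConcreteCategory.congr_hom (θ_fac α S P V) e)

variable {J : FibSite.Topologies F} {K : FibSite.Topologies G} (S : 𝒮)
  [(Pseudofunctor.CoGrothendieck.map α).IsContinuous (FibSite.totalTopology G K) (FibSite.totalTopology F J)]
  [(α.app ⟨op S⟩).toFunctor.IsContinuous (K S) (J S)]
  [(ι F S).IsCocontinuous (J S) (FibSite.totalTopology F J)]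
  [(ι G S).IsCocontinuous (K S) (FibSite.totalTopology G K)]

/-- The base change isomorphism for sheaves. -/
noncomputable def Θ :
    FibSite.coextend F J (Type u) S ⋙
        (Pseudofunctor.CoGrothendieck.map α).sheafPushforwardContinuous (Type u) (FibSite.totalTopology G K) (FibSite.totalTopology F J) ≅
      (α.app ⟨op S⟩).toFunctor.sheafPushforwardContinuous (Type u) (K S) (J S) ⋙ FibSite.coextend G K (Type u) S :=
  NatIso.ofComponents
    (fun a => (fullyFaithfulSheafToPresheaf _ _).preimageIso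
      (@asIso _ _ _ _ (θ α S a.obj) (by
        have : ∀ X, IsIso ((θ α S a.obj).app X) := fun X => (isIso_iff_bijective _).2 (θ_bijective α S a.obj X.unop)
        exact NatIso.isIso_of_isIso_app _)))
    (fun φ => Sheaf.hom_ext (θ_natural α S φ.hom))

variable [(ι F S).IsContinuous (J S) (FibSite.totalTopology F J)]
  [(ι G S).IsContinuous (K S) (FibSite.totalTopology G K)]
  [((Pseudofunctor.CoGrothendieck.map α).sheafPushforwardContinuous (Type u) (FibSite.totalTopology G K) (FibSite.totalTopology F J)).IsRightAdjoint]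
  [((α.app ⟨op S⟩).toFunctor.sheafPushforwardContinuous (Type u) (K S) (J S)).IsRightAdjoint]

/-- Inverse image commutes with restriction to the fibres. -/
noncomputable def pullbackRestrIso :
    FibSite.restr G K (Type u) S ⋙ (α.app ⟨op S⟩).toFunctor.sheafPullback (Type u) (K S) (J S) ≅
      (Pseudofunctor.CoGrothendieck.map α).sheafPullback (Type u) (FibSite.totalTopology G K) (FibSite.totalTopology F J) ⋙
        FibSite.restr F J (Type u) S :=
  (((ι G S).sheafAdjunctionCocontinuous (Type u) (K S) (FibSite.totalTopology G K)).comp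
      ((α.app ⟨op S⟩).toFunctor.sheafAdjunctionContinuous (Type u) (K S) (J S))).leftAdjointUniq
    ((((Pseudofunctor.CoGrothendieck.map α).sheafAdjunctionContinuous (Type u) (FibSite.totalTopology G K) (FibSite.totalTopology F J)).comp
      ((ι F S).sheafAdjunctionCocontinuous (Type u) (J S) (FibSite.totalTopology F J))).ofNatIsoRight (Θ α S))

end Groth.L09.FibSiteMap
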