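import Groth.Agent.L09.FibSiteTop
import Mathlib.CategoryTheory.Functor.KanExtension.Adjunction
import Mathlib.CategoryTheory.Adjunction.Triple
import Mathlib.CategoryTheory.Limits.Types.Limits
import Mathlib.CategoryTheory.Limits.Preserves.FunctorCategory

/-!
Right Kan extensions along the fibre inclusions of a fibred category, and the adjoints of restriction.
-/

set_option autoImplicit false
set_option linter.unusedSectionVars false
set_option linter.unusedVariables false
set_option linter.deprecated false
set_option backward.isDefEq.respectTransparency false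
set_option backward.isDefEq.respectTransparency.types false
universe u

open CategoryTheory Category Limits Opposite Pseudofunctor.CoGrothendieck

namespace Groth.L09.FibSiteRan

variable {𝒮 : Type u} [SmallCategory 𝒮] {F : Pseudofunctor (LocallyDiscrete 𝒮ᵒᵖ) Cat.{u, u}}

/-- Evaluation of the right Kan extension along a morphism of the base. -/
noncomputable def π {i j : 𝒮} (f : j ⟶ i) :
    (ι F j).op.ran ⋙ (Functor.whiskeringLeft _ _ (Type u)).obj (ι F i).op ⟶
      (Functor.whiskeringLeft _ _ (Type u)).obj (FibSite.invImage F f).op where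
  app P :=
    { app := fun U => ((ι F j).op.ran.obj P).map (cartesianLift U.unop f).op ≫
        ((ι F j).op.ranCounit.app P).app (op ((FibSite.invImage F f).obj U.unop))
      naturality := fun U V r => by
        show ((ι F j).op.ran.obj P).map ((ι F i).map r.unop).op ≫ _ = _ ≫ P.map ((FibSite.invImage F f).map r.unop).op
        rw [← assoc, ← Functor.map_comp, ← op_comp, ← FibSiteTop.lift_naturality, op_comp, Functor.map_comp, assoc, assoc]
        exact congrArg (((ι F j).op.ran.obj P).map _ ≫ ·) (((ι F j).op.ranCounit.app P).naturality _) }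
  naturality P Q φ := by
    ext U e
    show ((ι F j).op.ranCounit.app Q).app _ (((ι F j).op.ran.obj Q).map _ (((ι F j).op.ran.map φ).app _ e)) = φ.app _ _
    rw [← NatTrans.naturality_apply]
    exact ConcreteCategory.congr_hom (NatTrans.congr_app ((ι F j).op.ranCounit.naturality φ) _) _

lemma π_bijective (i j : 𝒮) (P : (F.obj ⟨op j⟩)ᵒᵖ ⥤ Type u) (U : F.obj ⟨op i⟩) :
    Function.Bijective (fun e : ((ι F j).op.ran.obj P).obj (op ((ι F i).obj U)) =>
      fun f : j ⟶ i => ((π f).app P).app (op U) e) := by
  have hl := (ι F j).op.isPointwiseRightKanExtensionRanCounit P (op ((ι F i).obj U))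
  have key : ∀ e (g : StructuredArrow (op ((ι F i).obj U)) (ι F j).op),
      ((ι F j).op.ranCounit.app P).app g.right (((ι F j).op.ran.obj P).map g.hom e) =
        P.map (Quiver.Hom.op (g.hom.unop.fiber : g.right.unop ⟶ (FibSite.invImage F g.hom.unop.base).obj U))
          (((π g.hom.unop.base).app P).app (op U) e) := by
    intro e g
    refine Eq.trans ?_ (NatTrans.naturality_apply ((ι F j).op.ranCounit.app P) _ _)
    refine congrArg (((ι F j).op.ranCounit.app P).app g.right) ?_
    refine Eq.trans ?_ (Functor.map_comp_apply ((ι F j).op.ran.obj P) _ _ e)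
    exact congrArg (fun k => ((ι F j).op.ran.obj P).map k e) (congrArg Quiver.Hom.op (FibSiteTop.hom_factor g.hom.unop)).symm
  constructor
  · intro e e' h
    refine (Types.isLimitEquivSections hl).injective (Subtype.ext (funext fun g => ?_))
    exact (key e g).trans ((congrArg _ (congrFun h g.hom.unop.base)).trans (key e' g).symm)
  · intro y
    have hs : ∀ {W W' : F.obj ⟨op j⟩} (h : (ι F j).obj W ⟶ (ι F i).obj U) (h' : (ι F j).obj W' ⟶ (ι F i).obj U)
        (a : W' ⟶ W), (ι F j).map a ≫ h = h' →
        P.map a.op (P.map (Quiver.Hom.op (h.fiber : W ⟶ (FibSite.invImage F h.base).obj U)) (y h.base)) =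
          P.map (Quiver.Hom.op (h'.fiber : W' ⟶ (FibSite.invImage F h'.base).obj U)) (y h'.base) := by
      intro W W' h h' a e
      obtain ⟨f, φ⟩ := h
      obtain ⟨f', φ'⟩ := h'
      obtain rfl : f = f' := (id_comp f).symm.trans (congrArg Pseudofunctor.CoGrothendieck.Hom.base e)
      have : a ≫ φ = φ' := FibSiteTop.lift_ext f ((congrArg (· ≫ cartesianLift U f) ((ι F j).map_comp a φ)).trans
        ((assoc _ _ _).trans ((congrArg ((ι F j).map a ≫ ·) (FibSiteTop.hom_factor' f φ)).trans
          (e.trans (FibSiteTop.hom_factor' f φ').symm))))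
      subst this
      exact (Functor.map_comp_apply P _ _ _).symm
    let s : (StructuredArrow.proj (op ((ι F i).obj U)) (ι F j).op ⋙ P).sections :=
      ⟨fun g => P.map (Quiver.Hom.op (g.hom.unop.fiber : g.right.unop ⟶ (FibSite.invImage F g.hom.unop.base).obj U))
        (y g.hom.unop.base), fun {g g'} φ => hs g.hom.unop g'.hom.unop φ.right.unop
          (congrArg Quiver.Hom.unop (StructuredArrow.w φ))⟩
    refine ⟨(Types.isLimitEquivSections hl).symm s, funext fun f => ?_⟩
    refine (Types.isLimitEquivSections_symm_apply hl s (StructuredArrow.mk (S := op ((ι F i).obj U))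
      (T := (ι F j).op) (Y := op ((FibSite.invImage F f).obj U)) (cartesianLift U f).op)).trans ?_
    exact ConcreteCategory.congr_hom (P.map_id (op ((FibSite.invImage F f).obj U))) (y f)

variable {J : FibSite.Topologies F} (i j : 𝒮)
  [(ι F i).IsContinuous (J i) (FibSite.totalTopology F J)]
  [(ι F j).IsCocontinuous (J j) (FibSite.totalTopology F J)]
  [∀ (P : (F.obj ⟨op j⟩)ᵒᵖ ⥤ Type u), (ι F j).op.HasPointwiseRightKanExtension P]

/-- Evaluation of a coextended sheaf along a morphism of the base. -/
noncomputable def p (f : j ⟶ i) [(FibSite.invImage F f).IsContinuous (J i) (J j)] :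
    FibSite.coextend F J (Type u) j ⋙ FibSite.restr F J (Type u) i ⟶
      (FibSite.invImage F f).sheafPushforwardContinuous (Type u) (J i) (J j) where
  app a := ⟨(π f).app a.obj⟩
  naturality a b φ := Sheaf.hom_ext ((π f).naturality φ.hom)

variable [∀ f : j ⟶ i, (FibSite.invImage F f).IsContinuous (J i) (J j)]

/-- The fan of the evaluations. -/
noncomputable def fan (a : Sheaf (J j) (Type u)) :
    Fan fun f : j ⟶ i => ((FibSite.invImage F f).sheafPushforwardContinuous (Type u) (J i) (J j)).obj a :=
  Fan.mk ((FibSite.coextend F J (Type u) j ⋙ FibSite.restr F J (Type u) i).obj a) fun f => (p i j f).app a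

/-- The fan of the evaluations is a product. -/
noncomputable def fanIsLimit (a : Sheaf (J j) (Type u)) : IsLimit (fan i j a) :=
  have hb := fun U : (F.obj ⟨op i⟩)ᵒᵖ => π_bijective i j a.obj U.unop
  mkFanLimit _
    (fun s => ⟨{ app := fun U => ↾fun x => ((hb U).2 fun f => (s.proj f).hom.app U x).choose
                 naturality := fun U V r => by
                   ext x
                   refine (hb V).1 (funext fun f => ?_)
                   refine (congrFun ((hb V).2 fun f => (s.proj f).hom.app V (s.pt.obj.map r x)).choose_spec f).trans ?_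
                   refine (NatTrans.naturality_apply (s.proj f).hom r x).trans ?_
                   refine Eq.trans ?_ (NatTrans.naturality_apply ((π f).app a.obj) r _).symm
                   exact congrArg _ (congrFun ((hb U).2 fun f => (s.proj f).hom.app U x).choose_spec f).symm }⟩)
    (fun s f => by
      ext U x
      exact congrFun ((hb U).2 fun f => (s.proj f).hom.app U x).choose_spec f)
    (fun s m hm => by
      ext U x
      refine (hb U).1 (funext fun f => ?_)
      exact (ConcreteCategory.congr_hom (NatTrans.congr_app (congrArg (fun k => k.hom) (hm f)) U) x).trans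
        (congrFun ((hb U).2 fun f => (s.proj f).hom.app U x).choose_spec f).symm)

lemma isIso_p (f : j ⟶ i) (hu : ∀ g : j ⟶ i, g = f) : IsIso (p (J := J) i j f) := by
  have : ∀ a, IsIso ((p (J := J) i j f).app a) := fun a => by
    have : ∀ U, IsIso (((π f).app a.obj).app U) := fun U => (isIso_iff_bijective _).2
      ⟨fun e e' h => (π_bijective i j a.obj U.unop).1 (funext fun g => by obtain rfl := hu g; exact h),
       fun y => ⟨((π_bijective i j a.obj U.unop).2 fun g => (hu g).symm ▸ y).choose, by
        have := congrFun ((π_bijective i j a.obj U.unop).2 fun g => (hu g).symm ▸ y).choose_spec f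
        exact this.trans (by simp)⟩⟩
    have : IsIso ((sheafToPresheaf (J i) (Type u)).map ((p (J := J) i j f).app a)) :=
      NatIso.isIso_of_isIso_app ((π f).app a.obj)
    exact isIso_of_fully_faithful (sheafToPresheaf (J i) (Type u)) _
  exact NatIso.isIso_of_isIso_app _

variable [(ι F j).IsContinuous (J j) (FibSite.totalTopology F J)]
  [((ι F i).sheafPushforwardContinuous (Type u) (J i) (FibSite.totalTopology F J)).IsRightAdjoint]

/-- Extension followed by restriction has coextension followed by restriction as right adjoint. -/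
noncomputable def adj : FibSite.extend F J (Type u) i ⋙ FibSite.restr F J (Type u) j ⊣
    FibSite.coextend F J (Type u) j ⋙ FibSite.restr F J (Type u) i :=
  ((ι F i).sheafAdjunctionContinuous (Type u) (J i) (FibSite.totalTopology F J)).comp
    ((ι F j).sheafAdjunctionCocontinuous (Type u) (J j) (FibSite.totalTopology F J))

variable [∀ f : j ⟶ i, ((FibSite.invImage F f).sheafPushforwardContinuous (Type u) (J i) (J j)).IsRightAdjoint]

/-- The cofan on an extended sheaf. -/
noncomputable def cofan (a : Sheaf (J i) (Type u)) :
    Cofan fun f : j ⟶ i => ((FibSite.invImage F f).sheafPullback (Type u) (J i) (J j)).obj a :=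
  Cofan.mk ((FibSite.extend F J (Type u) i ⋙ FibSite.restr F J (Type u) j).obj a) fun f =>
    (((FibSite.invImage F f).sheafAdjunctionContinuous (Type u) (J i) (J j)).homEquiv _ _).symm
      ((adj i j).unit.app a ≫ (p i j f).app _)

/-- The cofan on an extended sheaf is a coproduct. -/
noncomputable def cofanIsColimit (a : Sheaf (J i) (Type u)) : IsColimit (cofan (J := J) i j a) := by
  let B := fun f : j ⟶ i => (FibSite.invImage F f).sheafAdjunctionContinuous (Type u) (J i) (J j)
  have key : ∀ {Z : Sheaf (J j) (Type u)} (φ : (cofan (J := J) i j a).pt ⟶ Z) (f : j ⟶ i),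
      (B f).homEquiv _ _ ((cofan (J := J) i j a).inj f ≫ φ) = (adj i j).homEquiv a Z φ ≫ (p i j f).app Z := by
    intro Z φ f
    rw [Adjunction.homEquiv_naturality_right]
    refine (congrArg (· ≫ _) (Equiv.apply_symm_apply ((B f).homEquiv _ _) _)).trans ?_
    rw [Adjunction.homEquiv_unit, assoc, assoc]
    exact congrArg ((adj i j).unit.app a ≫ ·) ((p i j f).naturality φ).symm
  refine mkCofanColimit _ (fun s => ((adj i j).homEquiv a s.pt).symm (Fan.IsLimit.lift (fanIsLimit i j s.pt)
    fun f => (B f).homEquiv _ _ (s.inj f))) (fun s f => ?_) (fun s m hm => ?_)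
  · apply ((B f).homEquiv _ _).injective
    rw [key, Equiv.apply_symm_apply]
    exact Fan.IsLimit.fac (fanIsLimit i j s.pt) _ f
  · refine (Equiv.eq_symm_apply _).2 ?_
    refine Fan.IsLimit.hom_ext (fanIsLimit i j s.pt) _ _ fun f => ?_
    refine ((key m f).symm.trans (congrArg _ (hm f))).trans ?_
    exact (Fan.IsLimit.fac (fanIsLimit i j s.pt) (fun f => (B f).homEquiv a s.pt (s.inj f)) f).symm

omit [(ι F i).IsContinuous (J i) (FibSite.totalTopology F J)] in
lemma preservesFiniteLimits_of_restr {E : Type (u + 1)} [Category.{u} E] (G : E ⥤ FibSite.TotSh F J (Type u))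
    [∀ S : 𝒮, (ι F S).IsContinuous (J S) (FibSite.totalTopology F J)]
    (h : ∀ S : 𝒮, PreservesFiniteLimits (G ⋙ FibSite.restr F J (Type u) S)) : PreservesFiniteLimits G := by
  refine ⟨fun K _ _ => ?_⟩
  have : PreservesLimitsOfShape K (G ⋙ sheafToPresheaf (FibSite.totalTopology F J) (Type u)) := by
    refine preservesLimitsOfShape_of_evaluation _ _ fun ⟨⟨S, U⟩⟩ => ?_
    have := h S
    exact inferInstanceAs (PreservesLimitsOfShape K
      ((G ⋙ FibSite.restr F J (Type u) S) ⋙ sheafToPresheaf (J S) (Type u) ⋙ (evaluation _ _).obj (op U)))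
  exact preservesLimitsOfShape_of_reflects_of_preserves G (sheafToPresheaf (FibSite.totalTopology F J) (Type u))

end Groth.L09.FibSiteRan
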