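import Groth.Prelude.Def_FibSite
import Mathlib.CategoryTheory.Sites.CoverPreserving
import Mathlib.CategoryTheory.Sites.LocallyInjective
import Mathlib.CategoryTheory.Sites.LeftExact
import Mathlib.CategoryTheory.Sites.InducedTopology
import Mathlib.CategoryTheory.Sites.LocallyBijective

/-!
The total topology of a fibred category with topologies on the fibres.
-/

set_option autoImplicit false
set_option linter.unusedSectionVars false
set_option backward.isDefEq.respectTransparency false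
set_option backward.isDefEq.respectTransparency.types false
universe w v₁ u₁ v₂ u₂

open CategoryTheory Category Limits Opposite Pseudofunctor.CoGrothendieck Bicategory
attribute [local simp] PrelaxFunctor.map₂_eqToHom

namespace Groth.L09.FibSiteTop

variable {𝒮 : Type u₁} [Category.{v₁} 𝒮] {F : Pseudofunctor (LocallyDiscrete 𝒮ᵒᵖ) Cat.{v₂, u₂}}

/-- A morphism over an identity of the base comes from the fibre. -/
lemma exists_ι_map {S : 𝒮} {W U : F.obj ⟨op S⟩} (h : (ι F S).obj W ⟶ (ι F S).obj U) (hb : h.base = 𝟙 S) :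
    ∃ a : W ⟶ U, (ι F S).map a = h := by
  refine ⟨h.fiber ≫ eqToHom (by rw [hb]; rfl) ≫ (F.mapId ⟨op S⟩).hom.toNatTrans.app U, ?_⟩
  ext
  · exact hb.symm
  · simp [hb, ← Cat.Hom₂.comp_app]

lemma ι_map_injective {S : 𝒮} {W U : F.obj ⟨op S⟩} {a b : W ⟶ U} (h : (ι F S).map a = (ι F S).map b) :
    a = b := by
  simpa [cancel_mono, ← Cat.Hom.toNatIso_hom, ← Cat.Hom.toNatIso_inv] using
    ((Pseudofunctor.CoGrothendieck.Hom.ext_iff _ _).mp h).2

lemma hom_factor' {T S : 𝒮} {V : F.obj ⟨op T⟩} {U : F.obj ⟨op S⟩} (f : T ⟶ S)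
    (φ : V ⟶ (F.map f.op.toLoc).toFunctor.obj U) :
    (⟨𝟙 T, φ ≫ (F.mapId ⟨op T⟩).inv.toNatTrans.app _⟩ : (⟨T, V⟩ : ∫ᶜ F) ⟶ ⟨T, (F.map f.op.toLoc).toFunctor.obj U⟩) ≫
      cartesianLift U f = ⟨f, φ⟩ := by
  ext
  · simp
  · simp [F.mapComp_id_right_inv, Strict.rightUnitor_eqToIso, ← Cat.Hom₂.comp_app]

lemma hom_factor {T S : 𝒮} {V : F.obj ⟨op T⟩} {U : F.obj ⟨op S⟩} (h : (ι F T).obj V ⟶ (ι F S).obj U) :
    (ι F T).map h.fiber ≫ cartesianLift U h.base = h := hom_factor' h.base h.fiber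

lemma lift_naturality' {T S : 𝒮} (f : T ⟶ S) {U' U : F.obj ⟨op S⟩} (r : U' ⟶ U) :
    (⟨𝟙 T, (F.map f.op.toLoc).toFunctor.map r ≫ (F.mapId ⟨op T⟩).inv.toNatTrans.app _⟩ :
        (⟨T, (F.map f.op.toLoc).toFunctor.obj U'⟩ : ∫ᶜ F) ⟶ ⟨T, (F.map f.op.toLoc).toFunctor.obj U⟩) ≫
      cartesianLift U f = cartesianLift U' f ≫ (⟨𝟙 S, r ≫ (F.mapId ⟨op S⟩).inv.toNatTrans.app U⟩ : (⟨S, U'⟩ : ∫ᶜ F) ⟶ ⟨S, U⟩) := by
  ext
  · simp
  · have h1 := congrArg (fun η => η.toNatTrans.app U) (F.whiskerRight_mapId_inv f.op.toLoc)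
    simp [Strict.leftUnitor_eqToIso] at h1
    simp [h1, F.mapComp_id_right_inv, Strict.rightUnitor_eqToIso, ← Cat.Hom₂.comp_app]

lemma lift_naturality {T S : 𝒮} (f : T ⟶ S) {U' U : F.obj ⟨op S⟩} (r : U' ⟶ U) :
    (ι F T).map ((FibSite.invImage F f).map r) ≫ cartesianLift U f = cartesianLift U' f ≫ (ι F S).map r :=
  lift_naturality' f r

lemma lift_ext {T S : 𝒮} (f : T ⟶ S) {V : F.obj ⟨op T⟩} {U : F.obj ⟨op S⟩}
    {a b : V ⟶ (FibSite.invImage F f).obj U}
    (h : (ι F T).map a ≫ cartesianLift U f = (ι F T).map b ≫ cartesianLift U f) : a = b := by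
  have := isStronglyCartesian_homCartesianLift (F := F) U f
  have ha : (forget F).IsHomLift (𝟙 T) ((ι F T).map a) := IsHomLift.map (forget F) ((ι F T).map a)
  have hb : (forget F).IsHomLift (𝟙 T) ((ι F T).map b) := IsHomLift.map (forget F) ((ι F T).map b)
  exact ι_map_injective (Functor.IsStronglyCartesian.ext (forget F) f (cartesianLift U f) (𝟙 T) h)

lemma agree_of_continuous {C : Type u₂} [Category.{v₂} C] {D : Type u₂} [Category.{v₂} D]
    (J₁ : GrothendieckTopology C) (J₂ : GrothendieckTopology D) (G : C ⥤ D) [G.IsContinuous J₁ J₂]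
    (Q : Dᵒᵖ ⥤ Type (max w u₂ v₂))
    (hQ : ∀ (X : D) (S' : J₂.Cover X) (p q : Q.obj (op X)),
      (∀ I : S'.Arrow, Q.map I.f.op p = Q.map I.f.op q) → p = q)
    {U : C} {R : Sieve U} (hR : R ∈ J₁ U) (y : Presieve.FamilyOfElements (G.op ⋙ Q) R.arrows) (hy : y.Compatible)
    {W₁ W₂ : C} {r₁ : W₁ ⟶ U} {r₂ : W₂ ⟶ U} (hr₁ : R r₁) (hr₂ : R r₂) {V : D} (β₁ : V ⟶ G.obj W₁)
    (β₂ : V ⟶ G.obj W₂) (hβ : β₁ ≫ G.map r₁ = β₂ ≫ G.map r₂) :
    Q.map β₁.op (y r₁ hr₁) = Q.map β₂.op (y r₂ hr₂) := by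
  let Qs : Sheaf J₂ _ := ⟨J₂.plusObj Q, GrothendieckTopology.Plus.isSheaf_of_sep Q hQ⟩
  have hs := G.op_comp_isSheaf_of_types J₁ J₂ Qs
  let η : Q ⟶ Qs.obj := J₂.toPlus Q
  let z := Presieve.FamilyOfElements.map y (Functor.whiskerLeft G.op η)
  have hz : z.Compatible := hy.map _
  have he : ∀ {W : C} (r : W ⟶ U) (hr : R r), Qs.obj.map (G.map r).op ((hs _ hR).amalgamate z hz) = η.app _ (y r hr) :=
    fun r hr => (hs _ hR).valid_glue hz r hr
  refine GrothendieckTopology.Plus.inj_of_sep Q hQ V ?_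
  refine (NatTrans.naturality_apply η β₁.op _).trans (Eq.trans ?_ (NatTrans.naturality_apply η β₂.op _).symm)
  refine (congrArg (Qs.obj.map β₁.op) (he r₁ hr₁)).symm.trans (Eq.trans ?_ (congrArg (Qs.obj.map β₂.op) (he r₂ hr₂)))
  refine (Functor.map_comp_apply Qs.obj _ _ _).symm.trans (Eq.trans ?_ (Functor.map_comp_apply Qs.obj _ _ _))
  exact congrArg (fun k => Qs.obj.map k _) (congrArg Quiver.Hom.op hβ)

variable {J : FibSite.Topologies F} (hF : FibSite.IsPreFibSite F J)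

include hF in
lemma pushforward_mem {T S : 𝒮} (f : T ⟶ S) {U : F.obj ⟨op S⟩} {R : Sieve U} (hR : R ∈ J S U) :
    R.functorPushforward (FibSite.invImage F f) ∈ J T _ :=
  have := hF f
  (CoverPreserving.of_isContinuous (FibSite.invImage F f) (J S) (J T)).cover_preserve hR

/-- The members of `R'` map into the pullback. -/
lemma pushforward_pullback {T S : 𝒮} {U : F.obj ⟨op S⟩} (R : Sieve U) {V : F.obj ⟨op T⟩}
    (h : (ι F T).obj V ⟶ (ι F S).obj U) {W : F.obj ⟨op T⟩} (a : W ⟶ V)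
    (ha : (R.functorPushforward (FibSite.invImage F h.base)).pullback h.fiber a) :
    ∃ (U' : F.obj ⟨op S⟩) (r : U' ⟶ U) (c : (ι F T).obj W ⟶ (ι F S).obj U'), R r ∧
      c ≫ (ι F S).map r = (ι F T).map a ≫ h := by
  obtain ⟨U', r, b, hr, e⟩ := ha
  refine ⟨U', r, (ι F T).map b ≫ cartesianLift U' h.base, hr, (assoc _ _ _).trans ?_⟩
  refine (congrArg ((ι F T).map b ≫ ·) (lift_naturality h.base r).symm).trans ?_
  refine ((assoc _ _ _).symm.trans (congrArg (· ≫ cartesianLift U h.base)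
    ((((ι F T).map_comp b _).symm.trans (congrArg (ι F T).map e.symm)).trans ((ι F T).map_comp a h.fiber)))).trans ?_
  exact (assoc _ _ _).trans (congrArg ((ι F T).map a ≫ ·) (hom_factor h))

variable (F J) in
/-- The topology of the sieves whose trace on the fibre covers. -/
def K : GrothendieckTopology (∫ᶜ F) where
  sieves X := {S | ∃ _ : FibSite.IsPreFibSite F J,
    (Sieve.functorPullback (ι F X.base) (show Sieve ((ι F X.base).obj X.fiber) from S)) ∈ J X.base X.fiber} ∪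
    {S | S = ⊤}
  top_mem' X := Or.inr rfl
  pullback_stable' := by
    rintro ⟨S, U⟩ ⟨T, V⟩ R h (⟨hF, hR⟩ | rfl)
    · refine Or.inl ⟨hF, (J T).superset_covering ?_ ((J T).pullback_stable h.fiber (pushforward_mem hF h.base hR))⟩
      intro W a ha
      obtain ⟨U', r, c, hr, e⟩ := pushforward_pullback _ h a ha
      show R ((ι F T).map a ≫ h)
      rw [← e]
      exact R.downward_closed hr c
    · exact Or.inr Sieve.pullback_top
  transitive' := by
    rintro ⟨S, U⟩ R (⟨hF, hR⟩ | rfl) R' h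
    · refine Or.inl ⟨hF, (J S).transitive hR _ fun W r hr => ?_⟩
      rcases h hr with ⟨-, h'⟩ | h'
      · refine (J S).superset_covering ?_ h'
        intro W' a ha
        show R' ((ι F S).map (a ≫ r))
        rw [Functor.map_comp]
        exact ha
      · refine (J S).superset_covering ?_ ((J S).top_mem W)
        intro W' a _
        show R' ((ι F S).map (a ≫ r))
        rw [Functor.map_comp]
        exact (h'.symm ▸ trivial : (Sieve.pullback ((ι F S).map r) R') ((ι F S).map a))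
    · rcases h (f := 𝟙 _) trivial with ⟨hF, h'⟩ | h'
      · rw [Sieve.pullback_id] at h'
        exact Or.inl ⟨hF, h'⟩
      · exact Or.inr (Sieve.pullback_id.symm.trans h')

include hF

lemma mem_total_iff (X : ∫ᶜ F) (S : Sieve X) : S ∈ FibSite.totalTopology F J X ↔
    (Sieve.functorPullback (ι F X.base) (show Sieve ((ι F X.base).obj X.fiber) from S)) ∈ J X.base X.fiber := by
  constructor
  · intro h
    have hle : FibSite.totalTopology F J ≤ K F J := FibSite.totalTopology_le fun S U R hR =>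
      Or.inl ⟨hF, (J S).superset_covering (R.le_functorPushforward_pullback (ι F S)) hR⟩
    rcases hle X h with ⟨-, h'⟩ | rfl
    · exact h'
    · exact (J X.base).superset_covering (fun _ _ _ => trivial) ((J X.base).top_mem _)
  · intro h
    exact (FibSite.totalTopology F J).superset_covering (Sieve.functorPullback_pushforward_le (ι F X.base) _)
      (FibSite.functorPushforward_mem_totalTopology h)

lemma isCocontinuous_ι (S : 𝒮) : (ι F S).IsCocontinuous (J S) (FibSite.totalTopology F J) :=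
  ⟨fun {_ _} h => (mem_total_iff hF _ _).1 h⟩

lemma coverPreserving_ι (S : 𝒮) : CoverPreserving (J S) (FibSite.totalTopology F J) (ι F S) :=
  ⟨fun h => FibSite.functorPushforward_mem_totalTopology h⟩

lemma compatible_ι {S : 𝒮} {U : F.obj ⟨op S⟩} {R : Sieve U} (hR : R ∈ J S U)
    (ℱ : Sheaf (FibSite.totalTopology F J) (Type (max w u₂ v₂))) {x : Presieve.FamilyOfElements ((ι F S).op ⋙ ℱ.obj) R}
    (hx : x.Compatible) {W₁ W₂ : F.obj ⟨op S⟩} {Z : ∫ᶜ F} (b₁ : Z ⟶ (ι F S).obj W₁) (b₂ : Z ⟶ (ι F S).obj W₂)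
    {r₁ : W₁ ⟶ U} {r₂ : W₂ ⟶ U} (hr₁ : R r₁) (hr₂ : R r₂)
    (e : b₁ ≫ (ι F S).map r₁ = b₂ ≫ (ι F S).map r₂) :
    ℱ.obj.map b₁.op (x r₁ hr₁) = ℱ.obj.map b₂.op (x r₂ hr₂) := by
  obtain ⟨T, V⟩ := Z
  obtain ⟨f, β₁⟩ := b₁
  obtain ⟨f', β₂⟩ := b₂
  have eb := congrArg Pseudofunctor.CoGrothendieck.Hom.base e
  obtain rfl : f = f' := (comp_id f).symm.trans (eb.trans (comp_id f'))
  have hff : (FibSite.invImage F f).IsContinuous (J S) (J T) := hF f
  let Q := (ι F T).op ⋙ ℱ.obj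
  have hQ : ∀ (X : F.obj ⟨op T⟩) (S' : (J T).Cover X) (p q : Q.obj (op X)),
      (∀ I : S'.Arrow, Q.map I.f.op p = Q.map I.f.op q) → p = q := by
    intro X S' p q h
    refine (((isSheaf_iff_isSheaf_of_type _ _).1 ℱ.property) _
      (FibSite.functorPushforward_mem_totalTopology S'.2)).isSeparatedFor.ext ?_
    rintro Y _ ⟨W, a, c, ha, rfl⟩
    rw [op_comp, Functor.map_comp_apply, Functor.map_comp_apply]
    exact congrArg _ (h ⟨W, a, ha⟩)
  let y : ∀ {W : F.obj ⟨op S⟩} (r : W ⟶ U), R r → ((FibSite.invImage F f).op ⋙ Q).obj (op W) := fun {W} r hr =>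
    ℱ.obj.map (cartesianLift W f).op (x r hr)
  have hc : ∀ {W W' : F.obj ⟨op S⟩} (r : W ⟶ U) (r' : W' ⟶ U) (hr : R r) (hr' : R r') {W'' : F.obj ⟨op S⟩}
      (c₁ : W'' ⟶ W) (c₂ : W'' ⟶ W'), c₁ ≫ r = c₂ ≫ r' →
      Q.map ((FibSite.invImage F f).map c₁).op (y r hr) = Q.map ((FibSite.invImage F f).map c₂).op (y r' hr') := by
    intro W W' r r' hr hr' W'' c₁ c₂ hcc
    have h1 : ∀ {W₀ : F.obj ⟨op S⟩} (c : W'' ⟶ W₀) (z : ℱ.obj.obj (op ((ι F S).obj W₀))),
        Q.map ((FibSite.invImage F f).map c).op (ℱ.obj.map (cartesianLift W₀ f).op z) =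
          ℱ.obj.map (cartesianLift W'' f).op (ℱ.obj.map ((ι F S).map c).op z) := fun c z =>
      ((Functor.map_comp_apply ℱ.obj _ _ z).symm.trans
        (congrArg (fun k => ℱ.obj.map k z) (congrArg Quiver.Hom.op (lift_naturality f c)))).trans
          (Functor.map_comp_apply ℱ.obj _ _ z)
    exact (h1 c₁ _).trans ((congrArg _ (hx c₁ c₂ hr hr' hcc)).trans (h1 c₂ _).symm)
  let z : Presieve.FamilyOfElements ((FibSite.invImage F f).op ⋙ Q) R := fun W r hr => y r hr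
  have hz : z.Compatible := fun W W' W'' c₁ c₂ r r' hr hr' hcc => hc r r' hr hr' c₁ c₂ hcc
  have hβ : β₁ ≫ (FibSite.invImage F f).map r₁ = β₂ ≫ (FibSite.invImage F f).map r₂ := by
    refine lift_ext f ?_
    have h1 : ∀ {W : F.obj ⟨op S⟩} (β : V ⟶ (FibSite.invImage F f).obj W) (r : W ⟶ U),
        (ι F T).map (β ≫ (FibSite.invImage F f).map r) ≫ cartesianLift U f = (⟨f, β⟩ : (⟨T, V⟩ : ∫ᶜ F) ⟶ ⟨S, W⟩) ≫ (ι F S).map r :=
      fun β r => ((congrArg (· ≫ cartesianLift U f) ((ι F T).map_comp β _)).trans (assoc _ _ _)).trans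
        ((congrArg ((ι F T).map β ≫ ·) (lift_naturality f r)).trans ((assoc _ _ _).symm.trans
          (congrArg (· ≫ (ι F S).map r) (hom_factor' f β))))
    exact (h1 β₁ r₁).trans (e.trans (h1 β₂ r₂).symm)
  have h3 : ∀ {W : F.obj ⟨op S⟩} (β : V ⟶ (FibSite.invImage F f).obj W) (r : W ⟶ U) (hr : R r),
      Q.map β.op (y r hr) = ℱ.obj.map (Quiver.Hom.op (⟨f, β⟩ : (⟨T, V⟩ : ∫ᶜ F) ⟶ ⟨S, W⟩)) (x r hr) := fun β r hr =>
    (Functor.map_comp_apply ℱ.obj _ _ _).symm.trans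
      (congrArg (fun k => ℱ.obj.map k (x r hr)) (congrArg Quiver.Hom.op (hom_factor' f β)))
  refine (h3 β₁ r₁ hr₁).symm.trans (Eq.trans ?_ (h3 β₂ r₂ hr₂))
  exact agree_of_continuous (J S) (J T) (FibSite.invImage F f) Q hQ hR z hz hr₁ hr₂ β₁ β₂ hβ

lemma isContinuous_ι (S : 𝒮) : (ι F S).IsContinuous (J S) (FibSite.totalTopology F J) where
  op_comp_isSheaf_of_types G U R hR x hx := by
    have hG := (isSheaf_iff_isSheaf_of_type _ _).1 G.property _ (FibSite.functorPushforward_mem_totalTopology hR)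
    have key : ∀ {Y₁ Y₂ : F.obj ⟨op S⟩} {Z : ∫ᶜ F} (b₁ : Z ⟶ (ι F S).obj Y₁) (b₂ : Z ⟶ (ι F S).obj Y₂)
        {r₁ : Y₁ ⟶ U} {r₂ : Y₂ ⟶ U} (hr₁ : R r₁) (hr₂ : R r₂),
        b₁ ≫ (ι F S).map r₁ = b₂ ≫ (ι F S).map r₂ → G.obj.map b₁.op (x r₁ hr₁) = G.obj.map b₂.op (x r₂ hr₂) :=
      fun {Y₁ Y₂ Z} b₁ b₂ {r₁ r₂} hr₁ hr₂ e => compatible_ι.{max u₁ v₁} hF hR G hx b₁ b₂ hr₁ hr₂ e
    have hy : (x.functorPushforward (ι F S)).Compatible := by
      rintro Z₁ Z₂ W g₁ g₂ f₁' f₂' H₁ H₂ eq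
      unfold Presieve.FamilyOfElements.functorPushforward
      rcases Presieve.getFunctorPushforwardStructure H₁ with ⟨X₁, f₁, h₁, hf₁, rfl⟩
      rcases Presieve.getFunctorPushforwardStructure H₂ with ⟨X₂, f₂, h₂, hf₂, rfl⟩
      refine (Functor.map_comp_apply G.obj h₁.op g₁.op _).symm.trans (Eq.trans ?_ (Functor.map_comp_apply G.obj h₂.op g₂.op _))
      exact key (g₁ ≫ h₁) (g₂ ≫ h₂) hf₁ hf₂ (by simpa using eq)
    refine ⟨hG.amalgamate _ hy, fun W r hr => ?_, fun t ht => ?_⟩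
    · refine (hG.valid_glue hy ((ι F S).map r) (Presieve.image_mem_functorPushforward _ _ hr)).trans ?_
      unfold Presieve.FamilyOfElements.functorPushforward
      rcases Presieve.getFunctorPushforwardStructure (Presieve.image_mem_functorPushforward (ι F S) _ hr) with ⟨X₁, f₁, h₁, hf₁, eq⟩
      refine (key h₁ (𝟙 _) hf₁ hr (by rw [id_comp]; exact eq.symm)).trans ?_
      simp
    · refine hG.isSeparatedFor.ext ?_
      rintro Y _ ⟨W, r, c, hr, rfl⟩
      rw [op_comp, Functor.map_comp_apply, Functor.map_comp_apply]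
      refine congrArg _ ((ht r hr).trans ?_)
      refine Eq.symm ((hG.valid_glue hy ((ι F S).map r) (Presieve.image_mem_functorPushforward _ _ hr)).trans ?_)
      unfold Presieve.FamilyOfElements.functorPushforward
      rcases Presieve.getFunctorPushforwardStructure (Presieve.image_mem_functorPushforward (ι F S) _ hr) with ⟨X₁, f₁, h₁, hf₁, eq⟩
      refine (key h₁ (𝟙 _) hf₁ hr (by rw [id_comp]; exact eq.symm)).trans ?_
      simp

/-- A presheaf of types is a sheaf for the total topology iff its restrictions to the fibres are sheaves. -/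
lemma isSheaf_iff_restr (P : (∫ᶜ F)ᵒᵖ ⥤ Type w) :
    Presieve.IsSheaf (FibSite.totalTopology F J) P ↔ ∀ S : 𝒮, Presieve.IsSheaf (J S) ((ι F S).op ⋙ P) := by
  refine ⟨fun h S => ?_, fun h => ?_⟩
  · have := isContinuous_ι hF S
    exact (ι F S).op_comp_isSheaf_of_isSheaf_type (J S) h
  rintro ⟨S, U⟩ R hR x hx
  have hR₀ := (mem_total_iff hF _ _).1 hR
  let x₀ : Presieve.FamilyOfElements ((ι F S).op ⋙ P) (Sieve.functorPullback (ι F S) (X := U) R).arrows :=
    fun W r hr => x ((ι F S).map r) hr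
  have hx₀ : x₀.Compatible := fun W W' W'' c₁ c₂ r r' hr hr' hcc =>
    hx ((ι F S).map c₁) ((ι F S).map c₂) hr hr'
      (((ι F S).map_comp c₁ r).symm.trans ((congrArg (ι F S).map hcc).trans ((ι F S).map_comp c₂ r')))
  obtain ⟨e, he, hu⟩ := h S _ hR₀ x₀ hx₀
  refine ⟨e, fun Y g hg => ?_, fun t ht => hu t fun W r hr => ht _ hr⟩
  obtain ⟨T, V⟩ := Y
  refine ((h T) _ ((J T).pullback_stable g.fiber (pushforward_mem hF g.base hR₀))).isSeparatedFor.ext fun W a ha => ?_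
  obtain ⟨U', r, c, hr, ec⟩ := pushforward_pullback _ g a ha
  show P.map ((ι F T).map a).op (P.map g.op e) = P.map ((ι F T).map a).op (x g hg)
  refine ((Functor.map_comp_apply P _ _ e).symm.trans
    ((congrArg (fun k => P.map k.op e) ec.symm).trans (Functor.map_comp_apply P _ _ e))).trans ?_
  exact (congrArg _ (he r hr)).trans (hx c ((ι F T).map a) hr hg ec)

end Groth.L09.FibSiteTop
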