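import Groth.Agent.L09.FibYoneda
import Mathlib.CategoryTheory.FiberedCategory.Grothendieck
import Mathlib.CategoryTheory.EssentiallySmall
import Mathlib.CategoryTheory.Bicategory.Functor.LocallyDiscrete

/-!
Strictification: every fibred category is equivalent over the base to the category of a functor
`Cᵒᵖ ⥤ Cat`, namely `U ↦ {cartesian functors C/U ⥤ 𝒳}` with morphisms shrunk to the universe of `C`.
-/

set_option autoImplicit false
universe v u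

open CategoryTheory Category Functor Opposite

namespace Groth.L09.FibStrict

variable {C : Type u} [Category.{v} C] (𝒳 : BasedCategory.{v, max u v} C)

/-- Composition with `f` on slices. -/
def overMap {U V : C} (f : U ⟶ V) : FibCat.overCat U ⥤ᵇ FibCat.overCat V where
  toFunctor := Over.map f
  w := rfl

lemma based_ext {𝒜 ℬ : BasedCategory.{v, max u v} C} {a b : 𝒜 ⥤ᵇ ℬ} (h : a.toFunctor = b.toFunctor) : a = b := by
  obtain ⟨a, ha⟩ := a
  obtain ⟨b, hb⟩ := b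
  obtain rfl : a = b := h
  rfl

lemma cat_eqToHom_app {X Y : Cat.{v, max u v}} {P Q : X ⟶ Y} (h : P = Q) (a : X) :
    (eqToHom h : P ⟶ Q).toNatTrans.app a = eqToHom (congrArg (fun k : X ⟶ Y => k.toFunctor.obj a) h) := by
  subst h; rfl

lemma overMap_id (U : C) : overMap (𝟙 U) = BasedFunctor.id (FibCat.overCat U) :=
  based_ext (Over.mapId_eq U)

lemma overMap_comp {U V W : C} (f : U ⟶ V) (g : V ⟶ W) :
    overMap (f ≫ g) = BasedFunctor.comp (overMap f) (overMap g) :=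
  based_ext (Over.mapComp_eq f g)

abbrev P (U : C) : ObjectProperty (FibCat.overCat U ⥤ᵇ 𝒳) := FibCat.PreservesStronglyCartesian

variable [𝒳.p.IsFibered]

/-- Cartesian functors out of the slice. -/
abbrev Big (U : C) := (P 𝒳 U).FullSubcategory

instance (U : C) : LocallySmall.{v} (Big 𝒳 U) where
  hom_small G H := by
    refine small_of_injective (f := fun α : G ⟶ H => ((FibCat.evalAtId 𝒳 U).map α.hom).1) fun α β h => ?_
    exact ObjectProperty.hom_ext _ (Groth.L09.Fib.evalAtId_injective H.property (Subtype.ext h))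

lemma overMap_preserves {U V : C} (ι : FibCat.overCat U ⥤ᵇ FibCat.overCat V) (H : Big 𝒳 V) :
    P 𝒳 U ((Stk.restr ι 𝒳).obj H.obj) := by
  intro R S f a b m hm
  have := hm.toIsHomLift
  exact H.property f (ι.map m) (Groth.L09.Fib.overCat_stronglyCartesian f (ι.map m))

/-- Restriction along a functor of slices. -/
def bigMap {U V : C} (ι : FibCat.overCat U ⥤ᵇ FibCat.overCat V) : Big 𝒳 V ⥤ Big 𝒳 U :=
  (P 𝒳 U).lift ((P 𝒳 V).ι ⋙ Stk.restr ι 𝒳) (overMap_preserves 𝒳 ι)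

/-- The strict functor. -/
noncomputable def F : Cᵒᵖ ⥤ Cat.{v, max u v} where
  obj U := Cat.of (ShrinkHoms.{max u v} (Big 𝒳 U.unop))
  map {V U} f := (ShrinkHoms.inverse _ ⋙ bigMap 𝒳 (overMap f.unop) ⋙ ShrinkHoms.functor _).toCatHom
  map_id U := by
    refine Cat.Hom.ext ?_
    show ShrinkHoms.inverse _ ⋙ bigMap 𝒳 (overMap (𝟙 U.unop)) ⋙ ShrinkHoms.functor _ = 𝟭 _
    rw [overMap_id]
    refine CategoryTheory.Functor.ext (fun G => rfl) (fun G H α => ?_)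
    erw [id_comp, comp_id]
    exact (equivShrink _).apply_symm_apply α
  map_comp {W V U} g f := by
    refine Cat.Hom.ext ?_
    show ShrinkHoms.inverse _ ⋙ bigMap 𝒳 (overMap (f.unop ≫ g.unop)) ⋙ ShrinkHoms.functor _ =
      (ShrinkHoms.inverse _ ⋙ bigMap 𝒳 (overMap g.unop) ⋙ ShrinkHoms.functor _) ⋙
        ShrinkHoms.inverse _ ⋙ bigMap 𝒳 (overMap f.unop) ⋙ ShrinkHoms.functor _
    rw [overMap_comp]
    refine CategoryTheory.Functor.ext (fun G => rfl) (fun G H α => ?_)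
    erw [id_comp, comp_id]
    simp only [Functor.comp_map, ShrinkHoms.inverse_map, ShrinkHoms.functor_map]
    refine congrArg (equivShrink _) ?_
    erw [(equivShrink _).symm_apply_apply]
    rfl

/-- The underlying cartesian functor of a point. -/
def G' (A : Pseudofunctor.CoGrothendieck (F 𝒳).toPseudofunctor') : Big 𝒳 A.base :=
  ShrinkHoms.fromShrinkHoms A.fiber

/-- Value at the identity. -/
def val (A : Pseudofunctor.CoGrothendieck (F 𝒳).toPseudofunctor') : 𝒳.obj :=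
  (G' 𝒳 A).obj.obj (Over.mk (𝟙 A.base))

/-- The canonical morphism in the slice. -/
def jmor {U V : C} (f : U ⟶ V) :
    (overMap f).obj (Over.mk (𝟙 U)) ⟶ (Over.mk (𝟙 V) : Over V) :=
  Over.homMk f (show f ≫ 𝟙 V = 𝟙 U ≫ f by simp)

/-- The fibre component of a morphism. -/
noncomputable def α {A B : Pseudofunctor.CoGrothendieck (F 𝒳).toPseudofunctor'} (m : A ⟶ B) :
    G' 𝒳 A ⟶ (bigMap 𝒳 (overMap m.base)).obj (G' 𝒳 B) :=
  (equivShrink _).symm m.fiber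

/-- Morphism of values. -/
noncomputable def valMap {A B : Pseudofunctor.CoGrothendieck (F 𝒳).toPseudofunctor'} (m : A ⟶ B) :
    val 𝒳 A ⟶ val 𝒳 B :=
  (α 𝒳 m).hom.toNatTrans.app (Over.mk (𝟙 A.base)) ≫ (G' 𝒳 B).obj.map (jmor m.base)

lemma inverse_eqToHom {U : C} {G H : ShrinkHoms.{max u v} (Big 𝒳 U)} (h : G = H) :
    (ShrinkHoms.inverse _).map (eqToHom h) =
      eqToHom (congrArg ShrinkHoms.fromShrinkHoms h) := eqToHom_map _ _

lemma app_eqToHom {U : C} {G H : Big 𝒳 U} (h : G = H) (a : Over U) :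
    (eqToHom h : G ⟶ H).hom.toNatTrans.app a =
      eqToHom (congrArg (fun K : Big 𝒳 U => K.obj.obj a) h) := by
  subst h; rfl

lemma inv_app_eqToHom {U : C} {G H : ShrinkHoms.{max u v} (Big 𝒳 U)} (h : G = H) (a : Over U) :
    ((ShrinkHoms.inverse (Big 𝒳 U)).map (eqToHom h)).hom.toNatTrans.app a =
      eqToHom (congrArg (fun K => (ShrinkHoms.fromShrinkHoms K).obj.obj a) h) := by
  subst h
  rw [eqToHom_refl, CategoryTheory.Functor.map_id]
  rfl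

lemma map_eqToHom_comp {U : C} (K : FibCat.overCat U ⥤ᵇ 𝒳) {a b c : Over U} (e : a = b) (j : b ⟶ c) :
    K.map (eqToHom e ≫ j) = eqToHom (congrArg K.obj e) ≫ K.map j := by
  subst e
  rw [eqToHom_refl, id_comp]
  exact (id_comp _).symm

lemma eqToHom_loop {a b : 𝒳.obj} (p : a = b) (q : b = a) (k : a ⟶ a) (hk : k = 𝟙 a) :
    eqToHom p ≫ eqToHom q ≫ k = 𝟙 a := by
  subst p hk; simp

lemma valMap_id (A : Pseudofunctor.CoGrothendieck (F 𝒳).toPseudofunctor') : valMap 𝒳 (𝟙 A) = 𝟙 _ := by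
  obtain ⟨U, G⟩ := A
  have h : Pseudofunctor.CoGrothendieck.Hom.fiber
      (CategoryStruct.id (obj := Pseudofunctor.CoGrothendieck (F 𝒳).toPseudofunctor') ⟨U, G⟩) =
      eqToHom (congrArg (fun k : (F 𝒳).obj (op U) ⟶ (F 𝒳).obj (op U) => k.toFunctor.obj G)
        ((F 𝒳).map_id (op U))).symm := by
    exact cat_eqToHom_app ((F 𝒳).map_id (op U)).symm _
  have key : (α 𝒳 (CategoryStruct.id (obj := Pseudofunctor.CoGrothendieck (F 𝒳).toPseudofunctor') ⟨U, G⟩)).hom.toNatTrans.app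
      (Over.mk (𝟙 U)) = eqToHom _ :=
    (congrArg (fun k : G ⟶ _ => ((ShrinkHoms.inverse (Big 𝒳 U)).map k).hom.toNatTrans.app (Over.mk (𝟙 U))) h).trans
      (inv_app_eqToHom 𝒳 _ _)
  refine (congrArg (· ≫ (G' 𝒳 ⟨U, G⟩).obj.map (jmor (𝟙 U))) key).trans ?_
  have e : @Eq (Over U) ((overMap (𝟙 U)).obj (Over.mk (𝟙 U))) (Over.mk (𝟙 U)) :=
    congrArg (fun k : FibCat.overCat U ⥤ᵇ FibCat.overCat U => k.obj (Over.mk (𝟙 U))) (overMap_id U)
  have e2 : jmor (𝟙 U) = eqToHom e ≫ 𝟙 _ := Over.OverMorphism.ext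
    ((comp_id _).trans (Over.eqToHom_left e)).symm
  exact (congrArg (eqToHom _ ≫ ·) ((congrArg (G' 𝒳 ⟨U, G⟩).obj.map e2).trans (map_eqToHom_comp 𝒳 _ e _))).trans
    (eqToHom_loop 𝒳 _ _ _ ((G' 𝒳 ⟨U, G⟩).obj.toFunctor.map_id _))

lemma valMap_comp {A B D : Pseudofunctor.CoGrothendieck (F 𝒳).toPseudofunctor'} (m : A ⟶ B) (n : B ⟶ D) :
    valMap 𝒳 (m ≫ n) = valMap 𝒳 m ≫ valMap 𝒳 n := by
  have h : (m ≫ n).fiber = m.fiber ≫ ((F 𝒳).map m.base.op).toFunctor.map n.fiber ≫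
      eqToHom (congrArg (fun k : (F 𝒳).obj (op D.base) ⟶ (F 𝒳).obj (op A.base) => k.toFunctor.obj D.fiber)
        (((F 𝒳).map_comp n.base.op m.base.op))).symm := by
    exact congrArg (fun k => m.fiber ≫ ((F 𝒳).map m.base.op).toFunctor.map n.fiber ≫ k) (cat_eqToHom_app ((F 𝒳).map_comp n.base.op m.base.op).symm _)
  have hα : (α 𝒳 (m ≫ n)) = α 𝒳 m ≫ (bigMap 𝒳 (overMap m.base)).map (α 𝒳 n) ≫
      eqToHom (show (bigMap 𝒳 (overMap m.base)).obj ((bigMap 𝒳 (overMap n.base)).obj (G' 𝒳 D)) =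
        (bigMap 𝒳 (overMap (m.base ≫ n.base))).obj (G' 𝒳 D) by rw [overMap_comp]; rfl) := by
    show (ShrinkHoms.inverse _).map (m ≫ n).fiber = _
    rw [h]
    erw [Functor.map_comp, Functor.map_comp, inverse_eqToHom]
    refine congrArg₂ (· ≫ ·) rfl (congrArg₂ (· ≫ ·) ?_ rfl)
    exact (equivShrink _).symm_apply_apply _
  unfold valMap
  rw [hα]
  let β := α 𝒳 n
  have nat := β.hom.toNatTrans.naturality (jmor m.base)
  show ((α 𝒳 m).hom.toNatTrans.app _ ≫ β.hom.toNatTrans.app ((overMap m.base).obj (Over.mk (𝟙 A.base))) ≫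
    (eqToHom _ : (bigMap 𝒳 (overMap m.base)).obj ((bigMap 𝒳 (overMap n.base)).obj (G' 𝒳 D)) ⟶ _).hom.toNatTrans.app _) ≫ _ = _
  rw [app_eqToHom]
  simp only [assoc]
  refine congrArg ((α 𝒳 m).hom.toNatTrans.app _ ≫ ·) ?_
  refine Eq.trans ?_ ((assoc _ _ _).symm.trans ((congrArg (· ≫ _) nat).trans (assoc _ _ _))).symm
  refine congrArg (β.hom.toNatTrans.app _ ≫ ·) ?_
  have e : @Eq (Over D.base) ((overMap n.base).obj ((overMap m.base).obj (Over.mk (𝟙 A.base))))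
      ((overMap (m.base ≫ n.base)).obj (Over.mk (𝟙 A.base))) := by rw [overMap_comp]; rfl
  have e2 : eqToHom e ≫ jmor (m.base ≫ n.base) = (overMap n.base).map (jmor m.base) ≫ jmor n.base :=
    Over.OverMorphism.ext (by
      refine (congrArg (· ≫ _) (Over.eqToHom_left e)).trans ?_
      exact id_comp _)
  show eqToHom _ ≫ (G' 𝒳 D).obj.map _ = (G' 𝒳 D).obj.map _ ≫ (G' 𝒳 D).obj.map _
  rw [← Functor.map_comp, ← e2]
  exact (map_eqToHom_comp 𝒳 _ e _).symm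

/-- The comparison functor to `𝒳`. -/
noncomputable def Ψ : BasedCategory.ofFunctor (Pseudofunctor.CoGrothendieck.forget (F 𝒳).toPseudofunctor') ⥤ᵇ 𝒳 where
  toFunctor :=
    { obj := val 𝒳
      map := fun m => valMap 𝒳 m
      map_id := valMap_id 𝒳
      map_comp := fun m n => valMap_comp 𝒳 m n }
  w := CategoryTheory.Functor.ext (fun A => (G' 𝒳 A).obj.w_obj _) (fun A B m => by
    have h1 : 𝒳.p.IsHomLift (𝟙 A.base) ((α 𝒳 m).hom.toNatTrans.app (Over.mk (𝟙 A.base))) :=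
      (α 𝒳 m).hom.isHomLift' (Over.mk (𝟙 A.base))
    have h2 : 𝒳.p.IsHomLift m.base ((G' 𝒳 B).obj.map (jmor m.base)) := by
      rw [BasedFunctor.isHomLift_iff]
      exact IsHomLift.map (FibCat.overCat B.base).p (jmor m.base)
    have h3 : 𝒳.p.IsHomLift m.base (valMap 𝒳 m) :=
      @IsHomLift.comp_lift_id_left _ _ _ _ 𝒳.p _ _ _ A.base B.base m.base ((G' 𝒳 B).obj.map (jmor m.base)) h2
        ((α 𝒳 m).hom.toNatTrans.app (Over.mk (𝟙 A.base))) h1
    exact IsHomLift.fac' 𝒳.p m.base (valMap 𝒳 m))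

lemma Ψ_isEquivOver : FibCat.IsEquivOver (Ψ 𝒳) := by
  have hsc : ∀ {U : C} (B : Pseudofunctor.CoGrothendieck (F 𝒳).toPseudofunctor') (f : U ⟶ B.base),
      𝒳.p.IsStronglyCartesian f ((G' 𝒳 B).obj.map (jmor f)) := fun B f => by
    have : (FibCat.overCat B.base).p.IsHomLift f (jmor f) := IsHomLift.map (FibCat.overCat B.base).p (jmor f)
    exact (G' 𝒳 B).property f (jmor f) (Groth.L09.Fib.overCat_stronglyCartesian f (jmor f))
  have hd : ∀ (A : Pseudofunctor.CoGrothendieck (F 𝒳).toPseudofunctor'), 𝒳.p.obj (val 𝒳 A) = A.base :=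
    fun A => (G' 𝒳 A).obj.w_obj _
  have hw : ∀ {A B : Pseudofunctor.CoGrothendieck (F 𝒳).toPseudofunctor'} (m : A ⟶ B),
      𝒳.p.IsHomLift m.base (valMap 𝒳 m) := fun {A B} m =>
    (BasedFunctor.isHomLift_iff (Ψ 𝒳) m.base m).2 (IsHomLift.map (Pseudofunctor.CoGrothendieck.forget _) m)
  have : (Ψ 𝒳).toFunctor.Faithful := ⟨fun {A B} m m' h => by
    have h1 := hw m
    have h2 := hw m'
    have hb : m.base = m'.base := by
      have e1 := IsHomLift.fac 𝒳.p m.base (valMap 𝒳 m)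
      have e2 := IsHomLift.fac 𝒳.p m'.base (valMap 𝒳 m')
      have h' : valMap 𝒳 m = valMap 𝒳 m' := h
      exact e1.trans ((congrArg (fun q => _ ≫ 𝒳.p.map q ≫ _) h').trans e2.symm)
    obtain ⟨f, φ⟩ := m
    obtain ⟨f', φ'⟩ := m'
    dsimp only at hb
    subst hb
    suffices φ = φ' by rw [this]
    refine (equivShrink _).symm.injective ?_
    refine ObjectProperty.hom_ext _ (Groth.L09.Fib.evalAtId_injective
      ((bigMap 𝒳 (overMap f)).obj (G' 𝒳 B)).property (Subtype.ext ?_))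
    have h' : valMap 𝒳 (⟨f, φ⟩ : A ⟶ B) = valMap 𝒳 (⟨f, φ'⟩ : A ⟶ B) := h
    unfold valMap at h'
    have := hsc B f
    exact @IsCartesian.ext _ _ _ _ 𝒳.p _ _ _ _ f ((G' 𝒳 B).obj.map (jmor f)) inferInstance _
      ((α 𝒳 (⟨f, φ⟩ : A ⟶ B)).hom.toNatTrans.app (Over.mk (𝟙 A.base)))
      ((α 𝒳 (⟨f, φ'⟩ : A ⟶ B)).hom.toNatTrans.app (Over.mk (𝟙 A.base)))
      ((α 𝒳 (⟨f, φ⟩ : A ⟶ B)).hom.isHomLift' (Over.mk (𝟙 A.base)))
      ((α 𝒳 (⟨f, φ'⟩ : A ⟶ B)).hom.isHomLift' (Over.mk (𝟙 A.base))) h'⟩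
  have : (Ψ 𝒳).toFunctor.Full := ⟨fun {A B} ψ => by
    let ψ' : val 𝒳 A ⟶ val 𝒳 B := ψ
    let f : A.base ⟶ B.base := eqToHom (hd A).symm ≫ 𝒳.p.map ψ' ≫ eqToHom (hd B)
    have hl : 𝒳.p.IsHomLift f ψ' := IsHomLift.of_fac 𝒳.p f ψ' (hd A) (hd B) rfl
    have := hsc B f
    let χ := @IsCartesian.map _ _ _ _ 𝒳.p _ _ _ _ f ((G' 𝒳 B).obj.map (jmor f)) inferInstance _ ψ' hl
    let φe : (FibCat.evalAtId 𝒳 A.base).obj (G' 𝒳 A).obj ⟶
        (FibCat.evalAtId 𝒳 A.base).obj ((bigMap 𝒳 (overMap f)).obj (G' 𝒳 B)).obj :=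
      ⟨χ, @IsCartesian.map_isHomLift _ _ _ _ 𝒳.p _ _ _ _ f ((G' 𝒳 B).obj.map (jmor f)) inferInstance _ ψ' hl⟩
    obtain ⟨β, hβ⟩ := Groth.L09.Fib.exists_evalAtId_map ((bigMap 𝒳 (overMap f)).obj (G' 𝒳 B)).property φe
    refine ⟨⟨f, equivShrink _ (ObjectProperty.homMk β : G' 𝒳 A ⟶ (bigMap 𝒳 (overMap f)).obj (G' 𝒳 B))⟩, ?_⟩
    show ((equivShrink _).symm _ : G' 𝒳 A ⟶ _).hom.toNatTrans.app _ ≫ _ = ψ'
    erw [(equivShrink _).symm_apply_apply]
    have hχ : β.toNatTrans.app (Over.mk (𝟙 A.base)) = χ := congrArg Subtype.val hβ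
    show β.toNatTrans.app (Over.mk (𝟙 A.base)) ≫ _ = ψ'
    rw [hχ]
    exact @IsCartesian.fac _ _ _ _ 𝒳.p _ _ _ _ f ((G' 𝒳 B).obj.map (jmor f)) inferInstance _ ψ' hl⟩
  refine Groth.L09.Fib.isEquivOver_mk _ fun x => ?_
  obtain ⟨e⟩ := Groth.L09.Fib.evalAtId_ofObj (U := 𝒳.p.obj x) (⟨x, rfl⟩ : 𝒳.p.Fiber _)
  let A : Pseudofunctor.CoGrothendieck (F 𝒳).toPseudofunctor' :=
    ⟨𝒳.p.obj x, ShrinkHoms.toShrinkHoms (⟨Groth.L09.Fib.ofObj (x := x) rfl, Groth.L09.Fib.ofObj_preserves rfl⟩ : Big 𝒳 _)⟩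
  exact ⟨A, Fiber.fiberInclusion.mapIso e, e.hom.2⟩

lemma isGroupoid_F (h : ∀ U : C, IsGroupoid (𝒳.p.Fiber U)) (U : Cᵒᵖ) : IsGroupoid ((F 𝒳).obj U) := by
  have := Groth.L09.Fib.evalAtId_preserving_isEquivalence (𝒳 := 𝒳) U.unop
  refine ⟨fun {G H} m => ?_⟩
  let E := ShrinkHoms.inverse (Big 𝒳 U.unop) ⋙
    ((P 𝒳 U.unop).ι ⋙ FibCat.evalAtId 𝒳 U.unop)
  have : IsIso (E.map m) := (h U.unop).all_isIso _
  exact isIso_of_fully_faithful E m

end Groth.L09.FibStrict
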