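import Groth.Prelude.Def_AlgGrp
import Groth.Agent.L25.Covers
import Groth.Agent.L25.Actions

/-!
# Equivariant maps out of a torsor in terms of group-valued points on a trivialising cover
-/

universe u

open CategoryTheory MonoidalCategory CartesianMonoidalCategory MonObj AlgebraicGeometry Limits

namespace Groth.L09.TorsorPts

variable {S : Scheme.{u}} {G P V B : Over S} [GrpObj G]

/-- The action on points. -/
noncomputable abbrev sm {X Z : Over S} (a : AlgGrp.Action G X) (g : Z ⟶ G) (x : Z ⟶ X) : Z ⟶ X :=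
  lift g x ≫ a.act

lemma sm_one {X Z : Over S} (a : AlgGrp.Action G X) (x : Z ⟶ X) : sm a 1 x = x :=
  Groth.L25.Actions.one_act a x

lemma sm_mul {X Z : Over S} (a : AlgGrp.Action G X) (g h : Z ⟶ G) (x : Z ⟶ X) :
    sm a (g * h) x = sm a g (sm a h x) :=
  Groth.L25.Actions.mul_act a g h x

lemma comp_sm {X Z Z' : Over S} (a : AlgGrp.Action G X) (f : Z' ⟶ Z) (g : Z ⟶ G) (x : Z ⟶ X) :
    f ≫ sm a g x = sm a (f ≫ g) (f ≫ x) := by
  simp [comp_lift_assoc]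

/-- `π` is invariant and its fibres are principal homogeneous. -/
structure RelPseudo (a : AlgGrp.Action G V) (π : V ⟶ B) : Prop where
  inv : a.act ≫ π = snd G V ≫ π
  uniq : ∀ {Z : Over S} (x y : Z ⟶ V), x ≫ π = y ≫ π → ∃! g : Z ⟶ G, sm a g y = x

namespace RelPseudo

variable {a : AlgGrp.Action G V} {π : V ⟶ B} (h : RelPseudo a π)

include h

lemma sm_proj {Z : Over S} (g : Z ⟶ G) (x : Z ⟶ V) : sm a g x ≫ π = x ≫ π := by
  rw [Category.assoc, h.inv, lift_snd_assoc]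

/-- The element sending `y` to `x`. -/
noncomputable def div {Z : Over S} (x y : Z ⟶ V) (e : x ≫ π = y ≫ π) : Z ⟶ G :=
  (h.uniq x y e).choose

lemma sm_div {Z : Over S} (x y : Z ⟶ V) (e : x ≫ π = y ≫ π) : sm a (h.div x y e) y = x :=
  (h.uniq x y e).choose_spec.1

lemma eq_div {Z : Over S} {x y : Z ⟶ V} (e : x ≫ π = y ≫ π) {g : Z ⟶ G} (hg : sm a g y = x) :
    g = h.div x y e :=
  (h.uniq x y e).choose_spec.2 g hg

lemma cancel {Z : Over S} {y : Z ⟶ V} {g g' : Z ⟶ G} (e : sm a g y = sm a g' y) : g = g' :=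
  (h.uniq _ y (h.sm_proj g' y)).unique e rfl

end RelPseudo

variable {W : Over S}

/-- Group-valued points on `T ⊗ W` satisfying the descent condition of automorphisms. -/
noncomputable def H (aP : AlgGrp.Action G P) (s : W ⟶ P) (T : Over S) : Subgroup (T ⊗ W ⟶ G) where
  carrier := {d | ∀ (Z : Over S) (t : Z ⟶ T) (w₁ w₂ : Z ⟶ W) (c : Z ⟶ G),
    sm aP c (w₁ ≫ s) = w₂ ≫ s → (lift t w₂ ≫ d) * c = c * (lift t w₁ ≫ d)}
  one_mem' Z t w₁ w₂ c _ := by simp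
  mul_mem' {d e} hd he Z t w₁ w₂ c hc := by
    rw [MonObj.comp_mul, MonObj.comp_mul, _root_.mul_assoc, he Z t w₁ w₂ c hc,
      ← _root_.mul_assoc, hd Z t w₁ w₂ c hc, _root_.mul_assoc]
  inv_mem' {d} hd Z t w₁ w₂ c hc := by
    rw [GrpObj.comp_inv, GrpObj.comp_inv, inv_mul_eq_iff_eq_mul, ← _root_.mul_assoc,
      hd Z t w₁ w₂ c hc, mul_inv_cancel_right]

lemma comp_mem_H (aP : AlgGrp.Action G P) (s : W ⟶ P) {T T' : Over S} (f : T' ⟶ T)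
    {d : T ⊗ W ⟶ G} (hd : d ∈ H aP s T) : (f ▷ W) ≫ d ∈ H aP s T' := by
  intro Z t w₁ w₂ c hc
  simpa [lift_whiskerRight_assoc] using hd Z (t ≫ f) w₁ w₂ c hc

/-- An equivariant map `P ⊗ T ⟶ V` over `τ`. -/
structure IsEq (aP : AlgGrp.Action G P) (a : AlgGrp.Action G V) (π : V ⟶ B) {T : Over S}
    (τ : T ⟶ B) (φ : P ⊗ T ⟶ V) : Prop where
  proj : φ ≫ π = snd P T ≫ τ
  equiv : ∀ {Z : Over S} (g : Z ⟶ G) (x : Z ⟶ P) (t : Z ⟶ T),
    lift (sm aP g x) t ≫ φ = sm a g (lift x t ≫ φ)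

variable {aP : AlgGrp.Action G P} {a : AlgGrp.Action G V} {π : V ⟶ B}

lemma IsEq.comp {T T' : Over S} {τ : T ⟶ B} {φ : P ⊗ T ⟶ V} (hφ : IsEq aP a π τ φ) (f : T' ⟶ T) :
    IsEq aP a π (f ≫ τ) ((P ◁ f) ≫ φ) where
  proj := by rw [Category.assoc, hφ.proj, whiskerLeft_snd_assoc]
  equiv g x t := by
    simpa [lift_whiskerLeft_assoc] using hφ.equiv g x (t ≫ f)

/-- The points over which maps out of `P ⊗ T` are compared. -/
noncomputable abbrev sPt (s : W ⟶ P) (T : Over S) : T ⊗ W ⟶ P ⊗ T :=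
  lift (snd T W ≫ s) (fst T W)

lemma lift_sPt (s : W ⟶ P) {T Z : Over S} (t : Z ⟶ T) (w : Z ⟶ W) :
    lift t w ≫ sPt s T = lift (w ≫ s) t := by simp

variable (hP : RelPseudo aP (toUnit P)) (hV : RelPseudo a π) (s : W ⟶ P)
  (hW : Groth.L25.Covers.Cov (toUnit W))

lemma sm_proj_eq {Z : Over S} (x y : Z ⟶ P) : x ≫ toUnit P = y ≫ toUnit P := toUnit_unique _ _

include hW in
lemma cov_fst (X : Over S) : Groth.L25.Covers.Cov (fst X W) :=
  Groth.L25.Covers.Cov.of_isPullback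
    (IsPullback.of_is_product (h := (CartesianMonoidalCategory.tensorProductIsBinaryProduct X W))
      CartesianMonoidalCategory.isTerminalTensorUnit : IsPullback (fst X W) (snd X W) _ (toUnit W)) hW

include hP hW in
/-- Equivariant maps are determined by their values on the section. -/
theorem IsEq.ext {T : Over S} {τ : T ⟶ B} {φ φ' : P ⊗ T ⟶ V} (h : IsEq aP a π τ φ)
    (h' : IsEq aP a π τ φ') (e : sPt s T ≫ φ = sPt s T ≫ φ') : φ = φ' := by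
  haveI := (cov_fst hW (P ⊗ T)).epi
  rw [← cancel_epi (fst (P ⊗ T) W)]
  let x : (P ⊗ T) ⊗ W ⟶ P := fst _ _ ≫ fst _ _
  let t : (P ⊗ T) ⊗ W ⟶ T := fst _ _ ≫ snd _ _
  let w : (P ⊗ T) ⊗ W ⟶ W := snd _ _
  have hx := hP.sm_div x (w ≫ s) (sm_proj_eq _ _)
  have hf : fst (P ⊗ T) W = lift (sm aP (hP.div x (w ≫ s) (sm_proj_eq _ _)) (w ≫ s)) t := by
    rw [hx]; ext <;> simp [x, t]
  rw [hf, h.equiv, h'.equiv]
  rw [show lift (w ≫ s) t ≫ φ = lift (w ≫ s) t ≫ φ' by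
    simpa only [← Category.assoc, lift_sPt] using congrArg (lift t w ≫ ·) e]

include hV in
/-- The difference of two equivariant maps. -/
theorem exists_diff {T : Over S} {τ : T ⟶ B} {φ φ' : P ⊗ T ⟶ V} (h : IsEq aP a π τ φ)
    (h' : IsEq aP a π τ φ') :
    ∃ d ∈ H aP s T, sm a d (sPt s T ≫ φ) = sPt s T ≫ φ' := by
  have e : (sPt s T ≫ φ') ≫ π = (sPt s T ≫ φ) ≫ π := by
    rw [Category.assoc, Category.assoc, h.proj, h'.proj]
  refine ⟨hV.div _ _ e, fun Z t w₁ w₂ c hc => ?_, hV.sm_div _ _ e⟩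
  have hk : ∀ w : Z ⟶ W, sm a (lift t w ≫ hV.div _ _ e) (lift (w ≫ s) t ≫ φ) =
      lift (w ≫ s) t ≫ φ' := fun w => by
    have := congrArg (lift t w ≫ ·) (hV.sm_div _ _ e)
    rw [comp_sm, ← Category.assoc, ← Category.assoc, lift_sPt] at this
    exact this
  apply hV.cancel (y := lift (w₁ ≫ s) t ≫ φ)
  rw [sm_mul, ← h.equiv, hc, hk w₂, sm_mul, hk w₁, ← h'.equiv, hc]

include hP hV hW in
/-- Twisting an equivariant map. -/
theorem exists_twist {T : Over S} {τ : T ⟶ B} {φ : P ⊗ T ⟶ V} (h : IsEq aP a π τ φ)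
    {d : T ⊗ W ⟶ G} (hd : d ∈ H aP s T) :
    ∃ φ' : P ⊗ T ⟶ V, IsEq aP a π τ φ' ∧ sm a d (sPt s T ≫ φ) = sPt s T ≫ φ' := by
  let x : (P ⊗ T) ⊗ W ⟶ P := fst _ _ ≫ fst _ _
  let t : (P ⊗ T) ⊗ W ⟶ T := fst _ _ ≫ snd _ _
  let w : (P ⊗ T) ⊗ W ⟶ W := snd _ _
  let g := hP.div x (w ≫ s) (sm_proj_eq _ _)
  let E : (P ⊗ T) ⊗ W ⟶ V := sm a (g * (lift t w ≫ d)) (lift (w ≫ s) t ≫ φ)
  have key : ∀ {Z : Over S} (k : Z ⟶ (P ⊗ T) ⊗ W), k ≫ E =
      sm a (hP.div (k ≫ x) ((k ≫ w) ≫ s) (sm_proj_eq _ _) * (lift (k ≫ t) (k ≫ w) ≫ d))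
        (lift ((k ≫ w) ≫ s) (k ≫ t) ≫ φ) := by
    intro Z k
    have e : k ≫ g = hP.div (k ≫ x) ((k ≫ w) ≫ s) (sm_proj_eq _ _) := by
      apply hP.eq_div
      have := congrArg (k ≫ ·) (hP.sm_div x (w ≫ s) (sm_proj_eq _ _))
      simpa [comp_sm, g] using this
    rw [show E = sm a (g * (lift t w ≫ d)) (lift (w ≫ s) t ≫ φ) from rfl, comp_sm,
      MonObj.comp_mul, e]
    simp [comp_lift_assoc]
  obtain ⟨⟨_, _⟩, _⟩ := cov_fst hW (P ⊗ T)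
  haveI := (cov_fst hW (P ⊗ T)).epi
  obtain ⟨φ', hφ', -⟩ := Groth.L25.Actions.existsUnique_desc (fst (P ⊗ T) W) E (fun Z k₁ k₂ hk => by
    have ht : k₁ ≫ t = k₂ ≫ t := by simp only [t, reassoc_of% hk]
    have hx : k₁ ≫ x = k₂ ≫ x := by simp only [x, reassoc_of% hk]
    rw [key, key]
    let c := hP.div ((k₂ ≫ w) ≫ s) ((k₁ ≫ w) ≫ s) (sm_proj_eq _ _)
    have hc : sm aP c ((k₁ ≫ w) ≫ s) = (k₂ ≫ w) ≫ s := hP.sm_div _ _ _
    have h12 : hP.div (k₁ ≫ x) ((k₁ ≫ w) ≫ s) (sm_proj_eq _ _) =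
        hP.div (k₂ ≫ x) ((k₂ ≫ w) ≫ s) (sm_proj_eq _ _) * c := by
      refine (hP.eq_div _ ?_).symm
      rw [sm_mul, hc, hP.sm_div, hx]
    rw [h12, _root_.mul_assoc]
    have hy : lift ((k₂ ≫ w) ≫ s) (k₂ ≫ t) ≫ φ = sm a c (lift ((k₁ ≫ w) ≫ s) (k₂ ≫ t) ≫ φ) := by
      rw [← h.equiv, hc]
    rw [ht, hy, ← sm_mul, _root_.mul_assoc _ (lift (k₂ ≫ t) (k₂ ≫ w) ≫ d) c,
      hd Z (k₂ ≫ t) _ _ c hc])
  refine ⟨φ', ⟨?_, ?_⟩, ?_⟩
  · rw [← cancel_epi (fst (P ⊗ T) W), ← Category.assoc, hφ']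
    show sm a _ _ ≫ π = _
    rw [hV.sm_proj, Category.assoc, h.proj]
    simp [t]
  · intro Z g' y u
    haveI := (cov_fst hW Z).epi
    rw [← cancel_epi (fst Z W), comp_sm, ← Category.assoc (fst Z W) (lift (sm aP g' y) u),
      ← Category.assoc (fst Z W) (lift y u), comp_lift, comp_lift]
    let k₀ : Z ⊗ W ⟶ (P ⊗ T) ⊗ W := lift (fst Z W ≫ lift y u) (snd Z W)
    let k₁ : Z ⊗ W ⟶ (P ⊗ T) ⊗ W :=
      lift (lift (fst Z W ≫ sm aP g' y) (fst Z W ≫ u)) (snd Z W)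
    have a0 : lift (fst Z W ≫ y) (fst Z W ≫ u) ≫ φ' = k₀ ≫ E := by
      rw [← hφ', lift_fst_assoc, Category.assoc, comp_lift_assoc]
    have a1 : lift (fst Z W ≫ sm aP g' y) (fst Z W ≫ u) ≫ φ' = k₁ ≫ E := by
      rw [← hφ', lift_fst_assoc]
    rw [a0, a1, key, key, ← sm_mul]
    have ex : k₁ ≫ x = sm aP (fst Z W ≫ g') (k₀ ≫ x) := by
      simp [k₀, k₁, x, comp_sm]
    have et : k₁ ≫ t = k₀ ≫ t := by simp [k₀, k₁, t]
    have ew : k₁ ≫ w = k₀ ≫ w := by simp [k₀, k₁, w]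
    rw [← _root_.mul_assoc]
    simp only [et, ew]
    congr 3
    refine (hP.eq_div _ ?_).symm
    rw [sm_mul, hP.sm_div, ex]
  · let k : T ⊗ W ⟶ (P ⊗ T) ⊗ W := lift (sPt s T) (snd T W)
    have : sPt s T ≫ φ' = k ≫ E := by rw [← hφ', lift_fst_assoc]
    rw [this, key]
    have ew : k ≫ w = snd T W := by simp [k, w]
    have et : k ≫ t = fst T W := by simp [k, t]
    have ex : k ≫ x = snd T W ≫ s := by simp [k, x]
    simp only [ew, et, ex, lift_fst_snd, Category.id_comp]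
    have : hP.div (snd T W ≫ s) (snd T W ≫ s) (sm_proj_eq _ _) = 1 :=
      (hP.eq_div _ (sm_one _ _)).symm
    rw [this, _root_.one_mul]

end Groth.L09.TorsorPts
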