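import Groth.Agent.L09.TorsorSch
import Groth.Agent.L09.TorsorPts
import Groth.Agent.L23.AffineMor
import Groth.Prelude.Def_ActBC
import Mathlib.AlgebraicGeometry.Morphisms.UniversallyInjective
import Mathlib.AlgebraicGeometry.Morphisms.QuasiFinite
import Mathlib.FieldTheory.PurelyInseparable.Basic

/-!
# Torsors under finite connected group schemes over a field
-/

universe u

open CategoryTheory CategoryTheory.Limits MonoidalCategory CartesianMonoidalCategory MonObj
  AlgebraicGeometry

set_option linter.style.haveILetI false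
set_option backward.isDefEq.respectTransparency.types false
set_option backward.isDefEq.respectTransparency false

namespace Groth.L09.FiniteConnected

variable {K : Type u} [Field K] {G X : Over (Spec (CommRingCat.of K))} [GrpObj G]
  [IsFinite G.hom] [ConnectedSpace G.left]

lemma subsingleton : Subsingleton G.left := by
  haveI : IsLocallyArtinian G.left := .of_locallyQuasiFinite G.hom
  exact subsingleton_of_forall_eq (Classical.arbitrary _) fun y => by
    have hs : IsClopen ({Classical.arbitrary _} : Set G.left) :=
      ⟨isClosed_discrete _, isOpen_discrete _⟩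
    have := hs.eq_univ (Set.singleton_nonempty _)
    exact (Set.eq_univ_iff_forall.mp this y)

lemma universallyInjective {a : AlgGrp.Action G X} (h : IsIso (lift a.act (snd G X))) :
    UniversallyInjective X.hom := by
  haveI := subsingleton (G := G)
  haveI : Surjective η[G].left := ⟨fun g => ⟨(default : PrimeSpectrum K), Subsingleton.elim _ _⟩⟩
  rw [UniversallyInjective.iff_diagonal]
  let δ : X ⟶ X ⊗ X := lift (𝟙 X) (𝟙 X)
  have e : δ = (λ_ X).inv ≫ (η[G] ▷ X) ≫ lift a.act (snd G X) := by
    have h1 : (λ_ X).inv ≫ (η[G] ▷ X) = lift (1 : X ⟶ G) (𝟙 X) := by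
      apply CartesianMonoidalCategory.hom_ext <;> simp [Hom.one_def]
    rw [reassoc_of% h1, comp_lift, lift_snd]
    exact congrArg (lift · _) (Groth.L25.Actions.one_act a (𝟙 X)).symm
  have hd : pullback.diagonal X.hom = δ.left := by
    apply pullback.hom_ext
    · rw [pullback.diagonal_fst]
      exact (congrArg (fun φ => φ.left) (lift_fst (𝟙 X) (𝟙 X))).symm
    · rw [pullback.diagonal_snd]
      exact (congrArg (fun φ => φ.left) (lift_snd (𝟙 X) (𝟙 X))).symm
  haveI : Surjective (η[G] ▷ X).left :=
    Groth.L25.Actions.of_whiskerRight @Surjective η[G] X ‹_›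
  haveI : IsIso (lift a.act (snd G X)).left :=
    haveI := h
    Groth.L09.TorsorSch.isIso_left _
  haveI : IsIso (λ_ X).inv.left := Groth.L09.TorsorSch.isIso_left _
  rw [hd, e, Over.comp_left, Over.comp_left]
  infer_instance

lemma hasSectionOver_of_point {a : AlgGrp.Action G X}
    (h : NonAbH1.IsTorsorFor Scheme.fpqcPrecoverage a) :
    ∃ (L : Type u) (_ : Field L) (_ : Algebra K L) (_ : Module.Finite K L),
      Nonempty (Spec (CommRingCat.of L) ⟶ X.left) ∧
      (Algebra.IsSeparable K L → NonAbH1.HasSectionOver X (𝟙 (Spec (CommRingCat.of K)))) ∧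
      ∀ (L' : Type u) [Field L'] [Algebra K L'] (z : Spec (CommRingCat.of L') ⟶ X.left),
        z ≫ X.hom = Spec.map (CommRingCat.ofHom (algebraMap K L')) → Nonempty (L →ₐ[K] L') := by
  haveI := universallyInjective h.1
  haveI : IsFinite X.hom := Groth.L09.TorsorSch.of_grp @IsFinite a h inferInstance
  haveI : Surjective X.hom := Groth.L09.TorsorSch.of_grp @Surjective a h
    (Groth.L25.Actions.surjective_grp G)
  obtain ⟨x, -⟩ := X.hom.surjective (default : PrimeSpectrum K)
  haveI : Subsingleton X.left := ⟨fun y z =>
    X.hom.injective (Subsingleton.elim (α := PrimeSpectrum K) _ _)⟩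
  let L : Type u := X.left.residueField x
  letI : Field L := inferInstanceAs (Field (X.left.residueField x))
  obtain ⟨ψ, hψ⟩ : ∃ ψ : CommRingCat.of K ⟶ X.left.residueField x,
      Spec.map ψ = X.left.fromSpecResidueField x ≫ X.hom := Spec.map_surjective _
  letI : Algebra K L := ψ.hom.toAlgebra
  haveI : IsClosedImmersion (X.left.fromSpecResidueField x) :=
    .of_isPreimmersion _ (isClosed_discrete _)
  haveI : Module.Finite K L := by
    have : IsFinite (Spec.map ψ) := by rw [hψ]; infer_instance
    rw [IsFinite.SpecMap_iff] at this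
    exact this
  haveI : IsPurelyInseparable K L := by
    rw [isPurelyInseparable_iff_subsingleton_emb]
    refine ⟨fun σ τ => AlgHom.coe_ringHom_injective ?_⟩
    let pt (σ : L →ₐ[K] AlgebraicClosure L) : Spec (CommRingCat.of (AlgebraicClosure L)) ⟶ X.left :=
      Spec.map (CommRingCat.ofHom σ.toRingHom) ≫ X.left.fromSpecResidueField x
    have hpt : ∀ σ : L →ₐ[K] AlgebraicClosure L, pt σ ≫ X.hom =
        Spec.map (CommRingCat.ofHom (algebraMap K (AlgebraicClosure L))) := fun σ => by
      simp only [pt, Category.assoc, ← hψ, ← Spec.map_comp]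
      congr 1
      exact CommRingCat.hom_ext σ.comp_algebraMap
    have e : pt σ = pt τ :=
      (((tfae_universallyInjective X.hom).out 0 1 : UniversallyInjective X.hom ↔
        ∀ (K' : Type u) [Field K'], Function.Injective
          (fun g : Spec (CommRingCat.of K') ⟶ X.left => g ≫ X.hom))).mp ‹_› (AlgebraicClosure L)
        ((hpt σ).trans (hpt τ).symm)
    exact congrArg CommRingCat.Hom.hom (Spec.map_injective ((cancel_mono _).mp e))
  refine ⟨L, inferInstance, inferInstance, inferInstance, ⟨X.left.fromSpecResidueField x⟩,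
    fun hs => ?_, fun L' _ _ z hz => ?_⟩
  · haveI := hs
    have hb : Function.Bijective (algebraMap K L) :=
      ⟨(algebraMap K L).injective, IsPurelyInseparable.surjective_algebraMap_of_isSeparable K L⟩
    haveI : IsIso ψ := (ConcreteCategory.isIso_iff_bijective _).mpr hb
    exact ⟨inv (Spec.map ψ) ≫ X.left.fromSpecResidueField x, by
      rw [Category.assoc, ← hψ, IsIso.inv_hom_id]⟩
  · obtain ⟨⟨y, φ⟩, rfl⟩ := (Scheme.SpecToEquivOfField L' X.left).symm.surjective z
    obtain rfl : y = x := Subsingleton.elim _ _
    refine ⟨{ φ.hom with commutes' := fun r => ?_ }⟩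
    simp only [Scheme.SpecToEquivOfField_symm_apply, Category.assoc, ← hψ, ← Spec.map_comp] at hz
    exact congr($(Spec.map_injective hz) r)

end Groth.L09.FiniteConnected
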