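import Mathlib.CategoryTheory.Adjunction.FullyFaithful
import Mathlib.CategoryTheory.Limits.Shapes.Pullback.IsPullback.Basic
import Mathlib.CategoryTheory.Limits.Preserves.Finite
import Mathlib.CategoryTheory.Comma.Basic

/-!
A category with two localizations whose fracture squares are cartesian is a glued category.
-/

set_option autoImplicit false
universe v₁ v₂ v₃ u₁ u₂ u₃

open CategoryTheory Category Limits

namespace Groth.L09.Fracture

variable {E : Type u₁} [Category.{v₁} E] {A : Type u₂} [Category.{v₂} A] {B : Type u₃} [Category.{v₃} B]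
  {L : E ⥤ A} {i : A ⥤ E} {r : E ⥤ B} {s : B ⥤ E} (a₁ : L ⊣ i) (a₂ : r ⊣ s)

/-- The comparison functor. -/
@[simps]
def Φ : E ⥤ Comma (𝟭 A) (s ⋙ L) where
  obj X := ⟨L.obj X, r.obj X, L.map (a₂.unit.app X)⟩
  map {X Y} φ :=
    { left := L.map φ
      right := r.map φ
      w := by
        show L.map φ ≫ L.map (a₂.unit.app Y) = L.map (a₂.unit.app X) ≫ L.map (s.map (r.map φ))
        rw [← L.map_comp, ← L.map_comp]
        exact congrArg (fun k => L.map k) (a₂.unit.naturality φ) }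

theorem isEquivalence [HasPullbacks E] [PreservesFiniteLimits L] [PreservesFiniteLimits r]
    [i.Full] [i.Faithful] [s.Full] [s.Faithful]
    (H₁ : ∀ X, IsPullback (a₂.unit.app X) (a₁.unit.app X) (a₁.unit.app (s.obj (r.obj X)))
      (i.map (L.map (a₂.unit.app X))))
    (H₂ : ∀ {Y W : A} (g : i.obj Y ⟶ i.obj W), IsIso (r.map g)) :
    (Φ (L := L) a₂).IsEquivalence := by
  have hfaith : (Φ (L := L) a₂).Faithful := ⟨fun {X Y φ ψ} h => (H₁ Y).hom_ext
    ((a₂.unit.naturality φ).trans ((congrArg (fun k => a₂.unit.app X ≫ s.map k) (congrArg CommaMorphism.right h)).trans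
      (a₂.unit.naturality ψ).symm))
    ((a₁.unit.naturality φ).trans ((congrArg (fun k => a₁.unit.app X ≫ i.map k) (congrArg CommaMorphism.left h)).trans
      (a₁.unit.naturality ψ).symm))⟩
  have hfull : (Φ (L := L) a₂).Full := ⟨fun {X Y} g => by
    have hw : g.left ≫ L.map (a₂.unit.app Y) = L.map (a₂.unit.app X) ≫ L.map (s.map g.right) := g.w
    have w : (a₂.unit.app X ≫ s.map g.right) ≫ a₁.unit.app (s.obj (r.obj Y)) =
        (a₁.unit.app X ≫ i.map g.left) ≫ i.map (L.map (a₂.unit.app Y)) := by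
      refine (a₁.unit.naturality (a₂.unit.app X ≫ s.map g.right)).trans ?_
      rw [assoc, ← i.map_comp]
      exact congrArg (fun k => a₁.unit.app X ≫ i.map k) ((L.map_comp _ _).trans hw.symm)
    let φ := (H₁ Y).lift _ _ w
    have e₁ : φ ≫ a₂.unit.app Y = a₂.unit.app X ≫ s.map g.right := (H₁ Y).lift_fst _ _ w
    have e₂ : φ ≫ a₁.unit.app Y = a₁.unit.app X ≫ i.map g.left := (H₁ Y).lift_snd _ _ w
    refine ⟨φ, CommaMorphism.ext ((a₁.homEquiv X _).injective ?_) ((a₂.homEquiv X _).injective ?_)⟩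
    · rw [a₁.homEquiv_unit, a₁.homEquiv_unit]
      exact (a₁.unit.naturality φ).symm.trans e₂
    · rw [a₂.homEquiv_unit, a₂.homEquiv_unit]
      exact (a₂.unit.naturality φ).symm.trans e₁⟩
  have hess : (Φ (L := L) a₂).EssSurj := ⟨fun ⟨Y, Z, f⟩ => by
    let p₁ := pullback.fst (i.map f) (a₁.unit.app (s.obj Z))
    let p₂ := pullback.snd (i.map f) (a₁.unit.app (s.obj Z))
    have hp : IsPullback p₁ p₂ (i.map f) (a₁.unit.app (s.obj Z)) := IsPullback.of_hasPullback _ _
    have : IsIso (L.map (a₁.unit.app (s.obj Z)) ≫ a₁.counit.app (L.obj (s.obj Z))) := by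
      erw [a₁.left_triangle_components]
      infer_instance
    have hLu : IsIso (L.map (a₁.unit.app (s.obj Z))) :=
      IsIso.of_isIso_comp_right _ (a₁.counit.app (L.obj (s.obj Z)))
    have hi₁ : IsIso (L.map p₁) := (hp.map L).isIso_fst_of_isIso
    have : IsIso (r.map (i.map f)) := H₂ _
    have hi₂ : IsIso (r.map p₂) := (hp.map r).flip.isIso_fst_of_isIso
    refine ⟨pullback (i.map f) (a₁.unit.app (s.obj Z)),
      ⟨Comma.isoMk ((@asIso _ _ _ _ (L.map p₁) hi₁) ≪≫ asIso (a₁.counit.app Y)) ((@asIso _ _ _ _ (r.map p₂) hi₂) ≪≫ asIso (a₂.counit.app Z)) ?_⟩⟩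
    show (L.map p₁ ≫ a₁.counit.app Y) ≫ f = L.map (a₂.unit.app _) ≫ L.map (s.map (r.map p₂ ≫ a₂.counit.app Z))
    have h2 : a₂.unit.app (pullback (i.map f) (a₁.unit.app (s.obj Z))) ≫ s.map (r.map p₂ ≫ a₂.counit.app Z) = p₂ := by
      rw [s.map_comp, ← assoc]
      refine (congrArg (· ≫ _) (a₂.unit.naturality p₂).symm).trans ?_
      exact (assoc _ _ _).trans ((congrArg (p₂ ≫ ·) (a₂.right_triangle_components Z)).trans (comp_id _))
    have h1 : a₁.counit.app Y ≫ f = L.map (i.map f) ≫ a₁.counit.app (L.obj (s.obj Z)) :=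
      (a₁.counit.naturality f).symm
    rw [← L.map_comp, h2, assoc, h1, ← assoc, ← L.map_comp, hp.w, L.map_comp, assoc]
    exact (congrArg (L.map p₂ ≫ ·) (a₁.left_triangle_components (s.obj Z))).trans (comp_id _)⟩
  exact {}

end Groth.L09.Fracture
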