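import Groth.Agent.L09.SubtrDescent
import Mathlib.RingTheory.Ideal.Operations
import Mathlib.RingTheory.TensorProduct.MvPolynomial
import Mathlib.RingTheory.TensorProduct.Quotient
import Mathlib.RingTheory.Ideal.Quotient.Operations

/-!
# Descending the lifting of generizations over valuation rings along filtered colimits

Over a valuation ring the closed fibre lies in the closure of the generic fibre iff the quotient by
the torsion ideal has the same closed points; that quotient is flat of finite presentation (Nagata),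
hence defined over a finitely presented `ℤ`-algebra, and so are the finitely many nilpotency equations.
-/

set_option autoImplicit false
set_option linter.style.haveILetI false
set_option backward.isDefEq.respectTransparency.types false

universe u

open TensorProduct IsLocalRing MvPolynomial

noncomputable section

namespace Groth.L09.GenDescent

open Groth.L07.FlatDescent

/-- A finitely presented algebra which becomes flat over a ring is flat over a finitely generated
subring. -/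
theorem exists_fg_flat_stage {W : Type u} [CommRing W] (A₀ : Subalgebra ℤ W) (hA₀ : A₀.FG)
    (M₀ : Type u) [CommRing M₀] [Algebra A₀ M₀] [Algebra.FinitePresentation A₀ M₀]
    [Module.Flat W (W ⊗[A₀] M₀)] :
    ∃ (A₁ : Subalgebra ℤ W) (h : A₀ ≤ A₁), A₁.FG ∧
      (letI := (Subalgebra.inclusion h).toRingHom.toAlgebra; Module.Flat A₁ (A₁ ⊗[A₀] M₀)) := by
  classical
  obtain ⟨d, n, R, _, K, ⟨e⟩⟩ := exists_model A₀ (B₀ := M₀) M₀
  haveI : IsScalarTower R A₀ W := .of_algebraMap_eq fun _ => rfl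
  obtain ⟨eK⟩ := exists_modelEquiv K e W
  haveI : Module.Flat W (MC W K) := Module.Flat.of_linearEquiv eK.symm
  obtain ⟨B', hB', hflat⟩ := exists_fg_stage K W
  obtain ⟨G, hG⟩ := hB'
  let A₁ : Subalgebra ℤ W := A₀ ⊔ Algebra.adjoin ℤ (G : Set W)
  have hle : A₀ ≤ A₁ := le_sup_left
  refine ⟨A₁, hle, hA₀.sup ⟨G, rfl⟩, ?_⟩
  letI : Algebra A₀ A₁ := (Subalgebra.inclusion hle).toRingHom.toAlgebra
  haveI : IsScalarTower A₀ A₁ W := .of_algebraMap_eq fun _ => rfl
  haveI : IsScalarTower R A₀ A₁ := .of_algebraMap_eq fun _ => rfl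
  have hB'A₁ : ∀ x : B', (x : W) ∈ A₁ := by
    rintro ⟨x, hx⟩
    rw [← hG] at hx
    refine Algebra.adjoin_induction (p := fun x _ => x ∈ A₁)
      (fun y hy => le_sup_right (a := A₀) (Algebra.subset_adjoin hy))
      (fun r => ?_) (fun _ _ _ _ => add_mem) (fun _ _ _ _ => mul_mem) hx
    exact hle (algebraMap R A₀ r).2
  let ι : B' →+* A₁ :=
    { toFun := fun x => ⟨x, hB'A₁ x⟩
      map_one' := rfl
      map_mul' := fun _ _ => rfl
      map_zero' := rfl
      map_add' := fun _ _ => rfl }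
  letI : Algebra B' A₁ := ι.toAlgebra
  haveI : IsScalarTower R B' A₁ := .of_algebraMap_eq fun _ => rfl
  obtain ⟨e₁⟩ := exists_modelEquiv K e A₁
  haveI := flat_MC_of_flat K (A := B') (C := A₁)
  exact Module.Flat.of_linearEquiv e₁

variable {A₀ : Type u} [CommRing A₀] {B : Type u} [CommRing B] [Algebra A₀ B]

variable (A₀) in
/-- Every prime over `m` has a generization over `⊥`. -/
def GenPair (B : Type u) [CommRing B] [Algebra A₀ B] (P : Type u) [CommRing P] [Algebra A₀ P]
    (m : Ideal P) : Prop :=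
  ∀ q' : Ideal (P ⊗[A₀] B), q'.IsPrime →
    q'.comap (Algebra.TensorProduct.includeLeft (S := A₀) : P →ₐ[A₀] P ⊗[A₀] B) = m →
    ∃ q : Ideal (P ⊗[A₀] B), q.IsPrime ∧ q ≤ q' ∧
      q.comap (Algebra.TensorProduct.includeLeft (S := A₀) : P →ₐ[A₀] P ⊗[A₀] B) = ⊥

/-- A flat witness, over a finitely presented `ℤ`-algebra, for the lifting of generizations. -/
def HasGenWitness (B : Type u) [CommRing B] [Algebra A₀ B] {W : Type u} [CommRing W] [IsLocalRing W]
    (θ : A₀ →+* W) : Prop :=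
  ∃ (R : Type u) (_ : CommRing R) (γ : R →+* W) (F : Finset (A₀ × R)) (M : Finset R),
    Algebra.FinitePresentation ℤ R ∧ (∀ x ∈ F, γ x.2 = θ x.1) ∧ (∀ r ∈ M, γ r ∈ maximalIdeal W) ∧
    ∀ (V : Type u) [CommRing V] [IsDomain V] [IsLocalRing V] [Algebra A₀ V] [Algebra R V],
      (∀ x ∈ F, algebraMap R V x.2 = algebraMap A₀ V x.1) →
      (∀ r ∈ M, algebraMap R V r ∈ maximalIdeal V) → GenPair A₀ B V (maximalIdeal V)

/-- A map out of a finitely presented algebra given on generators. -/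
theorem exists_lift_of_relations {n : ℕ} (π : MvPolynomial (Fin n) A₀ →ₐ[A₀] B)
    (hπ : Function.Surjective π) {s : Finset (MvPolynomial (Fin n) A₀)}
    (hs : Ideal.span (s : Set (MvPolynomial (Fin n) A₀)) = RingHom.ker π.toRingHom)
    {E : Type u} [CommRing E] [Algebra A₀ E] (y : Fin n → E) (h : ∀ g ∈ s, aeval y g = 0) :
    ∃ f : B →ₐ[A₀] E, ∀ l, f (π (X l)) = y l := by
  have hker : RingHom.ker π.toRingHom ≤ RingHom.ker (aeval (R := A₀) y).toRingHom := by
    rw [← hs, Ideal.span_le]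
    exact h
  exact ⟨AlgHom.liftOfSurjective π hπ (aeval y) hker, fun l => by
    rw [AlgHom.liftOfSurjective_apply, aeval_X]⟩

section Ev

variable {n : ℕ} (π : MvPolynomial (Fin n) A₀ →ₐ[A₀] B) (P : Type u) [CommRing P] [Algebra A₀ P]

/-- The presentation of the base change. -/
def ev : MvPolynomial (Fin n) P →ₐ[P] P ⊗[A₀] B := aeval fun l => (1 : P) ⊗ₜ[A₀] π (X l)

theorem ev_map (p : MvPolynomial (Fin n) A₀) :
    ev π P (MvPolynomial.map (algebraMap A₀ P) p) = (1 : P) ⊗ₜ[A₀] π p := by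
  show aeval _ _ = _
  rw [aeval_map_algebraMap]
  exact (DFunLike.congr_fun (aeval_unique ((Algebra.TensorProduct.includeRight (R := A₀) (A := P)
    (B := B)).comp π)) p).symm

theorem ev_C (x : P) : ev π P (C x) = x ⊗ₜ[A₀] (1 : B) := by
  simp [ev, Algebra.TensorProduct.algebraMap_apply]

theorem ev_X (l : Fin n) : ev π P (X l) = (1 : P) ⊗ₜ[A₀] π (X l) := by simp [ev]

end Ev

/-- Two maps out of `P ⊗ B` agreeing on `P` and on generators. -/
theorem tensor_ext {n : ℕ} (π : MvPolynomial (Fin n) A₀ →ₐ[A₀] B) (hπ : Function.Surjective π)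
    {P : Type u} [CommRing P] [Algebra A₀ P] {E : Type u} [CommRing E]
    (f g : P ⊗[A₀] B →+* E) (hC : ∀ x, f (ev π P (C x)) = g (ev π P (C x)))
    (hX : ∀ l, f (ev π P (X l)) = g (ev π P (X l))) : f = g := by
  have h : f.comp (ev π P).toRingHom = g.comp (ev π P).toRingHom := MvPolynomial.ringHom_ext hC hX
  refine Algebra.TensorProduct.ringHom_ext (RingHom.ext fun x => ?_) (RingHom.ext fun b => ?_)
  · have := RingHom.congr_fun h (C x)
    simpa [ev_C] using this
  · obtain ⟨q, rfl⟩ := hπ b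
    have := RingHom.congr_fun h (MvPolynomial.map (algebraMap A₀ P) q)
    simpa [ev_map] using this

/-- Base change of a quotient of a polynomial ring. -/
theorem exists_quotEquiv {R S : Type u} [CommRing R] [CommRing S] [Algebra R S] {n : ℕ}
    (I : Ideal (MvPolynomial (Fin n) R)) :
    Nonempty (S ⊗[R] (MvPolynomial (Fin n) R ⧸ I) ≃ₐ[S]
      MvPolynomial (Fin n) S ⧸ I.map (MvPolynomial.map (algebraMap R S))) := by
  refine ⟨(Algebra.TensorProduct.tensorQuotientEquiv S (MvPolynomial (Fin n) R) S I).trans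
    (Ideal.quotientEquivAlg _ _ (MvPolynomial.algebraTensorAlgEquiv R S) ?_)⟩
  refine Eq.trans ?_ (Ideal.map_map (I := I)
    (Algebra.TensorProduct.includeRight (R := R) (A := S)
      (B := MvPolynomial (Fin n) R)).toRingHom
    (MvPolynomial.algebraTensorAlgEquiv R S (σ := Fin n)).toAlgHom.toRingHom).symm
  congr 1
  ext <;> simp [MvPolynomial.algebraTensorAlgEquiv_tmul]

/-- A flat model gives the lifting of generizations. -/
theorem genPair_of_model {n : ℕ} (π : MvPolynomial (Fin n) A₀ →ₐ[A₀] B) (hπ : Function.Surjective π)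
    {s : Finset (MvPolynomial (Fin n) A₀)}
    (hs : Ideal.span (s : Set (MvPolynomial (Fin n) A₀)) = RingHom.ker π.toRingHom)
    {R : Type u} [CommRing R] (J : Ideal (MvPolynomial (Fin n) R))
    [Module.Flat R (MvPolynomial (Fin n) R ⧸ J)]
    (g₀ : MvPolynomial (Fin n) A₀ → MvPolynomial (Fin n) R) (hg₀J : ∀ g ∈ s, g₀ g ∈ J)
    (M : Ideal R) (hJ : J ≤ (Ideal.span (g₀ '' s) ⊔ M.map (C : R →+* _)).radical)
    {V : Type u} [CommRing V] [IsDomain V] [IsLocalRing V] [Algebra A₀ V] [Algebra R V]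
    (hg₀ : ∀ g ∈ s, MvPolynomial.map (algebraMap R V) (g₀ g) =
      MvPolynomial.map (algebraMap A₀ V) g)
    (hM : ∀ r ∈ M, algebraMap R V r ∈ maximalIdeal V) : GenPair A₀ B V (maximalIdeal V) := by
  intro q' hq' hq'm
  haveI := hq'
  let mapV : MvPolynomial (Fin n) R →+* MvPolynomial (Fin n) V := MvPolynomial.map (algebraMap R V)
  let qk : V ⊗[A₀] B →+* (V ⊗[A₀] B) ⧸ q' := Ideal.Quotient.mk q'
  let κP : MvPolynomial (Fin n) V →+* (V ⊗[A₀] B) ⧸ q' := qk.comp (ev π V).toRingHom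
  have hzero : ∀ g ∈ s, ev π V (mapV (g₀ g)) = 0 := fun g hg => by
    show ev π V (MvPolynomial.map (algebraMap R V) (g₀ g)) = 0
    rw [hg₀ g hg, ev_map, show π g = 0 from
      (hs ▸ Ideal.subset_span hg : g ∈ RingHom.ker π.toRingHom), tmul_zero]
  have hker : J.map mapV ≤ RingHom.ker κP := by
    rw [Ideal.map_le_iff_le_comap]
    refine hJ.trans ?_
    haveI : (RingHom.ker κP).IsPrime := RingHom.ker_isPrime _
    refine (Ideal.IsPrime.comap mapV).radical_le_iff.mpr (sup_le ?_ ?_)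
    · rw [Ideal.span_le]
      rintro _ ⟨g, hg, rfl⟩
      show qk (ev π V (mapV (g₀ g))) = 0
      rw [hzero g hg, map_zero]
    · rw [Ideal.map_le_iff_le_comap]
      intro r hr
      show qk (ev π V (MvPolynomial.map (algebraMap R V) (C r))) = 0
      rw [map_C, ev_C]
      have h1 := hM r hr
      rw [← hq'm] at h1
      exact Ideal.Quotient.eq_zero_iff_mem.mpr h1
  let E := MvPolynomial (Fin n) V ⧸ J.map mapV
  haveI : Module.Flat V E := by
    obtain ⟨e⟩ := exists_quotEquiv (S := V) J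
    exact Module.Flat.of_linearEquiv e.symm.toLinearEquiv
  let κ : E →+* (V ⊗[A₀] B) ⧸ q' := Ideal.Quotient.lift _ κP fun x hx => hker hx
  let Q' : Ideal E := RingHom.ker κ
  haveI : Q'.IsPrime := RingHom.ker_isPrime _
  haveI : Q'.LiesOver (maximalIdeal V) := ⟨by
    rw [← hq'm]
    ext x
    show _ ↔ κP (C x) = 0
    show x ⊗ₜ[A₀] (1 : B) ∈ q' ↔ qk (ev π V (C x)) = 0
    rw [ev_C]
    exact (Ideal.Quotient.eq_zero_iff_mem (I := q')).symm⟩
  haveI : Algebra.HasGoingDown V E := Algebra.HasGoingDown.of_flat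
  obtain ⟨Q, hQle, hQp, hQ0⟩ :=
    Ideal.exists_ideal_le_liesOver_of_le (p := (⊥ : Ideal V)) (q := maximalIdeal V) Q' bot_le
  obtain ⟨f, hfX⟩ := exists_lift_of_relations π hπ hs (E := E)
      (fun l => Ideal.Quotient.mk (J.map mapV) (X l)) fun g hg => by
    have h0 : Ideal.Quotient.mkₐ V (J.map mapV) (MvPolynomial.map (algebraMap A₀ V) g) = 0 := by
      rw [← hg₀ g hg]
      exact Ideal.Quotient.eq_zero_iff_mem.mpr (Ideal.mem_map_of_mem _ (hg₀J g hg))
    refine Eq.trans ?_ h0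
    rw [aeval_unique (Ideal.Quotient.mkₐ V (J.map mapV)), aeval_map_algebraMap]
    rfl
  let ψ : V ⊗[A₀] B →ₐ[A₀] E :=
    Algebra.TensorProduct.lift (IsScalarTower.toAlgHom A₀ V E) f fun _ _ => Commute.all _ _
  have hψC : ∀ x, ψ (ev π V (C x)) = algebraMap V E x := fun x => by
    rw [ev_C, Algebra.TensorProduct.lift_tmul, map_one, mul_one]
    rfl
  have hψ : κ.comp ψ.toRingHom = qk := by
    refine tensor_ext π hπ _ _ (fun x => ?_) fun l => ?_
    · show κ (ψ (ev π V (C x))) = _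
      rw [hψC]
      rfl
    · show κ (ψ (ev π V (X l))) = _
      rw [ev_X, Algebra.TensorProduct.lift_tmul, map_one, one_mul, hfX]
      show qk (ev π V (X l)) = _
      rw [ev_X]
  refine ⟨Q.comap ψ, Ideal.IsPrime.comap _, fun x hx => ?_, ?_⟩
  · exact Ideal.Quotient.eq_zero_iff_mem.mp ((RingHom.congr_fun hψ x).symm.trans (hQle hx))
  · rw [hQ0.over]
    ext x
    show ψ (x ⊗ₜ 1) ∈ Q ↔ _
    rw [← ev_C π, hψC]
    rfl

/-- Coefficients in a subring give polynomials over it. -/
theorem exists_map_eq {W : Type u} [CommRing W] (R : Subalgebra ℤ W) {n : ℕ}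
    (p : MvPolynomial (Fin n) W) (hp : ∀ k, p.coeff k ∈ R) :
    ∃ p₀ : MvPolynomial (Fin n) R, MvPolynomial.map (algebraMap R W) p₀ = p := by
  refine ⟨∑ k ∈ p.support, monomial k ⟨_, hp k⟩, ?_⟩
  rw [map_sum]
  conv_rhs => rw [as_sum p]
  exact Finset.sum_congr rfl fun k _ => map_monomial _ _ _

/-- Over a valuation ring, lifting generizations has witnesses. -/
theorem hasGenWitness_of_genPair [Algebra.FinitePresentation A₀ B] {W : Type u} [CommRing W]
    [IsDomain W] [ValuationRing W] [Algebra A₀ W]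
    (h : GenPair A₀ B W (maximalIdeal W)) : HasGenWitness B (algebraMap A₀ W) := by
  classical
  obtain ⟨n, π, hπ, s, hs⟩ := Algebra.FinitePresentation.out (R := A₀) (A := B)
  let θp : MvPolynomial (Fin n) A₀ →+* MvPolynomial (Fin n) W := MvPolynomial.map (algebraMap A₀ W)
  have hπ0 : ∀ g ∈ s, π g = 0 := fun g hg =>
    (hs ▸ Ideal.subset_span hg : g ∈ RingHom.ker π.toRingHom)
  let JW : Ideal (MvPolynomial (Fin n) W) :=
    { carrier := {p | ∃ w : W, w ≠ 0 ∧ algebraMap W (W ⊗[A₀] B) w * ev π W p = 0}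
      zero_mem' := ⟨1, one_ne_zero, by simp⟩
      add_mem' := fun {a b} ⟨w, hw, ha⟩ ⟨w', hw', hb⟩ => ⟨w * w', mul_ne_zero hw hw', by
        rw [map_add, map_mul, mul_add, mul_right_comm, ha, zero_mul, mul_assoc, hb, mul_zero,
          add_zero]⟩
      smul_mem' := fun c {a} ⟨w, hw, ha⟩ => ⟨w, hw, by
        rw [smul_eq_mul, map_mul, mul_left_comm, ha, mul_zero]⟩ }
  have hJW : ∀ p, p ∈ JW ↔ ∃ w : W, w ≠ 0 ∧ algebraMap W (W ⊗[A₀] B) w * ev π W p = 0 :=
    fun _ => Iff.rfl
  haveI : Module.Flat W (MvPolynomial (Fin n) W ⧸ JW) := by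
    refine Module.Flat.flat_iff_torsion_eq_bot_of_isBezout.mpr ((eq_bot_iff).mpr ?_)
    rintro x ⟨⟨a, ha⟩, hx⟩
    obtain ⟨p, rfl⟩ := Ideal.Quotient.mk_surjective x
    have h1 : Ideal.Quotient.mk JW (a • p) = 0 := by
      refine Eq.trans ?_ hx
      rfl
    obtain ⟨w, hw, hwp⟩ := (hJW _).mp (Ideal.Quotient.eq_zero_iff_mem.mp h1)
    rw [Submodule.mem_bot, Ideal.Quotient.eq_zero_iff_mem, hJW]
    refine ⟨w * a, mul_ne_zero hw (nonZeroDivisors.ne_zero ha), ?_⟩
    rw [map_mul, mul_assoc, ← Algebra.smul_def a, ← map_smul]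
    exact hwp
  haveI : Algebra.FinitePresentation W (MvPolynomial (Fin n) W ⧸ JW) :=
    Groth.L09.Nagata.finitePresentation_of_flat
  obtain ⟨J, hJ⟩ : JW.FG := by
    have := Algebra.FinitePresentation.ker_fG_of_surjective
      (Ideal.Quotient.mkₐ W JW) Ideal.Quotient.mk_surjective
    rwa [show RingHom.ker (Ideal.Quotient.mkₐ W JW).toRingHom = JW from Ideal.mk_ker] at this
  have hsJ : ∀ g ∈ s, θp g ∈ JW := fun g hg => ⟨1, one_ne_zero, by
    rw [map_one, one_mul, ev_map, hπ0 g hg, tmul_zero]⟩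
  have hrad : JW ≤ (Ideal.span (θp '' s) ⊔
      (maximalIdeal W).map (C : W →+* MvPolynomial (Fin n) W)).radical := by
    intro p hp
    rw [Ideal.radical_eq_sInf, Submodule.mem_sInf]
    rintro P ⟨hP, hPprime⟩
    haveI := hPprime
    let qP := Ideal.Quotient.mkₐ W P
    obtain ⟨f, hfX⟩ := exists_lift_of_relations π hπ hs (E := MvPolynomial (Fin n) W ⧸ P)
        (fun l => qP (X l)) fun g hg => by
      have h1 : qP (θp g) = 0 := Ideal.Quotient.eq_zero_iff_mem.mpr
        (hP (Ideal.mem_sup_left (Ideal.subset_span ⟨g, hg, rfl⟩)))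
      refine Eq.trans ?_ h1
      show _ = qP (MvPolynomial.map (algebraMap A₀ W) g)
      rw [aeval_unique qP, aeval_map_algebraMap]
      simp only [aeval_X, Function.comp_apply]
      rfl
    let Φ : W ⊗[A₀] B →ₐ[A₀] MvPolynomial (Fin n) W ⧸ P :=
      Algebra.TensorProduct.lift (IsScalarTower.toAlgHom A₀ W (MvPolynomial (Fin n) W ⧸ P)) f
        fun _ _ => Commute.all _ _
    have hΦC : ∀ w, Φ (ev π W (C w)) = qP (C w) := fun w => by
      rw [ev_C, Algebra.TensorProduct.lift_tmul, map_one, mul_one]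
      rfl
    have hΦ : Φ.toRingHom.comp (ev π W).toRingHom = qP.toRingHom :=
      MvPolynomial.ringHom_ext hΦC fun l => by
        show Φ (ev π W (X l)) = qP (X l)
        rw [ev_X, Algebra.TensorProduct.lift_tmul, map_one, one_mul, hfX]
    haveI hq' : (RingHom.ker Φ).IsPrime := RingHom.ker_isPrime _
    have hq'm : (RingHom.ker Φ).comap
        (Algebra.TensorProduct.includeLeft (S := A₀) : W →ₐ[A₀] W ⊗[A₀] B) = maximalIdeal W := by
      refine ((IsLocalRing.maximalIdeal.isMaximal W).eq_of_le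
        (Ideal.IsPrime.comap _).ne_top fun w hw => ?_).symm
      show Φ (w ⊗ₜ[A₀] (1 : B)) = 0
      rw [← ev_C π, hΦC]
      exact Ideal.Quotient.eq_zero_iff_mem.mpr
        (hP (Ideal.mem_sup_right (Ideal.mem_map_of_mem _ hw)))
    obtain ⟨q, hq, hqq', hq0⟩ := h _ hq' hq'm
    obtain ⟨w, hw, hwp⟩ := (hJW p).mp hp
    rcases hq.mem_or_mem (show algebraMap W (W ⊗[A₀] B) w * ev π W p ∈ q by
      rw [hwp]; exact zero_mem _) with h1 | h1
    · have h2 : w ∈ q.comap (Algebra.TensorProduct.includeLeft (S := A₀) :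
          W →ₐ[A₀] W ⊗[A₀] B) := h1
      rw [hq0, Submodule.mem_bot] at h2
      exact absurd h2 hw
    · exact Ideal.Quotient.eq_zero_iff_mem.mp ((RingHom.congr_fun hΦ p).symm.trans (hqq' h1))
  -- descend the finitely many elements
  let sW : Finset (MvPolynomial (Fin n) W) := s.image θp
  have hex : ∀ g : J, ∃ (N : ℕ) (a : sW → MvPolynomial (Fin n) W) (v : MvPolynomial (Fin n) W),
      (∀ k, v.coeff k ∈ maximalIdeal W) ∧
        ∑ i, a i * (i : MvPolynomial (Fin n) W) + v = (g : MvPolynomial (Fin n) W) ^ N := by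
    intro g
    obtain ⟨N, hN⟩ := hrad (hJ ▸ Ideal.subset_span g.2 : (g : MvPolynomial (Fin n) W) ∈ JW)
    rw [← Finset.coe_image] at hN
    obtain ⟨u, hu, v, hv, e⟩ := Submodule.mem_sup.mp hN
    obtain ⟨a, ha⟩ := Submodule.mem_span_finset'.mp hu
    exact ⟨N, a, v, MvPolynomial.mem_map_C_iff.mp hv, by simpa [smul_eq_mul] using ha.symm ▸ e⟩
  choose N u v hvm huv using hex
  choose b hb using fun g : s => (Submodule.mem_span_finset'.mp
    (hJ ▸ hsJ g g.2 : θp g ∈ Ideal.span (J : Set (MvPolynomial (Fin n) W))))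
  let co : MvPolynomial (Fin n) W → Finset W := fun p => p.support.image fun k => p.coeff k
  let all : Finset (MvPolynomial (Fin n) W) :=
    J ∪ Finset.univ.image v ∪ Finset.univ.image (fun x : J × sW => u x.1 x.2) ∪
      Finset.univ.image (fun x : s × J => b x.1 x.2)
  let coefA : Finset A₀ := s.biUnion fun g => g.support.image fun k => g.coeff k
  let R₀ : Subalgebra ℤ W :=
    Algebra.adjoin ℤ ((all.biUnion co ∪ coefA.image (algebraMap A₀ W) : Finset W) : Set W)
  haveI : Algebra.FiniteType ℤ R₀ := R₀.fg_iff_finiteType.mp ⟨_, rfl⟩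
  haveI : IsNoetherianRing R₀ := Algebra.FiniteType.isNoetherianRing ℤ R₀
  have hall : ∀ p ∈ all, ∀ k, p.coeff k ∈ R₀ := fun p hp k => by
    by_cases hk : k ∈ p.support
    · exact Algebra.subset_adjoin (Finset.mem_union_left _
        (Finset.mem_biUnion.mpr ⟨p, hp, Finset.mem_image_of_mem _ hk⟩))
    · rw [notMem_support_iff.mp hk]; exact zero_mem _
  have hA : ∀ a ∈ coefA, algebraMap A₀ W a ∈ R₀ := fun a ha =>
    Algebra.subset_adjoin (Finset.mem_union_right _ (Finset.mem_image_of_mem _ ha))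
  let lift₀ : A₀ → R₀ := fun a => if ha : a ∈ coefA then ⟨_, hA a ha⟩ else 0
  choose gJ hgJ using fun g : J => exists_map_eq R₀ (g : MvPolynomial (Fin n) W)
    (hall _ (by simp [all, g.2]))
  let J₀ : Ideal (MvPolynomial (Fin n) R₀) := Ideal.span (Set.range gJ)
  haveI : Algebra.FinitePresentation R₀ (MvPolynomial (Fin n) R₀ ⧸ J₀) :=
    Algebra.FinitePresentation.quotient (Submodule.fg_span (Set.finite_range gJ))
  have hJ₀ : J₀.map (MvPolynomial.map (algebraMap R₀ W)) = JW := by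
    rw [Ideal.map_span, ← hJ]
    congr 1
    ext x
    constructor
    · rintro ⟨_, ⟨g, rfl⟩, rfl⟩
      rw [hgJ]; exact g.2
    · exact fun hx => ⟨_, ⟨⟨x, hx⟩, rfl⟩, hgJ ⟨x, hx⟩⟩
  haveI : Module.Flat W (W ⊗[R₀] (MvPolynomial (Fin n) R₀ ⧸ J₀)) := by
    obtain ⟨e⟩ := exists_quotEquiv (S := W) J₀
    haveI : Module.Flat W (MvPolynomial (Fin n) W ⧸ J₀.map (MvPolynomial.map (algebraMap R₀ W))) :=
      hJ₀.symm ▸ inferInstance
    exact Module.Flat.of_linearEquiv e.toLinearEquiv
  obtain ⟨A₁, hle, hA₁, hflat⟩ :=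
    exists_fg_flat_stage R₀ ⟨_, rfl⟩ (MvPolynomial (Fin n) R₀ ⧸ J₀)
  letI : Algebra R₀ A₁ := (Subalgebra.inclusion hle).toRingHom.toAlgebra
  haveI : Algebra.FiniteType ℤ A₁ := A₁.fg_iff_finiteType.mp hA₁
  haveI : Module.Flat A₁ (A₁ ⊗[R₀] (MvPolynomial (Fin n) R₀ ⧸ J₀)) := hflat
  let J₁ : Ideal (MvPolynomial (Fin n) A₁) := J₀.map (MvPolynomial.map (algebraMap R₀ A₁))
  haveI : Module.Flat A₁ (MvPolynomial (Fin n) A₁ ⧸ J₁) := by
    obtain ⟨e⟩ := exists_quotEquiv (S := A₁) J₀
    exact Module.Flat.of_linearEquiv e.symm.toLinearEquiv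
  let lift₁ : A₀ → A₁ := fun a => Subalgebra.inclusion hle (lift₀ a)
  let g₁ : MvPolynomial (Fin n) A₀ → MvPolynomial (Fin n) A₁ := fun g =>
    ∑ k ∈ g.support, monomial k (lift₁ (g.coeff k))
  have hcoef : ∀ g ∈ s, ∀ k ∈ g.support, g.coeff k ∈ coefA := fun g hg k hk =>
    Finset.mem_biUnion.mpr ⟨g, hg, Finset.mem_image_of_mem _ hk⟩
  have hlift : ∀ a ∈ coefA, (lift₁ a : W) = algebraMap A₀ W a := fun a ha => by
    simp only [lift₁, lift₀, dif_pos ha]
    rfl
  let map₁ : MvPolynomial (Fin n) A₁ →+* MvPolynomial (Fin n) W :=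
    MvPolynomial.map (algebraMap A₁ W)
  have hinj : Function.Injective map₁ := MvPolynomial.map_injective _ Subtype.val_injective
  have hg₁ : ∀ g ∈ s, map₁ (g₁ g) = θp g := fun g hg => by
    rw [map_sum]
    conv_rhs => rw [as_sum g, map_sum]
    refine Finset.sum_congr rfl fun k hk => ?_
    exact (map_monomial _ _ _).trans ((congrArg _ (hlift _ (hcoef g hg k hk))).trans
      (map_monomial _ _ _).symm)
  have hJ₁ : J₁.map map₁ = JW := by
    rw [← hJ₀, Ideal.map_map]
    congr 1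
    exact MvPolynomial.ringHom_ext (fun r => by simp [map₁]; rfl) fun l => by simp [map₁]
  have hup : ∀ p ∈ all, ∃ p₁ : MvPolynomial (Fin n) A₁, map₁ p₁ = p := fun p hp =>
    exists_map_eq A₁ p fun k => hle (hall p hp k)
  let M₁ : Ideal A₁ := Ideal.comap (algebraMap A₁ W) (maximalIdeal W)
  have hgJ₁ : ∀ g : J, map₁ (MvPolynomial.map (algebraMap R₀ A₁) (gJ g)) = g := fun g => by
    show MvPolynomial.map _ (MvPolynomial.map _ _) = _
    rw [MvPolynomial.map_map]
    exact hgJ g
  choose b₁ hb₁ using fun (g : s) (i : J) => hup (b g i) (by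
    simp only [all, Finset.mem_union]
    exact Or.inr (Finset.mem_image.mpr ⟨(g, i), Finset.mem_univ _, rfl⟩))
  choose u₁ hu₁ using fun (g : J) (i : sW) => hup (u g i) (by
    simp only [all, Finset.mem_union]
    exact Or.inl (Or.inr (Finset.mem_image.mpr ⟨(g, i), Finset.mem_univ _, rfl⟩)))
  choose v₁ hv₁ using fun g : J => hup (v g) (by
    simp only [all, Finset.mem_union]
    exact Or.inl (Or.inl (Or.inr (Finset.mem_image.mpr ⟨g, Finset.mem_univ _, rfl⟩))))
  have hsJ₁ : ∀ g ∈ s, g₁ g ∈ J₁ := fun g hg => by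
    have : g₁ g = ∑ i, b₁ ⟨g, hg⟩ i * MvPolynomial.map (algebraMap R₀ A₁) (gJ i) := hinj (by
      rw [hg₁ g hg, map_sum, ← hb ⟨g, hg⟩]
      exact Finset.sum_congr rfl fun i _ => by rw [map_mul, hb₁, hgJ₁, smul_eq_mul])
    rw [this]
    exact Ideal.sum_mem _ fun i _ =>
      Ideal.mul_mem_left _ _ (Ideal.mem_map_of_mem _ (Ideal.subset_span ⟨i, rfl⟩))
  obtain ⟨M, hM⟩ : M₁.FG := by
    haveI : IsNoetherianRing A₁ := Algebra.FiniteType.isNoetherianRing ℤ A₁
    exact IsNoetherian.noetherian _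
  have hJ₁rad : J₁ ≤ (Ideal.span (g₁ '' s) ⊔ M₁.map (C : A₁ →+* _)).radical := by
    rw [Ideal.map_le_iff_le_comap, Ideal.span_le]
    rintro _ ⟨g, rfl⟩
    refine ⟨N g, ?_⟩
    have e : MvPolynomial.map (algebraMap R₀ A₁) (gJ g) ^ N g =
        (∑ i, u₁ g i * g₁ (Finset.mem_image.mp i.2).choose) + v₁ g := hinj (by
      rw [map_pow, hgJ₁, ← huv g, map_add, hv₁, map_sum]
      congr 1
      refine Finset.sum_congr rfl fun i _ => ?_
      rw [map_mul, hu₁, hg₁ _ (Finset.mem_image.mp i.2).choose_spec.1,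
        (Finset.mem_image.mp i.2).choose_spec.2])
    rw [e]
    refine add_mem (Ideal.mem_sup_left (Ideal.sum_mem _ fun i _ => Ideal.mul_mem_left _ _
      (Ideal.subset_span ⟨_, (Finset.mem_image.mp i.2).choose_spec.1, rfl⟩)))
      (Ideal.mem_sup_right (MvPolynomial.mem_map_C_iff.mpr fun k => ?_))
    show algebraMap A₁ W ((v₁ g).coeff k) ∈ maximalIdeal W
    rw [← coeff_map]
    show (map₁ (v₁ g)).coeff k ∈ _
    rw [hv₁]
    exact hvm g k
  refine ⟨A₁, inferInstance, A₁.val.toRingHom, coefA.image (fun a => (a, lift₁ a)), M,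
    Algebra.FinitePresentation.of_finiteType.mp inferInstance, ?_, ?_, ?_⟩
  · intro x hx
    obtain ⟨a, ha, rfl⟩ := Finset.mem_image.mp hx
    exact hlift a ha
  · intro r hr
    have : r ∈ M₁ := hM ▸ Ideal.subset_span hr
    exact this
  intro V _ _ _ _ _ hF hMV
  refine genPair_of_model π hπ hs J₁ g₁ hsJ₁ M₁ hJ₁rad (fun g hg => ?_) fun r hr => ?_
  · rw [map_sum]
    conv_rhs => rw [as_sum g, map_sum]
    refine Finset.sum_congr rfl fun k hk => ?_
    exact (map_monomial _ _ _).trans ((congrArg _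
      (hF (g.coeff k, lift₁ (g.coeff k)) (Finset.mem_image_of_mem _ (hcoef g hg k hk)))).trans
      (map_monomial _ _ _).symm)
  · rw [← hM] at hr
    exact (Ideal.span_le (I := (maximalIdeal V).comap (algebraMap A₁ V))).mpr hMV hr

section Stage

variable {ι : Type u} [Preorder ι] [IsDirectedOrder ι] [Nonempty ι] {G : ι → Type u}
  [∀ i, CommRing (G i)] (g : ∀ i j, i ≤ j → G i →+* G j)

/-- An ultraproduct of valuation rings receiving members of a filtered system receives the whole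
system, and almost all factors receive what a finitely presented ring over it receives. -/
theorem exists_ultra
    (gcomp : ∀ i j k (hij : i ≤ j) (hjk : j ≤ k) (x : G i),
      g j k hjk (g i j hij x) = g i k (hij.trans hjk) x)
    (α : ∀ i, A₀ →+* G i) (hα : ∀ i j h, (g i j h).comp (α i) = α j)
    (V : ι → Type u) [∀ p, CommRing (V p)] [∀ p, IsDomain (V p)] [∀ p, ValuationRing (V p)]
    (ψ : ∀ p, G p →+* V p) :
    ∃ (W : Type u) (_ : CommRing W) (_ : IsDomain W) (_ : ValuationRing W) (θ : ∀ i, G i →+* W),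
      (∀ i j h, (θ j).comp (g i j h) = θ i) ∧
      ∀ (i : ι) (R : Type u) [CommRing R] [Algebra.FinitePresentation ℤ R] (γ : R →+* W)
        (F : Finset (A₀ × R)) (M : Finset R), (∀ x ∈ F, γ x.2 = θ i (α i x.1)) →
        (∀ r ∈ M, γ r ∈ maximalIdeal W) →
        ∃ p, ∃ χ : R →+* V p, (∀ x ∈ F, χ x.2 = ψ p (α p x.1)) ∧
          ∀ r ∈ M, χ r ∈ maximalIdeal (V p) := by
  classical
  let U : Ultrafilter ι := Ultrafilter.of Filter.atTop
  have hU : ∀ i, ∀ᶠ p in (U : Filter ι), i ≤ p := fun i =>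
    Ultrafilter.of_le Filter.atTop (Filter.eventually_ge_atTop i)
  let I : Ideal (∀ p, V p) :=
    { carrier := {x | ∀ᶠ p in (U : Filter ι), x p = 0}
      zero_mem' := Filter.Eventually.of_forall fun _ => rfl
      add_mem' := fun {a b} ha hb => by
        filter_upwards [ha, hb] with p h1 h2
        rw [Pi.add_apply, h1, h2, add_zero]
      smul_mem' := fun c {a} ha => by
        filter_upwards [ha] with p h1
        rw [smul_eq_mul, Pi.mul_apply, h1, mul_zero] }
  have hI : ∀ x, x ∈ I ↔ ∀ᶠ p in (U : Filter ι), x p = 0 := fun _ => Iff.rfl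
  haveI hIp : I.IsPrime := by
    refine ⟨fun h => ?_, fun {a b} hab => ?_⟩
    · obtain ⟨p, hp⟩ := ((hI 1).mp ((Ideal.eq_top_iff_one I).mp h)).exists
      exact one_ne_zero hp
    · rw [hI, hI, ← Ultrafilter.eventually_or]
      exact ((hI _).mp hab).mono fun p hp => mul_eq_zero.mp hp
  haveI : ValuationRing ((∀ p, V p) ⧸ I) := by
    rw [ValuationRing.iff_dvd_total]
    refine ⟨fun a b => ?_⟩
    obtain ⟨a, rfl⟩ := Ideal.Quotient.mk_surjective a
    obtain ⟨b, rfl⟩ := Ideal.Quotient.mk_surjective b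
    have aux : ∀ c d : (∀ p, V p), (∀ᶠ p in (U : Filter ι), c p ∣ d p) →
        Ideal.Quotient.mk I c ∣ Ideal.Quotient.mk I d := fun c d h => by
      refine ⟨Ideal.Quotient.mk I (fun p => if h : c p ∣ d p then h.choose else 0), ?_⟩
      rw [← map_mul, Ideal.Quotient.eq, hI]
      filter_upwards [h] with p hp
      simp only [Pi.sub_apply, Pi.mul_apply, dif_pos hp]
      exact sub_eq_zero.mpr hp.choose_spec
    rcases (Ultrafilter.eventually_or (f := U)).mp (Filter.Eventually.of_forall fun p =>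
      (ValuationRing.iff_dvd_total.mp inferInstance).total (a p) (b p)) with h | h
    · exact Or.inl (aux a b h)
    · exact Or.inr (aux b a h)
  let e : ∀ i, G i → ∀ p, V p := fun i x p => if h : i ≤ p then ψ p (g i p h x) else 0
  let θ : ∀ i, G i →+* (∀ p, V p) ⧸ I := fun i =>
    { toFun := fun x => Ideal.Quotient.mk I (e i x)
      map_one' := by
        rw [← map_one (Ideal.Quotient.mk I), Ideal.Quotient.eq, hI]
        filter_upwards [hU i] with p hp
        simp [e, hp]
      map_mul' := fun x y => by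
        rw [← map_mul, Ideal.Quotient.eq, hI]
        filter_upwards [hU i] with p hp
        simp [e, hp]
      map_zero' := by
        rw [Ideal.Quotient.eq_zero_iff_mem, hI]
        filter_upwards [hU i] with p hp
        simp [e, hp]
      map_add' := fun x y => by
        rw [← map_add, Ideal.Quotient.eq, hI]
        filter_upwards [hU i] with p hp
        simp [e, hp] }
  have hθ : ∀ i j h, (θ j).comp (g i j h) = θ i := fun i j h => RingHom.ext fun x => by
    show Ideal.Quotient.mk I (e j (g i j h x)) = Ideal.Quotient.mk I (e i x)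
    rw [Ideal.Quotient.eq, hI]
    filter_upwards [hU j] with p hp
    simp [e, hp, h.trans hp, gcomp]
  refine ⟨(∀ p, V p) ⧸ I, inferInstance, inferInstance, inferInstance, θ, hθ,
    fun i₀ R _ _ γ F M hγ hM => ?_⟩
  choose y hy using fun r : M => Ideal.Quotient.mk_surjective (γ r.1)
  let θA : MvPolynomial M A₀ →+* ∀ p, V p :=
    MvPolynomial.eval₂Hom (Pi.ringHom fun p => (ψ p).comp (α p)) y
  have hyp : ∀ r : M, ∀ᶠ p in (U : Filter ι), y r p ∈ maximalIdeal (V p) := by
    intro r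
    by_contra hr
    rw [← Ultrafilter.eventually_not] at hr
    have hu : IsUnit (Ideal.Quotient.mk I (y r)) := by
      refine IsUnit.of_mul_eq_one (Ideal.Quotient.mk I fun p => if h : IsUnit (y r p) then ↑h.unit⁻¹ else 0) ?_
      rw [← map_mul, ← map_one (Ideal.Quotient.mk I), Ideal.Quotient.eq, hI]
      filter_upwards [hr] with p hp
      have hp' : IsUnit (y r p) := by simpa [IsLocalRing.mem_maximalIdeal] using hp
      simp [dif_pos hp']
    rw [hy] at hu
    exact (hM r.1 r.2) hu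
  have hF : ∀ x ∈ F.image (fun x => (MvPolynomial.C x.1, x.2)) ∪
      Finset.univ.image (fun r : M => (MvPolynomial.X r, r.1)),
      γ x.2 = Ideal.Quotient.mk I (θA x.1) := by
    intro x hx
    rcases Finset.mem_union.mp hx with h | h
    · obtain ⟨x, hxF, rfl⟩ := Finset.mem_image.mp h
      rw [hγ x hxF]
      show Ideal.Quotient.mk I (e i₀ (α i₀ x.1)) = _
      rw [Ideal.Quotient.eq, hI]
      filter_upwards [hU i₀] with p hp
      refine sub_eq_zero.mpr ?_
      simp only [e, dif_pos hp, θA, eval₂Hom_C]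
      exact congrArg (ψ p) (RingHom.congr_fun (hα i₀ p hp) x.1)
    · obtain ⟨r, -, rfl⟩ := Finset.mem_image.mp h
      simp only [θA, eval₂Hom_X']
      exact (hy r).symm
  obtain ⟨p, ⟨χ, hχ⟩, hp⟩ :=
    ((Groth.L09.SubtrDescent.eventually_lift U hI γ θA _ hF).and
      (Filter.eventually_all.mpr hyp)).exists
  refine ⟨p, χ, fun x hx => ?_, fun r hr => ?_⟩
  · rw [hχ (MvPolynomial.C x.1, x.2) (Finset.mem_union_left _ (Finset.mem_image_of_mem _ hx))]
    simp [θA, Pi.ringHom_apply]; rfl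
  · rw [hχ (MvPolynomial.X ⟨r, hr⟩, r)
      (Finset.mem_union_right _ (Finset.mem_image.mpr ⟨⟨r, hr⟩, Finset.mem_univ _, rfl⟩))]
    simpa [θA] using hp ⟨r, hr⟩

/-- **Descent**: if generizations lift over all valuation rings receiving a filtered system
compatibly, they lift over all valuation rings receiving one of its members. -/
theorem exists_stage [Algebra.FinitePresentation A₀ B]
    (gcomp : ∀ i j k (hij : i ≤ j) (hjk : j ≤ k) (x : G i),
      g j k hjk (g i j hij x) = g i k (hij.trans hjk) x)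
    (α : ∀ i, A₀ →+* G i) (hα : ∀ i j h, (g i j h).comp (α i) = α j)
    (H : ∀ (W : Type u) [CommRing W] [IsDomain W] [ValuationRing W] (θ : ∀ i, G i →+* W),
      (∀ i j h, (θ j).comp (g i j h) = θ i) → ∀ i,
        letI := ((θ i).comp (α i)).toAlgebra
        GenPair A₀ B W (maximalIdeal W)) :
    ∃ i, ∀ (V : Type u) [CommRing V] [IsDomain V] [ValuationRing V] (ψ : G i →+* V),
        letI := (ψ.comp (α i)).toAlgebra
        GenPair A₀ B V (maximalIdeal V) := by
  by_contra hcon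
  push Not at hcon
  choose V _ _ _ ψ hψ using hcon
  obtain ⟨W, _, _, _, θ, hθ, htr⟩ := exists_ultra g gcomp α hα V ψ
  obtain ⟨i₀⟩ := ‹Nonempty ι›
  letI : Algebra A₀ W := ((θ i₀).comp (α i₀)).toAlgebra
  obtain ⟨R, _, γ, F, M, _, hγ, hM, hf⟩ := hasGenWitness_of_genPair (H W θ hθ i₀)
  obtain ⟨p, χ, hχ, hχM⟩ := htr i₀ R γ F M hγ hM
  letI : Algebra A₀ (V p) := ((ψ p).comp (α p)).toAlgebra
  letI : Algebra R (V p) := χ.toAlgebra
  exact hψ p (hf (V p) hχ hχM)

end Stage

end Groth.L09.GenDescent
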