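import Groth.Agent.L09.TorsorSch
import Groth.Prelude.Def_Pi1
import Groth.Agent.L21.NormalAffine
import Groth.Agent.L18.ExtendCodimOne
import Groth.Agent.L23.Descent
import Mathlib.AlgebraicGeometry.Morphisms.Integral
import Mathlib.AlgebraicGeometry.SpreadingOut
import Mathlib.RingTheory.DedekindDomain.Dvr

/-!
# Sections over the generic point extend
-/

set_option autoImplicit false
set_option linter.style.haveILetI false
set_option backward.isDefEq.respectTransparency.types false

universe u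

open CategoryTheory CategoryTheory.Limits AlgebraicGeometry TopologicalSpace

noncomputable section

namespace Groth.L09.GenericSection

variable {X Y : Scheme.{u}}

theorem genericPoint_mem [IsIntegral X] (U : X.Opens) [Nonempty U] : genericPoint X ∈ U :=
  ((genericPoint_spec X).mem_open_set_iff U.isOpen).mpr (by
    obtain ⟨⟨x, hx⟩⟩ := ‹Nonempty U›
    exact ⟨x, trivial, hx⟩)

theorem range_fromSpecStalk_generic [IsIntegral X] (U : X.Opens) [Nonempty U] :
    Set.range (X.fromSpecStalk (genericPoint X)) ⊆ (U : Set X) := by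
  rw [Scheme.range_fromSpecStalk]
  exact fun y hy => (show y ⤳ genericPoint X from hy).mem_open U.2 (genericPoint_mem U)

/-- The generic point as a point of an open subscheme. -/
def genOf [IsIntegral X] (U : X.Opens) [Nonempty U] :
    Spec (X.presheaf.stalk (genericPoint X)) ⟶ U :=
  IsOpenImmersion.lift U.ι (X.fromSpecStalk (genericPoint X))
    (by rw [Scheme.Opens.range_ι]; exact range_fromSpecStalk_generic U)

theorem isDominant_genOf [IsIntegral X] (U : X.Opens) [Nonempty U] : IsDominant (genOf U) := by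
  refine ⟨fun z => ?_⟩
  rw [mem_closure_iff]
  intro O hO hzO
  refine ⟨genOf U (IsLocalRing.closedPoint _), ?_, Set.mem_range_self _⟩
  refine Specializes.mem_open ?_ hO hzO
  refine U.ι.isOpenEmbedding.isInducing.specializes_iff.mp ?_
  have e : U.ι (genOf U (IsLocalRing.closedPoint _)) = genericPoint X := by
    rw [← Scheme.Hom.comp_apply, genOf, IsOpenImmersion.lift_fac, Scheme.fromSpecStalk_closedPoint]
  rw [e]
  exact genericPoint_specializes _

theorem eq_of_generic [IsIntegral X] (π : Y ⟶ X) [IsSeparated π] (W : X.Opens) [Nonempty W]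
    (p q : (W : Scheme.{u}) ⟶ Y) (h : p ≫ π = q ≫ π) (h' : genOf W ≫ p = genOf W ≫ q) : p = q :=
  haveI := isDominant_genOf W
  ext_of_isDominant_of_isSeparated π h (genOf W) h'

theorem genOf_homOfLE [IsIntegral X] {U V : X.Opens} [Nonempty U] [Nonempty V] (h : U ≤ V) :
    genOf U ≫ X.homOfLE h = genOf V := by
  rw [← cancel_mono V.ι, Category.assoc, Scheme.homOfLE_ι, genOf, genOf, IsOpenImmersion.lift_fac,
    IsOpenImmersion.lift_fac]

/-- Over a normal affine open a section of an integral morphism extends from the generic point. -/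
theorem exists_section_affine [IsIntegral X] (hX : Pi1.IsNormalScheme X) (π : Y ⟶ X) [IsIntegralHom π]
    (s : Spec (X.presheaf.stalk (genericPoint X)) ⟶ Y) (hs : s ≫ π = X.fromSpecStalk _)
    (U : X.Opens) (hU : IsAffineOpen U) [Nonempty U] :
    ∃ t : (U : Scheme.{u}) ⟶ Y, t ≫ π = U.ι ∧ genOf U ≫ t = s := by
  let K := X.presheaf.stalk (genericPoint X)
  have hV : IsAffineOpen (π ⁻¹ᵁ U) := hU.preimage π
  have hsr : Set.range s ⊆ Set.range hV.fromSpec := by
    rw [hV.range_fromSpec]
    rintro _ ⟨k, rfl⟩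
    show π (s k) ∈ U
    rw [← Scheme.Hom.comp_apply, hs]
    exact range_fromSpecStalk_generic U ⟨k, rfl⟩
  obtain ⟨ψ, hψ⟩ := Spec.map_surjective (IsOpenImmersion.lift hV.fromSpec s hsr)
  let φ := π.appLE U (π ⁻¹ᵁ U) le_rfl
  let γ := X.presheaf.germ U (genericPoint X) (genericPoint_mem U)
  have hj : Spec.map γ ≫ hU.fromSpec = X.fromSpecStalk _ :=
    hU.fromSpecStalk_eq_fromSpecStalk (genericPoint_mem U)
  have hγ : φ ≫ ψ = γ := by
    refine Spec.map_injective ?_
    rw [← cancel_mono hU.fromSpec, Spec.map_comp, Category.assoc, hj,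
      IsAffineOpen.SpecMap_appLE_fromSpec π hU hV le_rfl, hψ, IsOpenImmersion.lift_fac_assoc, hs]
  have hinj : Function.Injective γ.hom := germ_injective_of_isIntegral _ _ _
  haveI := Groth.L21.isIntegrallyClosed_of_normal hX hU
  haveI := functionField_isFractionRing_of_isAffineOpen X U hU
  have hint : φ.hom.IsIntegral := by
    have := π.isIntegral_app U hU
    rwa [Scheme.Hom.app_eq_appLE] at this
  have hrange : ∀ b, ∃ x, γ.hom x = ψ.hom b := fun b => by
    obtain ⟨p, hp, hp'⟩ := hint b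
    have hb : IsIntegral Γ(X, U) (show X.functionField from ψ.hom b) := by
      refine ⟨p, hp, ?_⟩
      rw [show algebraMap Γ(X, U) X.functionField = (φ ≫ ψ).hom by rw [hγ]; rfl,
        CommRingCat.hom_comp, ← Polynomial.hom_eval₂, hp', map_zero]
    exact IsIntegrallyClosed.isIntegral_iff.mp hb
  choose χ hχ using hrange
  let χ' : Γ(Y, π ⁻¹ᵁ U) ⟶ Γ(X, U) := CommRingCat.ofHom
    { toFun := χ
      map_one' := hinj (by rw [hχ, map_one, map_one])
      map_mul' := fun a b => hinj (by rw [hχ, map_mul, map_mul, hχ, hχ])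
      map_zero' := hinj (by rw [hχ, map_zero, map_zero])
      map_add' := fun a b => hinj (by rw [hχ, map_add, map_add, hχ, hχ]) }
  have hid : φ ≫ χ' = 𝟙 _ := by
    ext a
    refine hinj ?_
    show γ.hom (χ (φ.hom a)) = γ.hom a
    rw [hχ, ← CommRingCat.comp_apply, hγ]
  refine ⟨hU.isoSpec.hom ≫ Spec.map χ' ≫ hV.fromSpec, ?_, ?_⟩
  · rw [Category.assoc, Category.assoc, ← IsAffineOpen.SpecMap_appLE_fromSpec π hU hV le_rfl,
      ← Spec.map_comp_assoc, hid, Spec.map_id, Category.id_comp, hU.isoSpec_hom_fromSpec]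
  · have e : genOf U ≫ hU.isoSpec.hom = Spec.map γ := by
      rw [← cancel_mono hU.fromSpec, Category.assoc, hU.isoSpec_hom_fromSpec, hj, genOf,
        IsOpenImmersion.lift_fac]
    rw [reassoc_of% e, ← Spec.map_comp_assoc,
      show χ' ≫ γ = ψ from CommRingCat.hom_ext (RingHom.ext hχ), hψ, IsOpenImmersion.lift_fac]

/-- A section of an integral morphism to a normal integral scheme extends from the generic point. -/
theorem exists_section [IsIntegral X] (hX : Pi1.IsNormalScheme X) (π : Y ⟶ X) [IsIntegralHom π]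
    (s : Spec (X.presheaf.stalk (genericPoint X)) ⟶ Y) (hs : s ≫ π = X.fromSpecStalk _) :
    ∃ t : X ⟶ Y, t ≫ π = 𝟙 X := by
  let ι := {U : X.Opens // IsAffineOpen U ∧ Nonempty U}
  let U : ι → X.Opens := fun i => i.1
  haveI : ∀ i, Nonempty (U i) := fun i => i.2.2
  have hU : ⨆ i, U i = ⊤ := top_le_iff.mp fun x _ => by
    obtain ⟨_, ⟨V, hV, rfl⟩, hxV, -⟩ :=
      X.isBasis_affineOpens.exists_subset_of_mem_open (Set.mem_univ x) isOpen_univ
    exact Opens.mem_iSup.mpr ⟨⟨V, hV, ⟨⟨x, hxV⟩⟩⟩, hxV⟩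
  choose t ht htg using fun i : ι => exists_section_affine hX π s hs (U i) i.2.1
  let 𝒰 := X.openCoverOfIsOpenCover U hU
  have hglue : ∀ a b : ι, pullback.fst (U a).ι (U b).ι ≫ t a = pullback.snd (U a).ι (U b).ι ≫ t b := by
    intro a b
    refine (cancel_epi (isPullback_opens_inf (U a) (U b)).isoPullback.hom).mp ?_
    rw [IsPullback.isoPullback_hom_fst_assoc, IsPullback.isoPullback_hom_snd_assoc]
    haveI : Nonempty (U a ⊓ U b : X.Opens) :=
      ⟨⟨genericPoint X, genericPoint_mem (U a), genericPoint_mem (U b)⟩⟩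
    refine eq_of_generic π _ _ _ ?_ ?_
    · rw [Category.assoc, Category.assoc, ht, ht, Scheme.homOfLE_ι, Scheme.homOfLE_ι]
    · rw [reassoc_of% (genOf_homOfLE (inf_le_left : U a ⊓ U b ≤ U a)),
        reassoc_of% (genOf_homOfLE (inf_le_right : U a ⊓ U b ≤ U b)), htg, htg]
  refine ⟨𝒰.glueMorphisms t hglue, 𝒰.hom_ext _ _ fun a => ?_⟩
  rw [← Category.assoc, Category.comp_id]
  exact (congrArg (· ≫ π) (𝒰.ι_glueMorphisms t hglue a)).trans (ht a)

/-- A section of an integral morphism to a normal integral scheme extends uniquely as given from the generic point. -/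
theorem exists_section_eq [IsIntegral X] (hX : Pi1.IsNormalScheme X) (π : Y ⟶ X) [IsIntegralHom π]
    (s : Spec (X.presheaf.stalk (genericPoint X)) ⟶ Y) (hs : s ≫ π = X.fromSpecStalk _) :
    ∃ t : X ⟶ Y, t ≫ π = 𝟙 X ∧ X.fromSpecStalk (genericPoint X) ≫ t = s := by
  let ι := {U : X.Opens // IsAffineOpen U ∧ Nonempty U}
  let U : ι → X.Opens := fun i => i.1
  haveI : ∀ i, Nonempty (U i) := fun i => i.2.2
  have hU : ⨆ i, U i = ⊤ := top_le_iff.mp fun x _ => by
    obtain ⟨_, ⟨V, hV, rfl⟩, hxV, -⟩ :=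
      X.isBasis_affineOpens.exists_subset_of_mem_open (Set.mem_univ x) isOpen_univ
    exact Opens.mem_iSup.mpr ⟨⟨V, hV, ⟨⟨x, hxV⟩⟩⟩, hxV⟩
  choose t ht htg using fun i : ι => exists_section_affine hX π s hs (U i) i.2.1
  let 𝒰 := X.openCoverOfIsOpenCover U hU
  have hglue : ∀ a b : ι, pullback.fst (U a).ι (U b).ι ≫ t a = pullback.snd (U a).ι (U b).ι ≫ t b := by
    intro a b
    refine (cancel_epi (isPullback_opens_inf (U a) (U b)).isoPullback.hom).mp ?_
    rw [IsPullback.isoPullback_hom_fst_assoc, IsPullback.isoPullback_hom_snd_assoc]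
    haveI : Nonempty (U a ⊓ U b : X.Opens) :=
      ⟨⟨genericPoint X, genericPoint_mem (U a), genericPoint_mem (U b)⟩⟩
    refine eq_of_generic π _ _ _ ?_ ?_
    · rw [Category.assoc, Category.assoc, ht, ht, Scheme.homOfLE_ι, Scheme.homOfLE_ι]
    · rw [reassoc_of% (genOf_homOfLE (inf_le_left : U a ⊓ U b ≤ U a)),
        reassoc_of% (genOf_homOfLE (inf_le_right : U a ⊓ U b ≤ U b)), htg, htg]
  obtain ⟨x⟩ : Nonempty X := ⟨genericPoint X⟩
  obtain ⟨a₀, -⟩ := Opens.mem_iSup.mp (hU.ge (Opens.mem_top x))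
  refine ⟨𝒰.glueMorphisms t hglue, 𝒰.hom_ext _ _ fun a => ?_, ?_⟩
  swap
  · rw [show X.fromSpecStalk (genericPoint X) = genOf (U a₀) ≫ (U a₀).ι from
      (IsOpenImmersion.lift_fac _ _ _).symm, Category.assoc]
    exact (congrArg (genOf (U a₀) ≫ ·) (𝒰.ι_glueMorphisms t hglue a₀)).trans (htg a₀)
  rw [← Category.assoc, Category.comp_id]
  exact (congrArg (· ≫ π) (𝒰.ι_glueMorphisms t hglue a)).trans (ht a)

/-- Sections of proper-like morphisms extend over a scheme with valuation ring stalks. -/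
theorem exists_section_valuation [IsIntegral X] [IsLocallyNoetherian X] (π : Y ⟶ X) [LocallyOfFiniteType π] [IsSeparated π]
    (hcl : IsClosedMap π.base)
    (hT : ∀ x : X, ∃ (_ : IsDomain (X.presheaf.stalk x)), ValuationRing (X.presheaf.stalk x))
    (s : Spec (X.presheaf.stalk (genericPoint X)) ⟶ Y) (hs : s ≫ π = X.fromSpecStalk _) :
    ∃ t : X ⟶ Y, t ≫ π = 𝟙 X := by
  obtain ⟨V, hV, f, -, hf⟩ := spread_out_of_isGermInjective' (𝟙 X) π s (by rw [hs, Category.comp_id])
  rw [Category.comp_id] at hf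
  have hd : Dense (V : Set X) := fun z => mem_closure_iff.mpr fun O hO hzO =>
    ⟨genericPoint X, ((genericPoint_spec X).mem_open_set_iff hO).mpr ⟨z, trivial, hzO⟩, hV⟩
  obtain ⟨U, hVU, s', hs', -, hall⟩ :=
    Groth.L18.Codim1.exists_extension π hcl V hd f hf Set.univ fun x _ => hT x
  obtain rfl : U = ⊤ := top_le_iff.mp fun x _ => hall x trivial
  exact ⟨X.topIso.inv ≫ s', by rw [Category.assoc, hs', ← Scheme.topIso_hom, Iso.inv_hom_id]⟩

end Groth.L09.GenericSection
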