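import Groth.Agent.L09.TorsorPts
import Groth.Agent.L26.Neron.Basic
import Groth.Prelude.Def_ActBC
import Mathlib.AlgebraicGeometry.ValuativeCriterion
import Mathlib.RingTheory.Valuation.LocalSubring

/-!
# Extending equivariant maps of torsors from the generic fibre
-/

universe u

open CategoryTheory CategoryTheory.Limits MonoidalCategory CartesianMonoidalCategory MonObj
  AlgebraicGeometry

namespace Groth.L09.GenericTorsor

open Groth.L09.TorsorPts

variable {S : Scheme.{u}} {G P Q K W : Over S} [GrpObj G]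

/-- Pseudo-torsors in terms of points. -/
lemma relPseudo_of_isPseudo {a : AlgGrp.Action G P} (h : NonAbH1.IsPseudoTorsorSch a) :
    RelPseudo a (toUnit P) where
  inv := toUnit_unique _ _
  uniq {Z} x y _ := by
    haveI : IsIso (lift a.act (snd G P)) := h
    let k := lift x y ≫ inv (lift a.act (snd G P))
    have hk : k ≫ lift a.act (snd G P) = lift x y := by
      simp only [k, Category.assoc, IsIso.inv_hom_id, Category.comp_id]
    have h2 : k ≫ snd G P = y := by
      simpa [Category.assoc] using congrArg (· ≫ snd P P) hk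
    refine ⟨k ≫ fst G P, ?_, fun g hg => ?_⟩
    · show sm a (k ≫ fst G P) y = x
      rw [← h2, sm, ← comp_lift, lift_fst_snd, Category.comp_id]
      simpa [Category.assoc] using congrArg (· ≫ fst P P) hk
    · have : lift g y = k := by
        rw [← cancel_mono (lift a.act (snd G P)), hk, comp_lift, lift_snd]
        exact congrArg (lift · y) hg
      rw [← this, lift_fst]

/-- An equivariant map over a subterminal object extends, given compatible points over a cover
which is determined by the subterminal object. -/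
theorem exists_equivariant {aP : AlgGrp.Action G P} {aQ : AlgGrp.Action G Q}
    (hP : RelPseudo aP (toUnit P)) (hK : ∀ {Z : Over S} (k k' : Z ⟶ K), k = k')
    (hW : Groth.L25.Covers.Cov (toUnit W)) (s : W ⟶ P) (y : W ⟶ Q) (θ : P ⊗ K ⟶ Q)
    (hθ : ∀ {Z : Over S} (g : Z ⟶ G) (x : Z ⟶ P) (k : Z ⟶ K),
      lift (sm aP g x) k ≫ θ = sm aQ g (lift x k ≫ θ))
    (hy : fst W K ≫ y = lift (fst W K ≫ s) (snd W K) ≫ θ)
    (hdet : ∀ f g : (P ⊗ W) ⊗ W ⟶ Q, fst ((P ⊗ W) ⊗ W) K ≫ f = fst _ K ≫ g → f = g) :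
    ∃ f : P ⟶ Q, aP.act ≫ f = (G ◁ f) ≫ aQ.act := by
  obtain ⟨ψ, hψdef⟩ : ∃ ψ : P ⊗ W ⟶ Q,
      ψ = sm aQ (hP.div (fst P W) (snd P W ≫ s) (toUnit_unique _ _)) (snd P W ≫ y) := ⟨_, rfl⟩
  have hψ : ∀ {Z : Over S} (x : Z ⟶ P) (w : Z ⟶ W),
      lift x w ≫ ψ = sm aQ (hP.div x (w ≫ s) (toUnit_unique _ _)) (w ≫ y) := by
    intro Z x w
    have e : lift x w ≫ hP.div (fst P W) (snd P W ≫ s) (toUnit_unique _ _) =
        hP.div x (w ≫ s) (toUnit_unique _ _) := by
      apply hP.eq_div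
      have := congrArg (lift x w ≫ ·)
        (hP.sm_div (fst P W) (snd P W ≫ s) (toUnit_unique _ _))
      rw [comp_sm, lift_fst, lift_snd_assoc] at this
      exact this
    rw [hψdef, comp_sm, e, lift_snd_assoc]
  have key : ∀ {Z : Over S} (x : Z ⟶ P) (w : Z ⟶ W) (k : Z ⟶ K),
      lift x w ≫ ψ = lift x k ≫ θ := by
    intro Z x w k
    have hwy : w ≫ y = lift (w ≫ s) k ≫ θ := by
      have := congrArg (lift w k ≫ ·) hy
      rw [lift_fst_assoc, ← Category.assoc, comp_lift, lift_fst_assoc, lift_snd] at this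
      exact this
    rw [hψ, hwy, ← hθ, hP.sm_div]
  haveI := (cov_fst hW P).epi
  obtain ⟨⟨_, _⟩, _⟩ := cov_fst hW P
  obtain ⟨f, hf, -⟩ := Groth.L25.Actions.existsUnique_desc (fst P W) ψ (fun Z k₁ k₂ hk => by
    have e : fst (P ⊗ W) W ≫ ψ = lift (fst (P ⊗ W) W ≫ fst P W) (snd (P ⊗ W) W) ≫ ψ := by
      apply hdet
      let X := (P ⊗ W) ⊗ W
      have e1 : fst X K ≫ fst (P ⊗ W) W ≫ ψ =
          lift (fst X K ≫ fst _ _ ≫ fst _ _) (snd X K) ≫ θ := by
        rw [← key _ (fst X K ≫ fst _ _ ≫ snd _ _) (snd X K), ← comp_lift, ← comp_lift,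
          lift_fst_snd]
        simp [X]
      have e2 : fst X K ≫ lift (fst (P ⊗ W) W ≫ fst P W) (snd (P ⊗ W) W) ≫ ψ =
          lift (fst X K ≫ fst _ _ ≫ fst _ _) (snd X K) ≫ θ := by
        rw [← key _ (fst X K ≫ snd _ _) (snd X K), ← Category.assoc, comp_lift]
      exact e1.trans e2.symm
    have := congrArg (lift k₁ (k₂ ≫ snd P W) ≫ ·) e
    rw [lift_fst_assoc, ← Category.assoc, comp_lift, lift_fst_assoc, lift_snd, hk,
      ← comp_lift, lift_fst_snd, Category.comp_id] at this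
    exact this)
  refine ⟨f, ?_⟩
  haveI := (cov_fst hW (G ⊗ P)).epi
  rw [← cancel_epi (fst (G ⊗ P) W)]
  let g : (G ⊗ P) ⊗ W ⟶ G := fst _ _ ≫ fst _ _
  let x : (G ⊗ P) ⊗ W ⟶ P := fst _ _ ≫ snd _ _
  let w : (G ⊗ P) ⊗ W ⟶ W := snd _ _
  have hf' : ∀ z : (G ⊗ P) ⊗ W ⟶ P, z ≫ f = lift z w ≫ ψ := fun z => by
    rw [← hf, lift_fst_assoc]
  have h1 : fst (G ⊗ P) W ≫ aP.act ≫ f = sm aP g x ≫ f := by
    rw [← Category.assoc]
    congr 1
    simp only [sm, g, x, ← comp_lift, lift_fst_snd, Category.comp_id]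
  have h2 : fst (G ⊗ P) W ≫ (G ◁ f) ≫ aQ.act = sm aQ g (x ≫ f) := by
    rw [← Category.assoc]
    congr 1
    apply CartesianMonoidalCategory.hom_ext <;> simp [g, x]
  rw [h1, h2, hf', hf', hψ, hψ, ← sm_mul]
  congr 2
  refine (hP.eq_div _ ?_).symm
  rw [sm_mul, hP.sm_div]

section Scheme

/-- Morphisms into a separated scheme are determined by a jointly injective family of points. -/
theorem eq_of_joint {X Y T : Scheme.{u}} {C : CommRingCat.{u}} (e : Spec C ≅ X) {J₀ : Type u}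
    {L : J₀ → CommRingCat.{u}} (φ : ∀ i, C ⟶ L i)
    (hinj : ∀ c, (∀ i, φ i c = 0) → c = 0) (f g : X ⟶ Y) (h : Y ⟶ T) [IsSeparated h]
    (w : f ≫ h = g ≫ h) (he : ∀ i, Spec.map (φ i) ≫ e.hom ≫ f = Spec.map (φ i) ≫ e.hom ≫ g) :
    f = g := by
  refine Groth.Agent.NeronL.eq_of_fac (Sigma.desc fun i => Spec.map (φ i) ≫ e.hom) ?_ f g h w
    (Sigma.hom_ext _ _ fun i => by simpa using he i)
  intro Z c _ l hl
  let c' : Z ⟶ Spec C := c ≫ e.inv
  haveI : IsIso c' := by
    haveI : IsAffine Z := (IsClosedImmersion.isAffine_surjective_of_isAffine c').1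
    apply IsClosedImmersion.isIso_of_injective_of_isAffine
    rw [injective_iff_map_eq_zero]
    intro x hx
    let l' (i : J₀) : Spec (L i) ⟶ Z := Sigma.ι (fun i => Spec (L i)) i ≫ l
    have hl' : ∀ i, l' i ≫ c' = Spec.map (φ i) := fun i => by simp [l', c', reassoc_of% hl]
    suffices (Scheme.ΓSpecIso C).hom x = 0 by
      simpa using congrArg (Scheme.ΓSpecIso C).inv this
    refine hinj _ fun i => ?_
    have h1 : (Spec.map (φ i)).appTop x = 0 := by
      rw [← hl' i, Scheme.Hom.comp_appTop, CommRingCat.comp_apply, hx, map_zero]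
    have h2 := congr($(Scheme.ΓSpecIso_naturality (φ i)) x)
    simp only [CommRingCat.comp_apply] at h2
    rw [← h2, h1, map_zero]
  have : IsIso c := by
    rw [show c = c' ≫ e.hom by simp [c']]
    infer_instance
  exact IsClosedImmersion.isIso_iff_ker_eq_bot.mp this

/-- The valuative criterion for a valuation subring of a field. -/
theorem exists_valuation_lift {R : Type u} [CommRing R] {L : Type u} [Field L] [Algebra R L]
    {X : Scheme.{u}} (π : X ⟶ Spec (CommRingCat.of R)) [UniversallyClosed π]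
    (z : Spec (CommRingCat.of L) ⟶ X)
    (hz : z ≫ π = Spec.map (CommRingCat.ofHom (algebraMap R L)))
    (V : ValuationSubring L) (hV : ∀ r, algebraMap R L r ∈ V.toSubring) :
    ∃ l : Spec (CommRingCat.of V) ⟶ X,
      Spec.map (CommRingCat.ofHom V.subtype) ≫ l = z ∧
      l ≫ π = Spec.map (CommRingCat.ofHom ((algebraMap R L).codRestrict V.toSubring hV)) := by
  have h : ValuativeCriterion.Existence π := by
    have h0 : UniversallyClosed π := ‹_›
    rw [UniversallyClosed.eq_valuativeCriterion] at h0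
    exact h0.1
  have sq : CommSq z (Spec.map (CommRingCat.ofHom (algebraMap V L))) π
      (Spec.map (CommRingCat.ofHom ((algebraMap R L).codRestrict V.toSubring hV))) := ⟨by
    rw [hz, ← Spec.map_comp]; rfl⟩
  obtain ⟨⟨l⟩⟩ := h { R := V, K := L, i₁ := z, i₂ := _, commSq := sq }
  exact ⟨l.l, l.fac_left, l.fac_right⟩

/-- Points in local rings form a point in their product. -/
theorem exists_lift_pi {J₀ : Type u} {X : Scheme.{u}} [CompactSpace X] {V : J₀ → Type u}
    [∀ i, CommRing (V i)] [∀ i, IsLocalRing (V i)]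
    (l : ∀ i, Spec (CommRingCat.of (V i)) ⟶ X) :
    ∃ s : Spec (CommRingCat.of (∀ i, V i)) ⟶ X,
      ∀ i, Spec.map (CommRingCat.ofHom (Pi.evalRingHom V i)) ≫ s = l i := by
  let 𝒰 := X.affineCover.finiteSubcover
  let U (j : 𝒰.I₀) : X.Opens := (𝒰.f j).opensRange
  have hU (j : 𝒰.I₀) : IsAffineOpen (U j) := isAffineOpen_opensRange (𝒰.f j)
  choose j hj using fun i => 𝒰.exists_eq (l i (IsLocalRing.closedPoint (V i)))
  have hr : ∀ i, Set.range (l i) ⊆ Set.range (hU (j i)).fromSpec := by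
    intro i
    rw [(hU (j i)).range_fromSpec]
    rintro _ ⟨v, rfl⟩
    have hc : l i (IsLocalRing.closedPoint (V i)) ∈ U (j i) := by
      obtain ⟨w, hw⟩ := hj i
      exact ⟨w, hw⟩
    exact ((IsLocalRing.specializes_closedPoint v).map (l i).continuous).mem_open (U (j i)).2 hc
  let φ (k : 𝒰.I₀) (i : J₀) (h : j i = k) :=
    Spec.preimage (IsOpenImmersion.lift (hU k).fromSpec (l i) (h ▸ hr i))
  let B (k : 𝒰.I₀) : CommRingCat.{u} := CommRingCat.of (∀ i : {i : J₀ // j i = k}, V i.1)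
  let Φ (k : 𝒰.I₀) : Γ(X, U k) ⟶ B k :=
    CommRingCat.ofHom (RingHom.pi fun i => (φ k i.1 i.2).hom)
  let ρ : (∀ k, B k) →+* ∀ i, V i :=
    RingHom.pi fun i => (Pi.evalRingHom (fun q : {q : J₀ // j q = j i} => V q.1) ⟨i, rfl⟩).comp
      (Pi.evalRingHom (fun k => (B k : Type u)) (j i))
  refine ⟨Spec.map (CommRingCat.ofHom ρ) ≫ inv (sigmaSpec B) ≫
    Sigma.desc (fun k => Spec.map (Φ k) ≫ (hU k).fromSpec), fun i => ?_⟩
  let q : B (j i) ⟶ CommRingCat.of (V i) :=
    CommRingCat.ofHom (Pi.evalRingHom (fun q : {q : J₀ // j q = j i} => V q.1) ⟨i, rfl⟩)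
  have e1 : Spec.map (CommRingCat.ofHom (Pi.evalRingHom V i)) ≫ Spec.map (CommRingCat.ofHom ρ) =
      Spec.map q ≫ Sigma.ι (fun k => Spec (B k)) (j i) ≫ sigmaSpec B := by
    rw [ι_sigmaSpec, ← Spec.map_comp, ← Spec.map_comp]
    rfl
  rw [reassoc_of% e1, IsIso.hom_inv_id_assoc, Sigma.ι_desc, ← Category.assoc, ← Spec.map_comp,
    show Φ (j i) ≫ q = φ (j i) i rfl from rfl, Spec.map_preimage, IsOpenImmersion.lift_fac]

theorem mono_genPt (R : Type u) [CommRing R] [IsDomain R] {Z : Scheme.{u}}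
    (g h : Z ⟶ Spec (CommRingCat.of (FractionRing R)))
    (e : g ≫ Neron.genPt R = h ≫ Neron.genPt R) : g = h := by
  haveI : Epi (CommRingCat.ofHom (algebraMap R (FractionRing R))) :=
    IsLocalization.epi (nonZeroDivisors R) (FractionRing R)
  haveI : Mono (Neron.genPt R) :=
    inferInstanceAs (Mono (Scheme.Spec.map (CommRingCat.ofHom (algebraMap R (FractionRing R))).op))
  exact (cancel_mono _).mp e

end Scheme

end Groth.L09.GenericTorsor
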