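import Groth.Agent.L09.GerbFull

/-!
A functor of a gerbe fixing the automorphism sheaf of a global object is fibrewise the identity.
-/

set_option autoImplicit false
universe v₄ u₄ v₃ u₃ v₂ u₂ v u

open CategoryTheory Category Functor

namespace Groth.L09.Gerb

variable {C : Type u} [Category.{v} C] {J : GrothendieckTopology C}
  {𝒳 : BasedCategory.{v₂, u₂} C}

variable (θ : 𝒳 ⥤ᵇ 𝒳) (h𝒳 : Gerb.IsGerbe J 𝒳) (x : 𝒳.obj)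
  (ht : ∀ U : C, Nonempty (U ⟶ 𝒳.p.obj x))
  (hu : ∀ {U : C} (a b : U ⟶ 𝒳.p.obj x), a = b)
  (g : θ.obj x ⟶ x) (hg : 𝒳.p.IsHomLift (𝟙 (𝒳.p.obj x)) g)
  (hconj : ∀ (z : 𝒳.obj) (c : z ⟶ x) (g' : θ.obj z ⟶ z), 𝒳.p.IsHomLift (𝟙 (𝒳.p.obj z)) g' →
    θ.map c ≫ g = g' ≫ c → ∀ α : Gerb.AutO z, θ.map α.hom.1 ≫ g' = g' ≫ α.hom.1)

include h𝒳 hu hg hconj in
theorem exists_conjugation_family :
    ∃ t : ∀ z : 𝒳.obj, Nonempty (z ⟶ x) → (θ.obj z ⟶ z),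
      (∀ z hz, 𝒳.p.IsHomLift (𝟙 (𝒳.p.obj z)) (t z hz)) ∧
      ∀ (z z' : 𝒳.obj) (hz : Nonempty (z ⟶ x)) (hz' : Nonempty (z' ⟶ x)) (h : z' ⟶ z),
        θ.map h ≫ t z hz = t z' hz' ≫ h := by
  have key : ∀ (z : 𝒳.obj) (c : z ⟶ x), ∃ g' : θ.obj z ⟶ z,
      𝒳.p.IsHomLift (𝟙 (𝒳.p.obj z)) g' ∧ θ.map c ≫ g = g' ≫ c := by
    intro z c
    haveI : 𝒳.p.IsHomLift (𝒳.p.map c) (θ.map c ≫ g) :=
      IsHomLift.comp_lift_id_right 𝒳.p (𝒳.p.map c) (θ.map c) g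
    obtain ⟨χ, hχ, hχ'⟩ := connect h𝒳.1.1 (𝒳.p.map c) (θ.map c ≫ g) c
    exact ⟨χ.hom, hχ, hχ'.symm⟩
  choose g' hg' hfac using key
  have uniq : ∀ (z : 𝒳.obj) (c c' : z ⟶ x), θ.map c' ≫ g = g' z c ≫ c' := by
    intro z c c'
    haveI : 𝒳.p.IsHomLift (𝒳.p.map c) c' := by rw [hu (𝒳.p.map c) (𝒳.p.map c')]; infer_instance
    obtain ⟨χ, hχ, hχ'⟩ := connect h𝒳.1.1 (𝒳.p.map c) c' c
    obtain ⟨β, hβ⟩ := exists_autO h𝒳.1.1 (V := 𝒳.p.obj z) χ.hom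
    have e := hconj z c (g' z c) (hg' z c) (hfac z c) β
    rw [hβ] at e
    rw [← hχ', θ.toFunctor.map_comp, assoc, hfac, reassoc_of% e]
  refine ⟨fun z hz => g' z hz.some, fun z hz => hg' z _, fun z z' hz hz' h => ?_⟩
  haveI := hg' z hz.some
  haveI := hg' z' hz'.some
  haveI := Fib.stronglyCartesian_of_isFibGrpd 𝒳.p h𝒳.1.1 (𝒳.p.map hz.some) hz.some
  haveI : 𝒳.p.IsHomLift (𝒳.p.map h) (θ.map h ≫ g' z hz.some) :=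
    IsHomLift.comp_lift_id_right 𝒳.p (𝒳.p.map h) (θ.map h) (g' z hz.some)
  haveI : 𝒳.p.IsHomLift (𝒳.p.map h) (g' z' hz'.some ≫ h) :=
    IsHomLift.comp_lift_id_left' 𝒳.p (𝒳.p.obj z') (g' z' hz'.some) (𝒳.p.map h) h
  refine IsStronglyCartesian.ext 𝒳.p (𝒳.p.map hz.some) hz.some (𝒳.p.map h) ?_
  rw [assoc, assoc, ← hfac, ← uniq z' hz'.some (h ≫ hz.some), θ.toFunctor.map_comp, assoc]

include h𝒳 ht hu hg hconj in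
theorem exists_fiberwise_iso :
    ∃ ρ : ∀ y : 𝒳.obj, θ.obj y ⟶ y,
      (∀ y, IsIso (ρ y) ∧ 𝒳.p.IsHomLift (𝟙 (𝒳.p.obj y)) (ρ y)) ∧
      (∀ (y y' : 𝒳.obj) (f : y ⟶ y'), 𝒳.p.IsHomLift (𝟙 (𝒳.p.obj y)) f →
        θ.map f ≫ ρ y' = ρ y ≫ f) := by
  obtain ⟨t, htl, htn⟩ := exists_conjugation_family θ h𝒳 x hu g hg hconj
  have := Fib.isFibered_of_isFibGrpd _ h𝒳.1.1
  have key : ∀ y : 𝒳.obj, ∃ (R : Sieve (𝒳.p.obj y)) (ρ : θ.obj y ⟶ y), R ∈ J (𝒳.p.obj y) ∧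
      𝒳.p.IsHomLift (𝟙 (𝒳.p.obj y)) ρ ∧ ∀ ⦃V : C⦄ (f : V ⟶ 𝒳.p.obj y), R f →
        ∀ (z : 𝒳.obj) (p : z ⟶ y), 𝒳.p.IsHomLift f p →
          ∃ hz : Nonempty (z ⟶ x), θ.map p ≫ ρ = t z hz ≫ p := by
    intro y
    obtain ⟨R, hR, hR'⟩ := exists_near x h𝒳 (ht (𝒳.p.obj y)).some y rfl
    let Gy : FibCat.overCat (𝒳.p.obj y) ⥤ᵇ 𝒳 := Fib.ofObj (rfl : 𝒳.p.obj y = 𝒳.p.obj y)
    obtain ⟨ey⟩ := Fib.evalAtId_ofObj (U := 𝒳.p.obj y) (Gerb.fib y)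
    have hey : 𝒳.p.IsHomLift (𝟙 (𝒳.p.obj y)) ey.hom.1 := ey.hom.2
    let py : ∀ c : Over (𝒳.p.obj y), Gy.obj c ⟶ y := fun c =>
      Gy.map (Fib.toTerm c) ≫ ey.hom.1
    have hpy : ∀ c : Over (𝒳.p.obj y), 𝒳.p.IsHomLift c.hom (py c) := fun c =>
      @IsHomLift.comp_lift_id_right _ _ _ _ 𝒳.p _ _ _ _ _ c.hom (Gy.map (Fib.toTerm c))
        (Fib.map_toTerm_sc Gy (Fib.preservesStronglyCartesian_of_isFibGrpd Gy h𝒳.1.1) c).toIsHomLift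
        ey.hom.1 hey
    have hne : ∀ k : (Stk.sieveCat R).obj, Nonempty (Gy.obj k.obj ⟶ x) := fun k => by
      obtain ⟨z, π, c, hπ⟩ := hR' k.obj.hom k.property
      have := hpy k.obj
      obtain ⟨χ, -, -⟩ := connect h𝒳.1.1 k.obj.hom (py k.obj) π
      exact ⟨χ.hom ≫ c⟩
    let γ : (Stk.resSieve R 𝒳).obj (BasedFunctor.comp Gy θ) ⟶ (Stk.resSieve R 𝒳).obj Gy :=
      { app := fun k => t (Gy.obj k.obj) (hne k)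
        naturality := fun k l n => htn _ _ (hne l) (hne k) (Gy.map n.hom)
        isHomLift' := fun k => by
          have h1 := htl (Gy.obj k.obj) (hne k)
          rw [show 𝒳.p.obj (Gy.obj k.obj) = k.obj.left from Gy.w_obj k.obj] at h1
          exact h1 }
    haveI : (Stk.resSieve R 𝒳).IsEquivalence := h𝒳.1.2 R hR
    obtain ⟨α, hα⟩ := (Stk.resSieve R 𝒳).map_surjective γ
    have hαl : 𝒳.p.IsHomLift (𝟙 (𝒳.p.obj y)) (α.toNatTrans.app (Over.mk (𝟙 (𝒳.p.obj y)))) :=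
      α.isHomLift' (Over.mk (𝟙 (𝒳.p.obj y)))
    let m : Gerb.fib y ⟶ (FibCat.evalAtId 𝒳 (𝒳.p.obj y)).obj Gy := ey.inv
    have hinv : 𝒳.p.IsHomLift (𝟙 (𝒳.p.obj y)) (θ.map m.1) :=
      (BasedFunctor.isHomLift_iff θ _ _).2 m.2
    refine ⟨R, θ.map m.1 ≫ α.toNatTrans.app (Over.mk (𝟙 (𝒳.p.obj y))) ≫ ey.hom.1, hR,
      @IsHomLift.comp_lift_id_left' _ _ _ _ 𝒳.p _ _ _ _ (θ.map m.1) hinv _ _ (𝟙 (𝒳.p.obj y)) _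
        (@IsHomLift.comp_lift_id_left' _ _ _ _ 𝒳.p _ _ _ _ _ hαl _ _ (𝟙 (𝒳.p.obj y)) _ hey),
      fun V f hf z p hp => ?_⟩
    let k : (Stk.sieveCat R).obj := ⟨Over.mk f, hf⟩
    have : 𝒳.p.IsHomLift f (py k.obj) := hpy k.obj
    obtain ⟨h, -, hh⟩ := connect h𝒳.1.1 f p (py k.obj)
    refine ⟨⟨h.hom ≫ (hne k).some⟩, ?_⟩
    have hk : α.toNatTrans.app k.obj = t (Gy.obj k.obj) (hne k) :=
      congrArg (fun s => s.toNatTrans.app k) hα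
    have e1 : ey.hom.1 ≫ m.1 = 𝟙 _ := congrArg Subtype.val ey.hom_inv_id
    have e2 : θ.map (py k.obj) ≫ θ.map m.1 = θ.map (Gy.map (Fib.toTerm k.obj)) :=
      (θ.toFunctor.map_comp _ _).symm.trans
        (congrArg θ.map ((assoc _ _ _).trans ((congrArg (_ ≫ ·) e1).trans (comp_id _))))
    have e3 : θ.map (py k.obj) ≫ θ.map m.1 ≫ α.toNatTrans.app (Over.mk (𝟙 (𝒳.p.obj y))) ≫ ey.hom.1 =
        t (Gy.obj k.obj) (hne k) ≫ py k.obj :=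
      (assoc _ _ _).symm.trans ((congrArg (· ≫ _) e2).trans ((assoc _ _ _).symm.trans
        ((congrArg (· ≫ ey.hom.1) ((α.toNatTrans.naturality (Fib.toTerm k.obj)).trans
          (congrArg (· ≫ Gy.map (Fib.toTerm k.obj)) hk))).trans (assoc _ _ _))))
    rw [← hh, θ.toFunctor.map_comp, assoc, e3, ← assoc, htn _ _ (hne k) _ h.hom, assoc]
  choose R ρ hR hρ hρ' using key
  refine ⟨ρ, fun y => ⟨?_, hρ y⟩, fun y y' f hf => ?_⟩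
  · haveI := hρ y
    exact Fib.isIso_of_isFibGrpd 𝒳.p h𝒳.1.1 (𝟙 (𝒳.p.obj y)) (ρ y)
  have hy' : 𝒳.p.obj y' = 𝒳.p.obj y := IsHomLift.codomain_eq 𝒳.p (𝟙 (𝒳.p.obj y)) f
  haveI := hρ y
  haveI : 𝒳.p.IsHomLift (𝟙 (𝒳.p.obj y)) (ρ y') := hy' ▸ hρ y'
  haveI : 𝒳.p.IsHomLift (𝟙 (𝒳.p.obj y)) (θ.map f ≫ ρ y') :=
    IsHomLift.comp_lift_id_right 𝒳.p (𝟙 _) (θ.map f) (ρ y')
  haveI : 𝒳.p.IsHomLift (𝟙 (𝒳.p.obj y)) (ρ y ≫ f) :=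
    IsHomLift.comp_lift_id_right 𝒳.p (𝟙 _) (ρ y) f
  have hRR : R y ⊓ (R y').pullback (eqToHom hy'.symm) ∈ J (𝒳.p.obj y) :=
    J.intersection_covering (hR y) (J.pullback_stable _ (hR y'))
  refine Groth.L09.Stk.eq_of_locally h𝒳.1.1 (U := 𝒳.p.obj y)
    (R := R y ⊓ (R y').pullback (eqToHom hy'.symm))
    (haveI : (Stk.resSieve (R y ⊓ (R y').pullback (eqToHom hy'.symm)) 𝒳).IsEquivalence :=
      h𝒳.1.2 _ hRR; inferInstance) _ _ fun V f₀ hf₀ => ?_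
  obtain ⟨z, p, hp⟩ := h𝒳.1.1.exists_lift (x := y) f₀
  haveI : 𝒳.p.IsHomLift f₀ (θ.map p) := inferInstance
  refine ⟨θ.obj z, θ.map p, inferInstance, ?_⟩
  obtain ⟨hz, e⟩ := hρ' y f₀ hf₀.1 z p hp
  haveI : 𝒳.p.IsHomLift (f₀ ≫ eqToHom hy'.symm) (p ≫ f) := by
    haveI : 𝒳.p.IsHomLift (eqToHom hy'.symm) f := IsHomLift.of_fac' _ _ _ rfl rfl (by
      simp [IsHomLift.fac' 𝒳.p (𝟙 (𝒳.p.obj y)) f])
    infer_instance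
  obtain ⟨hz', e'⟩ := hρ' y' (f₀ ≫ eqToHom hy'.symm) hf₀.2 z (p ≫ f) inferInstance
  rw [← assoc, ← θ.toFunctor.map_comp, e', reassoc_of% e]

end Groth.L09.Gerb
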