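import Groth.Agent.L09.StkGlue
import Groth.Agent.L09.FibBasic
import Groth.Agent.L09.FibFiberwise

/-!
Lifting functors through fully faithful functors over the base; local essential surjectivity of
fully faithful functors of stacks.
-/

set_option autoImplicit false
universe v₄ u₄ v₃ u₃ v₂ u₂ v u

open CategoryTheory Category Functor

namespace Groth.L09.Stk

variable {C : Type u} [Category.{v} C] {𝒳 : BasedCategory.{v₂, u₂} C} {𝒴 : BasedCategory.{v₃, u₃} C}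
  {𝒜 : BasedCategory.{v₄, u₄} C}

/-- post-composing an isomorphism of functors over the base. -/
def compRightIso {G H : 𝒜 ⥤ᵇ 𝒳} (e : G ≅ H) (F : 𝒳 ⥤ᵇ 𝒴) :
    BasedFunctor.comp G F ≅ BasedFunctor.comp H F where
  hom := BasedCategory.whiskerRight e.hom F
  inv := BasedCategory.whiskerRight e.inv F
  hom_inv_id := by
    apply BasedNatTrans.homCategory.ext
    ext a
    have h : e.hom.toNatTrans.app a ≫ e.inv.toNatTrans.app a = 𝟙 _ :=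
      congrArg (fun t : G ⟶ G => t.toNatTrans.app a) e.hom_inv_id
    exact ((F.toFunctor.map_comp _ _).symm.trans (congrArg F.toFunctor.map h)).trans (F.toFunctor.map_id _)
  inv_hom_id := by
    apply BasedNatTrans.homCategory.ext
    ext a
    have h : e.inv.toNatTrans.app a ≫ e.hom.toNatTrans.app a = 𝟙 _ :=
      congrArg (fun t : H ⟶ H => t.toNatTrans.app a) e.inv_hom_id
    exact ((F.toFunctor.map_comp _ _).symm.trans (congrArg F.toFunctor.map h)).trans (F.toFunctor.map_id _)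

/-- A functor over the base whose values are in the essential image of a fully faithful functor lifts. -/
theorem exists_lift (F : 𝒳 ⥤ᵇ 𝒴) [F.toFunctor.Full] [F.toFunctor.Faithful] (H : 𝒜 ⥤ᵇ 𝒴)
    (h : ∀ a : 𝒜.obj, ∃ (x : 𝒳.obj) (e : F.obj x ≅ H.obj a), 𝒴.p.IsHomLift (𝟙 (𝒜.p.obj a)) e.hom) :
    ∃ L : 𝒜 ⥤ᵇ 𝒳, Nonempty (BasedFunctor.comp L F ≅ H) := by
  choose x e he using h
  have hobj : ∀ a, 𝒳.p.obj (x a) = 𝒜.p.obj a := fun a =>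
    (F.w_obj (x a)).symm.trans (IsHomLift.domain_eq 𝒴.p (𝟙 (𝒜.p.obj a)) (e a).hom)
  let L₀ : 𝒜.obj ⥤ 𝒳.obj :=
    { obj := x
      map := fun {a b} f => F.toFunctor.preimage ((e a).hom ≫ H.map f ≫ (e b).inv)
      map_id := fun a => F.toFunctor.map_injective (by simp)
      map_comp := fun f g => F.toFunctor.map_injective (by simp) }
  have hlift : ∀ {a b : 𝒜.obj} (f : a ⟶ b), 𝒳.p.IsHomLift (𝒜.p.map f) (L₀.map f) := by
    intro a b f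
    rw [← BasedFunctor.isHomLift_iff F]
    simp only [L₀, Functor.map_preimage]
    have := he a
    have := he b
    have : 𝒜.p.IsHomLift (𝒜.p.map f) f := IsHomLift.map 𝒜.p f
    infer_instance
  let L : 𝒜 ⥤ᵇ 𝒳 :=
    { toFunctor := L₀
      w := CategoryTheory.Functor.ext hobj (fun a b f => by
        have := hlift f
        exact IsHomLift.fac' 𝒳.p (𝒜.p.map f) (L₀.map f)) }
  exact ⟨L, ⟨BasedNatIso.mkNatIso (NatIso.ofComponents (fun a => e a)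
    (fun {a b} f => by simp [L, L₀, BasedFunctor.comp])) he⟩⟩

theorem isEquivOver_of_locally (J : GrothendieckTopology C) {𝒳 : BasedCategory.{v₂, u₂} C}
    {𝒴 : BasedCategory.{v₃, u₃} C} (h𝒳 : Stk.IsStack J 𝒳)
    (h𝒴 : Stk.IsStack J 𝒴) (F : 𝒳 ⥤ᵇ 𝒴) [F.toFunctor.Full] [F.toFunctor.Faithful]
    (h : ∀ y : 𝒴.obj, ∃ R ∈ J (𝒴.p.obj y), ∀ ⦃V : C⦄ (f : V ⟶ 𝒴.p.obj y), R f →
      ∃ (x : 𝒳.obj) (φ : F.obj x ⟶ y), 𝒴.p.IsHomLift f φ) :
    FibCat.IsEquivOver F := by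
  have := Fib.isFibered_of_isFibGrpd _ h𝒴.1
  refine Fib.isEquivOver_mk F fun η => ?_
  let U := 𝒴.p.obj η
  obtain ⟨R, hR, hx⟩ := h η
  let G : FibCat.overCat U ⥤ᵇ 𝒴 := Fib.ofObj (rfl : 𝒴.p.obj η = U)
  obtain ⟨ex⟩ := Fib.evalAtId_ofObj (U := U) (⟨η, rfl⟩ : 𝒴.p.Fiber U)
  have hex : 𝒴.p.IsHomLift (𝟙 U) ex.hom.1 := ex.hom.2
  have hG := Fib.preservesStronglyCartesian_of_isFibGrpd G h𝒴.1
  obtain ⟨L, ⟨eL⟩⟩ := exists_lift F (BasedFunctor.comp (Stk.sieveIncl R) G) (fun a => by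
    obtain ⟨x, φ, hφ⟩ := hx a.obj.hom a.property
    have := Fib.map_toTerm_sc G hG a.obj
    let g : G.obj a.obj ⟶ η := G.map (Fib.toTerm a.obj) ≫ ex.hom.1
    have hg : 𝒴.p.IsHomLift a.obj.hom g :=
      @IsHomLift.comp_lift_id_right _ _ _ _ 𝒴.p _ _ _ _ _ a.obj.hom (G.map (Fib.toTerm a.obj))
        inferInstance ex.hom.1 hex
    have := Fib.stronglyCartesian_of_isFibGrpd 𝒴.p h𝒴.1 a.obj.hom g
    have := Fib.stronglyCartesian_of_isFibGrpd 𝒴.p h𝒴.1 a.obj.hom φ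
    exact ⟨x, IsCartesian.domainUniqueUpToIso 𝒴.p a.obj.hom g φ,
      inferInstanceAs (𝒴.p.IsHomLift (𝟙 a.obj.left) (IsCartesian.domainUniqueUpToIso 𝒴.p a.obj.hom g φ).hom)⟩)
  have := h𝒳.2 R hR
  have := h𝒴.2 R hR
  have h1 : (Stk.resSieve R 𝒳).IsEquivalence := h𝒳.2 R hR
  have h2 : (Stk.resSieve R 𝒴).IsEquivalence := h𝒴.2 R hR
  let G' := (Stk.resSieve R 𝒳).objPreimage L
  let e' : (Stk.resSieve R 𝒳).obj G' ≅ L := (Stk.resSieve R 𝒳).objObjPreimageIso L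
  let i : (Stk.resSieve R 𝒴).obj (BasedFunctor.comp G' F) ≅ (Stk.resSieve R 𝒴).obj G :=
    compRightIso e' F ≪≫ eL
  let j : BasedFunctor.comp G' F ≅ G := (Stk.resSieve R 𝒴).preimageIso i
  let jv := (FibCat.evalAtId 𝒴 U).mapIso j ≪≫ ex
  exact ⟨G'.obj (Over.mk (𝟙 U)), ⟨jv.hom.1, jv.inv.1, congrArg Subtype.val jv.hom_inv_id,
    congrArg Subtype.val jv.inv_hom_id⟩, jv.hom.2⟩

theorem locally_of_isEquivOver (J : GrothendieckTopology C) {𝒳 : BasedCategory.{v₂, u₂} C}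
    {𝒴 : BasedCategory.{v₃, u₃} C} (h𝒳 : FibCat.IsFibGrpd 𝒳.p) (F : 𝒳 ⥤ᵇ 𝒴) (hF : FibCat.IsEquivOver F)
    (y : 𝒴.obj) : ∃ R ∈ J (𝒴.p.obj y), ∀ ⦃V : C⦄ (f : V ⟶ 𝒴.p.obj y), R f →
      ∃ (x : 𝒳.obj) (φ : F.obj x ⟶ y), 𝒴.p.IsHomLift f φ := by
  obtain ⟨ξ, e, he⟩ := Fib.exists_iso_over_of_isEquivOver hF y
  have hξ : 𝒳.p.obj ξ = 𝒴.p.obj y :=
    (F.w_obj ξ).symm.trans (IsHomLift.domain_eq 𝒴.p (𝟙 (𝒴.p.obj y)) e.hom)
  refine ⟨⊤, J.top_mem _, fun V f _ => ?_⟩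
  obtain ⟨x, π, hπ⟩ := h𝒳.exists_lift (f ≫ eqToHom hξ.symm)
  have hπ' : 𝒳.p.IsHomLift f π := (IsHomLift.lift_comp_eqToHom_iff 𝒳.p f π hξ.symm).mp hπ
  exact ⟨x, F.map π ≫ e.hom, @IsHomLift.comp_lift_id_right _ _ _ _ 𝒴.p _ _ _ _ _ f (F.map π)
    (by infer_instance) e.hom he⟩

end Groth.L09.Stk
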