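import Groth.Prelude.Def_StGerb2
import Groth.Agent.L09.GerbBasic
import Groth.Agent.L09.StkLift

/-!
Gluing vertical morphisms in stacks; recognising equivalences of gerbes on automorphism groups.
-/

set_option autoImplicit false
universe v₄ u₄ v₃ u₃ v₂ u₂ v u

open CategoryTheory Category Functor

namespace Groth.L09.Gerb

variable {C : Type u} [Category.{v} C] {J : GrothendieckTopology C}
  {𝒳 : BasedCategory.{v₂, u₂} C} {𝒴 : BasedCategory.{v₃, u₃} C}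

/-- A morphism over the identity from an object to itself, as an automorphism. -/
theorem exists_autO (h𝒳 : FibCat.IsFibGrpd 𝒳.p) {z : 𝒳.obj} {V : C} (χ : z ⟶ z)
    [𝒳.p.IsHomLift (𝟙 V) χ] : ∃ α : Gerb.AutO z, α.hom.1 = χ := by
  obtain rfl : 𝒳.p.obj z = V := IsHomLift.domain_eq 𝒳.p (𝟙 V) χ
  haveI : IsGroupoid (𝒳.p.Fiber (𝒳.p.obj z)) := Fib.isGroupoid_fiber_of_isFibGrpd 𝒳.p h𝒳 _
  let χ' : Gerb.fib z ⟶ Gerb.fib z := ⟨χ, inferInstance⟩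
  exact ⟨asIso χ', rfl⟩

/-- A faithful functor of stacks along which morphisms lift locally is full. -/
theorem full_of_faithful_locSurjHom (h𝒳 : Stk.IsStack J 𝒳) (h𝒴 : Stk.IsStack J 𝒴) (F : 𝒳 ⥤ᵇ 𝒴)
    [F.toFunctor.Faithful] (hF : Gerb.LocSurjHom J F) : F.toFunctor.Full := by
  have := Fib.isFibered_of_isFibGrpd _ h𝒳.1
  refine Fib.full_of_fiber F (Fib.preservesStronglyCartesian_of_isFibGrpd F h𝒴.1) fun U => ⟨?_⟩
  intro a b g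
  let x := a.1
  let x' := b.1
  let g₁ : F.obj x ⟶ F.obj x' := g.1
  have hg : 𝒴.p.IsHomLift (𝟙 U) g₁ := g.2
  obtain ⟨R, hR, hR'⟩ := homAt hF a.2 g₁ hg
  let Gx : FibCat.overCat U ⥤ᵇ 𝒳 := Fib.ofObj a.2
  let Gy : FibCat.overCat U ⥤ᵇ 𝒳 := Fib.ofObj b.2
  obtain ⟨ex⟩ := Fib.evalAtId_ofObj a
  obtain ⟨ey⟩ := Fib.evalAtId_ofObj b
  have hex : 𝒳.p.IsHomLift (𝟙 U) ex.hom.1 := ex.hom.2
  have hey : 𝒳.p.IsHomLift (𝟙 U) ey.hom.1 := ey.hom.2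
  let px : ∀ c : Over U, Gx.obj c ⟶ x := fun c => Gx.map (Fib.toTerm c) ≫ ex.hom.1
  let py : ∀ c : Over U, Gy.obj c ⟶ x' := fun c => Gy.map (Fib.toTerm c) ≫ ey.hom.1
  have hpx : ∀ c : Over U, 𝒳.p.IsHomLift c.hom (px c) := fun c =>
    @IsHomLift.comp_lift_id_right _ _ _ _ 𝒳.p _ _ _ _ _ c.hom (Gx.map (Fib.toTerm c))
      (Fib.map_toTerm_sc Gx (Fib.preservesStronglyCartesian_of_isFibGrpd Gx h𝒳.1) c).toIsHomLift
      ex.hom.1 hex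
  have hpy : ∀ c : Over U, 𝒳.p.IsHomLift c.hom (py c) := fun c =>
    @IsHomLift.comp_lift_id_right _ _ _ _ 𝒳.p _ _ _ _ _ c.hom (Gy.map (Fib.toTerm c))
      (Fib.map_toTerm_sc Gy (Fib.preservesStronglyCartesian_of_isFibGrpd Gy h𝒳.1) c).toIsHomLift
      ey.hom.1 hey
  have key : ∀ k : (Stk.sieveCat R).obj, ∃ ψ : Gx.obj k.obj ⟶ Gy.obj k.obj,
      𝒳.p.IsHomLift (𝟙 k.obj.left) ψ ∧ F.map ψ ≫ F.map (py k.obj) = F.map (px k.obj) ≫ g₁ := by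
    intro k
    obtain ⟨x₀, φ, ψ₀, hφ, hψ₀, e⟩ := hR' k.obj.hom k.property
    have := hpx k.obj
    have := hpy k.obj
    obtain ⟨χ, hχ, hχ'⟩ := connect h𝒳.1 k.obj.hom (px k.obj) φ
    obtain ⟨ψ, hψ, hψ'⟩ := connect h𝒳.1 k.obj.hom (χ.hom ≫ ψ₀) (py k.obj)
    refine ⟨ψ.hom, hψ, ?_⟩
    rw [← F.toFunctor.map_comp, hψ', ← hχ', F.toFunctor.map_comp, F.toFunctor.map_comp, assoc, e]
  choose ψ hψ hψ' using key
  let γ : (Stk.resSieve R 𝒳).obj Gx ⟶ (Stk.resSieve R 𝒳).obj Gy :=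
    { app := ψ
      naturality := fun k l n => by
        show Gx.map n.hom ≫ ψ l = ψ k ≫ Gy.map n.hom
        have := hpy l.obj
        have := hψ l
        have := hψ k
        have hn : (FibCat.overCat U).p.IsHomLift n.hom.left n.hom :=
          IsHomLift.map (FibCat.overCat U).p n.hom
        have := Fib.stronglyCartesian_of_isFibGrpd 𝒳.p h𝒳.1 l.obj.hom (py l.obj)
        have et : n.hom ≫ Fib.toTerm l.obj = Fib.toTerm k.obj :=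
          Over.OverMorphism.ext (Over.w n.hom)
        refine IsStronglyCartesian.ext 𝒳.p l.obj.hom (py l.obj) n.hom.left (F.toFunctor.map_injective ?_)
        have ex' : Gx.map n.hom ≫ px l.obj = px k.obj :=
          (assoc _ _ _).symm.trans (congrArg (· ≫ ex.hom.1)
            ((Gx.toFunctor.map_comp _ _).symm.trans (congrArg Gx.map et)))
        have ey' : Gy.map n.hom ≫ py l.obj = py k.obj :=
          (assoc _ _ _).symm.trans (congrArg (· ≫ ey.hom.1)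
            ((Gy.toFunctor.map_comp _ _).symm.trans (congrArg Gy.map et)))
        calc F.map ((Gx.map n.hom ≫ ψ l) ≫ py l.obj)
            = (F.map (Gx.map n.hom) ≫ F.map (ψ l)) ≫ F.map (py l.obj) :=
              (F.toFunctor.map_comp _ _).trans
                (congrArg (· ≫ F.map (py l.obj)) (F.toFunctor.map_comp _ _))
          _ = F.map (Gx.map n.hom) ≫ F.map (px l.obj) ≫ g₁ :=
              (assoc _ _ _).trans (congrArg (F.map (Gx.map n.hom) ≫ ·) (hψ' l))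
          _ = F.map (px k.obj) ≫ g₁ :=
              (assoc _ _ _).symm.trans (congrArg (· ≫ g₁)
                ((F.toFunctor.map_comp _ _).symm.trans (congrArg F.map ex')))
          _ = F.map (ψ k) ≫ F.map (py k.obj) := (hψ' k).symm
          _ = F.map ((ψ k ≫ Gy.map n.hom) ≫ py l.obj) :=
              (F.toFunctor.map_comp _ _).symm.trans
                (congrArg F.map (((congrArg (ψ k ≫ ·) ey').symm).trans (assoc _ _ _).symm))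
      isHomLift' := hψ }
  haveI : (Stk.resSieve R 𝒳).IsEquivalence := h𝒳.2 R hR
  obtain ⟨α, hα⟩ := (Stk.resSieve R 𝒳).map_surjective γ
  let m : a ⟶ b := ex.inv ≫ (FibCat.evalAtId 𝒳 U).map α ≫ ey.hom
  have hm : 𝒳.p.IsHomLift (𝟙 U) m.1 := m.2
  refine ⟨m, Subtype.ext ?_⟩
  show F.map m.1 = g₁
  refine Groth.L09.Stk.eq_of_locally h𝒴.1 (U := U) (R := R)
    (haveI : (Stk.resSieve R 𝒴).IsEquivalence := h𝒴.2 R hR; inferInstance) _ _ fun V f hf => ?_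
  let k : (Stk.sieveCat R).obj := ⟨Over.mk f, hf⟩
  have := hpx k.obj
  refine ⟨F.obj (Gx.obj k.obj), F.map (px k.obj), (BasedFunctor.isHomLift_iff F f _).2 (hpx k.obj), ?_⟩
  rw [← hψ' k, ← F.toFunctor.map_comp, ← F.toFunctor.map_comp]
  congr 1
  have hk : α.toNatTrans.app k.obj = ψ k := congrArg (fun t => t.toNatTrans.app k) hα
  show (Gx.map (Fib.toTerm k.obj) ≫ ex.hom.1) ≫ ex.inv.1 ≫ α.toNatTrans.app (Over.mk (𝟙 U)) ≫ ey.hom.1 =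
    ψ k ≫ Gy.map (Fib.toTerm k.obj) ≫ ey.hom.1
  have e1 : ex.hom.1 ≫ ex.inv.1 = 𝟙 _ := congrArg Subtype.val ex.hom_inv_id
  exact (assoc _ _ _).trans ((congrArg (Gx.map (Fib.toTerm k.obj) ≫ ·)
    ((assoc _ _ _).symm.trans ((congrArg (· ≫ _) e1).trans (id_comp _)))).trans
      ((assoc _ _ _).symm.trans ((congrArg (· ≫ ey.hom.1)
        ((α.toNatTrans.naturality (Fib.toTerm k.obj)).trans
          (congrArg (· ≫ Gy.map (Fib.toTerm k.obj)) hk))).trans (assoc _ _ _))))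

section Global

variable (s : 𝒳.obj)

/-- Objects of a gerbe are locally isomorphic to pullbacks of a global one. -/
theorem exists_near (h𝒳 : Gerb.IsGerbe J 𝒳) {U : C} (t : U ⟶ 𝒳.p.obj s) (x : 𝒳.obj)
    (hx : 𝒳.p.obj x = U) : ∃ R ∈ J U, ∀ ⦃V : C⦄ (f : V ⟶ U), R f →
      ∃ (z : 𝒳.obj) (π : z ⟶ x) (c : z ⟶ s), 𝒳.p.IsHomLift f π := by
  obtain ⟨sU, c, hc⟩ := exists_pull h𝒳.1.1 s rfl t
  have hsU := IsHomLift.domain_eq 𝒳.p t c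
  obtain ⟨R, hR, hR'⟩ := homAt h𝒳.2.2 (x := x) (x' := sU) hx
    (eqToHom (hx.trans hsU.symm))
    (IsHomLift.of_fac' _ _ _ hx hsU (by simp [FibCat.toSelf, FibCat.selfOver, eqToHom_map]))
  refine ⟨R, hR, fun V f hf => ?_⟩
  obtain ⟨z, φ, ψ, hφ, -, -⟩ := hR' f hf
  exact ⟨z, φ, ψ ≫ c, hφ⟩

variable (φ : 𝒳 ⥤ᵇ 𝒴) (h𝒳 : Gerb.IsGerbe J 𝒳) (h𝒴 : Gerb.IsGerbe J 𝒴)
  (ht : ∀ U : C, Nonempty (U ⟶ 𝒳.p.obj s))
  (hφ : ∀ (x : 𝒳.obj) (c : x ⟶ s), Function.Bijective (Gerb.autMap φ x))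

include h𝒳 h𝒴 ht hφ in
theorem faithful_of_autMap : φ.toFunctor.Faithful := by
  have := Fib.isFibered_of_isFibGrpd _ h𝒳.1.1
  refine Fib.faithful_of_fiber φ (Fib.preservesStronglyCartesian_of_isFibGrpd φ h𝒴.1.1)
    fun U => ⟨fun {a b p q} e => Subtype.ext ?_⟩
  have e' : φ.map p.1 = φ.map q.1 := congrArg Subtype.val e
  haveI := p.2
  haveI := q.2
  obtain ⟨R, hR, hR'⟩ := exists_near s h𝒳 (ht U).some a.1 a.2
  refine Groth.L09.Stk.eq_of_locally h𝒳.1.1 (U := U) (R := R)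
    (haveI : (Stk.resSieve R 𝒳).IsEquivalence := h𝒳.1.2 R hR; inferInstance) p.1 q.1 fun V f hf => ?_
  obtain ⟨z, π, c, hπ⟩ := hR' f hf
  refine ⟨z, π, hπ, ?_⟩
  haveI : 𝒳.p.IsHomLift f (π ≫ p.1) := IsHomLift.comp_lift_id_right 𝒳.p f π p.1
  haveI : 𝒳.p.IsHomLift f (π ≫ q.1) := IsHomLift.comp_lift_id_right 𝒳.p f π q.1
  obtain ⟨χ, hχ, hχ'⟩ := connect h𝒳.1.1 f (π ≫ p.1) (π ≫ q.1)
  obtain ⟨α, hα⟩ := exists_autO h𝒳.1.1 (V := V) χ.hom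
  have h1 : φ.map χ.hom = 𝟙 _ := by
    haveI := Fib.stronglyCartesian_of_isFibGrpd 𝒴.p h𝒴.1.1 f (φ.map (π ≫ q.1))
    haveI : 𝒴.p.IsHomLift (𝟙 V) (𝟙 (φ.obj z)) :=
      IsHomLift.id ((φ.w_obj z).trans (IsHomLift.domain_eq 𝒳.p f π))
    refine IsCartesian.ext 𝒴.p f (φ.map (π ≫ q.1)) _ _ ?_
    rw [← φ.toFunctor.map_comp, hχ', id_comp, φ.toFunctor.map_comp, φ.toFunctor.map_comp, e']
  have : α = 1 := (hφ z c).1 (by
    rw [map_one]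
    exact Aut.ext (Fiber.hom_ext ((congrArg (fun t => φ.map t) hα).trans h1)))
  have h2 : χ.hom = 𝟙 z := by rw [← hα, this]; rfl
  rw [← hχ', h2, id_comp]

include h𝒳 h𝒴 ht hφ in
theorem locSurjHom_of_autMap : Gerb.LocSurjHom J φ := by
  intro x x' b hb
  have hx' : 𝒳.p.obj x' = 𝒳.p.obj x :=
    (φ.w_obj x').symm.trans (IsHomLift.codomain_eq 𝒴.p (𝟙 (𝒳.p.obj x)) b)
  obtain ⟨R, hR, hR'⟩ := exists_near s h𝒳 (ht _).some x rfl
  refine exists_bind hR fun V f hf => ?_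
  obtain ⟨z, π, c, hπ⟩ := hR' f hf
  obtain ⟨z', π', hπ'⟩ := exists_pull h𝒳.1.1 x' hx' f
  have hz := IsHomLift.domain_eq 𝒳.p f π
  have hz' := IsHomLift.domain_eq 𝒳.p f π'
  obtain ⟨R', hR₁, hR₂⟩ := homAt h𝒳.2.2 (x := z) (x' := z') hz (eqToHom (hz.trans hz'.symm))
    (IsHomLift.of_fac' _ _ _ hz hz' (by simp [FibCat.toSelf, FibCat.selfOver, eqToHom_map]))
  refine ⟨R', hR₁, fun W g hg => ?_⟩
  obtain ⟨w, u, u', hu, hu', -⟩ := hR₂ g hg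
  haveI : 𝒴.p.IsHomLift (g ≫ f) (φ.map (u ≫ π) ≫ b) :=
    IsHomLift.comp_lift_id_right 𝒴.p (g ≫ f) (φ.map (u ≫ π)) b
  obtain ⟨χ, hχ, hχ'⟩ := connect h𝒴.1.1 (g ≫ f) (φ.map (u ≫ π) ≫ b) (φ.map (u' ≫ π'))
  obtain ⟨β, hβ⟩ := exists_autO h𝒴.1.1 (V := W) χ.hom
  obtain ⟨α, hα⟩ := (hφ w (u ≫ c)).2 β
  have hW : 𝒳.p.obj w = W := IsHomLift.domain_eq 𝒳.p g u
  haveI : 𝒳.p.IsHomLift (𝟙 W) α.hom.1 := by rw [← hW]; exact α.hom.2
  refine ⟨w, u ≫ π, α.hom.1 ≫ u' ≫ π', inferInstance,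
    IsHomLift.comp_lift_id_left' 𝒳.p W α.hom.1 (g ≫ f) (u' ≫ π'), ?_⟩
  rw [φ.toFunctor.map_comp α.hom.1, ← hχ', show φ.map α.hom.1 = χ.hom by
    rw [← hβ, ← hα]; rfl]

include h𝒳 h𝒴 ht hφ in
theorem isEquivOver_of_autMap : FibCat.IsEquivOver φ := by
  haveI := faithful_of_autMap s φ h𝒳 h𝒴 ht hφ
  haveI := full_of_faithful_locSurjHom h𝒳.1 h𝒴.1 φ (locSurjHom_of_autMap s φ h𝒳 h𝒴 ht hφ)
  refine Groth.L09.Stk.isEquivOver_of_locally J h𝒳.1 h𝒴.1 φ fun y => ?_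
  obtain ⟨sU, c, hc⟩ := exists_pull h𝒳.1.1 s rfl (ht (𝒴.p.obj y)).some
  have hsU : 𝒴.p.obj (φ.obj sU) = 𝒴.p.obj y :=
    (φ.w_obj sU).trans (IsHomLift.domain_eq 𝒳.p (ht (𝒴.p.obj y)).some c)
  obtain ⟨R, hR, hR'⟩ := homAt h𝒴.2.2 (x := y) (x' := φ.obj sU) rfl (eqToHom hsU.symm)
    (IsHomLift.of_fac' _ _ _ rfl hsU (by simp [FibCat.toSelf, FibCat.selfOver, eqToHom_map]))
  refine ⟨R, hR, fun V f hf => ?_⟩
  obtain ⟨w, p, q, hp, hq, -⟩ := hR' f hf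
  obtain ⟨z, r, hr⟩ := exists_pull h𝒳.1.1 sU ((φ.w_obj sU).symm.trans hsU) f
  obtain ⟨χ, hχ, -⟩ := connect h𝒴.1.1 f (φ.map r) q
  exact ⟨z, χ.hom ≫ p, IsHomLift.comp_lift_id_left' 𝒴.p V χ.hom f p⟩

end Global

end Groth.L09.Gerb
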