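import Mathlib.CategoryTheory.EffectiveEpi.Comp
import Mathlib.CategoryTheory.MorphismProperty.Limits
import Mathlib.CategoryTheory.MorphismProperty.Basic

/-!
Universally effective epimorphisms.
-/

set_option autoImplicit false
universe v u

open CategoryTheory Category Limits

namespace Groth.L09.UEffEpi

variable {C : Type u} [Category.{v} C]

/-- The property of being a universally effective epimorphism. -/
abbrev UEE : MorphismProperty C :=
  MorphismProperty.universally (fun (A B : C) (p : A ⟶ B) => EffectiveEpi p)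

lemma effectiveEpi {X Y : C} {f : X ⟶ Y} (hf : UEE f) : EffectiveEpi f :=
  MorphismProperty.universally_le _ _ hf

lemma epi {X Y : C} {f : X ⟶ Y} (hf : UEE f) : Epi f := by
  have := effectiveEpi hf; infer_instance

lemma of_isPullback {X Y X' Y' : C} {f : X ⟶ Y} (hf : UEE f) {i₁ : X' ⟶ X} {i₂ : Y' ⟶ Y} {f' : X' ⟶ Y'}
    (h : IsPullback f' i₁ i₂ f) : UEE f' :=
  fun _ _ _ _ _ h' => hf _ _ _ (h'.paste_vert h)

lemma pullback_snd {X Y Y' : C} {f : X ⟶ Y} (hf : UEE f) (g : Y' ⟶ Y) [HasPullback f g] :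
    UEE (pullback.snd f g) :=
  of_isPullback hf (IsPullback.of_hasPullback f g).flip

lemma pullback_fst {X Y Y' : C} {f : X ⟶ Y} (hf : UEE f) (g : Y' ⟶ Y) [HasPullback g f] :
    UEE (pullback.fst g f) :=
  of_isPullback hf (IsPullback.of_hasPullback g f)

lemma universally_epi {X Y : C} {f : X ⟶ Y} (hf : UEE f) :
    MorphismProperty.universally (MorphismProperty.epimorphisms C) f :=
  fun _ _ _ _ _ h => by
    have := hf _ _ _ h
    exact MorphismProperty.epimorphisms.infer_property _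

/-- Build a pullback square from the universal property on morphisms. -/
lemma isPullback_mk {P X Y Z : C} {fst : P ⟶ X} {snd : P ⟶ Y} {f : X ⟶ Z} {g : Y ⟶ Z}
    (w : fst ≫ f = snd ≫ g)
    (h : ∀ {T : C} (a : T ⟶ X) (b : T ⟶ Y), a ≫ f = b ≫ g → ∃ l : T ⟶ P, l ≫ fst = a ∧ l ≫ snd = b)
    (hu : ∀ {T : C} (l m : T ⟶ P), l ≫ fst = m ≫ fst → l ≫ snd = m ≫ snd → l = m) :
    IsPullback fst snd f g :=
  ⟨⟨w⟩, ⟨PullbackCone.isLimitAux' _ fun s => ⟨(h s.fst s.snd s.condition).choose,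
    (h s.fst s.snd s.condition).choose_spec.1, (h s.fst s.snd s.condition).choose_spec.2,
    fun {m} h₁ h₂ => hu m _ (h₁.trans (h s.fst s.snd s.condition).choose_spec.1.symm)
      (h₂.trans (h s.fst s.snd s.condition).choose_spec.2.symm)⟩⟩⟩

variable [HasPullbacks C]

/-- If `v` is universally epi and effective epi, and `u` is effective epi, so is `v ≫ u`. -/
lemma effectiveEpi_comp {U T S : C} (v : U ⟶ T) (u : T ⟶ S) [EffectiveEpi u] [EffectiveEpi v]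
    (hv : MorphismProperty.universally (MorphismProperty.epimorphisms C) v) :
    EffectiveEpi (v ≫ u) := by
  have h1 : ∀ {W : C} (e : U ⟶ W),
      (∀ {Z : C} (g₁ g₂ : Z ⟶ U), g₁ ≫ v ≫ u = g₂ ≫ v ≫ u → g₁ ≫ e = g₂ ≫ e) →
      ∀ {Z : C} (g₁ g₂ : Z ⟶ U), g₁ ≫ v = g₂ ≫ v → g₁ ≫ e = g₂ ≫ e := fun e he Z g₁ g₂ h =>
    he g₁ g₂ (by rw [reassoc_of% h])
  have h2 : ∀ {W : C} (e : U ⟶ W) (he : ∀ {Z : C} (g₁ g₂ : Z ⟶ U), g₁ ≫ v ≫ u = g₂ ≫ v ≫ u → g₁ ≫ e = g₂ ≫ e)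
      {Z : C} (g₁ g₂ : Z ⟶ T), g₁ ≫ u = g₂ ≫ u →
        g₁ ≫ EffectiveEpi.desc v e (h1 e he) = g₂ ≫ EffectiveEpi.desc v e (h1 e he) := by
    intro W e he Z g₁ g₂ h
    let p₁ := pullback.fst g₁ v
    have e₁ : Epi p₁ := hv _ _ _ (IsPullback.of_hasPullback g₁ v)
    let p₂ := pullback.fst (p₁ ≫ g₂) v
    have e₂ : Epi p₂ := hv _ _ _ (IsPullback.of_hasPullback (p₁ ≫ g₂) v)
    rw [← cancel_epi p₁, ← cancel_epi p₂]
    have c₁ : p₂ ≫ p₁ ≫ g₁ = (p₂ ≫ pullback.snd g₁ v) ≫ v := by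
      simp [p₁, pullback.condition]
    have c₂ : p₂ ≫ p₁ ≫ g₂ = pullback.snd (p₁ ≫ g₂) v ≫ v := by
      simp [p₂, pullback.condition]
    rw [reassoc_of% c₁, reassoc_of% c₂]
    simp only [EffectiveEpi.fac]
    rw [← assoc]
    apply he
    rw [← reassoc_of% c₂, ← h, reassoc_of% c₁]
    simp
  refine ⟨⟨⟨fun e he => EffectiveEpi.desc u (EffectiveEpi.desc v e (h1 e fun g₁ g₂ h => he g₁ g₂ h))
      (fun g₁ g₂ h => h2 e (fun g₁ g₂ h => he g₁ g₂ h) g₁ g₂ h), fun e he => ?_, fun e he m hm => ?_⟩⟩⟩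
  · rw [assoc, EffectiveEpi.fac, EffectiveEpi.fac]
  · rw [← cancel_epi u, ← cancel_epi v, EffectiveEpi.fac, EffectiveEpi.fac, ← assoc]
    exact hm

lemma comp {U T S : C} {v : U ⟶ T} {u : T ⟶ S} (hv : UEE v) (hu : UEE u) : UEE (v ≫ u) := by
  intro X' Y' i₁ i₂ f' H
  have := pullback.lift_fst _ _ (H.w.trans (Category.assoc _ _ _).symm)
  rw [← this] at H ⊢
  have e1 : EffectiveEpi (pullback.fst i₂ u) := hu _ _ _ (IsPullback.of_hasPullback _ _)
  have h2 := of_isPullback hv (H.of_right (pullback.lift_snd _ _ _) (IsPullback.of_hasPullback i₂ u))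
  have := effectiveEpi h2
  exact effectiveEpi_comp _ _ (universally_epi h2)

/-- If `v ≫ u` is effective epi and its base change along `u` is epi then `u` is effective epi. -/
lemma effectiveEpi_of_comp {U T S : C} (v : U ⟶ T) (u : T ⟶ S) [EffectiveEpi (v ≫ u)]
    [Epi (pullback.snd (v ≫ u) u)] : EffectiveEpi u := by
  have hu : Epi u := epi_of_epi v u
  have h1 : ∀ {W : C} (e : T ⟶ W),
      (∀ {Z : C} (g₁ g₂ : Z ⟶ T), g₁ ≫ u = g₂ ≫ u → g₁ ≫ e = g₂ ≫ e) →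
      ∀ {Z : C} (g₁ g₂ : Z ⟶ U), g₁ ≫ v ≫ u = g₂ ≫ v ≫ u → g₁ ≫ v ≫ e = g₂ ≫ v ≫ e := fun e he Z g₁ g₂ h => by
    rw [← assoc, ← assoc]
    exact he _ _ (by simpa [assoc] using h)
  refine ⟨⟨⟨fun e he => EffectiveEpi.desc (v ≫ u) (v ≫ e) (h1 e fun g₁ g₂ h => he g₁ g₂ h),
    fun e he => ?_, fun e he m hm => ?_⟩⟩⟩
  · let q := pullback.snd (v ≫ u) u
    rw [← cancel_epi q]
    have hq : (pullback.fst (v ≫ u) u ≫ v) ≫ u = q ≫ u := by rw [assoc]; exact pullback.condition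
    rw [← assoc, ← hq, ← he _ _ hq]
    simp only [assoc]
    rw [← assoc v u, EffectiveEpi.fac]
  · rw [← cancel_epi (v ≫ u), EffectiveEpi.fac, assoc, hm]

lemma of_comp {U T S : C} {v : U ⟶ T} {u : T ⟶ S} (h : UEE (v ≫ u)) : UEE u := by
  intro X' Y' i₁ i₂ f' H
  have H2 := of_isPullback h ((IsPullback.of_hasPullback i₁ v).paste_horiz H)
  have := effectiveEpi H2
  have := epi (pullback_snd H2 f')
  exact effectiveEpi_of_comp (pullback.fst i₁ v) f'

end Groth.L09.UEffEpi
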