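import Groth.Prelude.Def_SGA4a
import Groth.Agent.L09.UEffEpi
import Mathlib.CategoryTheory.Limits.Shapes.DisjointCoproduct
import Mathlib.CategoryTheory.Limits.VanKampen
import Mathlib.CategoryTheory.Limits.Shapes.Pullback.Mono
import Mathlib.CategoryTheory.Limits.Shapes.StrongEpi
import Mathlib.CategoryTheory.EffectiveEpi.Basic

/-!
Covering families (jointly extremally epimorphic families) in a category satisfying the axioms of Giraud.
-/

set_option autoImplicit false
set_option linter.unusedSectionVars false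
universe w v u

open CategoryTheory Category Limits Opposite

namespace Groth.L09.Giraud

variable {E : Type v} [Category.{u} E]

/-- A family is covering if the only subobject through which all its members factor is everything. -/
def Cover {X : E} {ι : Type w} {G : ι → E} (g : ∀ i, G i ⟶ X) : Prop :=
  ∀ ⦃I : E⦄ (m : I ⟶ X), Mono m → (∀ i, ∃ l, l ≫ m = g i) → IsIso m

lemma cover_of_iso_mem {X : E} {ι : Type w} {G : ι → E} (g : ∀ i, G i ⟶ X) (i : ι) (s : X ⟶ G i)
    (hs : s ≫ g i = 𝟙 X) : Cover g := by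
  intro I m hm h
  obtain ⟨l, hl⟩ := h i
  have : IsSplitEpi m := ⟨⟨⟨s ≫ l, by rw [assoc, hl, hs]⟩⟩⟩
  exact isIso_of_mono_of_isSplitEpi m

lemma cover_of_factor {X : E} {ι : Type w} {G : ι → E} {g : ∀ i, G i ⟶ X} (hg : Cover g)
    {ι' : Type*} {G' : ι' → E} {g' : ∀ i, G' i ⟶ X} (h : ∀ i, ∃ (j : ι') (l : G i ⟶ G' j), l ≫ g' j = g i) :
    Cover g' := fun I m hm hl => hg m hm fun i => by
  obtain ⟨j, l, e⟩ := h i
  obtain ⟨l', e'⟩ := hl j
  exact ⟨l ≫ l', by rw [assoc, e', e]⟩

variable [HasFiniteLimits E]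

lemma cover_comp {X : E} {ι : Type w} {G : ι → E} {g : ∀ i, G i ⟶ X} (hg : Cover g)
    {κ : ι → Type*} {H : ∀ i, κ i → E} {h : ∀ i k, H i k ⟶ G i} (hh : ∀ i, Cover (h i)) :
    Cover (fun p : Σ i, κ i => h p.1 p.2 ≫ g p.1) := fun I m hm hl => hg m hm fun i => by
  have := hh i (pullback.snd m (g i)) inferInstance fun k => by
    obtain ⟨l, e⟩ := hl ⟨i, k⟩
    exact ⟨pullback.lift l (h i k) e, pullback.lift_snd _ _ _⟩
  exact ⟨inv (pullback.snd m (g i)) ≫ pullback.fst m (g i), by rw [assoc, pullback.condition, IsIso.inv_hom_id_assoc]⟩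

lemma cover_hom_ext {X : E} {ι : Type w} {G : ι → E} {g : ∀ i, G i ⟶ X} (hg : Cover g)
    {Y : E} {a b : X ⟶ Y} (h : ∀ i, g i ≫ a = g i ≫ b) : a = b := by
  have := hg (equalizer.ι a b) inferInstance fun i => ⟨equalizer.lift (g i) (h i), equalizer.lift_ι _ _⟩
  exact (cancel_epi (equalizer.ι a b)).1 (equalizer.condition a b)

variable (hb : SGA4.HasDisjointUniversalCoproducts.{v, u} E)
  (hc : ∀ (R A : E) (p₁ p₂ : R ⟶ A), SGA4.IsEquivRel p₁ p₂ → SGA4.IsEffectiveUniversalEquivRel p₁ p₂)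

include hb in
lemma hasCoproduct {ι : Type u} (X : ι → E) : HasCoproduct X :=
  let ⟨c, hc, _⟩ := hb ι X
  ⟨⟨⟨c, hc⟩⟩⟩

/-- The coproduct given by the axioms. -/
noncomputable def cop {ι : Type u} (X : ι → E) : Cofan X := (hb ι X).choose
noncomputable def copIsColimit {ι : Type u} (X : ι → E) : IsColimit (cop hb X) := (hb ι X).choose_spec.choose
include hb in
lemma cop_disjoint {ι : Type u} (X : ι → E) : CoproductDisjoint X := (hb ι X).choose_spec.choose_spec.1
lemma cop_universal {ι : Type u} (X : ι → E) : IsUniversalColimit (cop hb X) :=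
  (hb ι X).choose_spec.choose_spec.2

lemma cofan_cover {ι : Type u} {X : ι → E} {c : Cofan X} (hc : IsColimit c) : Cover c.inj := by
  intro I m hm h
  choose l hl using h
  have : IsSplitEpi m := ⟨⟨⟨Cofan.IsColimit.desc hc l, Cofan.IsColimit.hom_ext hc _ _ fun i => by
    rw [← assoc, Cofan.IsColimit.fac, hl, comp_id]⟩⟩⟩
  exact isIso_of_mono_of_isSplitEpi m

/-- Decomposition of an object over a coproduct. -/
noncomputable def piecesIsColimit {ι : Type u} {X : ι → E} {Y : E} (f : Y ⟶ (cop hb X).pt) :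
    IsColimit (Cofan.mk Y (fun i => pullback.fst f ((cop hb X).inj i))) :=
  Nonempty.some (by
    refine cop_universal hb X (Cofan.mk Y (fun i => pullback.fst f ((cop hb X).inj i)))
      (Discrete.natTrans fun i => pullback.snd f ((cop hb X).inj i.as)) f ?_
      (NatTrans.Equifibered.of_discrete _) fun ⟨i⟩ => ?_
    · ext ⟨i⟩
      exact pullback.condition.symm
    · exact IsPullback.of_hasPullback f ((cop hb X).inj i))

lemma cofan_mono {ι : Type u} {X : ι → E} (i : ι) : Mono ((cop hb X).inj i) :=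
  have := cop_disjoint hb X
  Mono.of_coproductDisjoint (copIsColimit hb X) i

noncomputable def pullbackInitial {ι : Type u} {X : ι → E} {i j : ι} (hij : i ≠ j) :
    IsInitial (pullback ((cop hb X).inj i) ((cop hb X).inj j)) :=
  have := cop_disjoint hb X
  IsInitial.ofCoproductDisjointOfIsColimitOfIsLimit hij (copIsColimit hb X)
    (s := PullbackCone.mk (pullback.fst ((cop hb X).inj i) ((cop hb X).inj j)) (pullback.snd _ _) pullback.condition)
    (pullbackIsPullback ((cop hb X).inj i) ((cop hb X).inj j))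

include hc in
/-- Images. -/
lemma exists_image {A B : E} (f : A ⟶ B) :
    ∃ (I : E) (π : A ⟶ I) (m : I ⟶ B), UEffEpi.UEE π ∧ Mono m ∧ π ≫ m = f := by
  have hR : SGA4.IsEquivRel (pullback.fst f f) (pullback.snd f f) := by
    refine fun T => ⟨fun a b h => pullback.hom_ext (congrArg Prod.fst h) (congrArg Prod.snd h), ?_⟩
    have key : ∀ a b : T ⟶ A, (∃ r : T ⟶ pullback f f, r ≫ pullback.fst f f = a ∧ r ≫ pullback.snd f f = b) ↔
        a ≫ f = b ≫ f := fun a b => by
      constructor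
      · rintro ⟨r, rfl, rfl⟩; rw [assoc, assoc, pullback.condition]
      · exact fun h => ⟨pullback.lift a b h, pullback.lift_fst _ _ _, pullback.lift_snd _ _ _⟩
    simp only [key]
    exact ⟨fun a => rfl, fun h => h.symm, fun h h' => h.trans h'⟩
  obtain ⟨Q, π, hpb, hpo, hu⟩ := hc _ _ _ _ hR
  have hπ : UEffEpi.UEE π := fun X' Y' i₁ i₂ f' H => by
    have := hu Y' i₂
    let e : X' ≅ pullback π i₂ := H.flip.isoPullback
    rw [← show e.hom ≫ pullback.snd π i₂ = f' from H.flip.isoPullback_hom_snd]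
    infer_instance
  refine ⟨Q, π, hpo.desc f f pullback.condition, hπ, ⟨fun {T} a b h => ?_⟩, hpo.inl_desc _ _ _⟩
  let qa := pullback.snd π a
  have hqa := UEffEpi.pullback_snd hπ a
  let qb := pullback.snd π (qa ≫ b)
  have hqb := UEffEpi.pullback_snd hπ (qa ≫ b)
  have := UEffEpi.epi hqa
  have := UEffEpi.epi hqb
  rw [← cancel_epi qa, ← cancel_epi qb]
  let a' := qb ≫ pullback.fst π a
  let b' := pullback.fst π (qa ≫ b)
  have ea : qb ≫ qa ≫ a = a' ≫ π := by simp [a', qa, pullback.condition]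
  have eb : qb ≫ qa ≫ b = b' ≫ π := by simp [b', qb, pullback.condition]
  have hab : a' ≫ f = b' ≫ f := by
    rw [← hpo.inl_desc f f pullback.condition, ← assoc, ← assoc, ← ea, ← eb]
    simp only [assoc, h]
  rw [ea, eb]
  have := congrArg (pullback.lift a' b' hab ≫ ·) hpb.w
  exact (pullback.lift_fst_assoc a' b' hab π).symm.trans (this.trans (pullback.lift_snd_assoc a' b' hab π))

lemma cover_single_of_uee {A B : E} {f : A ⟶ B} (hf : UEffEpi.UEE f) : Cover (fun _ : Unit => f) := by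
  intro I m hm h
  obtain ⟨l, hl⟩ := h ()
  have := UEffEpi.effectiveEpi (UEffEpi.of_comp (show UEffEpi.UEE (l ≫ m) from hl.symm ▸ hf))
  exact isIso_of_mono_of_strongEpi m

include hc in
lemma uee_of_cover_single {A B : E} {f : A ⟶ B} (hf : Cover (fun _ : Unit => f)) : UEffEpi.UEE f := by
  obtain ⟨I, π, m, hπ, hm, e⟩ := exists_image hc f
  have := hf m hm fun _ => ⟨π, e⟩
  rw [← e]
  exact (MorphismProperty.cancel_right_of_respectsIso _ π m).2 hπ

include hb hc in
lemma uee_desc {X : E} {ι : Type u} {G : ι → E} {g : ∀ i, G i ⟶ X} (hg : Cover g) :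
    UEffEpi.UEE (Cofan.IsColimit.desc (copIsColimit hb G) g) :=
  uee_of_cover_single hc (cover_of_factor hg fun i => ⟨(), (cop hb G).inj i, Cofan.IsColimit.fac _ _ i⟩)

include hb hc in
lemma cover_pullback {X : E} {ι : Type u} {G : ι → E} {g : ∀ i, G i ⟶ X} (hg : Cover g)
    {Y : E} (f : Y ⟶ X) : Cover (fun i => pullback.fst f (g i)) := by
  let d := Cofan.IsColimit.desc (copIsColimit hb G) g
  have h1 := cover_single_of_uee (UEffEpi.pullback_fst (uee_desc hb hc hg) f)
  have h2 := cofan_cover (piecesIsColimit hb (pullback.snd f d))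
  refine cover_of_factor (cover_comp h1 (fun _ => h2)) fun ⟨_, i⟩ => ⟨i,
    pullback.lift (pullback.fst (pullback.snd f d) ((cop hb G).inj i) ≫ pullback.fst f d)
      (pullback.snd (pullback.snd f d) ((cop hb G).inj i)) ?_, pullback.lift_fst _ _ _⟩
  rw [assoc, pullback.condition, ← assoc, pullback.condition, assoc, Cofan.IsColimit.fac]

include hb hc in
lemma exists_desc {X : E} {ι : Type u} {G : ι → E} {g : ∀ i, G i ⟶ X} (hg : Cover g)
    {Y : E} (φ : ∀ i, G i ⟶ Y)
    (hφ : ∀ i j, pullback.fst (g i) (g j) ≫ φ i = pullback.snd (g i) (g j) ≫ φ j) :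
    ∃ d : X ⟶ Y, ∀ i, g i ≫ d = φ i := by
  let D := Cofan.IsColimit.desc (copIsColimit hb G) g
  let Φ := Cofan.IsColimit.desc (copIsColimit hb G) φ
  have := UEffEpi.effectiveEpi (uee_desc hb hc hg)
  have key : ∀ {Z : E} (g₁ g₂ : Z ⟶ (cop hb G).pt), g₁ ≫ D = g₂ ≫ D → g₁ ≫ Φ = g₂ ≫ Φ := by
    intro Z g₁ g₂ h
    refine cover_hom_ext (cover_comp (cofan_cover (piecesIsColimit hb g₁))
      (fun i => cofan_cover (piecesIsColimit hb (pullback.fst g₁ ((cop hb G).inj i) ≫ g₂)))) fun ⟨i, j⟩ => ?_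
    show (pullback.fst _ ((cop hb G).inj j) ≫ pullback.fst g₁ ((cop hb G).inj i)) ≫ g₁ ≫ Φ = _ ≫ g₂ ≫ Φ
    let p := pullback.fst g₁ ((cop hb G).inj i)
    let q := pullback.fst (p ≫ g₂) ((cop hb G).inj j)
    let a := q ≫ pullback.snd g₁ ((cop hb G).inj i)
    let b := pullback.snd (p ≫ g₂) ((cop hb G).inj j)
    have ea : (q ≫ p) ≫ g₁ = a ≫ (cop hb G).inj i := by simp [p, a, pullback.condition]
    have eb : (q ≫ p) ≫ g₂ = b ≫ (cop hb G).inj j := by simp [q, b, ← pullback.condition]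
    have hab : a ≫ g i = b ≫ g j := by
      have := congrArg ((q ≫ p) ≫ ·) h
      rw [← assoc (q ≫ p) g₁, ← assoc (q ≫ p) g₂, ea, eb, assoc a, assoc b] at this
      simpa [D, Cofan.IsColimit.fac] using this
    show (q ≫ p) ≫ g₁ ≫ Φ = (q ≫ p) ≫ g₂ ≫ Φ
    rw [← assoc (q ≫ p) g₁, ← assoc (q ≫ p) g₂, ea, eb, assoc a, assoc b, Cofan.IsColimit.fac, Cofan.IsColimit.fac]
    exact (pullback.lift_fst_assoc a b hab (φ i)).symm.trans
      ((congrArg (pullback.lift a b hab ≫ ·) (hφ i j)).trans (pullback.lift_snd_assoc a b hab (φ j)))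
  refine ⟨EffectiveEpi.desc D Φ key, fun i => ?_⟩
  have := congrArg ((cop hb G).inj i ≫ ·) (EffectiveEpi.fac D Φ key)
  exact ((congrArg (· ≫ _) (Cofan.IsColimit.fac (copIsColimit hb G) g i)).symm.trans ((assoc _ _ _).trans this)).trans
    (Cofan.IsColimit.fac (copIsColimit hb G) φ i)

omit [HasFiniteLimits E] in
lemma cover_empty_of_isInitial {O : E} (hO : IsInitial O) {ι : Type w} {G : ι → E} (g : ∀ i, G i ⟶ O) :
    Cover g := by
  intro I m hm _
  have : IsSplitEpi m := ⟨⟨⟨hO.to I, hO.hom_ext _ _⟩⟩⟩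
  exact isIso_of_mono_of_isSplitEpi m

omit [HasFiniteLimits E] in
lemma cover_of_detecting {P : ObjectProperty E} (hP : P.IsDetecting) (X : E) {ι : Type w} {G : ι → E}
    (g : ∀ i, G i ⟶ X) (h : ∀ (K : E), P K → ∀ k : K ⟶ X, ∃ i, ∃ l : K ⟶ G i, l ≫ g i = k) : Cover g := by
  intro I m hm hl
  refine hP m fun K hK k => ?_
  obtain ⟨i, l, e⟩ := h K hK k
  obtain ⟨l', e'⟩ := hl i
  exact ⟨l ≫ l', by simp only [assoc, e', e], fun y hy => (cancel_mono m).1 (by simp only [assoc, e', e, hy])⟩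

end Groth.L09.Giraud
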