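import Groth.Agent.L09.GiraudBasic
import Mathlib.CategoryTheory.Sites.Sheaf
import Mathlib.CategoryTheory.Sites.SheafOfTypes
import Mathlib.CategoryTheory.InducedCategory
import Mathlib.Logic.Small.Basic

/-!
Giraud's theorem: a category satisfying the axioms is the category of sheaves on a generating subcategory.
-/

set_option autoImplicit false
set_option linter.unusedSectionVars false
set_option linter.deprecated false
set_option linter.unusedVariables false
universe v u

open CategoryTheory Category Limits Opposite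

namespace Groth.L09.Giraud

variable {E : Type v} [Category.{u} E] [HasFiniteLimits E]

/-- The hypotheses of Giraud's theorem, with a small full generating subcategory. -/
structure Setup {C : Type u} [SmallCategory C] (w : C ⥤ E) : Prop where
  hb : SGA4.HasDisjointUniversalCoproducts.{v, u} E
  hc : ∀ (R A : E) (p₁ p₂ : R ⟶ A), SGA4.IsEquivRel p₁ p₂ → SGA4.IsEffectiveUniversalEquivRel p₁ p₂
  full : w.Full
  faithful : w.Faithful
  gen : ∀ X : E, Cover (fun p : Σ c, (w.obj c ⟶ X) => p.2)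

variable {C : Type u} [SmallCategory C] {w : C ⥤ E} (h : Setup w)

/-- The members of a sieve, in `E`. -/
def mem (w : C ⥤ E) {c : C} (S : Sieve c) : ∀ p : Σ d, { f : d ⟶ c // S f }, w.obj p.1 ⟶ w.obj c :=
  fun p => w.map p.2.1

include h

/-- Refine a pullback of a covering family by generators. -/
lemma cover_refine {X Y : E} {ι : Type u} {G : ι → E} {g : ∀ i, G i ⟶ X} (hg : Cover g) (f : Y ⟶ X)
    {κ : Type*} {H : κ → E} {k : ∀ j, H j ⟶ Y}
    (hk : ∀ (i : ι) (c : C) (x : w.obj c ⟶ Y) (y : w.obj c ⟶ G i), x ≫ f = y ≫ g i →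
      ∃ (j : κ) (l : w.obj c ⟶ H j), l ≫ k j = x) : Cover k := by
  refine cover_of_factor (cover_comp (cover_pullback h.hb h.hc hg f) (fun i => h.gen _)) fun ⟨i, ⟨c, z⟩⟩ => ?_
  exact hk i c (z ≫ pullback.fst _ _) (z ≫ pullback.snd _ _) (by rw [assoc, assoc, pullback.condition])

/-- The induced topology. -/
def topology : GrothendieckTopology C where
  sieves c := {S : Sieve c | Cover (mem w S)}
  top_mem' c := cover_of_iso_mem (mem w (⊤ : Sieve c)) ⟨c, 𝟙 c, trivial⟩ (𝟙 _)
    ((id_comp _).trans (w.map_id c))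
  pullback_stable' := fun c c' S f hS => by
    have := h.full
    refine cover_refine h hS (w.map f) fun ⟨d, g, hg⟩ e x y hxy => ?_
    have hx : S (w.preimage x ≫ f) := by
      have : w.preimage x ≫ f = w.preimage y ≫ g := by
        have := h.faithful
        exact w.map_injective (by rw [Functor.map_comp, Functor.map_comp, w.map_preimage, w.map_preimage]; exact hxy)
      rw [this]
      exact S.downward_closed hg _
    exact ⟨⟨e, w.preimage x, hx⟩, 𝟙 _, (id_comp _).trans (w.map_preimage x)⟩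
  transitive' := fun c S hS R hR => by
    refine cover_of_factor (cover_comp hS (fun p : Σ d, { f : d ⟶ c // S f } => hR p.2.2)) fun ⟨⟨d, g, hg⟩, ⟨e, k, hk⟩⟩ => ?_
    exact ⟨⟨e, k ≫ g, hk⟩, 𝟙 _, (id_comp _).trans (w.map_comp _ _)⟩

lemma mem_topology {c : C} (S : Sieve c) : S ∈ topology h c ↔ Cover (mem w S) := Iff.rfl

lemma isSheaf_hom (X : E) : Presieve.IsSheaf (topology h) (w.op ⋙ yoneda.obj X) := by
  intro c S hS x hx
  have := h.full
  have := h.faithful
  obtain ⟨t, ht⟩ := exists_desc h.hb h.hc (X := w.obj c) (g := mem w S) hS (fun p => x p.2.1 p.2.2)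
    (fun p q => cover_hom_ext (h.gen _) fun ⟨e, z⟩ => by
      obtain ⟨a, ha⟩ := w.map_surjective (z ≫ pullback.fst (mem w S p) (mem w S q))
      obtain ⟨b, hb⟩ := w.map_surjective (z ≫ pullback.snd (mem w S p) (mem w S q))
      show z ≫ pullback.fst _ _ ≫ _ = z ≫ pullback.snd _ _ ≫ _
      rw [← assoc, ← assoc, ← ha, ← hb]
      refine hx a b p.2.2 q.2.2 (w.map_injective ?_)
      rw [Functor.map_comp, Functor.map_comp, ha, hb, assoc, assoc]
      exact congrArg (z ≫ ·) pullback.condition)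
  exact ⟨t, fun d f hf => ht ⟨d, f, hf⟩, fun t' ht' => cover_hom_ext hS fun p =>
    (ht' p.2.1 p.2.2).trans (ht p).symm⟩

/-- Restricted Yoneda functor. -/
def N : E ⥤ Sheaf (topology h) (Type u) where
  obj X := ⟨w.op ⋙ yoneda.obj X, (isSheaf_iff_isSheaf_of_type _ _).mpr (isSheaf_hom h X)⟩
  map f := ⟨Functor.whiskerLeft w.op (yoneda.map f)⟩

lemma N_faithful : (N h).Faithful := ⟨fun {X Y f g} e => cover_hom_ext (h.gen X) fun ⟨c, x⟩ =>
  ConcreteCategory.congr_hom (NatTrans.congr_app (congrArg (fun k => k.hom) e) (op c)) x⟩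

lemma N_full : (N h).Full := ⟨fun {X Y} φ => by
  have := h.full
  have nat : ∀ {d c : C} (a : d ⟶ c) (x : w.obj c ⟶ X),
      (φ.hom.app (op d) (w.map a ≫ x) : w.obj d ⟶ Y) = w.map a ≫ φ.hom.app (op c) x := fun a x =>
    NatTrans.naturality_apply φ.hom a.op x
  obtain ⟨d, hd⟩ := exists_desc h.hb h.hc (h.gen X) (fun p => φ.hom.app (op p.1) p.2) (fun p q =>
    cover_hom_ext (h.gen _) fun ⟨e, z⟩ => by
      obtain ⟨a, ha⟩ := w.map_surjective (z ≫ pullback.fst p.2 q.2)
      obtain ⟨b, hb⟩ := w.map_surjective (z ≫ pullback.snd p.2 q.2)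
      show z ≫ pullback.fst _ _ ≫ _ = z ≫ pullback.snd _ _ ≫ _
      rw [← assoc, ← assoc, ← ha, ← hb]
      refine (nat a p.2).symm.trans (Eq.trans (congrArg _ ?_) (nat b q.2))
      rw [ha, hb, assoc, assoc]
      exact congrArg (z ≫ ·) pullback.condition)
  exact ⟨d, by ext ⟨c⟩ x; exact hd ⟨c, x⟩⟩⟩

lemma subsingleton_of_isInitial {O : E} (hO : IsInitial O) {c : C} (x : w.obj c ⟶ O)
    (F : Sheaf (topology h) (Type u)) : Subsingleton (F.obj.obj (op c)) := by
  have hbot : (⊥ : Sieve c) ∈ topology h c :=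
    cover_of_factor (cover_pullback h.hb h.hc
      (cover_empty_of_isInitial hO (ι := PEmpty.{u+1}) (G := fun i => i.elim) (fun i => i.elim)) x)
      (fun i => i.elim)
  exact ⟨fun a b => (((isSheaf_iff_isSheaf_of_type _ _).mp F.property) _ hbot).isSeparatedFor.ext
    fun Y f hf => hf.elim⟩

section EssSurj

variable (F : Sheaf (topology h) (Type u))

/-- Index set of the presentation. -/
abbrev Idx := Σ c : C, F.obj.obj (op c)

/-- The presenting object. -/
noncomputable abbrev A : Cofan (fun p : Idx h F => w.obj p.1) := cop h.hb _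

/-- `t` is the image of `x` in `F`. -/
def Good {c : C} (x : w.obj c ⟶ (A h F).pt) (t : F.obj.obj (op c)) : Prop :=
  ∀ ⦃d : C⦄ (f : d ⟶ c) (p : Idx h F) (a : d ⟶ p.1),
    w.map f ≫ x = w.map a ≫ (A h F).inj p → F.obj.map f.op t = F.obj.map a.op p.2

lemma wd {d : C} {p q : Idx h F} (a : d ⟶ p.1) (b : d ⟶ q.1)
    (e : w.map a ≫ (A h F).inj p = w.map b ≫ (A h F).inj q) :
    F.obj.map a.op p.2 = F.obj.map b.op q.2 := by
  by_cases hpq : p = q
  · subst hpq
    have := h.faithful
    have := cofan_mono h.hb (X := fun p : Idx h F => w.obj p.1) p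
    rw [w.map_injective ((cancel_mono ((A h F).inj p)).1 e)]
  · have := subsingleton_of_isInitial h (pullbackInitial h.hb (X := fun p : Idx h F => w.obj p.1) hpq)
      (pullback.lift (w.map a) (w.map b) e) F
    exact Subsingleton.elim _ _

lemma existsUnique_good {c : C} (x : w.obj c ⟶ (A h F).pt) : ∃! t, Good h F x t := by
  have := h.full
  let S : Sieve c :=
    { arrows := fun d f => ∃ (p : Idx h F) (a : d ⟶ p.1), w.map f ≫ x = w.map a ≫ (A h F).inj p
      downward_closed := by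
        rintro d e f ⟨p, a, hpa⟩ g
        exact ⟨p, g ≫ a, by rw [w.map_comp, w.map_comp, assoc, assoc, hpa]⟩ }
  have hS : S ∈ topology h c := by
    refine cover_refine h (cofan_cover (copIsColimit h.hb _)) x fun p d z y hzy => ?_
    have hf : S (w.preimage z) := ⟨p, w.preimage y, by rw [w.map_preimage, w.map_preimage]; exact hzy⟩
    exact ⟨⟨d, w.preimage z, hf⟩, 𝟙 _, (id_comp _).trans (w.map_preimage z)⟩
  let fam : Presieve.FamilyOfElements F.obj S.arrows := fun d f hf =>
    F.obj.map hf.choose_spec.choose.op hf.choose.2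
  have hfam : fam.Compatible := by
    intro Y₁ Y₂ Z g₁ g₂ f₁ f₂ h₁ h₂ e
    simp only [fam]
    rw [← FunctorToTypes.map_comp_apply, ← FunctorToTypes.map_comp_apply, ← op_comp, ← op_comp]
    refine wd h F _ _ ?_
    rw [w.map_comp, w.map_comp, assoc, assoc, ← h₁.choose_spec.choose_spec, ← h₂.choose_spec.choose_spec,
      ← assoc, ← assoc, ← w.map_comp, ← w.map_comp, e]
  have hsh := ((isSheaf_iff_isSheaf_of_type _ _).mp F.property) S hS
  refine ⟨hsh.amalgamate fam hfam, fun d f p a e => ?_, fun t ht => hsh.isSeparatedFor.ext fun d f hf => ?_⟩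
  · have hf : S f := ⟨p, a, e⟩
    rw [hsh.valid_glue hfam f hf]
    exact wd h F _ _ (hf.choose_spec.choose_spec.symm.trans e)
  · rw [hsh.valid_glue hfam f hf]
    exact ht f _ _ hf.choose_spec.choose_spec

/-- The canonical map to `F`. -/
noncomputable def θ {c : C} (x : w.obj c ⟶ (A h F).pt) : F.obj.obj (op c) :=
  (existsUnique_good h F x).exists.choose

lemma θ_good {c : C} (x : w.obj c ⟶ (A h F).pt) : Good h F x (θ h F x) :=
  (existsUnique_good h F x).exists.choose_spec

lemma θ_natural {c c' : C} (f : c' ⟶ c) (x : w.obj c ⟶ (A h F).pt) :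
    θ h F (w.map f ≫ x) = F.obj.map f.op (θ h F x) := by
  refine (existsUnique_good h F (w.map f ≫ x)).unique (θ_good h F _) fun d g p a e => ?_
  rw [← FunctorToTypes.map_comp_apply, ← op_comp]
  exact θ_good h F x (g ≫ f) p a (by rw [w.map_comp, assoc, e])

lemma θ_inj (p : Idx h F) : θ h F ((A h F).inj p) = p.2 := by
  have := θ_good h F ((A h F).inj p) (𝟙 p.1) p (𝟙 p.1) rfl
  rwa [op_id, FunctorToTypes.map_id_apply, FunctorToTypes.map_id_apply] at this

lemma eq_of_cover {c : C} {ι : Type u} {G : ι → E} {g : ∀ i, G i ⟶ w.obj c} (hg : Cover g)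
    (s t : F.obj.obj (op c))
    (hst : ∀ (i : ι) (d : C) (f : d ⟶ c) (y : w.obj d ⟶ G i), y ≫ g i = w.map f →
      F.obj.map f.op s = F.obj.map f.op t) : s = t := by
  have := h.full
  let S : Sieve c :=
    { arrows := fun d f => F.obj.map f.op s = F.obj.map f.op t
      downward_closed := by
        intro d e f hf g
        rw [op_comp, FunctorToTypes.map_comp_apply, FunctorToTypes.map_comp_apply, hf] }
  have hS : S ∈ topology h c := by
    refine cover_refine h hg (𝟙 _) fun i d z y hzy => ?_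
    exact ⟨⟨d, w.preimage z, hst i d _ y (by rw [w.map_preimage]; simpa using hzy.symm)⟩, 𝟙 _,
      (id_comp _).trans (w.map_preimage z)⟩
  exact (((isSheaf_iff_isSheaf_of_type _ _).mp F.property) S hS).isSeparatedFor.ext fun d f hf => hf

lemma exists_rep : ∃ B : E, Nonempty ((N h).obj B ≅ F) := by
  have := h.full
  let AA := (A h F).pt ⨯ (A h F).pt
  let ι := Σ c : C, { z : w.obj c ⟶ AA // θ h F (z ≫ prod.fst) = θ h F (z ≫ prod.snd) }
  obtain ⟨R, q, m, hq, hm, hqm⟩ := exists_image h.hc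
    (Cofan.IsColimit.desc (copIsColimit h.hb (fun p : ι => w.obj p.1)) (fun p => p.2.1))
  have hcov : Cover (fun p : ι => (cop h.hb (fun p : ι => w.obj p.1)).inj p ≫ q) :=
    cover_of_factor (cover_comp (cover_single_of_uee hq) (fun _ => cofan_cover (copIsColimit h.hb _)))
      (fun ⟨_, p⟩ => ⟨p, 𝟙 _, id_comp _⟩)
  have sound : ∀ {c : C} (r : w.obj c ⟶ R),
      θ h F ((r ≫ m) ≫ prod.fst) = θ h F ((r ≫ m) ≫ prod.snd) := by
    intro c r
    refine eq_of_cover h F (cover_pullback h.hb h.hc hcov r) _ _ fun p d f y hy => ?_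
    rw [← θ_natural, ← θ_natural]
    obtain ⟨b, hb⟩ := w.map_surjective (y ≫ pullback.snd r ((cop h.hb (fun p : ι => w.obj p.1)).inj p ≫ q))
    have e : w.map f ≫ r ≫ m = w.map b ≫ p.2.1 := by
      rw [← hy, assoc, ← assoc (pullback.fst _ _), pullback.condition, assoc, assoc, hqm, Cofan.IsColimit.fac,
        ← assoc, ← hb]
    rw [← assoc (w.map f), e, ← assoc (w.map f), e, assoc, assoc, θ_natural, θ_natural, p.2.2]
  have complete : ∀ {T : E} (z : T ⟶ AA),
      (∀ (c : C) (k : w.obj c ⟶ T), θ h F ((k ≫ z) ≫ prod.fst) = θ h F ((k ≫ z) ≫ prod.snd)) →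
      ∃ r, r ≫ m = z := by
    intro T z hz
    have : IsIso (pullback.snd m z) := h.gen T _ inferInstance fun ⟨c, k⟩ => by
      let p : ι := ⟨c, k ≫ z, hz c k⟩
      exact ⟨pullback.lift ((cop h.hb (fun p : ι => w.obj p.1)).inj p ≫ q) k
        (by rw [assoc, hqm, Cofan.IsColimit.fac]), pullback.lift_snd _ _ _⟩
    exact ⟨inv (pullback.snd m z) ≫ pullback.fst m z, by rw [assoc, pullback.condition, IsIso.inv_hom_id_assoc]⟩
  let Rel : ∀ (T : E), (T ⟶ (A h F).pt) → (T ⟶ (A h F).pt) → Prop := fun T a b =>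
    ∀ (c : C) (k : w.obj c ⟶ T), θ h F (k ≫ a) = θ h F (k ≫ b)
  have rel_iff : ∀ (T : E) (a b : T ⟶ (A h F).pt),
      (∃ f : T ⟶ R, f ≫ (m ≫ prod.fst) = a ∧ f ≫ (m ≫ prod.snd) = b) ↔ Rel T a b := by
    intro T a b
    constructor
    · rintro ⟨f, rfl, rfl⟩ c k
      simpa only [assoc] using sound (k ≫ f)
    · intro hab
      obtain ⟨r, hr⟩ := complete (prod.lift a b) fun c k => by rw [assoc, prod.lift_fst, assoc, prod.lift_snd]; exact hab c k
      exact ⟨r, by rw [← assoc, hr, prod.lift_fst], by rw [← assoc, hr, prod.lift_snd]⟩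
  have hR : SGA4.IsEquivRel (m ≫ prod.fst) (m ≫ prod.snd) := fun T => by
    refine ⟨fun a b e => (cancel_mono m).1 (prod.hom_ext ?_ ?_), ?_⟩
    · simpa using congrArg Prod.fst e
    · simpa using congrArg Prod.snd e
    · simp only [rel_iff]
      exact ⟨fun a c k => rfl, fun e c k => (e c k).symm, fun e e' c k => (e c k).trans (e' c k)⟩
  obtain ⟨B, π, hpb, hpo, hu⟩ := h.hc _ _ _ _ hR
  have hπ : UEffEpi.UEE π := fun X' Y' i₁ i₂ f' H => by
    have := hu Y' i₂
    rw [← show H.flip.isoPullback.hom ≫ pullback.snd π i₂ = f' from H.flip.isoPullback_hom_snd]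
    infer_instance
  have π_eq : ∀ {c : C} (x y : w.obj c ⟶ (A h F).pt), x ≫ π = y ≫ π ↔ θ h F x = θ h F y := by
    intro c x y
    constructor
    · intro e
      have := (rel_iff _ x y).1 ⟨hpb.lift x y e, hpb.lift_fst _ _ _, hpb.lift_snd _ _ _⟩ c (𝟙 _)
      rwa [id_comp, id_comp] at this
    · intro e
      obtain ⟨r, r1, r2⟩ := (rel_iff _ x y).2 fun d k => by
        obtain ⟨f, rfl⟩ := w.map_surjective k
        rw [θ_natural, θ_natural, e]
      rw [← r1, ← r2, assoc r, assoc r, hpb.w]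
  let φ : F ⟶ (N h).obj B :=
    ⟨{ app := fun c => ↾fun s => (A h F).inj ⟨c.unop, s⟩ ≫ π
       naturality := fun c c' f => by
         ext s
         show (A h F).inj ⟨c'.unop, F.obj.map f s⟩ ≫ π = w.map f.unop ≫ (A h F).inj ⟨c.unop, s⟩ ≫ π
         rw [← assoc, π_eq, θ_natural, θ_inj, θ_inj]
         rfl }⟩
  have : ∀ c, IsIso (φ.hom.app c) := fun ⟨c⟩ => (isIso_iff_bijective _).2 ⟨fun s t e => by
    have := (π_eq ((A h F).inj ⟨c, s⟩) ((A h F).inj ⟨c, t⟩)).1 e
    rwa [θ_inj, θ_inj] at this, fun b => by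
    let S : Sieve c :=
      { arrows := fun d f => ∃ x : w.obj d ⟶ (A h F).pt, x ≫ π = w.map f ≫ b
        downward_closed := by
          rintro d e f ⟨x, hx⟩ g
          exact ⟨w.map g ≫ x, by rw [assoc, hx, w.map_comp, assoc]⟩ }
    have hS : S ∈ topology h c := by
      refine cover_refine h (ι := PUnit.{u+1}) (g := fun _ => π) ?_ b fun _ d z y hzy => ?_
      · exact cover_of_factor (cover_single_of_uee hπ) fun _ => ⟨PUnit.unit, 𝟙 _, id_comp _⟩
      · exact ⟨⟨d, w.preimage z, ⟨y, by rw [w.map_preimage]; exact hzy.symm⟩⟩, 𝟙 _,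
          (id_comp _).trans (w.map_preimage z)⟩
    let fam : Presieve.FamilyOfElements F.obj S.arrows := fun d f hf => θ h F hf.choose
    have hfam : fam.Compatible := by
      intro Y₁ Y₂ Z g₁ g₂ f₁ f₂ h₁ h₂ e
      simp only [fam]
      rw [← θ_natural, ← θ_natural, ← π_eq, assoc, assoc, h₁.choose_spec, h₂.choose_spec, ← assoc, ← assoc,
        ← w.map_comp, ← w.map_comp, e]
    have hsh := ((isSheaf_iff_isSheaf_of_type _ _).mp F.property) S hS
    refine ⟨hsh.amalgamate fam hfam, cover_hom_ext hS fun ⟨d, f, hf⟩ => ?_⟩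
    show w.map f ≫ (A h F).inj ⟨c, _⟩ ≫ π = w.map f ≫ b
    rw [← hf.choose_spec, ← assoc, π_eq, θ_natural, θ_inj, hsh.valid_glue hfam f hf]⟩
  have : IsIso φ.hom := NatIso.isIso_of_isIso_app _
  have : IsIso φ := (isIso_iff_of_reflects_iso φ (sheafToPresheaf _ _)).1 this
  exact ⟨B, ⟨(asIso φ).symm⟩⟩

end EssSurj

/-- Giraud's theorem. -/
lemma N_isEquivalence : (N h).IsEquivalence where
  faithful := N_faithful h
  full := N_full h
  essSurj := ⟨fun F => exists_rep h F⟩

omit h in
lemma exists_setup (hb : SGA4.HasDisjointUniversalCoproducts.{v, u} E)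
    (hc : ∀ (R A : E) (p₁ p₂ : R ⟶ A), SGA4.IsEquivRel p₁ p₂ → SGA4.IsEffectiveUniversalEquivRel p₁ p₂)
    (P : ObjectProperty E) [ObjectProperty.Small.{u} P] (hP : P.IsDetecting) :
    ∃ (C : Type u) (_ : SmallCategory C) (w : C ⥤ E), Setup w := by
  let val : Shrink.{u} (Subtype P) → E := fun i => ((equivShrink (Subtype P)).symm i).1
  refine ⟨InducedCategory E val, inferInstance, inducedFunctor val,
    ⟨hb, hc, inferInstance, inferInstance, fun X => cover_of_detecting hP X _ fun K hK k => ?_⟩⟩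
  have e : val (equivShrink (Subtype P) ⟨K, hK⟩) = K := by simp [val]
  exact ⟨⟨equivShrink (Subtype P) ⟨K, hK⟩, eqToHom e ≫ k⟩, eqToHom e.symm, by simp⟩

end Groth.L09.Giraud
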