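import Groth.Agent.L09.GiraudMain
import Mathlib.CategoryTheory.Sites.Canonical
import Mathlib.CategoryTheory.Limits.Preserves.Shapes.Products
import Mathlib.CategoryTheory.Limits.Preserves.Shapes.Equalizers
import Mathlib.CategoryTheory.Limits.Shapes.Opposites.Products
import Mathlib.CategoryTheory.Limits.Shapes.Opposites.Equalizers
import Mathlib.CategoryTheory.Limits.Types.Equalizers
import Mathlib.CategoryTheory.Limits.Types.Products
import Mathlib.CategoryTheory.Limits.Types.Limits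
import Mathlib.CategoryTheory.Limits.Yoneda

/-!
The canonical topology of a category satisfying Giraud's axioms: sheaves are the functors that turn
colimits into limits, and those with values in small sets are representable.
-/

set_option autoImplicit false
set_option linter.unusedSectionVars false
set_option linter.unusedVariables false
set_option linter.deprecated false
universe w' v u

open CategoryTheory Category Limits Opposite

namespace Groth.L09.Giraud

variable {E : Type v} [Category.{u} E] [HasFiniteLimits E]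

/-- A presheaf glues along covering families. -/
def HasGlue (P : Eᵒᵖ ⥤ Type w') : Prop :=
  ∀ ⦃X : E⦄ ⦃ι : Type u⦄ ⦃G : ι → E⦄ (g : ∀ i, G i ⟶ X), Cover g → ∀ x : ∀ i, P.obj (op (G i)),
    (∀ i j, P.map (pullback.fst (g i) (g j)).op (x i) = P.map (pullback.snd (g i) (g j)).op (x j)) →
    ∃! a, ∀ i, P.map (g i).op a = x i

lemma HasGlue.sep {P : Eᵒᵖ ⥤ Type w'} (hP : HasGlue P) {X : E} {ι : Type u} {G : ι → E} {g : ∀ i, G i ⟶ X}
    (hg : Cover g) {a b : P.obj (op X)} (e : ∀ i, P.map (g i).op a = P.map (g i).op b) : a = b :=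
  (hP g hg (fun i => P.map (g i).op a) fun i j => by
    rw [← FunctorToTypes.map_comp_apply, ← FunctorToTypes.map_comp_apply, ← op_comp, ← op_comp,
      pullback.condition]).unique (fun i => rfl) (fun i => (e i).symm)

variable {C : Type u} [SmallCategory C] {w : C ⥤ E} (h : Setup w)

/-- The generating members of a sieve. -/
def genMem (w : C ⥤ E) {X : E} (S : Sieve X) : ∀ p : Σ c, { x : w.obj c ⟶ X // S x }, w.obj p.1 ⟶ X :=
  fun p => p.2.1

include h

/-- The topology of sieves with covering generating members. -/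
def canTop : GrothendieckTopology E where
  sieves X := {S : Sieve X | Cover (genMem w S)}
  top_mem' X := cover_of_factor (h.gen X) fun ⟨c, x⟩ => ⟨⟨c, x, trivial⟩, 𝟙 _, id_comp _⟩
  pullback_stable' := fun X Y S f hS =>
    cover_refine h hS f fun ⟨d, g, hg⟩ e x y hxy =>
      ⟨⟨e, x, by show S (x ≫ f); rw [hxy]; exact S.downward_closed hg _⟩, 𝟙 _, id_comp _⟩
  transitive' := fun X S hS R hR => cover_of_factor (cover_comp hS (fun p => hR p.2.2))
    fun ⟨⟨d, g, hg⟩, ⟨e, k, hk⟩⟩ => ⟨⟨e, k ≫ g, hk⟩, 𝟙 _, id_comp _⟩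

lemma isSheaf_canTop_of_glue {P : Eᵒᵖ ⥤ Type w'} (hP : HasGlue P) : Presieve.IsSheaf (canTop h) P := by
  intro X S hS x hx
  obtain ⟨a, ha, hu⟩ := hP (genMem w S) hS (fun p => x p.2.1 p.2.2) fun p q =>
    hx _ _ p.2.2 q.2.2 pullback.condition
  refine ⟨a, fun Y f hf => hP.sep (h.gen Y) fun ⟨c, k⟩ => ?_, fun a' ha' => hu a' fun p => ha' _ p.2.2⟩
  rw [← FunctorToTypes.map_comp_apply, ← op_comp]
  exact (ha ⟨c, k ≫ f, S.downward_closed hf k⟩).trans
    (by simpa using hx (𝟙 _) k (S.downward_closed hf k) hf (id_comp _))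

lemma hasGlue_yoneda (Y : E) : HasGlue (yoneda.obj Y) := by
  intro X ι G g hg x hx
  obtain ⟨d, hd⟩ := exists_desc h.hb h.hc hg x hx
  exact ⟨d, hd, fun d' hd' => cover_hom_ext hg fun i => (hd' i).trans (hd i).symm⟩

lemma canTop_le : canTop h ≤ Sheaf.canonicalTopology E := by
  apply Sheaf.le_finestTopology
  rintro P ⟨Y, rfl⟩
  exact isSheaf_canTop_of_glue h (hasGlue_yoneda h Y)

lemma cover_of_canonical {X : E} (S : Sieve X) (hS : S ∈ Sheaf.canonicalTopology E X) : Cover (genMem w S) := by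
  have h1 : Cover (fun p : Σ Y, { f : Y ⟶ X // S f } => p.2.1) := by
    intro I m hm hl
    choose l hl using fun Y (f : Y ⟶ X) (hf : S f) => hl ⟨Y, f, hf⟩
    have hsh := Sheaf.isSheaf_yoneda_obj I S hS
    let fam : Presieve.FamilyOfElements (yoneda.obj I) S.arrows := fun Y f hf => l Y f hf
    have hfam : fam.Compatible := by
      intro Y₁ Y₂ Z g₁ g₂ f₁ f₂ h₁ h₂ e
      show g₁ ≫ l _ _ h₁ = g₂ ≫ l _ _ h₂
      rw [← cancel_mono m, assoc, assoc, hl, hl, e]
    let s : X ⟶ I := hsh.amalgamate fam hfam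
    have hs : s ≫ m = 𝟙 X := (Sheaf.isSheaf_yoneda_obj X S hS).isSeparatedFor.ext fun Y f hf => by
      show f ≫ s ≫ m = f ≫ 𝟙 X
      rw [comp_id, ← assoc, show f ≫ s = l Y f hf from hsh.valid_glue hfam f hf, hl]
    have : IsSplitEpi m := ⟨⟨⟨s, hs⟩⟩⟩
    exact isIso_of_mono_of_isSplitEpi m
  exact cover_of_factor (cover_comp h1 (fun p => h.gen _))
    fun ⟨⟨Y, f, hf⟩, ⟨c, k⟩⟩ => ⟨⟨c, k ≫ f, S.downward_closed hf k⟩, 𝟙 _, id_comp _⟩

lemma canonical_eq : Sheaf.canonicalTopology E = canTop h :=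
  le_antisymm (fun X S hS => cover_of_canonical h S hS) (canTop_le h)

lemma isSheaf_canonical_iff_hasGlue (P : Eᵒᵖ ⥤ Type w') :
    Presieve.IsSheaf (Sheaf.canonicalTopology E) P ↔ HasGlue P := by
  refine ⟨fun hP X ι G g hg x hx => ?_, fun hP => canonical_eq h ▸ isSheaf_canTop_of_glue h hP⟩
  have hS : Sieve.generate (Presieve.ofArrows G g) ∈ Sheaf.canonicalTopology E X := by
    rw [canonical_eq h]
    exact cover_of_factor (cover_comp hg (fun i => h.gen _)) fun ⟨i, ⟨c, k⟩⟩ =>
      ⟨⟨c, k ≫ g i, ⟨_, k, g i, Presieve.ofArrows.mk i, rfl⟩⟩, 𝟙 _, id_comp _⟩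
  have h2 := Presieve.isSheafFor_iff_generate _ |>.2 (hP _ hS)
  refine (Presieve.isSheafFor_arrows_iff P g).1 h2 x fun i j Z gi gj e => ?_
  have := congrArg (P.map (pullback.lift gi gj e).op) (hx i j)
  rwa [← FunctorToTypes.map_comp_apply, ← FunctorToTypes.map_comp_apply, ← op_comp, ← op_comp,
    pullback.lift_fst, pullback.lift_snd] at this

section Quotient

variable {A : E} (Rel : ∀ c : C, (w.obj c ⟶ A) → (w.obj c ⟶ A) → Prop)

lemma exists_quotient (heq : ∀ c, Equivalence (Rel c))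
    (hstab : ∀ {c d : C} (f : d ⟶ c) x y, Rel c x y → Rel d (w.map f ≫ x) (w.map f ≫ y))
    (hloc : ∀ {c : C} (x y : w.obj c ⟶ A) {ι : Type u} {G : ι → E} (g : ∀ i, G i ⟶ w.obj c), Cover g →
      (∀ (i : ι) (d : C) (f : d ⟶ c) (t : w.obj d ⟶ G i), t ≫ g i = w.map f →
        Rel d (w.map f ≫ x) (w.map f ≫ y)) → Rel c x y) :
    ∃ (B : E) (π : A ⟶ B), ∀ (c : C) (x y : w.obj c ⟶ A), x ≫ π = y ≫ π ↔ Rel c x y := by
  have := h.full
  let AA := A ⨯ A
  let ι := Σ c : C, { z : w.obj c ⟶ AA // Rel c (z ≫ prod.fst) (z ≫ prod.snd) }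
  obtain ⟨R, q, m, hq, hm, hqm⟩ := exists_image h.hc
    (Cofan.IsColimit.desc (copIsColimit h.hb (fun p : ι => w.obj p.1)) (fun p => p.2.1))
  have hcov : Cover (fun p : ι => (cop h.hb (fun p : ι => w.obj p.1)).inj p ≫ q) :=
    cover_of_factor (cover_comp (cover_single_of_uee hq) (fun _ => cofan_cover (copIsColimit h.hb _)))
      (fun ⟨_, p⟩ => ⟨p, 𝟙 _, id_comp _⟩)
  have sound : ∀ {c : C} (r : w.obj c ⟶ R), Rel c ((r ≫ m) ≫ prod.fst) ((r ≫ m) ≫ prod.snd) := by
    intro c r
    refine hloc _ _ _ (cover_pullback h.hb h.hc hcov r) fun p d f y hy => ?_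
    obtain ⟨b, hb⟩ := w.map_surjective (y ≫ pullback.snd r ((cop h.hb (fun p : ι => w.obj p.1)).inj p ≫ q))
    have e : w.map f ≫ r ≫ m = w.map b ≫ p.2.1 := by
      rw [← hy, assoc, ← assoc (pullback.fst _ _), pullback.condition, assoc, assoc, hqm, Cofan.IsColimit.fac,
        ← assoc, ← hb]
    rw [← assoc (w.map f), e, ← assoc (w.map f), e, assoc, assoc]
    exact hstab b _ _ p.2.2
  have complete : ∀ {T : E} (z : T ⟶ AA),
      (∀ (c : C) (k : w.obj c ⟶ T), Rel c ((k ≫ z) ≫ prod.fst) ((k ≫ z) ≫ prod.snd)) → ∃ r, r ≫ m = z := by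
    intro T z hz
    have : IsIso (pullback.snd m z) := h.gen T _ inferInstance fun ⟨c, k⟩ => by
      let p : ι := ⟨c, k ≫ z, hz c k⟩
      exact ⟨pullback.lift ((cop h.hb (fun p : ι => w.obj p.1)).inj p ≫ q) k
        (by rw [assoc, hqm, Cofan.IsColimit.fac]), pullback.lift_snd _ _ _⟩
    exact ⟨inv (pullback.snd m z) ≫ pullback.fst m z, by rw [assoc, pullback.condition, IsIso.inv_hom_id_assoc]⟩
  let RelT : ∀ (T : E), (T ⟶ A) → (T ⟶ A) → Prop := fun T a b =>
    ∀ (c : C) (k : w.obj c ⟶ T), Rel c (k ≫ a) (k ≫ b)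
  have rel_iff : ∀ (T : E) (a b : T ⟶ A),
      (∃ f : T ⟶ R, f ≫ (m ≫ prod.fst) = a ∧ f ≫ (m ≫ prod.snd) = b) ↔ RelT T a b := by
    intro T a b
    constructor
    · rintro ⟨f, rfl, rfl⟩ c k
      simpa only [assoc] using sound (k ≫ f)
    · intro hab
      obtain ⟨r, hr⟩ := complete (prod.lift a b) fun c k => by
        rw [assoc, prod.lift_fst, assoc, prod.lift_snd]; exact hab c k
      exact ⟨r, by rw [← assoc, hr, prod.lift_fst], by rw [← assoc, hr, prod.lift_snd]⟩
  have hR : SGA4.IsEquivRel (m ≫ prod.fst) (m ≫ prod.snd) := fun T => by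
    refine ⟨fun a b e => (cancel_mono m).1 (prod.hom_ext ?_ ?_), ?_⟩
    · simpa using congrArg Prod.fst e
    · simpa using congrArg Prod.snd e
    · simp only [rel_iff]
      exact ⟨fun a c k => (heq c).refl _, fun e c k => (heq c).symm (e c k),
        fun e e' c k => (heq c).trans (e c k) (e' c k)⟩
  obtain ⟨B, π, hpb, -, -⟩ := h.hc _ _ _ _ hR
  refine ⟨B, π, fun c x y => ⟨fun e => ?_, fun e => ?_⟩⟩
  · have := (rel_iff _ x y).1 ⟨hpb.lift x y e, hpb.lift_fst _ _ _, hpb.lift_snd _ _ _⟩ c (𝟙 _)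
    rwa [id_comp, id_comp] at this
  · obtain ⟨r, r1, r2⟩ := (rel_iff _ x y).2 fun d k => by
      obtain ⟨f, rfl⟩ := w.map_surjective k
      exact hstab f _ _ e
    rw [← r1, ← r2, assoc r, assoc r, hpb.w]

end Quotient

lemma subsingleton_initial {P : Eᵒᵖ ⥤ Type w'} (hP : HasGlue P) {O : E} (hO : IsInitial O) :
    Subsingleton (P.obj (op O)) :=
  ⟨fun a b => hP.sep (cover_empty_of_isInitial hO (ι := PEmpty.{u+1}) (G := fun i => i.elim) (fun i => i.elim))
    fun i => i.elim⟩

lemma exists_cofan_elt {P : Eᵒᵖ ⥤ Type w'} (hP : HasGlue P) {ι : Type u} (G : ι → E)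
    (x : ∀ i, P.obj (op (G i))) : ∃ a : P.obj (op (cop h.hb G).pt), ∀ i, P.map ((cop h.hb G).inj i).op a = x i := by
  refine (hP (cop h.hb G).inj (cofan_cover (copIsColimit h.hb G)) x fun i j => ?_).exists
  by_cases hij : i = j
  · subst hij
    have := cofan_mono h.hb (X := G) i
    rw [(cancel_mono ((cop h.hb G).inj i)).1 (pullback.condition (f := (cop h.hb G).inj i) (g := (cop h.hb G).inj i))]
  · have := subsingleton_initial h hP (pullbackInitial h.hb (X := G) hij)
    exact Subsingleton.elim _ _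

lemma preservesLimits_of_hasGlue (P : Eᵒᵖ ⥤ Type w') (hP : HasGlue P) : PreservesLimitsOfSize.{u, u} P := by
  refine ⟨fun {J} _ => ⟨fun {K} => ⟨fun {c} hc => (Types.isLimit_iff _).2 fun s hs => ?_⟩⟩⟩
  have := h.full
  let G : J → E := fun j => (K.obj j).unop
  let g : ∀ j, G j ⟶ c.pt.unop := fun j => (c.π.app j).unop
  have hg : Cover g := by
    intro I m hm hl
    choose l hl using hl
    let cI : Cone K :=
      { pt := op I
        π :=
          { app := fun j => (l j).op
            naturality := fun i j f => by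
              simp only [Functor.const_obj_obj, Functor.const_obj_map, id_comp]
              apply Quiver.Hom.unop_inj
              rw [← cancel_mono m]
              show l j ≫ m = ((K.map f).unop ≫ l i) ≫ m
              rw [assoc, hl, hl]
              exact congrArg Quiver.Hom.unop (c.w f).symm } }
    have : IsSplitEpi m := ⟨⟨⟨(hc.lift cI).unop, by
      refine Quiver.Hom.op_inj (hc.hom_ext fun j => ?_)
      rw [op_comp, assoc, Quiver.Hom.op_unop, hc.fac, op_id, id_comp]
      exact Quiver.Hom.unop_inj (hl j)⟩⟩⟩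
    exact isIso_of_mono_of_isSplitEpi m
  obtain ⟨xA, hxA⟩ := exists_cofan_elt h hP G (fun j => s j)
  obtain ⟨B, π, hπ⟩ := exists_quotient h (A := (cop h.hb G).pt)
    (fun d a b => P.map a.op xA = P.map b.op xA)
    (fun d => ⟨fun _ => rfl, fun e => e.symm, fun e e' => e.trans e'⟩)
    (fun f a b e => by
      rw [op_comp, op_comp, FunctorToTypes.map_comp_apply, FunctorToTypes.map_comp_apply, e])
    (fun {d₀} a b {ι' G'} g' hg' hl => hP.sep (cover_comp hg' (fun i => h.gen _)) fun ⟨i, ⟨d, t⟩⟩ => by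
      obtain ⟨f, hf⟩ := w.map_surjective (t ≫ g' i)
      rw [← FunctorToTypes.map_comp_apply, ← FunctorToTypes.map_comp_apply, ← op_comp, ← op_comp]
      show P.map ((t ≫ g' i) ≫ a).op xA = P.map ((t ≫ g' i) ≫ b).op xA
      rw [← hf]
      exact hl i d f t hf.symm)
  let cB : Cone K :=
    { pt := op B
      π :=
        { app := fun j => ((cop h.hb G).inj j ≫ π).op
          naturality := fun i j f => by
            simp only [Functor.const_obj_obj, Functor.const_obj_map, id_comp]
            apply Quiver.Hom.unop_inj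
            refine cover_hom_ext (h.gen _) fun ⟨d, k⟩ => ?_
            show k ≫ (cop h.hb G).inj j ≫ π = k ≫ (K.map f).unop ≫ (cop h.hb G).inj i ≫ π
            have := (hπ d (k ≫ (cop h.hb G).inj j) (k ≫ (K.map f).unop ≫ (cop h.hb G).inj i)).2 (by
              simp only [op_comp, FunctorToTypes.map_comp_apply, hxA, Quiver.Hom.op_unop]
              exact congrArg (P.map k.op) (hs f).symm)
            simpa only [assoc] using this } }
  refine hP g hg (fun j => s j) fun i j => hP.sep (h.gen _) fun ⟨d, k⟩ => ?_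
  rw [← FunctorToTypes.map_comp_apply, ← FunctorToTypes.map_comp_apply, ← op_comp, ← op_comp,
    ← hxA i, ← hxA j, ← FunctorToTypes.map_comp_apply, ← FunctorToTypes.map_comp_apply, ← op_comp, ← op_comp]
  refine (hπ d _ _).1 ?_
  have eB : ∀ l, (cop h.hb G).inj l ≫ π = g l ≫ (hc.lift cB).unop := fun l =>
    congrArg Quiver.Hom.unop (hc.fac cB l).symm
  simp only [assoc, eB, pullback.condition_assoc]

lemma hasGlue_of_preservesLimits (P : Eᵒᵖ ⥤ Type w') [PreservesLimitsOfSize.{u, u} P] : HasGlue P := by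
  intro X ι G g hg x hx
  let c := cop h.hb G
  have hA := isLimitFanMkObjOfIsLimit P (fun i => op (G i)) (fun i => (c.inj i).op)
    (Cofan.IsColimit.op (copIsColimit h.hb G))
  have inj : ∀ {κ : Type u} {H : κ → E} {d : Cofan H} (hd : IsColimit d) (a b : P.obj (op d.pt)),
      (∀ k, P.map (d.inj k).op a = P.map (d.inj k).op b) → a = b := fun {κ H d} hd a b e => by
    have hl := isLimitFanMkObjOfIsLimit P (fun i => op (H i)) (fun i => (d.inj i).op) (Cofan.IsColimit.op hd)
    exact Concrete.isLimit_ext _ hl a b fun ⟨k⟩ => e k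
  let sec : (Discrete.functor fun i => P.obj (op (G i))).sections := ⟨fun j => x j.as, fun {i j} f => by
    obtain rfl : i = j := Discrete.ext (Discrete.eq_of_hom f)
    rw [show f = 𝟙 i from Subsingleton.elim _ _, CategoryTheory.Functor.map_id]
    rfl⟩
  obtain ⟨a, ha, -⟩ := (Types.isLimit_iff _).1 ⟨hA⟩ sec.1 sec.2
  have ha' : ∀ i, P.map (c.inj i).op a = x i := fun i => ha ⟨i⟩
  let D := Cofan.IsColimit.desc (copIsColimit h.hb G) g
  have := UEffEpi.effectiveEpi (uee_desc h.hb h.hc hg)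
  have hco : IsColimit (Cofork.ofπ D (pullback.condition : pullback.fst D D ≫ D = pullback.snd D D ≫ D)) :=
    Cofork.IsColimit.mk _ (fun s => EffectiveEpi.desc D s.π fun g₁ g₂ e => by
        exact (pullback.lift_fst_assoc g₁ g₂ e s.π).symm.trans
          ((congrArg (pullback.lift g₁ g₂ e ≫ ·) s.condition).trans (pullback.lift_snd_assoc g₁ g₂ e s.π)))
      (fun s => EffectiveEpi.fac D _ _) (fun s m hm => EffectiveEpi.uniq D _ _ m hm)
  have w0 : D.op ≫ (pullback.fst D D).op = D.op ≫ (pullback.snd D D).op := by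
    rw [← op_comp, ← op_comp, pullback.condition]
  have hf : IsLimit (Fork.ofι D.op w0) :=
    IsLimit.ofIsoLimit (Cofork.isColimitEquivIsLimitOp _ hco) (Fork.ext (Iso.refl _) ((id_comp _).trans (Cofork.op_ι (Cofork.ofπ D pullback.condition)).symm))
  have : PreservesLimitsOfSize.{0, 0} P := preservesLimitsOfSize_shrink.{0, u, 0, u} P
  obtain ⟨b, hb, hbu⟩ := Types.unique_of_type_equalizer _ _ (isLimitForkMapOfIsLimit P w0 hf) a (by
    refine inj (piecesIsColimit h.hb (pullback.fst D D)) _ _ fun i => ?_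
    rw [← FunctorToTypes.map_comp_apply, ← FunctorToTypes.map_comp_apply]
    refine inj (piecesIsColimit h.hb (pullback.fst (pullback.fst D D) (c.inj i) ≫ pullback.snd D D)) _ _ fun j => ?_
    let p := pullback.fst (pullback.fst D D) (c.inj i)
    let q := pullback.fst (p ≫ pullback.snd D D) (c.inj j)
    show P.map q.op (P.map ((pullback.fst D D).op ≫ p.op) a) = P.map q.op (P.map ((pullback.snd D D).op ≫ p.op) a)
    rw [← FunctorToTypes.map_comp_apply, ← FunctorToTypes.map_comp_apply, ← op_comp, ← op_comp, ← op_comp, ← op_comp]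
    let u := q ≫ pullback.snd (pullback.fst D D) (c.inj i)
    let v := pullback.snd (p ≫ pullback.snd D D) (c.inj j)
    have eu : q ≫ p ≫ pullback.fst D D = u ≫ c.inj i := by
      simp only [u, p, assoc]; rw [pullback.condition]
    have ev : q ≫ p ≫ pullback.snd D D = v ≫ c.inj j := pullback.condition
    have huv : u ≫ g i = v ≫ g j := by
      have := congrArg ((q ≫ p) ≫ ·) (pullback.condition (f := D) (g := D))
      simp only [← assoc] at this
      rw [assoc q p, eu, assoc q p, ev, assoc u, assoc v] at this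
      simpa [D, c, Cofan.IsColimit.fac] using this
    rw [eu, ev]
    have := congrArg (P.map (pullback.lift u v huv).op) (hx i j)
    rw [← FunctorToTypes.map_comp_apply, ← FunctorToTypes.map_comp_apply, ← op_comp, ← op_comp,
      pullback.lift_fst, pullback.lift_snd] at this
    have e1 : ∀ {Z : E} (l : ι) (k : Z ⟶ G l), P.map (k ≫ c.inj l).op a = P.map k.op (x l) := fun {Z} l k => by
      rw [op_comp, FunctorToTypes.map_comp_apply, ha']
    exact (e1 i u).trans (this.trans (e1 j v).symm))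
  refine ⟨b, fun i => ?_, fun b' hb' => hbu b' ?_⟩
  · rw [← ha', ← hb, ← FunctorToTypes.map_comp_apply, ← op_comp, Cofan.IsColimit.fac]
  · refine inj (copIsColimit h.hb G) _ _ fun i => ?_
    rw [← FunctorToTypes.map_comp_apply, ← op_comp, Cofan.IsColimit.fac]
    exact (hb' i).trans (ha' i).symm

lemma exists_repr (P : Eᵒᵖ ⥤ Type u) (hP : HasGlue P) : P.IsRepresentable := by
  have := h.full
  have := h.faithful
  let F : Sheaf (topology h) (Type u) := ⟨w.op ⋙ P, (isSheaf_iff_isSheaf_of_type _ _).mpr (by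
    intro c S hS x hx
    obtain ⟨a, ha, hu⟩ := hP (mem w S) hS (fun p => x p.2.1 p.2.2) fun p q => hP.sep (h.gen _) fun ⟨d, k⟩ => by
      obtain ⟨a, ha⟩ := w.map_surjective (k ≫ pullback.fst (mem w S p) (mem w S q))
      obtain ⟨b, hb⟩ := w.map_surjective (k ≫ pullback.snd (mem w S p) (mem w S q))
      rw [← FunctorToTypes.map_comp_apply, ← FunctorToTypes.map_comp_apply, ← op_comp, ← op_comp, ← ha, ← hb]
      refine hx a b p.2.2 q.2.2 (w.map_injective ?_)
      rw [Functor.map_comp, Functor.map_comp, ha, hb, assoc, assoc]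
      exact congrArg (k ≫ ·) pullback.condition
    exact ⟨a, fun d f hf => ha ⟨d, f, hf⟩, fun a' ha' => hu a' fun p => ha' _ p.2.2⟩)⟩
  obtain ⟨Q, ⟨e⟩⟩ := exists_rep h F
  let eh : w.op ⋙ yoneda.obj Q ≅ w.op ⋙ P := (sheafToPresheaf _ _).mapIso e
  have nat : ∀ {d c : C} (f : d ⟶ c) (k : w.obj c ⟶ Q),
      P.map (w.map f).op (eh.hom.app (op c) k) = eh.hom.app (op d) (w.map f ≫ k) := fun f k =>
    (NatTrans.naturality_apply eh.hom f.op k).symm
  obtain ⟨q, hq, -⟩ := hP (fun p : Σ c, (w.obj c ⟶ Q) => p.2) (h.gen Q) (fun p => eh.hom.app (op p.1) p.2)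
    fun p p' => hP.sep (h.gen _) fun ⟨d, z⟩ => by
      obtain ⟨a, ha⟩ := w.map_surjective (z ≫ pullback.fst p.2 p'.2)
      obtain ⟨b, hb⟩ := w.map_surjective (z ≫ pullback.snd p.2 p'.2)
      rw [← FunctorToTypes.map_comp_apply, ← FunctorToTypes.map_comp_apply, ← op_comp, ← op_comp, ← ha, ← hb,
        nat, nat]
      refine congrArg _ ?_
      rw [ha, hb, assoc, assoc]
      exact congrArg (z ≫ ·) pullback.condition
  let φ : yoneda.obj Q ⟶ P := yonedaEquiv.symm q
  have hφ : ∀ {c : C} (k : w.obj c ⟶ Q), φ.app (op (w.obj c)) k = eh.hom.app (op c) k := fun {c} k => hq ⟨c, k⟩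
  have : ∀ X, IsIso (φ.app X) := fun ⟨X⟩ => (isIso_iff_bijective _).2 ⟨fun a b e =>
    cover_hom_ext (h.gen X) fun ⟨c, k⟩ => by
      have hinj : Function.Injective (eh.hom.app (op c)) := ((isIso_iff_bijective _).1 inferInstance).1
      refine hinj ?_
      rw [← hφ, ← hφ]
      exact (NatTrans.naturality_apply φ k.op a).trans ((congrArg (P.map k.op) e).trans
        (NatTrans.naturality_apply φ k.op b).symm), fun x => by
    choose l hl using fun p : Σ c, (w.obj c ⟶ X) =>
      ((isIso_iff_bijective (eh.hom.app (op p.1))).1 inferInstance).2 (P.map p.2.op x)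
    obtain ⟨a, ha⟩ := exists_desc h.hb h.hc (h.gen X) l fun p p' => cover_hom_ext (h.gen _) fun ⟨d, z⟩ => by
      obtain ⟨a, ha⟩ := w.map_surjective (z ≫ pullback.fst p.2 p'.2)
      obtain ⟨b, hb⟩ := w.map_surjective (z ≫ pullback.snd p.2 p'.2)
      show z ≫ _ ≫ l p = z ≫ _ ≫ l p'
      rw [← assoc, ← assoc, ← ha, ← hb]
      apply ((isIso_iff_bijective (eh.hom.app (op d))).1 inferInstance).1
      rw [← nat, ← nat, hl, hl, ← FunctorToTypes.map_comp_apply, ← FunctorToTypes.map_comp_apply, ← op_comp,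
        ← op_comp, ha, hb, assoc, assoc, pullback.condition]
    refine ⟨a, hP.sep (h.gen X) fun p => ?_⟩
    rw [← hl p, ← ha p, ← hφ]
    exact (NatTrans.naturality_apply φ p.2.op a).symm⟩
  have : IsIso φ := NatIso.isIso_of_isIso_app φ
  exact ⟨Q, ⟨Functor.representableByEquiv.symm (asIso φ)⟩⟩

end Groth.L09.Giraud
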