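import Groth.Agent.L09.GiraudMain
import Mathlib.CategoryTheory.Limits.Comma
import Mathlib.CategoryTheory.Limits.Preserves.Shapes.Pullbacks
import Mathlib.CategoryTheory.Limits.Preserves.Shapes.Products
import Mathlib.CategoryTheory.ObjectProperty.Small

/-!
The category glued along a left exact functor satisfies the axioms of Giraud.
-/

set_option autoImplicit false
set_option linter.unusedSectionVars false
set_option linter.unusedVariables false
universe v v' u

open CategoryTheory Category Limits Opposite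

namespace Groth.L09.Glue

lemma isEquivRel_map {E : Type v} [Category.{u} E] {E' : Type v'} [Category.{u} E'] [HasFiniteLimits E]
    [HasFiniteLimits E'] (F : E ⥤ E') [PreservesFiniteLimits F] {R A : E} {p₁ p₂ : R ⟶ A}
    (h : SGA4.IsEquivRel p₁ p₂) : SGA4.IsEquivRel (F.map p₁) (F.map p₂) := by
  have hm : Mono (prod.lift p₁ p₂) := ⟨fun {T} a b e => (h T).1 (Prod.ext
    (by simpa only [assoc, prod.lift_fst] using congrArg (· ≫ prod.fst) e)
    (by simpa only [assoc, prod.lift_snd] using congrArg (· ≫ prod.snd) e))⟩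
  obtain ⟨r, hr₁, hr₂⟩ := (h A).2.refl (𝟙 A)
  obtain ⟨s, hs₁, hs₂⟩ := (h R).2.symm (x := p₁) (y := p₂) ⟨𝟙 R, id_comp _, id_comp _⟩
  obtain ⟨t, ht₁, ht₂⟩ := (h (pullback p₂ p₁)).2.trans (x := pullback.fst p₂ p₁ ≫ p₁)
    (y := pullback.fst p₂ p₁ ≫ p₂) (z := pullback.snd p₂ p₁ ≫ p₂) ⟨pullback.fst p₂ p₁, rfl, rfl⟩
    ⟨pullback.snd p₂ p₁, pullback.condition.symm, rfl⟩
  refine fun T => ⟨fun a b e => ?_, ⟨fun a => ?_, fun {a b} => ?_, fun {a b c} => ?_⟩⟩
  · rw [← cancel_mono (F.map (prod.lift p₁ p₂) ≫ prodComparison F A A)]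
    apply prod.hom_ext
    · simp only [prodComparison, assoc, prod.lift_fst, ← F.map_comp]
      exact congrArg Prod.fst e
    · simp only [prodComparison, assoc, prod.lift_snd, ← F.map_comp]
      exact congrArg Prod.snd e
  · exact ⟨a ≫ F.map r, by rw [assoc, ← F.map_comp, hr₁, F.map_id, comp_id],
      by rw [assoc, ← F.map_comp, hr₂, F.map_id, comp_id]⟩
  · rintro ⟨f, rfl, rfl⟩
    exact ⟨f ≫ F.map s, by rw [assoc, ← F.map_comp, hs₁], by rw [assoc, ← F.map_comp, hs₂]⟩
  · rintro ⟨f, rfl, hf⟩ ⟨g, hg, rfl⟩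
    let l := pullback.lift f g (hf.trans hg.symm) ≫ (PreservesPullback.iso F p₂ p₁).inv
    refine ⟨l ≫ F.map t, ?_, ?_⟩
    · simp only [l, assoc, ← F.map_comp, ht₁]
      rw [F.map_comp, PreservesPullback.iso_inv_fst_assoc]
      exact pullback.lift_fst_assoc _ _ _ _
    · simp only [l, assoc, ← F.map_comp, ht₂]
      rw [F.map_comp, PreservesPullback.iso_inv_snd_assoc]
      exact pullback.lift_snd_assoc _ _ _ _

variable {A : Type (u + 1)} [Category.{u} A] {B : Type (u + 1)} [Category.{u} B] (ρ : B ⥤ A)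
  [HasFiniteLimits A] [HasFiniteLimits B] [PreservesFiniteLimits ρ]

instance : PreservesFiniteLimits (Comma.fst (𝟭 A) ρ) where
  preservesFiniteLimits J _ _ := ⟨fun {K} => preservesLimit_of_preserves_limit_cone
    (Comma.coneOfPreservesIsLimit K (limit.isLimit _) (limit.isLimit _)) (limit.isLimit _)⟩

instance : PreservesFiniteLimits (Comma.snd (𝟭 A) ρ) where
  preservesFiniteLimits J _ _ := ⟨fun {K} => preservesLimit_of_preserves_limit_cone
    (Comma.coneOfPreservesIsLimit K (limit.isLimit _) (limit.isLimit _)) (limit.isLimit _)⟩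

variable {ρ}

lemma isIso_of_components {X Y : Comma (𝟭 A) ρ} (f : X ⟶ Y) [IsIso f.left] [IsIso f.right] : IsIso f :=
  ⟨⟨{ left := inv f.left
      right := inv f.right
      w := by
        rw [Functor.id_map, IsIso.inv_comp_eq, ← assoc, ← Functor.id_map (X := X.left) f.left, f.w,
          assoc, ← ρ.map_comp, IsIso.hom_inv_id, ρ.map_id, comp_id] },
    by ext <;> simp, by ext <;> simp⟩⟩

lemma mono_of_components {X Y : Comma (𝟭 A) ρ} (f : X ⟶ Y) [Mono f.left] [Mono f.right] : Mono f :=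
  ⟨fun {Z} a b e => CommaMorphism.ext
    ((cancel_mono f.left).1 (congrArg CommaMorphism.left e))
    ((cancel_mono f.right).1 (congrArg CommaMorphism.right e))⟩

/-- An object both of whose components are initial is initial. -/
def isInitialOfComponents {X : Comma (𝟭 A) ρ} (hA : IsInitial X.left) (hB : IsInitial X.right) :
    IsInitial X :=
  IsInitial.ofUniqueHom (fun Y => { left := hA.to _, right := hB.to _, w := hA.hom_ext _ _ })
    fun Y m => CommaMorphism.ext (hA.hom_ext _ _) (hB.hom_ext _ _)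

lemma effectiveEpi_of_components {X Y : Comma (𝟭 A) ρ} (q : Y ⟶ X) [EffectiveEpi q.left]
    [EffectiveEpi q.right] : EffectiveEpi q := by
  have key : ∀ {W : Comma (𝟭 A) ρ} (e : Y ⟶ W),
      (∀ {Z : Comma (𝟭 A) ρ} (g₁ g₂ : Z ⟶ Y), g₁ ≫ q = g₂ ≫ q → g₁ ≫ e = g₂ ≫ e) →
      (∀ {Z : A} (g₁ g₂ : Z ⟶ Y.left), g₁ ≫ q.left = g₂ ≫ q.left → g₁ ≫ e.left = g₂ ≫ e.left) ∧
      (∀ {Z : B} (g₁ g₂ : Z ⟶ Y.right), g₁ ≫ q.right = g₂ ≫ q.right → g₁ ≫ e.right = g₂ ≫ e.right) := by
    intro W e he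
    have h := he (pullback.fst q q) (pullback.snd q q) pullback.condition
    refine ⟨fun g₁ g₂ hg => ?_, fun g₁ g₂ hg => ?_⟩
    · have := congrArg (fun k => (pullback.lift g₁ g₂ hg ≫
        (PreservesPullback.iso (Comma.fst (𝟭 A) ρ) q q).inv) ≫ k)
        (congrArg (fun k => (Comma.fst (𝟭 A) ρ).map k) h)
      simp only [Functor.map_comp, assoc, PreservesPullback.iso_inv_fst_assoc,
        PreservesPullback.iso_inv_snd_assoc] at this
      exact (pullback.lift_fst_assoc g₁ g₂ hg e.left).symm.trans (this.trans (pullback.lift_snd_assoc g₁ g₂ hg e.left))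
    · have := congrArg (fun k => (pullback.lift g₁ g₂ hg ≫
        (PreservesPullback.iso (Comma.snd (𝟭 A) ρ) q q).inv) ≫ k)
        (congrArg (fun k => (Comma.snd (𝟭 A) ρ).map k) h)
      simp only [Functor.map_comp, assoc, PreservesPullback.iso_inv_fst_assoc,
        PreservesPullback.iso_inv_snd_assoc] at this
      exact (pullback.lift_fst_assoc g₁ g₂ hg e.right).symm.trans (this.trans (pullback.lift_snd_assoc g₁ g₂ hg e.right))
  refine ⟨⟨{
    desc := fun {W} e he =>
      { left := EffectiveEpi.desc q.left e.left (key e he).1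
        right := EffectiveEpi.desc q.right e.right (key e he).2
        w := ?_ }
    fac := fun e he => CommaMorphism.ext (EffectiveEpi.fac q.left e.left (key e he).1)
      (EffectiveEpi.fac q.right e.right (key e he).2)
    uniq := fun e he m hm => CommaMorphism.ext
      (EffectiveEpi.uniq q.left e.left (key e he).1 m.left (congrArg CommaMorphism.left hm))
      (EffectiveEpi.uniq q.right e.right (key e he).2 m.right (congrArg CommaMorphism.right hm)) }⟩⟩
  rw [← cancel_epi q.left, Functor.id_map, ← assoc, EffectiveEpi.fac, ← assoc]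
  refine e.w.trans (Eq.symm ((congrArg (fun k => k ≫ ρ.map (EffectiveEpi.desc q.right e.right _)) q.w).trans ?_))
  rw [assoc, ← ρ.map_comp, EffectiveEpi.fac]

variable (hA : ∀ (R X : A) (p₁ p₂ : R ⟶ X), SGA4.IsEquivRel p₁ p₂ → SGA4.IsEffectiveUniversalEquivRel p₁ p₂)
  (hB : ∀ (R X : B) (p₁ p₂ : R ⟶ X), SGA4.IsEquivRel p₁ p₂ → SGA4.IsEffectiveUniversalEquivRel p₁ p₂)

include hA hB in
lemma isEffectiveUniversalEquivRel {R X : Comma (𝟭 A) ρ} {p₁ p₂ : R ⟶ X} (h : SGA4.IsEquivRel p₁ p₂) :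
    SGA4.IsEffectiveUniversalEquivRel p₁ p₂ := by
  obtain ⟨QA, πA, hpbA, hpoA, huA⟩ := hA _ _ _ _ (isEquivRel_map (Comma.fst (𝟭 A) ρ) h)
  obtain ⟨QB, πB, hpbB, hpoB, huB⟩ := hB _ _ _ _ (isEquivRel_map (Comma.snd (𝟭 A) ρ) h)
  have hw : p₁.left ≫ X.hom ≫ ρ.map πB = p₂.left ≫ X.hom ≫ ρ.map πB := by
    rw [← assoc, ← assoc, ← Functor.id_map (X := R.left) p₁.left, p₁.w, ← Functor.id_map (X := R.left) p₂.left,
      p₂.w, assoc, assoc, ← ρ.map_comp, ← ρ.map_comp]
    exact congrArg (fun k => R.hom ≫ ρ.map k) hpoB.w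
  let Q : Comma (𝟭 A) ρ := ⟨QA, QB, hpoA.desc (X.hom ≫ ρ.map πB) (X.hom ≫ ρ.map πB) hw⟩
  let π : X ⟶ Q := { left := πA, right := πB, w := hpoA.inl_desc _ _ hw }
  have w : p₁ ≫ π = p₂ ≫ π := CommaMorphism.ext hpoA.w hpoB.w
  refine ⟨Q, π, ⟨⟨w⟩, ⟨?_⟩⟩, ⟨⟨w⟩, ⟨PushoutCocone.IsColimit.mk w (fun s => ?_) (fun s => ?_)
    (fun s => ?_) (fun s m h₁ h₂ => ?_)⟩⟩, fun B' g => ?_⟩
  · exact Comma.fstSndJointlyReflectLimit
      ((isLimitMapConePullbackConeEquiv (Comma.fst (𝟭 A) ρ) w).symm hpbA.isLimit)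
      ((isLimitMapConePullbackConeEquiv (Comma.snd (𝟭 A) ρ) w).symm hpbB.isLimit)
  · exact
      { left := hpoA.desc s.inl.left s.inr.left (congrArg CommaMorphism.left s.condition)
        right := hpoB.desc s.inl.right s.inr.right (congrArg CommaMorphism.right s.condition)
        w := hpoA.hom_ext
          (by
            rw [Functor.id_map, ← assoc, ← assoc]
            erw [hpoA.inl_desc, hpoA.inl_desc]
            rw [assoc, ← ρ.map_comp, hpoB.inl_desc]
            exact s.inl.w)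
          (by
            rw [Functor.id_map, ← assoc, ← assoc]
            erw [hpoA.inr_desc, hpoA.inr_desc]
            rw [assoc, ← ρ.map_comp, hpoB.inr_desc]
            exact s.inr.w) }
  · exact CommaMorphism.ext (hpoA.inl_desc _ _ _) (hpoB.inl_desc _ _ _)
  · exact CommaMorphism.ext (hpoA.inr_desc _ _ _) (hpoB.inr_desc _ _ _)
  · exact CommaMorphism.ext
      (hpoA.hom_ext ((congrArg CommaMorphism.left h₁).trans (hpoA.inl_desc _ _ _).symm)
        ((congrArg CommaMorphism.left h₂).trans (hpoA.inr_desc _ _ _).symm))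
      (hpoB.hom_ext ((congrArg CommaMorphism.right h₁).trans (hpoB.inl_desc _ _ _).symm)
        ((congrArg CommaMorphism.right h₂).trans (hpoB.inr_desc _ _ _).symm))
  · have H := (IsPullback.of_hasPullback π g)
    have : EffectiveEpi (pullback.snd π g).left := by
      have H' := H.map (Comma.fst (𝟭 A) ρ)
      have := huA B'.left g.left
      rw [show (pullback.snd π g).left = H'.isoPullback.hom ≫ pullback.snd πA g.left from
        H'.isoPullback_hom_snd.symm]
      infer_instance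
    have : EffectiveEpi (pullback.snd π g).right := by
      have H' := H.map (Comma.snd (𝟭 A) ρ)
      have := huB B'.right g.right
      rw [show (pullback.snd π g).right = H'.isoPullback.hom ≫ pullback.snd πB g.right from
        H'.isoPullback_hom_snd.symm]
      infer_instance
    exact effectiveEpi_of_components _

/-- A cocone on a discrete diagram is colimiting if the corresponding cofan is. -/
def isColimitOfCofanMk {C : Type*} [Category C] {ι : Type*} {F : Discrete ι ⥤ C} {c : Cocone F}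
    (h : IsColimit (Cofan.mk c.pt (fun i => c.ι.app ⟨i⟩) : Cofan (fun i => F.obj ⟨i⟩))) : IsColimit c where
  desc s := Cofan.IsColimit.desc h (fun i => s.ι.app ⟨i⟩)
  fac s := fun ⟨i⟩ => Cofan.IsColimit.fac h (fun i => s.ι.app ⟨i⟩) i
  uniq s m hm := Cofan.IsColimit.hom_ext h _ _ fun i =>
    (hm ⟨i⟩).trans (Cofan.IsColimit.fac h (fun i => s.ι.app ⟨i⟩) i).symm

variable [HasColimitsOfSize.{u, u} A] [HasColimitsOfSize.{u, u} B]
  (hbA : SGA4.HasDisjointUniversalCoproducts.{u + 1, u} A) (hbB : SGA4.HasDisjointUniversalCoproducts.{u + 1, u} B)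

lemma mapped_isColimit_pieces {D : Type (u + 1)} [Category.{u} D] (hb : SGA4.HasDisjointUniversalCoproducts.{u + 1, u} D)
    (F : Comma (𝟭 A) ρ ⥤ D) {ι : Type u} {X : ι → Comma (𝟭 A) ρ}
    [PreservesColimitsOfShape (Discrete ι) F] [PreservesFiniteLimits F]
    {F' : Discrete ι ⥤ Comma (𝟭 A) ρ} (c' : Cocone F') (α : F' ⟶ Discrete.functor X)
    (f : c'.pt ⟶ ∐ X) (H : ∀ j, IsPullback (c'.ι.app j) (α.app j) f (Sigma.ι X j.as)) :
    Nonempty (IsColimit (F.mapCocone c')) := by
  obtain ⟨c, hc, -, hu⟩ := hb ι (fun i => F.obj (X i))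
  have hd := isColimitCofanMkObjOfIsColimit F X _ (coproductIsCoproduct X)
  have hu' := hu.of_iso (hc.uniqueUpToIso hd)
  obtain ⟨k⟩ := hu' (Cofan.mk (F.obj c'.pt) (fun i => F.map (c'.ι.app ⟨i⟩)) : Cofan (fun i => F.obj (F'.obj ⟨i⟩)))
    (Discrete.natTrans fun j => F.map (α.app j)) (F.map f)
    (by ext ⟨j⟩; exact ((H ⟨j⟩).map F).w.symm) (NatTrans.Equifibered.of_discrete _)
    (fun ⟨j⟩ => (H ⟨j⟩).map F)
  exact ⟨isColimitOfCofanMk (c := F.mapCocone c') k⟩

lemma mapped_disjoint {D : Type (u + 1)} [Category.{u} D] [HasFiniteLimits D]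
    (hb : SGA4.HasDisjointUniversalCoproducts.{u + 1, u} D)
    (F : Comma (𝟭 A) ρ ⥤ D) {ι : Type u} (X : ι → Comma (𝟭 A) ρ)
    [PreservesColimitsOfShape (Discrete ι) F] [PreservesFiniteLimits F] :
    (∀ i, Mono (F.map (Sigma.ι X i))) ∧ ∀ i j, i ≠ j → Nonempty (IsInitial (F.obj (pullback (Sigma.ι X i) (Sigma.ι X j)))) := by
  obtain ⟨c, hc, hd, -⟩ := hb ι (fun i => F.obj (X i))
  have hk := isColimitCofanMkObjOfIsColimit F X _ (coproductIsCoproduct X)
  refine ⟨fun i => Mono.of_coproductDisjoint hk i, fun i j hij => ?_⟩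
  exact hd.nonempty_isInitial_of_ne hk hij
    (PullbackCone.mk (F.map (pullback.fst (Sigma.ι X i) (Sigma.ι X j))) (F.map (pullback.snd _ _))
      (by rw [← F.map_comp, ← F.map_comp, pullback.condition]) : PullbackCone (F.map (Sigma.ι X i)) (F.map (Sigma.ι X j)))
    ((IsPullback.of_hasPullback (Sigma.ι X i) (Sigma.ι X j)).map F).isLimit

include hbA hbB in
lemma hasDisjointUniversalCoproducts : SGA4.HasDisjointUniversalCoproducts.{u + 1, u} (Comma (𝟭 A) ρ) := by
  intro ι X
  obtain ⟨hmA, hiA⟩ := mapped_disjoint hbA (Comma.fst (𝟭 A) ρ) X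
  obtain ⟨hmB, hiB⟩ := mapped_disjoint hbB (Comma.snd (𝟭 A) ρ) X
  refine ⟨Cofan.mk (∐ X) (Sigma.ι X), coproductIsCoproduct X, ?_, ?_⟩
  · have hm : ∀ i, Mono ((Cofan.mk (∐ X) (Sigma.ι X)).inj i) := fun i =>
      have : Mono (Sigma.ι X i).left := hmA i
      have : Mono (Sigma.ι X i).right := hmB i
      mono_of_components (Sigma.ι X i)
    refine CoproductDisjoint.of_cofan (coproductIsCoproduct X)
      (fun {i j} _ => PullbackCone.mk (pullback.fst (Sigma.ι X i) (Sigma.ι X j)) (pullback.snd _ _) pullback.condition)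
      (fun {i j} _ => pullbackIsPullback (Sigma.ι X i) (Sigma.ι X j))
      (fun {i j} hij => isInitialOfComponents (hiA i j hij).some (hiB i j hij).some)
  · intro F' c' α f h hα H
    exact ⟨Comma.fstSndJointlyReflectColimit
      (mapped_isColimit_pieces hbA (Comma.fst (𝟭 A) ρ) c' α f H).some
      (mapped_isColimit_pieces hbB (Comma.snd (𝟭 A) ρ) c' α f H).some⟩

open Giraud in
include hbA hbB in
lemma exists_detecting {C₁ : Type u} [SmallCategory C₁] {wA : C₁ ⥤ A} (hwA : Setup wA)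
    {C₂ : Type u} [SmallCategory C₂] {wB : C₂ ⥤ B} (hwB : Setup wB) {σ : Type u} (S : σ → B)
    (loc : ∀ (b : B) (T : A) (g : T ⟶ ρ.obj b),
      Cover (fun p : Σ c, { z : wA.obj c ⟶ T // ∃ (s : σ) (u : S s ⟶ b) (h : wA.obj c ⟶ ρ.obj (S s)),
        h ≫ ρ.map u = z ≫ g } => p.2.1)) :
    ∃ P : ObjectProperty (Comma (𝟭 A) ρ), ObjectProperty.Small.{u} P ∧ P.IsDetecting := by
  let T₁ : C₂ → Comma (𝟭 A) ρ := fun c => ⟨⊥_ A, wB.obj c, initial.to _⟩
  let T₂ : (Σ (c : C₁) (s : σ), (wA.obj c ⟶ ρ.obj (S s))) → Comma (𝟭 A) ρ := fun p => ⟨wA.obj p.1, S p.2.1, p.2.2⟩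
  refine ⟨ObjectProperty.ofObj (Sum.elim T₁ T₂), inferInstance, fun X Y f hf => ?_⟩
  have h₁ : ∀ c (y : wB.obj c ⟶ Y.right), ∃! x : wB.obj c ⟶ X.right, x ≫ f.right = y := by
    intro c y
    obtain ⟨g, hg, hu⟩ := hf (T₁ c) (ObjectProperty.ofObj_apply (Sum.elim T₁ T₂) (Sum.inl c))
      { left := initial.to _, right := y, w := initial.hom_ext _ _ }
    exact ⟨g.right, congrArg CommaMorphism.right hg, fun x hx => congrArg CommaMorphism.right
      (hu { left := initial.to _, right := x, w := initial.hom_ext _ _ } (CommaMorphism.ext (initial.hom_ext _ _) hx))⟩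
  have : IsIso f.right := by
    have : Mono f.right := ⟨fun {T} a b e => cover_hom_ext (hwB.gen T) fun p =>
      (h₁ p.1 (p.2 ≫ a ≫ f.right)).unique (assoc _ _ _) (by rw [e, assoc])⟩
    exact hwB.gen Y.right f.right this fun p => (h₁ p.1 p.2).exists
  have : IsIso f.left := by
    have hext : ∀ {c : C₁} (a : wA.obj c ⟶ Y.left) (s : σ) (u : S s ⟶ Y.right) (h : wA.obj c ⟶ ρ.obj (S s)),
        h ≫ ρ.map u = a ≫ Y.hom → ∃! x : wA.obj c ⟶ X.left, x ≫ f.left = a := by
      intro c a s u h e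
      obtain ⟨g, hg, hu⟩ := hf (T₂ ⟨c, s, h⟩) (ObjectProperty.ofObj_apply (Sum.elim T₁ T₂) (Sum.inr ⟨c, s, h⟩))
        { left := a, right := u, w := e.symm }
      refine ⟨g.left, congrArg CommaMorphism.left hg, fun x hx => ?_⟩
      have wx : x ≫ X.hom = h ≫ ρ.map (u ≫ inv f.right) := by
        rw [← cancel_mono (ρ.map f.right), assoc, assoc, ← f.w, ← ρ.map_comp, assoc, IsIso.inv_hom_id, comp_id,
          Functor.id_map, ← assoc, hx]
        exact e.symm
      exact congrArg CommaMorphism.left (hu { left := x, right := u ≫ inv f.right, w := wx }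
        (CommaMorphism.ext hx (by simp)))
    have : Mono f.left := ⟨fun {T} a b e => cover_hom_ext (loc Y.right T (a ≫ f.left ≫ Y.hom))
      fun ⟨c, z, s, u, h, hz⟩ => (hext (z ≫ a ≫ f.left) s u h (by rw [hz]; simp only [assoc])).unique
        (assoc _ _ _) (by rw [e, assoc])⟩
    exact loc Y.right Y.left Y.hom f.left this fun ⟨c, z, s, u, h, hz⟩ => (hext z s u h hz).exists
  exact isIso_of_components f

end Groth.L09.Glue
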