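import Groth.Agent.L09.OverS
import Groth.Prelude.Def_ActBC

/-!
# Agreement of two base-changed morphisms on an overlap
-/

universe u

open CategoryTheory CategoryTheory.Limits MonoidalCategory CartesianMonoidalCategory AlgebraicGeometry

namespace Groth.L09.OverS

set_option backward.isDefEq.respectTransparency.types false
set_option backward.isDefEq.respectTransparency false

variable {S U₁ U₂ U₁₂ : Scheme.{u}} {d₁ : U₁ ⟶ S} {d₂ : U₂ ⟶ S} {e₁ : U₁₂ ⟶ U₁} {e₂ : U₁₂ ⟶ U₂}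
  {P Q : Over S}

/-- Agreement on the overlap in terms of points. -/
theorem agree (h : e₁ ≫ d₁ = e₂ ≫ d₂) (α₁ : Red.bc d₁ P ⟶ Red.bc d₁ Q)
    (α₂ : Red.bc d₂ P ⟶ Red.bc d₂ Q)
    (hagree : (Over.pullback e₁).map α₁ ≫ (ActBC.bcCompIso e₁ d₁ Q h).hom =
      (ActBC.bcCompIso e₁ d₁ P h).hom ≫ (ActBC.bcCompIso e₂ d₂ P rfl).inv ≫
        (Over.pullback e₂).map α₂ ≫ (ActBC.bcCompIso e₂ d₂ Q rfl).hom)
    {Z : Over S} (x : Z ⟶ P) (k₁ : Z ⟶ Over.mk d₁) (k₂ : Z ⟶ Over.mk d₂)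
    (l : Z.left ⟶ U₁₂) (hl₁ : l ≫ e₁ = k₁.left) (hl₂ : l ≫ e₂ = k₂.left) :
    lift x k₁ ≫ overS α₁ = lift x k₂ ≫ overS α₂ := by
  let a : Z.left ⟶ (Red.bc d₁ P).left := (lift x k₁).left
  let b : Z.left ⟶ (Red.bc d₂ P).left := (lift x k₂).left
  have ha1 : a ≫ pullback.fst P.hom d₁ = x.left := Conv.lift_left_fst _ _
  have ha2 : a ≫ pullback.snd P.hom d₁ = k₁.left := Conv.lift_left_snd _ _
  have hb1 : b ≫ pullback.fst P.hom d₂ = x.left := Conv.lift_left_fst _ _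
  have hb2 : b ≫ pullback.snd P.hom d₂ = k₂.left := Conv.lift_left_snd _ _
  let y : Z.left ⟶ (Red.bc e₁ (Red.bc d₁ P)).left := pullback.lift a l (ha2.trans hl₁.symm)
  let w : Z.left ⟶ (Red.bc e₂ (Red.bc d₂ P)).left := pullback.lift b l (hb2.trans hl₂.symm)
  have hyw : y ≫ (ActBC.bcCompIso e₁ d₁ P h).hom.left =
      w ≫ (ActBC.bcCompIso e₂ d₂ P rfl).hom.left := by
    refine pullback.hom_ext ?_ ?_
    · simp [y, w, ha1, hb1]
    · simp [y, w]
  have hw : y ≫ (ActBC.bcCompIso e₁ d₁ P h).hom.left ≫ (ActBC.bcCompIso e₂ d₂ P rfl).inv.left = w := by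
    rw [reassoc_of% hyw, ← Over.comp_left, Iso.hom_inv_id, Over.id_left, Category.comp_id]
  have := congrArg (fun m : Red.bc e₁ (Red.bc d₁ P) ⟶ Red.bc (e₂ ≫ d₂) Q =>
    y ≫ m.left ≫ pullback.fst Q.hom _) hagree
  simp only [Over.comp_left, Category.assoc, ActBC.bcCompIso_hom_left_fst] at this
  rw [ActBC.pullback_map_left_fst_assoc, reassoc_of% hw, ActBC.pullback_map_left_fst_assoc] at this
  simp only [y, w, pullback.lift_fst_assoc] at this
  ext1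
  exact this

end Groth.L09.OverS
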