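import Groth.Agent.L09.PatchPB
import Mathlib.AlgebraicGeometry.AffineTransitionLimit
import Mathlib.Algebra.Category.Ring.FilteredColimits
import Mathlib.Algebra.Category.Ring.Colimits
import Mathlib.CategoryTheory.Limits.Types.Filtered
import Mathlib.CategoryTheory.Monoidal.Cartesian.Over
import Mathlib.CategoryTheory.Monoidal.Cartesian.Grp
import Mathlib.RingTheory.Localization.Integral

/-!
# Lifting points over `D[X]`, `D = C[1/s]`, which are trivial at `X = 0`, after `X ↦ sᴺ X`
-/

universe u

open CategoryTheory CategoryTheory.Limits MonoidalCategory CartesianMonoidalCategory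
  AlgebraicGeometry Polynomial

namespace Groth.L09.Patch

variable (R : Type u) [CommRing R]

/-- The spectrum of an algebra over the spectrum of the base. -/
noncomputable abbrev spO (C : Type u) [CommRing C] [Algebra R C] :
    Over (Spec (CommRingCat.of R)) :=
  Over.mk (Spec.map (CommRingCat.ofHom (algebraMap R C)))

variable {R}
variable {C D E : Type u} [CommRing C] [CommRing D] [CommRing E] [Algebra R C] [Algebra R D]
  [Algebra R E]

/-- The morphism of spectra of an algebra map. -/
noncomputable def pm (φ : C →ₐ[R] D) : spO R D ⟶ spO R C :=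
  Over.homMk (sp φ.toRingHom) (by
    show sp φ.toRingHom ≫ sp (algebraMap R C) = sp (algebraMap R D)
    rw [sp_comp]; congr; exact RingHom.ext φ.commutes)

@[simp]
lemma pm_left (φ : C →ₐ[R] D) : (pm φ).left = sp φ.toRingHom := rfl

lemma pm_comp (φ : C →ₐ[R] D) (ψ : D →ₐ[R] E) : pm ψ ≫ pm φ = pm (ψ.comp φ) := by
  ext1; exact sp_comp _ _

lemma pm_id : pm (AlgHom.id R C) = 𝟙 _ := by ext1; exact sp_id

/-- Substitution `X ↦ a X`. -/
noncomputable def scale (a : C) : C[X] →+* C[X] := eval₂RingHom Polynomial.C (Polynomial.C a * X)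

@[simp] lemma scale_C (a c : C) : scale a (Polynomial.C c) = Polynomial.C c := by simp [scale]

@[simp] lemma scale_X (a : C) : scale a X = Polynomial.C a * X := by simp [scale]

lemma scale_comp (a b : C) : (scale a).comp (scale b) = scale (a * b) := by
  refine Polynomial.ringHom_ext (fun c => by simp) ?_
  simp; ring

lemma scale_one : scale (1 : C) = RingHom.id C[X] :=
  Polynomial.ringHom_ext (fun c => by simp) (by simp)

lemma scale_coeff (a : C) (p : C[X]) (n : ℕ) : (scale a p).coeff n = p.coeff n * a ^ n :=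
  comp_C_mul_X_coeff

/-- Substitution `X ↦ a X` as an algebra map. -/
noncomputable def scaleA (a : C) : C[X] →ₐ[R] C[X] :=
  { scale a with commutes' := fun r => scale_C a _ }

@[simp] lemma scaleA_toRingHom (a : C) : (scaleA (R := R) a).toRingHom = scale a := rfl

lemma map_scale (f : C →+* D) (a : C) :
    (mapRingHom f).comp (scale a) = (scale (f a)).comp (mapRingHom f) :=
  Polynomial.ringHom_ext (fun c => by simp) (by simp)

section Square

variable (C D) [Algebra C D]

/-- The Milnor square `D[X] ×_D C`. -/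
noncomputable abbrev sq : Subring (D[X] × C) :=
  RingHom.eqLocus ((evalRingHom (0 : D)).comp (RingHom.fst _ _))
    ((algebraMap C D).comp (RingHom.snd _ _))

/-- The projection to `D[X]`. -/
noncomputable abbrev pr1 : sq C D →+* D[X] := (RingHom.fst D[X] C).comp (sq C D).subtype

/-- The projection to `C`. -/
noncomputable abbrev pr2 : sq C D →+* C := (RingHom.snd D[X] C).comp (sq C D).subtype

/-- The constants. -/
noncomputable def kap : C →+* sq C D :=
  RingHom.codRestrict ((Polynomial.C.comp (algebraMap C D)).prod (RingHom.id C)) _ (fun c => by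
    show eval 0 (Polynomial.C (algebraMap C D c)) = algebraMap C D c
    simp)

variable {C D}

@[simp] lemma pr1_kap (c : C) : pr1 C D (kap C D c) = Polynomial.C (algebraMap C D c) := rfl

@[simp] lemma pr2_kap (c : C) : pr2 C D (kap C D c) = c := rfl

variable (C D) in
lemma sq_ext {a b : sq C D} (h1 : pr1 C D a = pr1 C D b) (h2 : pr2 C D a = pr2 C D b) : a = b :=
  Subtype.ext (Prod.ext h1 h2)

lemma sq_cond (t : sq C D) : eval 0 (pr1 C D t) = algebraMap C D (pr2 C D t) := t.2

variable (s : C) [IsLocalization.Away s D]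

lemma isUnit_pr1_kap : IsUnit (pr1 C D (kap C D s)) := by
  rw [pr1_kap]; exact (IsLocalization.Away.algebraMap_isUnit s).map Polynomial.C

/-- `sq[1/s] → D[X]`. -/
noncomputable def awEqv : Localization.Away (kap C D s) →+* D[X] :=
  IsLocalization.Away.lift (kap C D s) (isUnit_pr1_kap s)

lemma awEqv_comp : (awEqv (D := D) s).comp (algebraMap (sq C D) _) = pr1 C D :=
  IsLocalization.Away.lift_comp _ _

lemma awEqv_bijective : Function.Bijective (awEqv (D := D) s) := by
  constructor
  · rw [injective_iff_map_eq_zero]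
    intro z hz
    obtain ⟨⟨t, m⟩, hm⟩ := IsLocalization.surj (Submonoid.powers (kap C D s)) z
    have h1 : pr1 C D t = 0 := by
      rw [← awEqv_comp s, RingHom.comp_apply, ← hm, map_mul, hz, zero_mul]
    have h2 : algebraMap C D (pr2 C D t) = 0 := by rw [← sq_cond, h1, eval_zero]
    obtain ⟨⟨_, n, rfl⟩, hn⟩ := (IsLocalization.map_eq_zero_iff (Submonoid.powers s) D _).mp h2
    have h3 : kap C D s ^ n * t = 0 := sq_ext C D
      (by rw [map_mul, h1, mul_zero, map_zero]) (by rw [map_mul, map_pow, pr2_kap, map_zero]; exact hn)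
    have h4 : algebraMap (sq C D) (Localization.Away (kap C D s)) t = 0 :=
      (IsLocalization.map_eq_zero_iff (Submonoid.powers (kap C D s)) _ _).mpr ⟨⟨_, n, rfl⟩, h3⟩
    rw [h4] at hm
    exact (IsUnit.mul_left_eq_zero (IsLocalization.map_units _ m)).mp hm
  · intro x
    obtain ⟨n, c, hc⟩ := IsLocalization.Away.surj s (eval 0 x)
    let t : sq C D := ⟨(x * Polynomial.C (algebraMap C D s) ^ n, c), by
      show eval 0 (x * Polynomial.C (algebraMap C D s) ^ n) = algebraMap C D c
      simpa using hc⟩
    refine ⟨IsLocalization.mk' _ t (⟨_, n, rfl⟩ : Submonoid.powers (kap C D s)), ?_⟩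
    apply ((isUnit_pr1_kap (D := D) s).pow n).mul_left_inj.mp
    conv_lhs => rw [← awEqv_comp s, RingHom.comp_apply, ← map_pow, ← map_pow, ← map_mul]
    rw [IsLocalization.mk'_spec, ← RingHom.comp_apply, awEqv_comp]
    rfl

include s in
lemma isPB_sq :
    IsPB (pr1 C D) (pr2 C D) (evalRingHom (0 : D)) (algebraMap C D) where
  inj t h1 h2 := sq_ext C D (by rw [h1, map_zero]) (by rw [h2, map_zero])
  comm := RingHom.ext fun t => sq_cond t
  glue x y h := ⟨⟨(x, y), h⟩, rfl, rfl⟩
  surj p := by
    by_cases hp : kap C D s ∈ p.asIdeal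
    · right
      have hsurj : Function.Surjective (pr2 C D) := fun c => ⟨kap C D c, rfl⟩
      have hker : RingHom.ker (pr2 C D) ≤ p.asIdeal := by
        intro t ht
        rw [RingHom.mem_ker] at ht
        let u : D := IsLocalization.Away.invSelf s
        let t' : sq C D := ⟨(Polynomial.C u * pr1 C D t, 0), by
          show eval 0 (Polynomial.C u * pr1 C D t) = algebraMap C D 0
          rw [eval_mul, sq_cond, ht, map_zero, mul_zero]⟩
        have : t = kap C D s * t' := sq_ext C D (by
          rw [map_mul, pr1_kap]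
          have hu : Polynomial.C (algebraMap C D s) * Polynomial.C u = 1 := by
            rw [← map_mul, IsLocalization.Away.mul_invSelf, map_one]
          exact ((mul_assoc _ _ _).symm.trans
            ((congrArg (· * pr1 C D t) hu).trans (one_mul _))).symm)
          (by rw [map_mul, ht]; exact (mul_zero _).symm)
        rw [this]
        exact p.asIdeal.mul_mem_right _ hp
      have : p ∈ Set.range (PrimeSpectrum.comap (pr2 C D)) := by
        rw [range_comap_of_surjective _ _ hsurj]; exact hker
      exact this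
    · left
      have : p ∈ Set.range (PrimeSpectrum.comap
          (algebraMap (sq C D) (Localization.Away (kap C D s)))) := by
        rw [PrimeSpectrum.localization_away_comap_range _ (kap C D s)]; exact hp
      obtain ⟨P, hP⟩ := this
      let e := RingEquiv.ofBijective _ (awEqv_bijective (D := D) s)
      refine ⟨PrimeSpectrum.comap e.symm.toRingHom P, ?_⟩
      have he : e.symm.toRingHom.comp (pr1 C D) = algebraMap _ _ := by
        ext t
        apply e.injective
        show e (e.symm (pr1 C D t)) = _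
        rw [e.apply_symm_apply, ← awEqv_comp (D := D) s]
        rfl
      rw [← hP, ← PrimeSpectrum.comap_comp_apply, he]

include s in
/-- A morphism out of `Spec D[X]` glues with one out of `Spec C`. -/
theorem exists_sq_desc {Y : Scheme.{u}}
    (h1 : Spec (CommRingCat.of D[X]) ⟶ Y) (h2 : Spec (CommRingCat.of C) ⟶ Y)
    (hcompat : sp (evalRingHom (0 : D)) ≫ h1 = sp (algebraMap C D) ≫ h2) :
    ∃ H : Spec (CommRingCat.of (sq C D)) ⟶ Y, sp (pr1 C D) ≫ H = h1 ∧ sp (pr2 C D) ≫ H = h2 := by
  have hPB := isPB_sq (D := D) s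
  refine hPB.toIsJoint.exists_of_local h1 h2 fun p => ?_
  by_cases hp : kap C D s ∈ p.asIdeal
  · obtain ⟨q, hq⟩ := (hPB.surj p).resolve_left (by
      rintro ⟨q, rfl⟩
      exact q.isPrime.ne_top (Ideal.eq_top_of_isUnit_mem _ hp (isUnit_pr1_kap s)))
    obtain ⟨W, hW, hxW, -⟩ := exists_isAffineOpen_mem_and_subset (X := Y)
      (x := h2 q) (U := ⊤) (TopologicalSpace.Opens.mem_top _)
    obtain ⟨_, ⟨a, rfl⟩, hqa, ha⟩ :=
      PrimeSpectrum.isTopologicalBasis_basic_opens.exists_subset_of_mem_open
        (show q ∈ h2 ⁻¹' (W : Set Y) from hxW) (W.isOpen.preimage h2.continuous)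
    obtain ⟨J, hJ⟩ := (PrimeSpectrum.isClosed_iff_zeroLocus_ideal
      ((h1 ⁻¹' (W : Set Y))ᶜ : Set (PrimeSpectrum D[X]))).mp
      (W.isOpen.preimage h1.continuous).isClosed_compl
    let a' : D := algebraMap C D a
    have hrad : Polynomial.C a' ∈ (J ⊔ Ideal.span {(X : D[X])}).radical := by
      rw [Ideal.radical_eq_sInf, Ideal.mem_sInf]
      rintro P ⟨hle, hP⟩
      by_contra hc
      let P0 : PrimeSpectrum D := PrimeSpectrum.comap (Polynomial.C) ⟨P, hP⟩
      have hPP : PrimeSpectrum.comap (evalRingHom (0 : D)) P0 = ⟨P, hP⟩ := by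
        apply PrimeSpectrum.ext
        ext x
        show Polynomial.C (eval 0 x) ∈ P ↔ x ∈ P
        have hX : (X : D[X]) ∈ P := hle (Ideal.mem_sup_right (Ideal.mem_span_singleton_self _))
        have hd : x - Polynomial.C (eval 0 x) ∈ P := by
          have : (X : D[X]) - Polynomial.C 0 ∣ x - Polynomial.C (eval 0 x) :=
            X_sub_C_dvd_sub_C_eval
          rw [map_zero, sub_zero] at this
          obtain ⟨c, hc⟩ := this
          rw [hc]; exact P.mul_mem_right _ hX
        exact ⟨fun h => by simpa using P.add_mem hd h, fun h => by simpa using P.sub_mem h hd⟩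
      have h1W : h2 (PrimeSpectrum.comap (algebraMap C D) P0) ∈ W := ha hc
      have h2W : h1 ⟨P, hP⟩ ∈ W := by
        rw [← hPP]
        have := congr($(hcompat) P0)
        rw [Scheme.Hom.comp_apply, Scheme.Hom.comp_apply] at this
        exact this.symm ▸ h1W
      have : (⟨P, hP⟩ : PrimeSpectrum D[X]) ∈ (h1 ⁻¹' (W : Set Y))ᶜ :=
        hJ.symm.subset (show (⟨P, hP⟩ : PrimeSpectrum D[X]) ∈ PrimeSpectrum.zeroLocus (J : Set D[X])
          from le_sup_left.trans hle)
      exact this h2W
    obtain ⟨k₀, hk₀⟩ := hrad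
    obtain ⟨k, hk1, hk⟩ : ∃ k, 1 ≤ k ∧ Polynomial.C a' ^ k ∈ J ⊔ Ideal.span {(X : D[X])} :=
      ⟨k₀ + 1, Nat.le_add_left .., by rw [pow_succ]; exact Ideal.mul_mem_right _ _ hk₀⟩
    obtain ⟨π, hπ, y, hy, hsum⟩ := Submodule.mem_sup.mp hk
    obtain ⟨g, rfl⟩ := Ideal.mem_span_singleton.mp hy
    let α : sq C D := ⟨(π, a ^ k), by
      show eval 0 π = algebraMap C D (a ^ k)
      have := congr(eval 0 $hsum)
      simpa [a'] using this⟩
    refine ⟨α, ?_, hPB.exists_local h1 h2 hcompat hW α ?_ ?_⟩
    · rw [← hq]; exact fun h => hqa (q.isPrime.mem_of_pow_mem k h)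
    · intro z hz
      by_contra hc
      have : z ∈ PrimeSpectrum.zeroLocus (J : Set D[X]) := hJ.subset hc
      exact hz (this hπ)
    · intro z hz
      exact ha (fun h => hz (Ideal.pow_mem_of_mem _ h k hk1))
  · let e := RingEquiv.ofBijective _ (awEqv_bijective (D := D) s)
    have he : sp (awEqv (D := D) s) ≫ jaw (kap C D s) = sp (pr1 C D) := by
      rw [sp_comp, awEqv_comp]
    have he' : sp (awEqv (D := D) s) ≫ sp e.symm.toRingHom = 𝟙 _ := by
      rw [sp_comp, ← sp_id]; congr; exact RingHom.ext e.apply_symm_apply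
    refine ⟨kap C D s, hp, sp e.symm.toRingHom ≫ h1, ?_, ?_⟩
    · intro Z v w hvw
      have hv : v = w ≫ sp (awEqv (D := D) s) := by
        rw [← cancel_mono (jaw (kap C D s)), Category.assoc, he, hvw]
      rw [hv, Category.assoc, reassoc_of% he']
    · intro Z v w hvw
      obtain ⟨w', hw, -⟩ := exists_factor (pr2 C D) (kap C D s) v w hvw
      let l : D →+* Localization.Away (pr2 C D (kap C D s)) :=
        IsLocalization.Away.lift s (g := algebraMap C _)
          (by exact IsLocalization.Away.algebraMap_isUnit (pr2 C D (kap C D s)))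
      have hl : sp l ≫ sp (algebraMap C D) = jaw (pr2 C D (kap C D s)) := by
        rw [sp_comp, IsLocalization.Away.lift_comp]
      obtain ⟨w0, rfl⟩ : ∃ w0, w0 ≫ sp (algebraMap C D) = w :=
        ⟨w' ≫ sp l, by rw [Category.assoc, hl, hw]⟩
      have hc : sp (algebraMap C D) ≫ sp (pr2 C D) = sp (evalRingHom (0 : D)) ≫ sp (pr1 C D) := by
        rw [sp_comp, sp_comp, hPB.comm]
      have hv : v = (w0 ≫ sp (evalRingHom (0 : D))) ≫ sp (awEqv (D := D) s) := by
        rw [← cancel_mono (jaw (kap C D s)), hvw, Category.assoc, Category.assoc, Category.assoc,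
          he, hc]
      rw [hv, Category.assoc, Category.assoc, reassoc_of% he', hcompat, Category.assoc]

end Square

section Colimit

variable [Algebra C D] (s : C)

variable (D) in
/-- The `n`th scaled variable. -/
noncomputable def zvar [IsLocalization.Away s D] (n : ℕ) : sq C D :=
  ⟨(Polynomial.C (IsLocalization.Away.invSelf s ^ n) * X, 0), by
    show eval 0 (Polynomial.C ((IsLocalization.Away.invSelf s : D) ^ n) * X) = algebraMap C D 0
    simp⟩

variable (D) in
/-- The map from the `n`th stage. -/
noncomputable def theta [IsLocalization.Away s D] (n : ℕ) : C[X] →+* sq C D :=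
  eval₂RingHom (kap C D) (zvar D s n)

variable [IsLocalization.Away s D]

lemma pr1_theta (n : ℕ) : (pr1 C D).comp (theta D s n) =
    (scale (IsLocalization.Away.invSelf s ^ n : D)).comp (mapRingHom (algebraMap C D)) :=
  Polynomial.ringHom_ext (fun c => by simp [theta, pr1, kap]) (by simp [theta, pr1, zvar])

lemma pr2_theta (n : ℕ) : (pr2 C D).comp (theta D s n) = evalRingHom 0 :=
  Polynomial.ringHom_ext (fun c => by simp [theta, pr2, kap]) (by simp [theta, pr2, zvar])

lemma theta_scale {n m : ℕ} (h : n ≤ m) :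
    (theta D s m).comp (scale (s ^ (m - n))) = theta D s n := by
  obtain ⟨k, rfl⟩ := Nat.le.dest h
  refine Polynomial.ringHom_ext (fun c => by simp [theta]) ?_
  rw [Nat.add_sub_cancel_left]
  apply sq_ext C D
  · simp only [theta, RingHom.comp_apply, scale_X, coe_eval₂RingHom, eval₂_mul, eval₂_C, eval₂_X]
    show Polynomial.C (algebraMap C D (s ^ k)) *
      (Polynomial.C ((IsLocalization.Away.invSelf s : D) ^ (n + k)) * X) =
      Polynomial.C ((IsLocalization.Away.invSelf s : D) ^ n) * X
    rw [← mul_assoc, ← map_mul, pow_add, map_pow, mul_left_comm, ← mul_pow,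
      IsLocalization.Away.mul_invSelf, one_pow, mul_one]
  · simp only [theta, RingHom.comp_apply, scale_X, coe_eval₂RingHom, eval₂_mul, eval₂_C, eval₂_X]
    rw [map_mul]
    exact mul_zero _

omit [IsLocalization.Away s D] in
lemma exists_pow_kill [IsLocalization.Away s D] (p : C[X]) (hp : p.map (algebraMap C D) = 0) :
    ∃ M : ℕ, ∀ i, s ^ M * p.coeff i = 0 := by
  have h : ∀ i, ∃ M : ℕ, s ^ M * p.coeff i = 0 := fun i => by
    obtain ⟨⟨_, n, rfl⟩, hn⟩ := (IsLocalization.map_eq_zero_iff (Submonoid.powers s) D _).mp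
      (show algebraMap C D (p.coeff i) = 0 by rw [← coeff_map, hp, coeff_zero])
    exact ⟨n, hn⟩
  choose M hM using h
  refine ⟨p.support.sup M, fun i => ?_⟩
  by_cases hi : i ∈ p.support
  · obtain ⟨d, hd⟩ := Nat.le.dest (Finset.le_sup (f := M) hi)
    rw [← hd, pow_add, mul_right_comm, hM, zero_mul]
  · rw [notMem_support_iff.mp hi, mul_zero]

lemma theta_surj (t : sq C D) : ∃ (n : ℕ) (q : C[X]), theta D s n q = t := by
  obtain ⟨b, hb, hq''⟩ := IsLocalization.integerNormalization_spec (Submonoid.powers s)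
    (divX (pr1 C D t))
  obtain ⟨m, rfl⟩ := hb
  set q'' := IsLocalization.integerNormalization (Submonoid.powers s) (divX (pr1 C D t))
  refine ⟨m, Polynomial.C (pr2 C D t) + X * scale (s ^ m) q'', sq_ext C D ?_ ?_⟩
  · rw [← RingHom.comp_apply, pr1_theta, RingHom.comp_apply]
    have e : (scale ((IsLocalization.Away.invSelf s : D) ^ m))
        (mapRingHom (algebraMap C D) (scale (s ^ m) q'')) = q''.map (algebraMap C D) := by
      rw [← RingHom.comp_apply (mapRingHom _), map_scale, RingHom.comp_apply,
        ← RingHom.comp_apply (scale _), scale_comp, map_pow, ← mul_pow, mul_comm,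
        IsLocalization.Away.mul_invSelf, one_pow, scale_one]
      rfl
    rw [map_add, map_mul, map_add, map_mul, e, hq'']
    simp only [coe_mapRingHom, map_C, map_X, scale_C, scale_X]
    rw [← algebraMap_smul D (s ^ m), smul_eq_C_mul]
    have hu : Polynomial.C ((IsLocalization.Away.invSelf s : D) ^ m) *
        Polynomial.C (algebraMap C D (s ^ m)) = 1 := by
      rw [← map_mul, map_pow (algebraMap C D), ← mul_pow, mul_comm,
        IsLocalization.Away.mul_invSelf, one_pow, map_one]
    calc _ = Polynomial.C (algebraMap C D (pr2 C D t)) + X * divX (pr1 C D t) *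
          (Polynomial.C ((IsLocalization.Away.invSelf s : D) ^ m) *
            Polynomial.C (algebraMap C D (s ^ m))) := by ring
      _ = _ := by
        rw [hu, mul_one, ← sq_cond, ← coeff_zero_eq_eval_zero, add_comm]
        exact X_mul_divX_add _
  · rw [← RingHom.comp_apply, pr2_theta]
    simp

lemma theta_eq {n : ℕ} {p q : C[X]} (h : theta D s n p = theta D s n q) :
    ∃ M : ℕ, scale (s ^ M) p = scale (s ^ M) q := by
  have h1 := congr(pr1 C D $h)
  have h2 := congr(pr2 C D $h)
  rw [← RingHom.comp_apply, ← RingHom.comp_apply (pr1 C D), pr1_theta] at h1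
  rw [← RingHom.comp_apply, ← RingHom.comp_apply (pr2 C D), pr2_theta] at h2
  simp only [RingHom.comp_apply, coe_mapRingHom, coe_evalRingHom] at h1 h2
  have h1' := congr(scale ((algebraMap C D s) ^ n) $h1)
  simp only [← RingHom.comp_apply, scale_comp, ← mul_pow, IsLocalization.Away.mul_invSelf,
    one_pow, scale_one, RingHom.id_apply] at h1'
  obtain ⟨M, hM⟩ := exists_pow_kill (D := D) s (p - q) (by rw [Polynomial.map_sub, h1', sub_self])
  refine ⟨M, sub_eq_zero.mp ?_⟩
  rw [← map_sub]
  ext i
  rw [scale_coeff, coeff_zero]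
  rcases i with _ | i
  · simp [coeff_zero_eq_eval_zero, h2]
  · rw [← pow_mul, Nat.mul_succ, pow_add, mul_left_comm, mul_comm _ (s ^ M), hM, mul_zero]

end Colimit

end Groth.L09.Patch
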