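import Groth.Agent.L09.GlueRing
import Groth.Agent.L09.GenericTorsor
import Groth.Agent.L09.PatchLift
import Groth.Agent.L25.Actions
import Mathlib.AlgebraicGeometry.QuasiAffine

/-!
# Glueing morphisms into quasi-affine group schemes along a derived adic isomorphism
-/

universe u

open CategoryTheory CategoryTheory.Limits MonoidalCategory CartesianMonoidalCategory MonObj
  AlgebraicGeometry
open scoped TensorProduct

set_option linter.style.haveILetI false
set_option backward.isDefEq.respectTransparency.types false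
set_option backward.isDefEq.respectTransparency false

namespace Groth.L09.GlueMor

open Groth.L09.Patch Groth.L09.TorsorPts

variable {A : Type u} [CommRing A] {B D : Type u} [CommRing B] [Algebra A B] [CommRing D]
  [Algebra A D]

/-- The spectrum of a tensor product as a product. -/
noncomputable def prodMap : spO A (B ⊗[A] D) ⟶ spO A B ⊗ spO A D :=
  lift (pm Algebra.TensorProduct.includeLeft) (pm Algebra.TensorProduct.includeRight)

lemma prodMap_left : (prodMap (A := A) (B := B) (D := D)).left = (pullbackSpecIso A B D).inv := by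
  refine pullback.hom_ext ?_ ?_
  · refine (congrArg Over.Hom.left (lift_fst (pm (R := A) (Algebra.TensorProduct.includeLeft :
      B →ₐ[A] B ⊗[A] D)) (pm Algebra.TensorProduct.includeRight))).trans ?_
    exact (pullbackSpecIso_inv_fst A B D).symm
  · refine (congrArg Over.Hom.left (lift_snd (pm (R := A) (Algebra.TensorProduct.includeLeft :
      B →ₐ[A] B ⊗[A] D)) (pm Algebra.TensorProduct.includeRight))).trans ?_
    exact (pullbackSpecIso_inv_snd A B D).symm

instance : IsIso (prodMap (A := A) (B := B) (D := D)) := by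
  haveI : IsIso ((Over.forget (Spec (CommRingCat.of A))).map
      (prodMap (A := A) (B := B) (D := D))) := by
    show IsIso (prodMap (A := A) (B := B) (D := D)).left
    rw [prodMap_left]; infer_instance
  exact isIso_of_reflects_iso _ (Over.forget _)

variable {G : Over (Spec (CommRingCat.of A))}

/-- The map on functions of a morphism from a spectrum. -/
noncomputable def fn (g : spO A D ⟶ G) : Γ(G.left, ⊤) ⟶ CommRingCat.of D :=
  Spec.preimage (g.left ≫ G.left.toSpecΓ)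

lemma map_fn (g : spO A D ⟶ G) : Spec.map (fn g) = g.left ≫ G.left.toSpecΓ := Spec.map_preimage _

lemma fn_pm {D' : Type u} [CommRing D'] [Algebra A D'] (φ : D →ₐ[A] D') (g : spO A D ⟶ G) :
    fn (pm φ ≫ g) = fn g ≫ CommRingCat.ofHom φ.toRingHom := by
  apply Spec.map_injective
  rw [map_fn, Spec.map_comp, map_fn, Over.comp_left, pm_left, Category.assoc]

variable [G.left.IsQuasiAffine]

lemma eq_of_fn {g g' : spO A D ⟶ G} (e : fn g = fn g') : g = g' := by
  ext1
  rw [← cancel_mono G.left.toSpecΓ, ← map_fn, ← map_fn, e]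

variable {A' : Type u} [CommRing A'] [Algebra A A'] {t : A}
  (h : GlueRing.Cond (algebraMap A A') t)
include h

/-- Points of affine flat schemes in quasi-affine schemes are determined on the two pieces. -/
theorem ext_affine [Module.Flat A B] (g g' : spO A B ⟶ G)
    (h1 : fst (spO A B) (spO A (Localization.Away t)) ≫ g = fst _ _ ≫ g')
    (h2 : fst (spO A B) (spO A A') ≫ g = fst _ _ ≫ g') : g = g' := by
  refine eq_of_fn (CommRingCat.hom_ext (RingHom.ext fun c => GlueRing.ext h ?_ ?_))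
  · have := congrArg (prodMap ≫ ·) h1
    simp only [prodMap, lift_fst_assoc] at this
    have := congrArg fn this
    rw [fn_pm, fn_pm] at this
    exact congr($this c)
  · have := congrArg (prodMap ≫ ·) h2
    simp only [prodMap, lift_fst_assoc] at this
    have := congrArg fn this
    rw [fn_pm, fn_pm] at this
    exact congr($this c)

/-- Points of flat schemes in quasi-affine schemes are determined on the two pieces. -/
theorem ext_flat {X : Over (Spec (CommRingCat.of A))} [Flat X.hom] (g g' : X ⟶ G)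
    (h1 : fst X (spO A (Localization.Away t)) ≫ g = fst _ _ ≫ g')
    (h2 : fst X (spO A A') ≫ g = fst _ _ ≫ g') : g = g' := by
  ext1
  suffices H : ∀ (R : CommRingCat.{u}) (c : Spec R ⟶ X.left) [IsOpenImmersion c],
      c ≫ g.left = c ≫ g'.left from
    X.left.affineCover.hom_ext _ _ fun i => H _ (X.left.affineCover.f i)
  intro R c _
  obtain ⟨φ, hφ⟩ := Spec.map_surjective (c ≫ X.hom)
  letI : Algebra A R := φ.hom.toAlgebra
  haveI : Module.Flat A R := by
    have : Flat (Spec.map φ) := by rw [hφ]; infer_instance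
    rw [HasRingHomProperty.Spec_iff (P := @Flat)] at this
    exact this
  let j : spO A R ⟶ X := Over.homMk c hφ.symm
  have e : j ≫ g = j ≫ g' := by
    apply ext_affine h
    · simpa using congrArg ((j ▷ _) ≫ ·) h1
    · simpa using congrArg ((j ▷ _) ≫ ·) h2
  exact congrArg Over.Hom.left e

/-- Compatible points glue. -/
theorem glue_affine [Module.Flat A B] (g₁ : spO A B ⊗ spO A (Localization.Away t) ⟶ G)
    (g₂ : spO A B ⊗ spO A A' ⟶ G)
    (hg : ∀ {Z : Over (Spec (CommRingCat.of A))} (z : Z ⟶ spO A B)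
      (k₁ : Z ⟶ spO A (Localization.Away t)) (k₂ : Z ⟶ spO A A'),
      lift z k₁ ≫ g₁ = lift z k₂ ≫ g₂) :
    ∃ g : spO A B ⟶ G, fst _ _ ≫ g = g₁ ∧ fst _ _ ≫ g = g₂ := by
  let At := Localization.Away t
  let At' := Localization.Away (algebraMap A A' t)
  let f₁ := fn (prodMap ≫ g₁)
  let f₂ := fn (prodMap ≫ g₂)
  let p₁ : B ⊗[A] At →ₐ[A] B ⊗[A] At' :=
    Algebra.TensorProduct.map (AlgHom.id A B) (GlueRing.awayHom A A' t)
  let p₂ : B ⊗[A] A' →ₐ[A] B ⊗[A] At' :=
    Algebra.TensorProduct.map (AlgHom.id A B) (IsScalarTower.toAlgHom A A' At')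
  have hfg : f₁ ≫ CommRingCat.ofHom p₁.toRingHom = f₂ ≫ CommRingCat.ofHom p₂.toRingHom := by
    rw [← fn_pm, ← fn_pm]
    congr 1
    simp only [prodMap, ← Category.assoc, comp_lift, pm_comp]
    rw [show p₁.comp (Algebra.TensorProduct.includeLeft : B →ₐ[A] B ⊗[A] At) =
        p₂.comp (Algebra.TensorProduct.includeLeft : B →ₐ[A] B ⊗[A] A') from
      AlgHom.ext fun b => by simp [p₁, p₂]]
    exact hg _ _ _
  obtain ⟨k, hk₁, hk₂⟩ := GlueRing.exists_hom (B := B) h f₁.hom f₂.hom (fun c => congr($hfg c))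
  have ek₁ : CommRingCat.ofHom k ≫ CommRingCat.ofHom
      (Algebra.TensorProduct.includeLeft : B →ₐ[A] B ⊗[A] At).toRingHom = f₁ :=
    CommRingCat.hom_ext (RingHom.ext hk₁)
  have ek₂ : CommRingCat.ofHom k ≫ CommRingCat.ofHom
      (Algebra.TensorProduct.includeLeft : B →ₐ[A] B ⊗[A] A').toRingHom = f₂ :=
    CommRingCat.hom_ext (RingHom.ext hk₂)
  let l₀ : Spec (CommRingCat.of B) ⟶ Spec Γ(G.left, ⊤) := Spec.map (CommRingCat.ofHom k)
  have hl₁ : Spec.map (CommRingCat.ofHom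
      (Algebra.TensorProduct.includeLeft : B →ₐ[A] B ⊗[A] At).toRingHom) ≫ l₀ =
        (prodMap ≫ g₁).left ≫ G.left.toSpecΓ := by
    rw [← map_fn, ← Spec.map_comp]; exact congrArg Spec.map ek₁
  have hl₂ : Spec.map (CommRingCat.ofHom
      (Algebra.TensorProduct.includeLeft : B →ₐ[A] B ⊗[A] A').toRingHom) ≫ l₀ =
        (prodMap ≫ g₂).left ≫ G.left.toSpecΓ := by
    rw [← map_fn, ← Spec.map_comp]; exact congrArg Spec.map ek₂
  have hr : Set.range l₀ ⊆ Set.range G.left.toSpecΓ := by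
    rintro _ ⟨q, rfl⟩
    let κ := (q.asIdeal : Ideal B).ResidueField
    have hq : ∀ {D : Type u} [CommRing D] [Algebra A D] (ψ : D →ₐ[A] κ),
        ∃ z, Spec.map (CommRingCat.ofHom
          (Algebra.TensorProduct.includeLeft : B →ₐ[A] B ⊗[A] D).toRingHom) z = q := by
      intro D _ _ ψ
      refine ⟨Spec.map (CommRingCat.ofHom (Algebra.TensorProduct.productMap
        (IsScalarTower.toAlgHom A B κ) ψ).toRingHom) (IsLocalRing.closedPoint κ), ?_⟩
      rw [← Scheme.Hom.comp_apply, ← Spec.map_comp]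
      have : (Algebra.TensorProduct.productMap (IsScalarTower.toAlgHom A B κ) ψ).toRingHom.comp
          (Algebra.TensorProduct.includeLeft : B →ₐ[A] B ⊗[A] D).toRingHom = algebraMap B κ :=
        RingHom.ext fun b => by simp
      rw [← CommRingCat.ofHom_comp, this]
      apply PrimeSpectrum.ext
      show Ideal.comap (algebraMap B κ) (IsLocalRing.maximalIdeal κ) = q.asIdeal
      rw [(IsLocalRing.isField_iff_maximalIdeal_eq).mp (Field.toIsField κ), ← RingHom.ker_eq_comap_bot,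
        Ideal.ker_algebraMap_residueField]
    rcases GlueRing.exists_point h (κ := κ) with ⟨⟨ψ⟩⟩ | ⟨⟨ψ⟩⟩
    · obtain ⟨z, rfl⟩ := hq ψ
      rw [← Scheme.Hom.comp_apply, hl₁, Scheme.Hom.comp_apply]
      exact ⟨_, rfl⟩
    · obtain ⟨z, rfl⟩ := hq ψ
      rw [← Scheme.Hom.comp_apply, hl₂, Scheme.Hom.comp_apply]
      exact ⟨_, rfl⟩
  let l : Spec (CommRingCat.of B) ⟶ G.left := IsOpenImmersion.lift G.left.toSpecΓ l₀ hr
  have hl : l ≫ G.left.toSpecΓ = l₀ := IsOpenImmersion.lift_fac _ _ _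
  have hlG₁ : Spec.map (CommRingCat.ofHom
      (Algebra.TensorProduct.includeLeft : B →ₐ[A] B ⊗[A] At).toRingHom) ≫ l =
        (prodMap ≫ g₁).left := by
    rw [← cancel_mono G.left.toSpecΓ, Category.assoc, hl, hl₁]
  have hlG₂ : Spec.map (CommRingCat.ofHom
      (Algebra.TensorProduct.includeLeft : B →ₐ[A] B ⊗[A] A').toRingHom) ≫ l =
        (prodMap ≫ g₂).left := by
    rw [← cancel_mono G.left.toSpecΓ, Category.assoc, hl, hl₂]
  have hA : l ≫ G.hom = Spec.map (CommRingCat.ofHom (algebraMap A B)) := by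
    obtain ⟨a, ha⟩ := Spec.map_surjective (l ≫ G.hom)
    rw [← ha]
    congr 1
    refine CommRingCat.hom_ext (RingHom.ext fun r => GlueRing.ext h ?_ ?_)
    · have := congrArg (· ≫ G.hom) hlG₁
      simp only [Category.assoc, ← ha, Over.w, ← Spec.map_comp] at this
      exact congr($(Spec.map_injective (this.trans (Over.w (pm Algebra.TensorProduct.includeLeft)).symm |>.trans (Spec.map_comp _ _).symm)) r)
    · have := congrArg (· ≫ G.hom) hlG₂
      simp only [Category.assoc, ← ha, Over.w, ← Spec.map_comp] at this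
      exact congr($(Spec.map_injective (this.trans (Over.w (pm Algebra.TensorProduct.includeLeft)).symm |>.trans (Spec.map_comp _ _).symm)) r)
  let g : spO A B ⟶ G := Over.homMk l hA
  refine ⟨g, ?_, ?_⟩
  · rw [← cancel_epi prodMap, ← Category.assoc, show prodMap ≫ fst _ _ =
      pm Algebra.TensorProduct.includeLeft from lift_fst _ _]
    ext1
    exact hlG₁
  · rw [← cancel_epi prodMap, ← Category.assoc, show prodMap ≫ fst _ _ =
      pm Algebra.TensorProduct.includeLeft from lift_fst _ _]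
    ext1
    exact hlG₂

omit [G.left.IsQuasiAffine] in
/-- Equivariant morphisms glue. -/
theorem existsUnique_equivariant [GrpObj G] [G.left.IsQuasiAffine]
    {P Q : Over (Spec (CommRingCat.of A))} [Flat P.hom] [Flat G.hom]
    {aP : AlgGrp.Action G P} {aQ : AlgGrp.Action G Q}
    (hP : RelPseudo aP (toUnit P)) (hQ : RelPseudo aQ (toUnit Q))
    [Module.Flat A B] (hW : Groth.L25.Covers.Cov (toUnit (spO A B)))
    (s : spO A B ⟶ P) (s' : spO A B ⟶ Q)
    (θ₁ : P ⊗ spO A (Localization.Away t) ⟶ Q) (θ₂ : P ⊗ spO A A' ⟶ Q)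
    (hθ₁ : ∀ {Z : Over (Spec (CommRingCat.of A))} (g : Z ⟶ G) (x : Z ⟶ P)
      (k : Z ⟶ spO A (Localization.Away t)), lift (sm aP g x) k ≫ θ₁ = sm aQ g (lift x k ≫ θ₁))
    (hθ₂ : ∀ {Z : Over (Spec (CommRingCat.of A))} (g : Z ⟶ G) (x : Z ⟶ P)
      (k : Z ⟶ spO A A'), lift (sm aP g x) k ≫ θ₂ = sm aQ g (lift x k ≫ θ₂))
    (hagree : ∀ {Z : Over (Spec (CommRingCat.of A))} (x : Z ⟶ P)
      (k₁ : Z ⟶ spO A (Localization.Away t)) (k₂ : Z ⟶ spO A A'),
      lift x k₁ ≫ θ₁ = lift x k₂ ≫ θ₂) :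
    ∃ f : P ⟶ Q, (aP.act ≫ f = (G ◁ f) ≫ aQ.act) ∧ fst _ _ ≫ f = θ₁ ∧ fst _ _ ≫ f = θ₂ ∧
      ∀ f' : P ⟶ Q, fst _ _ ≫ f' = θ₁ → fst _ _ ≫ f' = θ₂ → f' = f := by
  -- morphisms into `Q` are determined on the two pieces
  have hdet : ∀ {X : Over (Spec (CommRingCat.of A))} [Flat X.hom] (f g : X ⟶ Q),
      fst X (spO A (Localization.Away t)) ≫ f = fst _ _ ≫ g →
      fst X (spO A A') ≫ f = fst _ _ ≫ g → f = g := by
    intro X _ f g h1 h2
    have e : hQ.div f g (toUnit_unique _ _) = 1 := by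
      apply ext_flat h
      · apply hQ.cancel (y := fst _ _ ≫ g)
        rw [MonObj.comp_one, sm_one, ← comp_sm, hQ.sm_div, h1]
      · apply hQ.cancel (y := fst _ _ ≫ g)
        rw [MonObj.comp_one, sm_one, ← comp_sm, hQ.sm_div, h2]
    rw [← hQ.sm_div f g (toUnit_unique _ _), e, sm_one]
  -- the glued point over the cover
  let W := spO A B
  have hdiv : ∀ {Z Z' : Over (Spec (CommRingCat.of A))} (j : Z' ⟶ Z) (x y : Z ⟶ Q),
      j ≫ hQ.div x y (toUnit_unique _ _) = hQ.div (j ≫ x) (j ≫ y) (toUnit_unique _ _) := by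
    intro Z Z' j x y
    apply hQ.eq_div
    have := congrArg (j ≫ ·) (hQ.sm_div x y (toUnit_unique _ _))
    rw [comp_sm] at this
    exact this
  obtain ⟨g, hg₁, hg₂⟩ := glue_affine h
    (hQ.div (lift (fst W _ ≫ s) (snd _ _) ≫ θ₁) (fst W _ ≫ s') (toUnit_unique _ _))
    (hQ.div (lift (fst W _ ≫ s) (snd _ _) ≫ θ₂) (fst W _ ≫ s') (toUnit_unique _ _))
    (fun {Z} z k₁ k₂ => by
      rw [hdiv, hdiv]
      simp only [← Category.assoc, comp_lift, lift_fst, lift_snd]
      simp only [hagree (z ≫ s) k₁ k₂])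
  obtain ⟨y, hydef⟩ : ∃ y : W ⟶ Q, y = sm aQ g s' := ⟨_, rfl⟩
  have hy₁ : fst W (spO A (Localization.Away t)) ≫ y = lift (fst W _ ≫ s) (snd _ _) ≫ θ₁ := by
    rw [hydef, comp_sm, hg₁, hQ.sm_div]
  have hy₂ : fst W (spO A A') ≫ y = lift (fst W _ ≫ s) (snd _ _) ≫ θ₂ := by
    rw [hydef, comp_sm, hg₂, hQ.sm_div]
  -- descent
  obtain ⟨ψ, hψdef⟩ : ∃ ψ : P ⊗ W ⟶ Q,
      ψ = sm aQ (hP.div (fst P W) (snd P W ≫ s) (toUnit_unique _ _)) (snd P W ≫ y) := ⟨_, rfl⟩
  have hψ : ∀ {K : Over (Spec (CommRingCat.of A))} (θ : P ⊗ K ⟶ Q),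
      (∀ {Z : Over (Spec (CommRingCat.of A))} (g : Z ⟶ G) (x : Z ⟶ P) (k : Z ⟶ K),
        lift (sm aP g x) k ≫ θ = sm aQ g (lift x k ≫ θ)) →
      fst W K ≫ y = lift (fst W K ≫ s) (snd W K) ≫ θ →
      ∀ {Z : Over (Spec (CommRingCat.of A))} (x : Z ⟶ P) (w : Z ⟶ W) (k : Z ⟶ K),
        lift x w ≫ ψ = lift x k ≫ θ := by
    intro K θ hθ hy Z x w k
    have e : lift x w ≫ hP.div (fst P W) (snd P W ≫ s) (toUnit_unique _ _) =
        hP.div x (w ≫ s) (toUnit_unique _ _) := by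
      apply hP.eq_div
      have := congrArg (lift x w ≫ ·)
        (hP.sm_div (fst P W) (snd P W ≫ s) (toUnit_unique _ _))
      rw [comp_sm, lift_fst, lift_snd_assoc] at this
      exact this
    have hwy : w ≫ y = lift (w ≫ s) k ≫ θ := by
      have := congrArg (lift w k ≫ ·) hy
      rw [lift_fst_assoc, ← Category.assoc, comp_lift, lift_fst_assoc, lift_snd] at this
      exact this
    rw [hψdef, comp_sm, e, lift_snd_assoc, hwy, ← hθ, hP.sm_div]
  haveI : Flat W.hom := hW.1.2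
  haveI := (cov_fst hW P).epi
  obtain ⟨⟨_, _⟩, _⟩ := cov_fst hW P
  haveI : Flat ((P ⊗ W) ⊗ W).hom := by
    show Flat (pullback.fst _ _ ≫ pullback.fst P.hom W.hom ≫ P.hom)
    infer_instance
  have cocycle : fst (P ⊗ W) W ≫ ψ = lift (fst (P ⊗ W) W ≫ fst P W) (snd (P ⊗ W) W) ≫ ψ := by
    have aux : ∀ {K : Over (Spec (CommRingCat.of A))} (θ : P ⊗ K ⟶ Q),
        (∀ {Z : Over (Spec (CommRingCat.of A))} (g : Z ⟶ G) (x : Z ⟶ P) (k : Z ⟶ K),
          lift (sm aP g x) k ≫ θ = sm aQ g (lift x k ≫ θ)) →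
        fst W K ≫ y = lift (fst W K ≫ s) (snd W K) ≫ θ →
        fst ((P ⊗ W) ⊗ W) K ≫ fst (P ⊗ W) W ≫ ψ =
          fst ((P ⊗ W) ⊗ W) K ≫ lift (fst (P ⊗ W) W ≫ fst P W) (snd (P ⊗ W) W) ≫ ψ := by
      intro K θ hθ hy
      let X := (P ⊗ W) ⊗ W
      have e1 : fst X K ≫ fst (P ⊗ W) W ≫ ψ =
          lift (fst X K ≫ fst _ _ ≫ fst _ _) (snd X K) ≫ θ := by
        rw [← hψ θ hθ hy _ (fst X K ≫ fst _ _ ≫ snd _ _) (snd X K), ← comp_lift, ← comp_lift,
          lift_fst_snd]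
        simp [X]
      have e2 : fst X K ≫ lift (fst (P ⊗ W) W ≫ fst P W) (snd (P ⊗ W) W) ≫ ψ =
          lift (fst X K ≫ fst _ _ ≫ fst _ _) (snd X K) ≫ θ := by
        rw [← hψ θ hθ hy _ (fst X K ≫ snd _ _) (snd X K), ← Category.assoc, comp_lift]
      exact e1.trans e2.symm
    exact hdet _ _ (aux θ₁ hθ₁ hy₁) (aux θ₂ hθ₂ hy₂)
  obtain ⟨f, hf, -⟩ := Groth.L25.Actions.existsUnique_desc (fst P W) ψ (fun Z k₁ k₂ hk => by
    have := congrArg (lift k₁ (k₂ ≫ snd P W) ≫ ·) cocycle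
    rw [lift_fst_assoc, ← Category.assoc, comp_lift, lift_fst_assoc, lift_snd, hk,
      ← comp_lift, lift_fst_snd, Category.comp_id] at this
    exact this)
  have hfθ : ∀ {K : Over (Spec (CommRingCat.of A))} (θ : P ⊗ K ⟶ Q),
      (∀ {Z : Over (Spec (CommRingCat.of A))} (g : Z ⟶ G) (x : Z ⟶ P) (k : Z ⟶ K),
        lift (sm aP g x) k ≫ θ = sm aQ g (lift x k ≫ θ)) →
      fst W K ≫ y = lift (fst W K ≫ s) (snd W K) ≫ θ → fst P K ≫ f = θ := by
    intro K θ hθ hy
    haveI := (cov_fst hW (P ⊗ K)).epi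
    rw [← cancel_epi (fst (P ⊗ K) W)]
    calc fst (P ⊗ K) W ≫ fst P K ≫ f
        = lift (fst (P ⊗ K) W ≫ fst P K) (snd (P ⊗ K) W) ≫ fst P W ≫ f := by
          rw [lift_fst_assoc, Category.assoc]
      _ = fst (P ⊗ K) W ≫ θ := by
          rw [hf, hψ θ hθ hy _ _ (fst (P ⊗ K) W ≫ snd P K), ← comp_lift, lift_fst_snd,
            Category.comp_id]
  have h1 := hfθ θ₁ hθ₁ hy₁
  have h2 := hfθ θ₂ hθ₂ hy₂
  haveI : Flat (G ⊗ P).hom := by
    show Flat (pullback.fst G.hom P.hom ≫ G.hom)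
    infer_instance
  refine ⟨f, ?_, h1, h2, fun f' e1 e2 => hdet _ _ (e1.trans h1.symm) (e2.trans h2.symm)⟩
  have aux : ∀ {K : Over (Spec (CommRingCat.of A))} (θ : P ⊗ K ⟶ Q),
      (∀ {Z : Over (Spec (CommRingCat.of A))} (g : Z ⟶ G) (x : Z ⟶ P) (k : Z ⟶ K),
        lift (sm aP g x) k ≫ θ = sm aQ g (lift x k ≫ θ)) → fst P K ≫ f = θ →
      fst (G ⊗ P) K ≫ aP.act ≫ f = fst (G ⊗ P) K ≫ (G ◁ f) ≫ aQ.act := by
    intro K θ hθ hf
    let g : (G ⊗ P) ⊗ K ⟶ G := fst _ _ ≫ fst _ _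
    let x : (G ⊗ P) ⊗ K ⟶ P := fst _ _ ≫ snd _ _
    have hf' : ∀ z : (G ⊗ P) ⊗ K ⟶ P, z ≫ f = lift z (snd _ _) ≫ θ := fun z => by
      rw [← hf, lift_fst_assoc]
    have h1 : fst (G ⊗ P) K ≫ aP.act ≫ f = sm aP g x ≫ f := by
      rw [← Category.assoc]
      congr 1
      simp only [sm, g, x, ← comp_lift, lift_fst_snd, Category.comp_id]
    have h2 : fst (G ⊗ P) K ≫ (G ◁ f) ≫ aQ.act = sm aQ g (x ≫ f) := by
      rw [← Category.assoc]
      congr 1
      apply CartesianMonoidalCategory.hom_ext <;> simp [g, x]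
    rw [h1, h2, hf', hf', hθ]
  exact hdet _ _ (aux θ₁ hθ₁ h1) (aux θ₂ hθ₂ h2)

end Groth.L09.GlueMor
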