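import Mathlib.RingTheory.Flat.Basic
import Mathlib.RingTheory.TensorProduct.Maps
import Mathlib.RingTheory.Localization.Away.Basic
import Mathlib.RingTheory.Ideal.Quotient.Operations
import Mathlib.RingTheory.LocalRing.ResidueField.Ideal

/-!
# Glueing along a derived adic isomorphism: flat algebras
-/

universe u

open TensorProduct

namespace Groth.L09.GlueRing

/-- The glueing hypotheses: `A/tᵐ ≅ A'/tᵐ` and the `t`-power torsions agree. -/
structure Cond {A A' : Type u} [CommRing A] [CommRing A'] (φ : A →+* A') (t : A) : Prop where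
  quot : ∀ m : ℕ, Function.Bijective
    (Ideal.quotientMap (Ideal.map φ (Ideal.span {t} ^ m)) φ Ideal.le_comap_map)
  tor : ∀ a' : A', (∃ m : ℕ, φ t ^ m * a' = 0) →
    ∃! a : A, (∃ m : ℕ, t ^ m * a = 0) ∧ φ a = a'

variable {A A' : Type u} [CommRing A] [CommRing A'] [Algebra A A'] {t : A}

local notation "At" => Localization.Away t
local notation "At'" => Localization.Away (algebraMap A A' t)

variable (A A' t) in
/-- `A[1/t] → A'[1/t]`. -/
noncomputable def awayHom : At →ₐ[A] At' :=
  { Localization.awayMap (algebraMap A A') t with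
    commutes' := fun a => by
      rw [IsScalarTower.algebraMap_apply A A' At']
      exact IsLocalization.map_eq _ a }

variable (h : Cond (algebraMap A A') t)
include h

lemma eq_zero {a : A} (h1 : algebraMap A At a = 0) (h2 : algebraMap A A' a = 0) : a = 0 := by
  obtain ⟨⟨_, m, rfl⟩, hm⟩ := (IsLocalization.map_eq_zero_iff (Submonoid.powers t) At a).mp h1
  exact (h.tor 0 ⟨0, by simp⟩).unique ⟨⟨m, hm⟩, h2⟩ ⟨⟨0, by simp⟩, map_zero _⟩

lemma exists_eq (x : At) (y : A') (e : awayHom A A' t x = algebraMap A' At' y) :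
    ∃ a, algebraMap A At a = x ∧ algebraMap A A' a = y := by
  let φ := algebraMap A A'
  obtain ⟨⟨a, ⟨_, n, rfl⟩⟩, hx⟩ := IsLocalization.surj (Submonoid.powers t) x
  simp only at hx
  have h1 : algebraMap A' At' (y * φ t ^ n) = algebraMap A' At' (φ a) := by
    have := congrArg (awayHom A A' t) hx
    rw [map_mul, AlgHom.commutes, AlgHom.commutes, e, IsScalarTower.algebraMap_apply A A' At',
      IsScalarTower.algebraMap_apply A A' At', ← map_mul, map_pow] at this
    exact this
  obtain ⟨⟨_, m, rfl⟩, hm⟩ := IsLocalization.exists_of_eq (M := Submonoid.powers (φ t)) h1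
  simp only at hm
  -- `φ (tᵐ a) = φ t^(m+n) y`
  have h2 : φ (t ^ m * a) = φ t ^ (m + n) * y := by
    rw [map_mul, map_pow, ← hm, pow_add, mul_assoc, mul_comm y]
  obtain ⟨c, hc⟩ : ∃ c, t ^ m * a = t ^ (m + n) * c := by
    have : t ^ m * a ∈ Ideal.span {t} ^ (m + n) := by
      rw [← Ideal.Quotient.eq_zero_iff_mem]
      apply (h.quot (m + n)).1
      rw [map_zero, Ideal.quotientMap_mk, Ideal.Quotient.eq_zero_iff_mem, h2]
      refine Ideal.mul_mem_right _ _ ?_
      rw [← map_pow]
      exact Ideal.mem_map_of_mem _ (Ideal.pow_mem_pow (Ideal.mem_span_singleton_self t) _)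
    rw [Ideal.span_singleton_pow, Ideal.mem_span_singleton] at this
    exact this
  have h3 : φ t ^ (m + n) * (y - φ c) = 0 := by
    rw [mul_sub, ← h2, hc, map_mul, map_pow, sub_self]
  obtain ⟨d, ⟨⟨k, hk⟩, hd⟩, -⟩ := h.tor (y - φ c) ⟨m + n, h3⟩
  refine ⟨c + d, ?_, by rw [map_add, hd, add_sub_cancel]⟩
  have hd0 : algebraMap A At d = 0 :=
    (IsLocalization.map_eq_zero_iff (Submonoid.powers t) At d).mpr ⟨⟨t ^ k, k, rfl⟩, hk⟩
  rw [map_add, hd0, add_zero]
  have hu := IsLocalization.Away.algebraMap_isUnit (S := At) t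
  apply (hu.pow (m + n)).mul_left_cancel
  calc algebraMap A At t ^ (m + n) * algebraMap A At c = algebraMap A At (t ^ (m + n) * c) := by
        rw [map_mul, map_pow]
    _ = algebraMap A At (t ^ m * a) := by rw [hc]
    _ = algebraMap A At t ^ m * (x * algebraMap A At (t ^ n)) := by rw [hx, map_mul, map_pow]
    _ = algebraMap A At t ^ (m + n) * x := by rw [map_pow, pow_add]; ring

variable {B : Type u} [CommRing B] [Algebra A B] [Module.Flat A B]

/-- Elements of a flat algebra are determined on the two pieces. -/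
lemma ext {b b' : B} (h1 : b ⊗ₜ[A] (1 : At) = b' ⊗ₜ[A] 1) (h2 : b ⊗ₜ[A] (1 : A') = b' ⊗ₜ[A] 1) :
    b = b' := by
  let ι₀ : A →ₗ[A] At × A' := (Algebra.linearMap A At).prod (Algebra.linearMap A A')
  have hι : Function.Injective ι₀ := fun a a' e => sub_eq_zero.mp (eq_zero h
    (by rw [map_sub, sub_eq_zero]; exact congrArg Prod.fst e)
    (by rw [map_sub, sub_eq_zero]; exact congrArg Prod.snd e))
  apply ((Module.Flat.lTensor_preserves_injective_linearMap (M := B) ι₀ hι).comp
    (TensorProduct.rid A B).symm.injective)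
  show ι₀.lTensor B ((TensorProduct.rid A B).symm b) = ι₀.lTensor B ((TensorProduct.rid A B).symm b')
  have e : ∀ b : B, ι₀.lTensor B ((TensorProduct.rid A B).symm b) =
      (LinearMap.inl A At A').lTensor B (b ⊗ₜ 1) + (LinearMap.inr A At A').lTensor B (b ⊗ₜ 1) := by
    intro b
    rw [TensorProduct.rid_symm_apply, LinearMap.lTensor_tmul, LinearMap.lTensor_tmul,
      LinearMap.lTensor_tmul, ← TensorProduct.tmul_add]
    simp [ι₀]
  rw [e, e, h1, h2]

/-- Ring homomorphisms into a flat algebra glue. -/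
theorem exists_hom {C : Type u} [CommRing C] (f : C →+* B ⊗[A] At) (g : C →+* B ⊗[A] A')
    (hfg : ∀ c, Algebra.TensorProduct.map (AlgHom.id A B) (awayHom A A' t) (f c) =
      Algebra.TensorProduct.map (AlgHom.id A B) (IsScalarTower.toAlgHom A A' At') (g c)) :
    ∃ k : C →+* B, (∀ c, k c ⊗ₜ[A] (1 : At) = f c) ∧ ∀ c, k c ⊗ₜ[A] (1 : A') = g c := by
  let ι₀ : A →ₗ[A] At × A' := (Algebra.linearMap A At).prod (Algebra.linearMap A A')
  let ψ := IsScalarTower.toAlgHom A A' At'
  let d : At × A' →ₗ[A] At' :=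
    (awayHom A A' t).toLinearMap ∘ₗ LinearMap.fst A At A' -
      ψ.toLinearMap ∘ₗ LinearMap.snd A At A'
  have hex : Function.Exact ι₀ d := by
    intro x
    constructor
    · intro hx
      obtain ⟨a, ha, ha'⟩ := exists_eq h x.1 x.2 (sub_eq_zero.mp hx)
      exact ⟨a, Prod.ext ha ha'⟩
    · rintro ⟨a, rfl⟩
      simp [ι₀, d, ψ, ← IsScalarTower.algebraMap_apply]
  have hex' := Module.Flat.lTensor_exact B hex
  have key : ∀ c, ∃ b : B, b ⊗ₜ[A] (1 : At) = f c ∧ b ⊗ₜ[A] (1 : A') = g c := by
    intro c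
    let z : B ⊗[A] (At × A') :=
      (LinearMap.inl A At A').lTensor B (f c) + (LinearMap.inr A At A').lTensor B (g c)
    have hz : d.lTensor B z = 0 := by
      simp only [z, map_add, ← LinearMap.lTensor_comp_apply]
      have e1 : d ∘ₗ LinearMap.inl A At A' = (awayHom A A' t).toLinearMap := by ext; simp [d]
      have e2 : d ∘ₗ LinearMap.inr A At A' = -ψ.toLinearMap := by ext; simp [d]
      rw [e1, e2, LinearMap.lTensor_neg, LinearMap.neg_apply, ← sub_eq_add_neg, sub_eq_zero]
      exact hfg c
    obtain ⟨y, hy⟩ := (hex' z).mp hz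
    have hy' : (TensorProduct.rid A B y) ⊗ₜ[A] (1 : A) = y := by
      rw [← TensorProduct.rid_symm_apply, LinearEquiv.symm_apply_apply]
    rw [← hy', LinearMap.lTensor_tmul] at hy
    refine ⟨TensorProduct.rid A B y, ?_, ?_⟩
    · have := congrArg ((LinearMap.fst A At A').lTensor B) hy
      simp only [z, map_add, ← LinearMap.lTensor_comp_apply, LinearMap.lTensor_tmul] at this
      simpa [ι₀] using this
    · have := congrArg ((LinearMap.snd A At A').lTensor B) hy
      simp only [z, map_add, ← LinearMap.lTensor_comp_apply, LinearMap.lTensor_tmul] at this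
      simpa [ι₀] using this
  choose k hk hk' using key
  have h1 : k 1 = 1 := ext h (by rw [hk, map_one]; rfl) (by rw [hk', map_one]; rfl)
  have hm : ∀ x y, k (x * y) = k x * k y := fun x y => ext h
    (by rw [hk, map_mul, ← hk, ← hk, Algebra.TensorProduct.tmul_mul_tmul, mul_one])
    (by rw [hk', map_mul, ← hk', ← hk', Algebra.TensorProduct.tmul_mul_tmul, mul_one])
  have h0 : k 0 = 0 := ext h (by rw [hk, map_zero, TensorProduct.zero_tmul])
    (by rw [hk', map_zero, TensorProduct.zero_tmul])
  have ha : ∀ x y, k (x + y) = k x + k y := fun x y => ext h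
    (by rw [hk, map_add, TensorProduct.add_tmul, hk, hk])
    (by rw [hk', map_add, TensorProduct.add_tmul, hk', hk'])
  exact ⟨{ toFun := k
           map_one' := h1
           map_mul' := hm
           map_zero' := h0
           map_add' := ha }, hk, hk'⟩

omit [Module.Flat A B] in
/-- Every point of the spectrum lies in one of the two pieces. -/
theorem exists_point {κ : Type u} [Field κ] [Algebra A κ] :
    Nonempty (At →ₐ[A] κ) ∨ Nonempty (A' →ₐ[A] κ) := by
  by_cases ht : algebraMap A κ t = 0
  · refine Or.inr ?_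
    let I := Ideal.span {t} ^ 1
    let q := Ideal.quotientMap (Ideal.map (algebraMap A A') I) (algebraMap A A') Ideal.le_comap_map
    let e : A ⧸ I ≃+* A' ⧸ Ideal.map (algebraMap A A') I := RingEquiv.ofBijective q (h.quot 1)
    have hI : ∀ a ∈ I, algebraMap A κ a = 0 := by
      intro a ha
      simp only [I, pow_one, Ideal.mem_span_singleton] at ha
      obtain ⟨c, rfl⟩ := ha
      rw [map_mul, ht, zero_mul]
    refine ⟨{ ((Ideal.Quotient.lift I (algebraMap A κ) hI).comp e.symm.toRingHom).comp
      (Ideal.Quotient.mk _) with commutes' := fun a => ?_ }⟩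
    show Ideal.Quotient.lift I _ hI (e.symm (Ideal.Quotient.mk _ (algebraMap A A' a))) = _
    have : e (Ideal.Quotient.mk I a) = Ideal.Quotient.mk _ (algebraMap A A' a) := rfl
    rw [← this, e.symm_apply_apply]
    rfl
  · refine Or.inl ⟨{ IsLocalization.Away.lift t (g := algebraMap A κ) (IsUnit.mk0 _ ht) with
      commutes' := fun a => IsLocalization.Away.lift_eq t _ a }⟩

end Groth.L09.GlueRing
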