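import Groth.Prelude.Def_NonAbH1
import Mathlib.Algebra.Category.Grp.ForgetCorepresentable
import Mathlib.CategoryTheory.Sites.CoversTop.Basic
import Mathlib.Logic.Small.Basic
import Mathlib.Tactic.Group

/-!
Torsors under sheaves of groups on a site: morphisms of torsors are isomorphisms, Čech classes,
the boundary map.
-/

set_option autoImplicit false
universe w' w v u

open CategoryTheory Opposite

namespace Groth.L09.Torsors

variable {C : Type u} [Category.{v} C] {J : GrothendieckTopology C}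

theorem hasSheafCompose_forget_grp : J.HasSheafCompose (forget GrpCat.{w}) where
  isSheaf P hP := by
    rw [isSheaf_iff_isSheaf_of_type]
    exact Presieve.isSheaf_iso J (Functor.isoWhiskerLeft P GrpCat.coyonedaObjIsoForget)
      (hP (GrpCat.of (ULift.{w} (Multiplicative ℤ))))

lemma eq_of_locally (P : Sheaf J (Type w)) {U : C} (S : Sieve U) (hS : S ∈ J U) {x y : P.obj.obj (op U)}
    (h : ∀ ⦃V : C⦄ (f : V ⟶ U), S f → P.obj.map f.op x = P.obj.map f.op y) : x = y :=
  ((isSheaf_iff_isSheaf_of_type J P.obj).mp P.property S hS).isSeparatedFor.ext fun _ f hf => h f hf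

lemma glue (P : Sheaf J (Type w)) {U : C} (S : Sieve U) (hS : S ∈ J U)
    (x : ∀ ⦃V : C⦄ (f : V ⟶ U), S f → P.obj.obj (op V))
    (h : ∀ ⦃W V : C⦄ (g : W ⟶ V) (f : V ⟶ U) (hf : S f),
      P.obj.map g.op (x f hf) = x (g ≫ f) (S.downward_closed hf g)) :
    ∃ t : P.obj.obj (op U), ∀ ⦃V : C⦄ (f : V ⟶ U) (hf : S f), P.obj.map f.op t = x f hf := by
  have H := (isSheaf_iff_isSheaf_of_type J P.obj).mp P.property S hS
  have hc : Presieve.FamilyOfElements.SieveCompatible (P := P.obj) (S := S) x :=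
    fun Y Z f g hf => (h g f hf).symm
  have hc' := (Presieve.compatible_iff_sieveCompatible x).mpr hc
  exact ⟨H.amalgamate x hc', fun V f hf => H.valid_glue hc' f hf⟩

lemma grp_eq_of_locally (G : Sheaf J GrpCat.{w}) {U : C} (S : Sieve U) (hS : S ∈ J U) {x y : G.obj.obj (op U)}
    (h : ∀ ⦃V : C⦄ (f : V ⟶ U), S f → G.obj.map f.op x = G.obj.map f.op y) : x = y := by
  have : J.HasSheafCompose (forget GrpCat.{w}) := hasSheafCompose_forget_grp
  exact eq_of_locally (NonAbH1.GSheaf.uSh G) S hS h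

lemma map_map {P : Cᵒᵖ ⥤ Type w} {U V W : C} (f : V ⟶ U) (g : W ⟶ V) (x : P.obj (op U)) :
    P.map g.op (P.map f.op x) = P.map (g ≫ f).op x := by simp

lemma grp_map_map {G : Cᵒᵖ ⥤ GrpCat.{w}} {U V W : C} (f : V ⟶ U) (g : W ⟶ V) (x : G.obj (op U)) :
    G.map g.op (G.map f.op x) = G.map (g ≫ f).op x := by simp

variable {G : Sheaf J GrpCat.{w}} {P Q : NonAbH1.GSheaf G}

lemma free (hP : P.IsPseudoTorsor) {U : Cᵒᵖ} (p : P.P.obj.obj U) {g g' : G.obj.obj U}
    (h : P.smul g p = P.smul g' p) : g = g' :=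
  (hP U p (P.smul g' p)).unique h rfl

lemma trans_elt (hP : P.IsPseudoTorsor) {U : Cᵒᵖ} (p q : P.P.obj.obj U) : ∃ g, P.smul g p = q :=
  (hP U p q).exists

/-- An equivariant morphism from a torsor to a pseudo-torsor is an isomorphism. -/
theorem isIso_of_torsor (hP : P.IsTorsor) (hQ : Q.IsPseudoTorsor) (f : P ⟶ Q) : IsIso f := by
  have hinj : ∀ U, Function.Injective (f.hom.hom.app U) := fun U p p' e => by
    obtain ⟨g, rfl⟩ := trans_elt hP.1 p p'
    rw [f.map_smul] at e
    have hg : g = 1 := free hQ (f.hom.hom.app U p) (by rw [Q.one_smul]; exact e.symm)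
    rw [hg, P.one_smul]
  have hsurj : ∀ U, Function.Surjective (f.hom.hom.app U) := fun ⟨U⟩ q => by
    obtain ⟨S, hS, hne⟩ := hP.2 U
    have hloc : ∀ ⦃V : C⦄ (i : V ⟶ U), S i → ∃ t, f.hom.hom.app (op V) t = Q.P.obj.map i.op q := fun V i hi => by
      obtain ⟨p⟩ := hne i hi
      obtain ⟨g, hg⟩ := trans_elt hQ (f.hom.hom.app _ p) (Q.P.obj.map i.op q)
      exact ⟨P.smul g p, by rw [f.map_smul, hg]⟩
    choose x hx using hloc
    obtain ⟨t, ht⟩ := glue P.P S hS x (fun W V g i hi => hinj _ (by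
      rw [NatTrans.naturality_apply, hx, hx, map_map]))
    exact ⟨t, eq_of_locally Q.P S hS fun V i hi => by rw [← NatTrans.naturality_apply, ht i hi, hx]⟩
  let e : ∀ U, P.P.obj.obj U ≅ Q.P.obj.obj U := fun U => (Equiv.ofBijective _ ⟨hinj U, hsurj U⟩).toIso
  let inv : Q.P ⟶ P.P := ⟨{ app := fun U => (e U).inv
                            naturality := fun U V i => by
                              ext q
                              apply hinj V
                              show f.hom.hom.app V ((e V).inv (Q.P.obj.map i q)) =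
                                f.hom.hom.app V (P.P.obj.map i ((e U).inv q))
                              rw [NatTrans.naturality_apply]
                              exact ((Equiv.ofBijective _ ⟨hinj V, hsurj V⟩).apply_symm_apply _).trans
                                (congrArg _ ((Equiv.ofBijective _ ⟨hinj U, hsurj U⟩).apply_symm_apply q).symm) }⟩
  have hi : ∀ U q, f.hom.hom.app U (inv.hom.app U q) = q := fun U q =>
    (Equiv.ofBijective _ ⟨hinj U, hsurj U⟩).apply_symm_apply q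
  refine ⟨⟨inv, fun g q => hinj _ ?_⟩, ?_, ?_⟩
  · rw [hi, f.map_smul, hi]
  · apply NonAbH1.GSheaf.hom_ext
    ext U p
    exact hinj U (hi U _)
  · apply NonAbH1.GSheaf.hom_ext
    ext U q
    exact hi U q

section Cech

variable {I : Type w'} (U : I → C)

theorem existsUnique_hasCechClass (hP : P.IsTorsor) (hU : P.TrivialisedBy U) :
    ∃! c : PresheafOfGroups.H1 G.obj U, P.HasCechClass U c := by
  let s : ∀ i, P.P.obj.obj (op (U i)) := fun i => (hU i).some
  choose γ hγ using fun (i j : I) (T : C) (a : T ⟶ U i) (b : T ⟶ U j) =>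
    trans_elt hP.1 (P.P.obj.map b.op (s j)) (P.P.obj.map a.op (s i))
  let Γ : PresheafOfGroups.OneCocycle G.obj U :=
    { ev := fun i j T a b => γ i j T a b
      ev_precomp := fun i j T T' φ a b => free hP.1 (P.P.obj.map (φ ≫ b).op (s j)) (by
        rw [hγ, ← map_map b φ, ← P.map_smul, hγ, map_map])
      ev_trans := fun i j k T a b c => free hP.1 (P.P.obj.map c.op (s k)) (by
        rw [P.mul_smul, hγ, hγ, hγ]) }
  refine ⟨Γ.class, ⟨s, Γ, hγ, rfl⟩, ?_⟩
  rintro c ⟨t, δ, hδ, rfl⟩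
  choose α hα using fun i => trans_elt hP.1 (s i) (t i)
  refine (PresheafOfGroups.OneCocycle.IsCohomologous.class_eq ⟨α, fun i j T a b => ?_⟩).symm
  apply free hP.1 (P.P.obj.map b.op (s j))
  rw [P.mul_smul, P.mul_smul, ← P.map_smul b.op, hα, hδ i j a b,
    show P.smul (Γ.ev i j a b) (P.P.obj.map b.op (s j)) = _ from hγ i j T a b, ← P.map_smul, hα]

theorem iso_of_hasCechClass_eq (hU : J.CoversTop U) (hP : P.IsTorsor) (hQ : Q.IsTorsor)
    {c : PresheafOfGroups.H1 G.obj U} (hPc : P.HasCechClass U c) (hQc : Q.HasCechClass U c) :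
    Nonempty (P ≅ Q) := by
  obtain ⟨s, γ, hs, hγ⟩ := hPc
  obtain ⟨t₀, δ, ht₀, hδ⟩ := hQc
  obtain ⟨α, hα⟩ := (PresheafOfGroups.OneCocycle.class_eq_iff _ _).mp (hδ.trans hγ.symm)
  obtain ⟨t, ht⟩ : ∃ t : ∀ i, Q.P.obj.obj (op (U i)), ∀ i j ⦃T : C⦄ (a : T ⟶ U i) (b : T ⟶ U j),
      Q.smul (γ.ev i j a b) (Q.P.obj.map b.op (t j)) = Q.P.obj.map a.op (t i) :=
    ⟨fun i => Q.smul (α i) (t₀ i), fun i j T a b => by
      rw [Q.map_smul, Q.map_smul, ← Q.mul_smul, ← hα i j a b, Q.mul_smul, ht₀ i j a b]⟩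
  have key : ∀ {V : C} (p : P.P.obj.obj (op V)), ∃ q : Q.P.obj.obj (op V),
      ∀ ⦃W : C⦄ (k : W ⟶ V) (i : I) (a : W ⟶ U i) (g : G.obj.obj (op W)),
        P.smul g (P.P.obj.map a.op (s i)) = P.P.obj.map k.op p →
          Q.smul g (Q.P.obj.map a.op (t i)) = Q.P.obj.map k.op q := fun {V} p => by
    have indep : ∀ {W : C} (i j : I) (a : W ⟶ U i) (b : W ⟶ U j) (g g' : G.obj.obj (op W)),
        P.smul g (P.P.obj.map a.op (s i)) = P.smul g' (P.P.obj.map b.op (s j)) →
          Q.smul g (Q.P.obj.map a.op (t i)) = Q.smul g' (Q.P.obj.map b.op (t j)) := fun {W} i j a b g g' e => by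
      rw [← hs i j a b, ← P.mul_smul] at e
      rw [← ht i j a b, ← Q.mul_smul, free hP.1 _ e]
    have hloc : ∀ ⦃W : C⦄ (k : W ⟶ V), Sieve.ofObjects U V k →
        ∃ q, ∀ (i : I) (a : W ⟶ U i) (g : G.obj.obj (op W)),
          P.smul g (P.P.obj.map a.op (s i)) = P.P.obj.map k.op p → Q.smul g (Q.P.obj.map a.op (t i)) = q := by
      rintro W k ⟨j, ⟨b⟩⟩
      obtain ⟨g', hg'⟩ := trans_elt hP.1 (P.P.obj.map b.op (s j)) (P.P.obj.map k.op p)
      exact ⟨Q.smul g' (Q.P.obj.map b.op (t j)), fun i a g e => indep i j a b g g' (e.trans hg'.symm)⟩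
    choose x hx using hloc
    obtain ⟨q, hq⟩ := glue Q.P _ (hU V) x (fun W W' g k hk => by
      obtain ⟨j, ⟨b⟩⟩ := hk
      obtain ⟨g', hg'⟩ := trans_elt hP.1 (P.P.obj.map b.op (s j)) (P.P.obj.map k.op p)
      rw [← hx k ⟨j, ⟨b⟩⟩ j b g' hg', Q.map_smul, map_map]
      refine hx _ _ j (g ≫ b) _ ?_
      rw [← map_map b g, ← P.map_smul, hg', map_map])
    exact ⟨q, fun W k i a g e => (hx k ⟨i, ⟨a⟩⟩ i a g e).trans (hq k ⟨i, ⟨a⟩⟩).symm⟩
  choose F hF using @key
  have hext : ∀ {V : C} (q q' : Q.P.obj.obj (op V)),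
      (∀ ⦃W : C⦄ (k : W ⟶ V) (i : I) (_ : W ⟶ U i), Q.P.obj.map k.op q = Q.P.obj.map k.op q') → q = q' :=
    fun {V} q q' h => eq_of_locally Q.P _ (hU V) fun W k ⟨i, ⟨a⟩⟩ => h k i a
  let f : P ⟶ Q := ⟨⟨{ app := fun V => ↾(F (V := V.unop))
                       naturality := fun ⟨V⟩ ⟨V'⟩ ⟨k⟩ => ?_ }⟩, fun {V} g p => ?_⟩
  · exact ⟨@asIso _ _ _ _ f (isIso_of_torsor hP hQ.1 f)⟩
  · ext p
    refine hext _ _ fun W l i a => ?_
    obtain ⟨g, hg⟩ := trans_elt hP.1 (P.P.obj.map a.op (s i)) (P.P.obj.map (l ≫ k).op p)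
    show Q.P.obj.map l.op (F (P.P.obj.map k.op p)) = Q.P.obj.map l.op (Q.P.obj.map k.op (F p))
    rw [← hF (P.P.obj.map k.op p) l i a g (by rw [hg, map_map]), map_map, hF p (l ≫ k) i a g hg]
  · obtain ⟨V⟩ := V
    refine hext _ _ fun W l i a => ?_
    obtain ⟨g', hg'⟩ := trans_elt hP.1 (P.P.obj.map a.op (s i)) (P.P.obj.map l.op p)
    show Q.P.obj.map l.op (F (P.smul g p)) = Q.P.obj.map l.op (Q.smul g (F p))
    rw [← hF (P.smul g p) l i a (G.obj.map l.op g * g') (by rw [P.mul_smul, hg', P.map_smul]),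
      Q.map_smul, ← hF p l i a g' hg', Q.mul_smul]

/-- The sections over `V` of the torsor twisted by a cocycle. -/
structure Fam (γ : PresheafOfGroups.OneCocycle G.obj U) (V : C) where
  x : ∀ ⦃W : C⦄ (_ : W ⟶ V) (i : I) (_ : W ⟶ U i), G.obj.obj (op W)
  natural : ∀ ⦃W' W : C⦄ (g : W' ⟶ W) (k : W ⟶ V) (i : I) (a : W ⟶ U i),
    G.obj.map g.op (x k i a) = x (g ≫ k) i (g ≫ a)
  compat : ∀ ⦃W : C⦄ (k : W ⟶ V) (i j : I) (a : W ⟶ U i) (b : W ⟶ U j), x k i a * γ.ev i j a b = x k j b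

variable {U} {γ : PresheafOfGroups.OneCocycle G.obj U}

lemma Fam.ext' {V : C} {s t : Fam U γ V} (h : ∀ ⦃W : C⦄ (k : W ⟶ V) i (a : W ⟶ U i), s.x k i a = t.x k i a) :
    s = t := by
  cases s; cases t
  congr
  funext W k i a
  exact h k i a

def Fam.smul {V : C} (g : G.obj.obj (op V)) (s : Fam U γ V) : Fam U γ V where
  x W k i a := G.obj.map k.op g * s.x k i a
  natural W' W h k i a := by rw [map_mul, grp_map_map, s.natural]
  compat W k i j a b := by rw [_root_.mul_assoc, s.compat]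

def Fam.res {V V' : C} (l : V' ⟶ V) (s : Fam U γ V) : Fam U γ V' where
  x W k i a := s.x (k ≫ l) i a
  natural W' W h k i a := by rw [s.natural, Category.assoc]
  compat W k i j a b := s.compat _ i j a b

lemma Fam.exists_smul_eq (hU : J.CoversTop U) {V : C} (p q : Fam U γ V) : ∃! g, Fam.smul g p = q := by
  have : J.HasSheafCompose (forget GrpCat.{w}) := hasSheafCompose_forget_grp
  have hloc : ∀ ⦃W : C⦄ (k : W ⟶ V), Sieve.ofObjects U V k →
      ∃ g : G.obj.obj (op W), ∀ i (a : W ⟶ U i), g = q.x k i a * (p.x k i a)⁻¹ := by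
    rintro W k ⟨j, ⟨b⟩⟩
    refine ⟨q.x k j b * (p.x k j b)⁻¹, fun i a => ?_⟩
    rw [← q.compat k i j a b, ← p.compat k i j a b, mul_inv_rev, _root_.mul_assoc, mul_inv_cancel_left]
  choose x hx using hloc
  obtain ⟨g, hg⟩ := glue (NonAbH1.GSheaf.uSh G) _ (hU V) x (fun W W' h k hk => by
    obtain ⟨j, ⟨b⟩⟩ := hk
    show G.obj.map h.op (x k _) = _
    rw [hx k ⟨j, ⟨b⟩⟩ j b, hx _ _ j (h ≫ b), map_mul, map_inv, q.natural, p.natural])
  have hg' : ∀ ⦃W : C⦄ (k : W ⟶ V) i (a : W ⟶ U i),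
      G.obj.map k.op (NonAbH1.GSheaf.toGrp g) = q.x k i a * (p.x k i a)⁻¹ := fun W k i a =>
    (hg k ⟨i, ⟨a⟩⟩).trans (hx k _ i a)
  refine ⟨g, Fam.ext' fun W k i a => ?_, fun g' hg'' => ?_⟩
  · show G.obj.map k.op (NonAbH1.GSheaf.toGrp g) * p.x k i a = _
    rw [hg', inv_mul_cancel_right]
  · refine grp_eq_of_locally G _ (hU V) fun W k ⟨i, ⟨a⟩⟩ => ?_
    have : G.obj.map k.op g' * p.x k i a = q.x k i a := congrArg (fun s : Fam U γ V => s.x k i a) hg''
    exact (eq_mul_inv_of_mul_eq this).trans (hg' k i a).symm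

lemma Fam.glue_exists (hU : J.CoversTop U) {V : C} (S : Sieve V) (hS : S ∈ J V)
    (s : ∀ ⦃W : C⦄ (k : W ⟶ V), S k → Fam U γ W)
    (hs : ∀ ⦃W' W : C⦄ (g : W' ⟶ W) (k : W ⟶ V) (hk : S k),
      Fam.res g (s k hk) = s (g ≫ k) (S.downward_closed hk g)) :
    ∃ t : Fam U γ V, ∀ ⦃W : C⦄ (k : W ⟶ V) (hk : S k), Fam.res k t = s k hk := by
  have : J.HasSheafCompose (forget GrpCat.{w}) := hasSheafCompose_forget_grp
  have hloc : ∀ ⦃W : C⦄ (k : W ⟶ V) i (a : W ⟶ U i), ∃ g : G.obj.obj (op W),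
      ∀ ⦃W' : C⦄ (l : W' ⟶ W) (hl : S (l ≫ k)), G.obj.map l.op g = (s _ hl).x (𝟙 W') i (l ≫ a) := by
    intro W k i a
    obtain ⟨g, hg⟩ := glue (NonAbH1.GSheaf.uSh G) (S.pullback k) (J.pullback_stable k hS)
      (fun W' l hl => (s (l ≫ k) hl).x (𝟙 W') i (l ≫ a)) (fun W'' W' h l hl => by
        show G.obj.map h.op ((s (l ≫ k) hl).x (𝟙 W') i (l ≫ a)) = _
        have e := congrArg (fun t : Fam U γ W'' => t.x (𝟙 W'') i ((h ≫ l) ≫ a)) (hs h (l ≫ k) hl)
        simp only [Fam.res] at e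
        rw [(s (l ≫ k) hl).natural, Category.comp_id]
        simp only [Category.id_comp, Category.assoc] at e ⊢
        exact e)
    exact ⟨g, fun W' l hl => hg l hl⟩
  choose x hx using hloc
  refine ⟨⟨x, fun W' W h k i a => ?_, fun W k i j a b => ?_⟩, fun W k hk => Fam.ext' fun W' l i a => ?_⟩
  · refine grp_eq_of_locally G _ (J.pullback_stable (h ≫ k) hS) fun W'' l hl => ?_
    rw [Sieve.pullback_apply] at hl
    rw [grp_map_map, hx k i a (l ≫ h) (by rwa [Category.assoc]), hx _ i (h ≫ a) l hl]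
    simp only [Category.assoc]
  · refine grp_eq_of_locally G _ (J.pullback_stable k hS) fun W' l hl => ?_
    rw [Sieve.pullback_apply] at hl
    rw [map_mul, hx k i a l hl, hx k j b l hl, γ.ev_precomp]
    exact (s _ hl).compat _ i j _ _
  · show x (l ≫ k) i a = (s k hk).x l i a
    refine grp_eq_of_locally G _ (J.top_mem W') fun W'' h _ => ?_
    have hh : S (h ≫ l ≫ k) := S.downward_closed (S.downward_closed hk l) h
    rw [hx (l ≫ k) i a h hh, (s k hk).natural]
    have e := congrArg (fun t : Fam U γ W'' => t.x (𝟙 W'') i (h ≫ a)) (hs (h ≫ l) k hk)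
    simp only [Fam.res, Category.id_comp, Category.assoc] at e
    exact e.symm

/-- The family attached to a chosen index and map to `U i`. -/
def Fam.ofMap {V : C} (i : I) (a : V ⟶ U i) : Fam U γ V where
  x W k j b := γ.ev i j (k ≫ a) b
  natural W' W h k j b := by rw [γ.ev_precomp, Category.assoc]
  compat W k j j' b b' := γ.ev_trans i j j' _ b b'

theorem small_fam (hU : Fact (J.CoversTop U)) (V : C) : Small.{w} (Fam U γ V) := by
  by_cases h : Nonempty (Fam U γ V)
  · obtain ⟨p⟩ := h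
    exact small_of_surjective (f := fun g : G.obj.obj (op V) => Fam.smul g p)
      fun q => (Fam.exists_smul_eq hU.out p q).exists
  · have := not_nonempty_iff.mp h
    infer_instance

theorem exists_torsor_of_cocycle (hU : J.CoversTop U) (c : PresheafOfGroups.H1 G.obj U) :
    ∃ P : NonAbH1.Torsor G, P.TrivialisedBy U ∧ P.HasCechClass U c := by
  obtain ⟨γ, rfl⟩ := Quot.exists_rep c
  haveI : Fact (J.CoversTop U) := ⟨hU⟩
  haveI : ∀ V, Small.{w} (Fam U γ V) := fun V => small_fam ⟨hU⟩ V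
  let F : Cᵒᵖ ⥤ Type w :=
    { obj := fun V => Shrink.{w} (Fam U γ V.unop)
      map := fun l => ↾fun s => equivShrink _ (Fam.res l.unop ((equivShrink _).symm s))
      map_id := fun V => by
        refine ConcreteCategory.hom_ext _ _ fun s => ?_
        show equivShrink _ (Fam.res _ ((equivShrink _).symm s)) = s
        refine (congrArg (equivShrink _) ?_).trans ((equivShrink _).apply_symm_apply s)
        exact Fam.ext' fun W k i a => by simp [Fam.res]
      map_comp := fun l l' => by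
        refine ConcreteCategory.hom_ext _ _ fun s => ?_
        show equivShrink _ (Fam.res _ ((equivShrink _).symm s)) =
          equivShrink _ (Fam.res _ ((equivShrink _).symm (equivShrink _ (Fam.res _ ((equivShrink _).symm s)))))
        rw [Equiv.symm_apply_apply]
        refine congrArg (equivShrink _) ?_
        exact Fam.ext' fun W k i a => by simp [Fam.res] }
  have hF : Presheaf.IsSheaf J F := by
    rw [isSheaf_iff_isSheaf_of_type]
    intro V S hS x hx
    have hx' := (Presieve.compatible_iff_sieveCompatible x).mp hx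
    obtain ⟨t, ht⟩ := Fam.glue_exists hU S hS (fun W k hk => (equivShrink _).symm (x k hk))
      (fun W' W g k hk => by
        rw [hx' k g hk]
        exact ((equivShrink _).symm_apply_apply _).symm)
    refine ⟨equivShrink _ t, fun W k hk => ?_, fun t' ht' => ?_⟩
    · show equivShrink _ (Fam.res k ((equivShrink _).symm (equivShrink _ t))) = x k hk
      rw [Equiv.symm_apply_apply, ht k hk, Equiv.apply_symm_apply]
    · rw [← Equiv.symm_apply_eq]
      refine Fam.ext' fun W l i a => ?_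
      refine grp_eq_of_locally G _ (J.pullback_stable l hS) fun W' h hh => ?_
      rw [((equivShrink (Fam U γ V)).symm t').natural, t.natural]
      have e := congrArg (equivShrink _).symm (ht' (h ≫ l) hh)
      rw [← ht (h ≫ l) hh] at e
      have e2 := congrArg (fun q : Fam U γ W' => q.x (𝟙 W') i (h ≫ a))
        (((equivShrink (Fam U γ W')).symm_apply_apply _).symm.trans e)
      simp only [Fam.res, Category.id_comp] at e2
      exact e2
  let P : NonAbH1.GSheaf G :=
    { P := ⟨F, hF⟩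
      smul := fun {V} g s => equivShrink _ (Fam.smul g ((equivShrink _).symm s))
      one_smul := fun {V} s => by
        refine (congrArg (equivShrink _) ?_).trans ((equivShrink _).apply_symm_apply s)
        exact Fam.ext' fun W k i a => by simp [Fam.smul]
      mul_smul := fun {V} g h s => by
        rw [Equiv.symm_apply_apply]
        exact congrArg (equivShrink _) (Fam.ext' fun W k i a => by simp [Fam.smul, _root_.mul_assoc])
      map_smul := fun {V V'} l g s => by
        show equivShrink _ (Fam.res l.unop ((equivShrink _).symm (equivShrink _ _))) =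
          equivShrink _ (Fam.smul _ ((equivShrink _).symm (equivShrink _ _)))
        rw [Equiv.symm_apply_apply, Equiv.symm_apply_apply]
        exact congrArg (equivShrink _) (Fam.ext' fun W k i a => by
          simp [Fam.res, Fam.smul, ← grp_map_map]) }
  have hps : P.IsPseudoTorsor := fun V p q => by
    obtain ⟨g, hg, hu⟩ := Fam.exists_smul_eq hU ((equivShrink _).symm p) ((equivShrink _).symm q)
    exact ⟨g, (congrArg (equivShrink _) hg).trans ((equivShrink _).apply_symm_apply q),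
      fun g' hg' => hu g' ((Equiv.symm_apply_apply _ _).symm.trans (congrArg (equivShrink _).symm hg'))⟩
  refine ⟨⟨P, hps, fun V => ⟨_, hU V, fun W k ⟨i, ⟨a⟩⟩ => ⟨equivShrink _ (Fam.ofMap i a)⟩⟩⟩,
    fun i => ⟨equivShrink _ (Fam.ofMap i (𝟙 _))⟩, fun i => equivShrink _ (Fam.ofMap i (𝟙 _)), γ,
    fun i j T a b => ?_, rfl⟩
  show equivShrink _ (Fam.smul _ ((equivShrink _).symm (equivShrink _ (Fam.res b ((equivShrink _).symm _))))) =
    equivShrink _ (Fam.res a ((equivShrink _).symm _))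
  simp only [Equiv.symm_apply_apply]
  refine congrArg (equivShrink _) (Fam.ext' fun W k l c => ?_)
  simp [Fam.smul, Fam.res, Fam.ofMap, γ.ev_trans]

end Cech

section Boundary

variable [J.HasSheafCompose (forget GrpCat.{w})] {F : Sheaf J GrpCat.{w}} (u : F ⟶ G)
  {Q : NonAbH1.GSheaf G} (π : NonAbH1.GSheaf.trivial G ⟶ Q)

open NonAbH1.GSheaf

lemma π_mul {U : Cᵒᵖ} (g h : G.obj.obj U) :
    π.hom.hom.app U (ofGrp (g * h)) = Q.smul g (π.hom.hom.app U (ofGrp h)) :=
  π.map_smul g (ofGrp h)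

lemma ι_nat {T : NonAbH1.GSheaf F} (ι : T.P ⟶ uSh G) {V W : C} (l : W ⟶ V) (t : T.P.obj.obj (op V)) :
    toGrp (ι.hom.app (op W) (T.P.obj.map l.op t)) = G.obj.map l.op (toGrp (ι.hom.app (op V) t)) :=
  NatTrans.naturality_apply ι.hom l.op t

lemma π_nat {V W : C} (l : W ⟶ V) (g : G.obj.obj (op V)) :
    π.hom.hom.app (op W) (ofGrp (G.obj.map l.op g)) = Q.P.obj.map l.op (π.hom.hom.app (op V) (ofGrp g)) :=
  NatTrans.naturality_apply π.hom.hom l.op (ofGrp g)

variable {u π} (hu : ∀ U : Cᵒᵖ, Function.Injective (u.hom.app U)) (hQ : IsQuotientBy u π)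

include hQ in
lemma π_mul_u {U : Cᵒᵖ} (g : G.obj.obj U) (f : F.obj.obj U) :
    π.hom.hom.app U (ofGrp (g * (u.hom.app U f)⁻¹)) = π.hom.hom.app U (ofGrp g) :=
  ((hQ.1 U _ _).mpr ⟨f, (inv_mul_cancel_right _ _).symm⟩)

include hu hQ in
theorem isTorsor_of_isFibreOver {c : Q.P.obj.sections} {T : NonAbH1.GSheaf F} (hT : IsFibreOver u π c T) :
    T.IsTorsor := by
  obtain ⟨ι, hinj, hmem, heq⟩ := hT
  refine ⟨fun U p q => ?_, fun U => ?_⟩
  · obtain ⟨f, hf⟩ := (hQ.1 U (toGrp (ι.hom.app U q)) (toGrp (ι.hom.app U p))).mp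
      (((hmem U _).mp ⟨q, rfl⟩).trans ((hmem U _).mp ⟨p, rfl⟩).symm)
    refine ⟨f, hinj U ((heq U f p).trans (by rw [hf, mul_inv_cancel_right])), fun f' hf' => hu U ?_⟩
    have := heq U f' p
    rw [hf', hf] at this
    rw [← inv_inj]
    have h2 := congrArg (fun z => (toGrp (ι.hom.app U q))⁻¹ * z) this
    simp only [inv_mul_cancel, _root_.mul_assoc, inv_mul_cancel_left] at h2
    exact (eq_inv_of_mul_eq_one_right h2.symm)
  · obtain ⟨S, hS, h⟩ := hQ.2 U (c.1 (op U))
    refine ⟨S, hS, fun V a ha => ?_⟩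
    obtain ⟨g, hg⟩ := h a ha
    obtain ⟨t, -⟩ := (hmem (op V) g).mpr (hg.trans (c.2 a.op))
    exact ⟨t⟩

include hQ in
theorem exists_fibre (c : Q.P.obj.sections) : ∃ T : NonAbH1.GSheaf F, IsFibreOver u π c T := by
  let P : Cᵒᵖ ⥤ Type w :=
    { obj := fun U => {g : G.obj.obj U // π.hom.hom.app U (ofGrp g) = c.1 U}
      map := fun {U V} i => ↾fun g => ⟨G.obj.map i g.1,
        ((π_nat π i.unop g.1).trans (congrArg _ g.2)).trans (c.2 i)⟩
      map_id := fun U => by
        ext g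
        exact ConcreteCategory.congr_hom (G.obj.map_id U) _
      map_comp := fun i j => by
        ext g
        exact ConcreteCategory.congr_hom (G.obj.map_comp i j) _ }
  have hP : Presheaf.IsSheaf J P := by
    rw [isSheaf_iff_isSheaf_of_type]
    intro V S hS x hx
    obtain ⟨t, ht⟩ := glue (uSh G) S hS (fun W k hk => ofGrp (x k hk).1)
      (fun W' W g k hk => congrArg Subtype.val ((Presieve.compatible_iff_sieveCompatible x).mp hx k g hk).symm)
    have hm : π.hom.hom.app (op V) (ofGrp (toGrp t)) = c.1 (op V) := eq_of_locally Q.P S hS fun W k hk => by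
      rw [← π_nat π k (toGrp t), show G.obj.map k.op (toGrp t) = (x k hk).1 from ht k hk]
      exact (x k hk).2.trans (c.2 k.op).symm
    refine ⟨⟨toGrp t, hm⟩, fun W k hk => Subtype.ext (ht k hk), fun t' ht' => Subtype.ext ?_⟩
    exact eq_of_locally (uSh G) S hS fun W k hk =>
      (congrArg Subtype.val (ht' k hk)).trans (ht k hk).symm
  refine ⟨{ P := ⟨P, hP⟩
            smul := fun {U} f g => ⟨g.1 * (u.hom.app U f)⁻¹, (π_mul_u hQ g.1 f).trans g.2⟩
            one_smul := fun {U} g => Subtype.ext (by simp)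
            mul_smul := fun {U} f f' g => Subtype.ext (by simp [mul_inv_rev, _root_.mul_assoc])
            map_smul := fun {U V} i f g => Subtype.ext (by
              show G.obj.map i (g.1 * (u.hom.app U f)⁻¹) = G.obj.map i g.1 * (u.hom.app V (F.obj.map i f))⁻¹
              rw [map_mul, map_inv, NatTrans.naturality_apply]) },
    ⟨{ app := fun U => ↾fun g => ofGrp g.1, naturality := fun U V i => rfl }⟩, fun U => Subtype.val_injective,
    fun U g => ⟨fun ⟨t, ht⟩ => ht ▸ t.2, fun h => ⟨⟨g, h⟩, rfl⟩⟩, fun U f t => rfl⟩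

include hu hQ in
/-- Left translation by a compatible family of sections of `G` carries one fibre to the other. -/
theorem iso_of_translate {c c' : Q.P.obj.sections} {T T' : NonAbH1.GSheaf F} (hT : IsFibreOver u π c T)
    (hT' : IsFibreOver u π c' T') (g : ∀ U, G.obj.obj U) (hg : ∀ ⦃U V : Cᵒᵖ⦄ (i : U ⟶ V), G.obj.map i (g U) = g V)
    (hgc : ∀ U, Q.smul (g U) (c.1 U) = c'.1 U) : Nonempty (T ≅ T') := by
  have h1 := isTorsor_of_isFibreOver hu hQ hT
  have h2 := isTorsor_of_isFibreOver hu hQ hT'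
  obtain ⟨ι, hinj, hmem, heq⟩ := hT
  obtain ⟨ι', hinj', hmem', heq'⟩ := hT'
  choose e he using fun (U : Cᵒᵖ) (t : T.P.obj.obj U) => (hmem' U (g U * toGrp (ι.hom.app U t))).mpr (by
    rw [π_mul π, (hmem U _).mp ⟨t, rfl⟩, hgc])
  let f : T ⟶ T' := ⟨⟨{ app := fun U => ↾(e U)
                        naturality := fun ⟨U⟩ ⟨V⟩ ⟨i⟩ => by
                          ext t
                          apply hinj'
                          show toGrp (ι'.hom.app (op V) (e (op V) (T.P.obj.map i.op t))) =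
                            toGrp (ι'.hom.app (op V) (T'.P.obj.map i.op (e (op U) t)))
                          rw [he, ι_nat ι, ι_nat ι', he, map_mul, hg] }⟩,
    fun {U} a t => hinj' U (by
      show toGrp (ι'.hom.app U (e U (T.smul a t))) = toGrp (ι'.hom.app U (T'.smul a (e U t)))
      rw [he, heq, heq', he, _root_.mul_assoc])⟩
  exact ⟨@asIso _ _ _ _ f (isIso_of_torsor h1 h2.1 f)⟩

include hu hQ in
theorem translate_of_iso {c c' : Q.P.obj.sections} {T T' : NonAbH1.GSheaf F} (hT : IsFibreOver u π c T)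
    (hT' : IsFibreOver u π c' T') (e : T ⟶ T') :
    ∃ g : (uSh G).obj.sections, ∀ U : Cᵒᵖ, Q.smul (toGrp (g.1 U)) (c.1 U) = c'.1 U := by
  have h1 := isTorsor_of_isFibreOver hu hQ hT
  obtain ⟨ι, hinj, hmem, heq⟩ := hT
  obtain ⟨ι', hinj', hmem', heq'⟩ := hT'
  let d : ∀ {V : C}, T.P.obj.obj (op V) → G.obj.obj (op V) := fun t =>
    toGrp (ι'.hom.app _ (e.hom.hom.app _ t)) * (toGrp (ι.hom.app _ t))⁻¹
  have hd : ∀ {V : C} (t t' : T.P.obj.obj (op V)), d t = d t' := fun t t' => by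
    obtain ⟨f, rfl⟩ := trans_elt h1.1 t t'
    simp only [d, e.map_smul, heq, heq']
    group
  have hdn : ∀ {V W : C} (l : W ⟶ V) (t : T.P.obj.obj (op V)), G.obj.map l.op (d t) = d (T.P.obj.map l.op t) :=
    fun {V W} l t => by simp only [d, map_mul, map_inv, NatTrans.naturality_apply e.hom.hom, ι_nat ι, ι_nat ι']
  choose S hS hne using h1.2
  have key : ∀ V : C, ∃ g : G.obj.obj (op V),
      ∀ ⦃W : C⦄ (k : W ⟶ V) (t : T.P.obj.obj (op W)), G.obj.map k.op g = d t := fun V => by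
    obtain ⟨g, hg⟩ := glue (uSh G) (S V) (hS V) (fun W k hk => ofGrp (d (hne V k hk).some))
      (fun W' W l k hk => (hdn l _).trans (hd _ _))
    refine ⟨toGrp g, fun W k t => ?_⟩
    refine grp_eq_of_locally G _ (J.pullback_stable k (hS V)) fun W' l hl => ?_
    rw [grp_map_map, hdn]
    exact (hg (l ≫ k) hl).trans (hd _ _)
  choose g hg using key
  refine ⟨⟨fun U => ofGrp (g U.unop), fun {U V} i => ?_⟩, fun ⟨V⟩ => ?_⟩
  · obtain ⟨U⟩ := U; obtain ⟨V⟩ := V
    refine grp_eq_of_locally G (S V) (hS V) fun W k hk => ?_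
    show G.obj.map k.op (G.obj.map i (g U)) = G.obj.map k.op (g V)
    rw [hg V k (hne V k hk).some, ← hg U (k ≫ i.unop) (hne V k hk).some]
    exact grp_map_map i.unop k (g U)
  · refine eq_of_locally Q.P (S V) (hS V) fun W k hk => ?_
    show Q.P.obj.map k.op (Q.smul (g V) _) = _
    rw [Q.map_smul, c.2 k.op, c'.2 k.op, hg V k (hne V k hk).some, ← (hmem (op W) _).mp ⟨(hne V k hk).some, rfl⟩,
      ← π_mul π, inv_mul_cancel_right]
    exact (hmem' _ _).mp ⟨_, rfl⟩

include hu hQ in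
theorem pushforward_iff {T : NonAbH1.GSheaf F} (hT : T.IsTorsor) :
    IsPushforwardAlong u T (NonAbH1.GSheaf.trivial G) ↔ ∃ c : Q.P.obj.sections, IsFibreOver u π c T := by
  constructor
  · rintro ⟨f₀, hf⟩
    let f : T.P ⟶ uSh G := f₀
    have hfs : ∀ (U : Cᵒᵖ) (a : F.obj.obj U) (t : T.P.obj.obj U),
        toGrp (f.hom.app U (T.smul a t)) = u.hom.app U a * toGrp (f.hom.app U t) := hf
    let d : ∀ {V : C}, T.P.obj.obj (op V) → Q.P.obj.obj (op V) := fun t =>
      π.hom.hom.app _ (ofGrp (toGrp (f.hom.app _ t))⁻¹)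
    have hd : ∀ {V : C} (t t' : T.P.obj.obj (op V)), d t = d t' := fun t t' => by
      obtain ⟨a, rfl⟩ := trans_elt hT.1 t t'
      show _ = π.hom.hom.app _ (ofGrp (toGrp (f.hom.app _ (T.smul a t)))⁻¹)
      rw [hfs, mul_inv_rev, π_mul_u hQ]
    have hdn : ∀ {V W : C} (l : W ⟶ V) (t : T.P.obj.obj (op V)),
        Q.P.obj.map l.op (d t) = d (T.P.obj.map l.op t) := fun {V W} l t => by
      show _ = π.hom.hom.app _ (ofGrp (toGrp (f.hom.app _ (T.P.obj.map l.op t)))⁻¹)
      rw [ι_nat f, ← map_inv, π_nat]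
    choose S hS hne using hT.2
    have key : ∀ V : C, ∃ q : Q.P.obj.obj (op V),
        ∀ ⦃W : C⦄ (k : W ⟶ V) (t : T.P.obj.obj (op W)), Q.P.obj.map k.op q = d t := fun V => by
      obtain ⟨q, hq⟩ := glue Q.P (S V) (hS V) (fun W k hk => d (hne V k hk).some)
        (fun W' W l k hk => (hdn l _).trans (hd _ _))
      refine ⟨q, fun W k t => eq_of_locally Q.P _ (J.pullback_stable k (hS V)) fun W' l hl => ?_⟩
      rw [map_map, hdn]
      exact (hq (l ≫ k) hl).trans (hd _ _)
    choose c hc using key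
    refine ⟨⟨fun U => c U.unop, fun {U V} i => ?_⟩,
      ⟨{ app := fun U => ↾fun t => ofGrp (toGrp (f.hom.app U t))⁻¹
         naturality := fun ⟨U⟩ ⟨V⟩ ⟨i⟩ => by
          ext t
          show ofGrp (toGrp (f.hom.app _ (T.P.obj.map i.op t)))⁻¹ =
            ofGrp (G.obj.map i.op (toGrp (f.hom.app _ t))⁻¹)
          rw [ι_nat f, map_inv] }⟩, fun U t t' e => ?_, fun U g => ?_, fun U a t => ?_⟩
    · obtain ⟨U⟩ := U; obtain ⟨V⟩ := V
      refine eq_of_locally Q.P (S V) (hS V) fun W k hk => ?_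
      show Q.P.obj.map k.op (Q.P.obj.map i (c U)) = Q.P.obj.map k.op (c V)
      rw [hc V k (hne V k hk).some, ← hc U (k ≫ i.unop) (hne V k hk).some]
      exact map_map i.unop k (c U)
    · have e' : toGrp (f.hom.app U t) = toGrp (f.hom.app U t') := inv_inj.mp e
      obtain ⟨a, rfl⟩ := trans_elt hT.1 t t'
      rw [hfs] at e'
      have ha : a = 1 := hu U ((right_eq_mul.mp e').trans (map_one _).symm)
      rw [ha, T.one_smul]
    · obtain ⟨V⟩ := U
      constructor
      · rintro ⟨t, rfl⟩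
        show π.hom.hom.app _ (ofGrp (toGrp (f.hom.app _ t))⁻¹) = c V
        exact ((hc V (𝟙 V) t).symm.trans (by simp))
      · intro hg
        have hloc : ∀ ⦃W : C⦄ (k : W ⟶ V), S V k → ∃ t, (toGrp (f.hom.app (op W) t))⁻¹ = G.obj.map k.op g := by
          intro W k hk
          let t₀ := (hne V k hk).some
          have e0 : π.hom.hom.app (op W) (ofGrp (toGrp (f.hom.app (op W) t₀))⁻¹) =
              π.hom.hom.app (op W) (ofGrp (G.obj.map k.op g)) := by
            rw [π_nat, hg]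
            exact (hc V k t₀).symm
          obtain ⟨a, ha⟩ := (hQ.1 _ _ _).mp e0
          exact ⟨T.smul a⁻¹ t₀, by rw [hfs, map_inv, mul_inv_rev, inv_inv, ha]⟩
        choose x hx using hloc
        obtain ⟨t, ht⟩ := glue T.P (S V) (hS V) x (fun W' W l k hk => by
          have hI : ∀ t t' : T.P.obj.obj (op W'), (toGrp (f.hom.app (op W') t))⁻¹ = (toGrp (f.hom.app (op W') t'))⁻¹ → t = t' :=
            fun t t' e => by
              obtain ⟨a, rfl⟩ := trans_elt hT.1 t t'
              rw [inv_inj, hfs] at e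
              rw [hu _ ((right_eq_mul.mp e).trans (map_one _).symm), T.one_smul]
          apply hI
          rw [ι_nat f, ← map_inv, hx, hx, grp_map_map])
        refine ⟨t, grp_eq_of_locally G (S V) (hS V) fun W k hk => ?_⟩
        show G.obj.map k.op (toGrp (f.hom.app (op V) t))⁻¹ = _
        rw [map_inv, ← ι_nat f, ht k hk, hx]
    · show (toGrp (f.hom.app U (T.smul a t)))⁻¹ = (toGrp (f.hom.app U t))⁻¹ * (u.hom.app U a)⁻¹
      rw [hfs, mul_inv_rev]
  · rintro ⟨c, ι, hinj, hmem, heq⟩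
    refine ⟨⟨{ app := fun U => ↾fun t => ofGrp (toGrp (ι.hom.app U t))⁻¹
               naturality := fun ⟨U⟩ ⟨V⟩ ⟨i⟩ => by
                ext t
                show ofGrp (toGrp (ι.hom.app _ (T.P.obj.map i.op t)))⁻¹ =
                  ofGrp (G.obj.map i.op (toGrp (ι.hom.app _ t))⁻¹)
                rw [ι_nat ι, map_inv] }⟩, fun U a t => ?_⟩
    show (toGrp (ι.hom.app U (T.smul a t)))⁻¹ = u.hom.app U a * (toGrp (ι.hom.app U t))⁻¹
    rw [heq, mul_inv_rev, inv_inv]

include hu hQ in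
theorem iso_trivial_iff_lifts {c : Q.P.obj.sections} {T : NonAbH1.GSheaf F} (hT : IsFibreOver u π c T) :
    Nonempty (T ≅ NonAbH1.GSheaf.trivial F) ↔
      ∃ g : (uSh G).obj.sections, ∀ U : Cᵒᵖ, π.hom.hom.app U (g.1 U) = c.1 U := by
  have h1 := isTorsor_of_isFibreOver hu hQ hT
  obtain ⟨ι, hinj, hmem, heq⟩ := hT
  constructor
  · rintro ⟨e⟩
    refine ⟨⟨fun U => ι.hom.app U (e.inv.hom.hom.app U (ofGrp 1)), fun {U V} i => ?_⟩, fun U => ?_⟩
    · rw [← NatTrans.naturality_apply, ← NatTrans.naturality_apply]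
      refine congrArg _ (congrArg _ ?_)
      exact map_one (F.obj.map i).hom
    · exact (hmem U _).mp ⟨_, rfl⟩
  · rintro ⟨g, hg⟩
    choose t ht using fun U : Cᵒᵖ => (hmem U (toGrp (g.1 U))).mpr (hg U)
    let f : NonAbH1.GSheaf.trivial F ⟶ T :=
      ⟨⟨{ app := fun U => ↾fun a => T.smul (toGrp a) (t U)
          naturality := fun {U V} i => by
            ext a
            show T.smul (F.obj.map i (toGrp a)) (t V) = T.P.obj.map i (T.smul (toGrp a) (t U))
            rw [T.map_smul]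
            refine congrArg _ (hinj V ?_)
            show toGrp _ = toGrp _
            rw [ht, show toGrp (ι.hom.app V (T.P.obj.map i (t U))) = G.obj.map i (toGrp (ι.hom.app U (t U))) from
              NatTrans.naturality_apply ι.hom i (t U), ht]
            exact (g.2 i).symm }⟩, fun {U} b a => T.mul_smul b (toGrp a) (t U)⟩
    exact ⟨(@asIso _ _ _ _ f (isIso_of_torsor (NonAbH1.GSheaf.isTorsor_trivial F) h1.1 f)).symm⟩

end Boundary

end Groth.L09.Torsors
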