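import Groth.Prelude.Def_NonAbH1
import Groth.Agent.L27.EtSite.Points
import Groth.Agent.L09.Torsors
import Mathlib.Algebra.Category.Grp.Limits
import Mathlib.Algebra.Category.Grp.Colimits

/-!
The sheaf of groups of all families of germs of a sheaf of groups: it has no nontrivial torsors.
-/

set_option autoImplicit false
set_option linter.style.haveILetI false
universe w

open CategoryTheory CategoryTheory.Limits Opposite

set_option backward.isDefEq.respectTransparency false
set_option backward.isDefEq.respectTransparency.types false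

noncomputable section

namespace Groth.L09.GodementGrp

variable {C : Type (w + 1)} [Category.{w} C] {J : GrothendieckTopology C} {X : Type w} (Φ : X → GrothendieckTopology.Point.{w} J)

/-- Two elements with commuting images in two objects come compatibly from a third. -/
theorem exists_common (Ψ : GrothendieckTopology.Point.{w} J) {A B Z Z' : C} (a : Z ⟶ A) (b : Z ⟶ B)
    (a' : Z' ⟶ A) (b' : Z' ⟶ B) (z : Ψ.fiber.obj Z) (z' : Ψ.fiber.obj Z')
    (ha : Ψ.fiber.map a z = Ψ.fiber.map a' z') (hb : Ψ.fiber.map b z = Ψ.fiber.map b' z') :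
    ∃ (T : C) (t : Ψ.fiber.obj T) (r : T ⟶ Z) (r' : T ⟶ Z'),
      Ψ.fiber.map r t = z ∧ Ψ.fiber.map r' t = z' ∧ r ≫ a = r' ≫ a' ∧ r ≫ b = r' ≫ b' := by
  obtain ⟨⟨T₀, t₀⟩, ⟨r, hr⟩, ⟨r', hr'⟩, -⟩ :=
    IsCofilteredOrEmpty.cone_objs (Ψ.fiber.elementsMk Z z) (Ψ.fiber.elementsMk Z' z')
  change Ψ.fiber.map r t₀ = z at hr
  change Ψ.fiber.map r' t₀ = z' at hr'
  obtain ⟨⟨T₁, t₁⟩, ⟨s, hs⟩, hs'⟩ := IsCofilteredOrEmpty.cone_maps
    (CategoryOfElements.homMk (Ψ.fiber.elementsMk T₀ t₀) (Ψ.fiber.elementsMk A (Ψ.fiber.map a z)) (r ≫ a)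
      (show Ψ.fiber.map (r ≫ a) t₀ = Ψ.fiber.map a z by rw [Functor.map_comp_apply, hr]))
    (CategoryOfElements.homMk (Ψ.fiber.elementsMk T₀ t₀) (Ψ.fiber.elementsMk A (Ψ.fiber.map a z)) (r' ≫ a')
      (show Ψ.fiber.map (r' ≫ a') t₀ = Ψ.fiber.map a z by rw [Functor.map_comp_apply, hr', ha]))
  change Ψ.fiber.map s t₁ = t₀ at hs
  have hs1 : s ≫ r ≫ a = s ≫ r' ≫ a' := congrArg Subtype.val hs'
  obtain ⟨⟨T₂, t₂⟩, ⟨s', hs2⟩, hs3⟩ := IsCofilteredOrEmpty.cone_maps
    (CategoryOfElements.homMk (Ψ.fiber.elementsMk T₁ t₁) (Ψ.fiber.elementsMk B (Ψ.fiber.map b z)) (s ≫ r ≫ b)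
      (show Ψ.fiber.map (s ≫ r ≫ b) t₁ = Ψ.fiber.map b z by
        rw [Functor.map_comp_apply, hs, Functor.map_comp_apply, hr]))
    (CategoryOfElements.homMk (Ψ.fiber.elementsMk T₁ t₁) (Ψ.fiber.elementsMk B (Ψ.fiber.map b z)) (s ≫ r' ≫ b')
      (show Ψ.fiber.map (s ≫ r' ≫ b') t₁ = Ψ.fiber.map b z by
        rw [Functor.map_comp_apply, hs, Functor.map_comp_apply, hr', hb]))
  change Ψ.fiber.map s' t₂ = t₁ at hs2
  have hs4 : s' ≫ s ≫ r ≫ b = s' ≫ s ≫ r' ≫ b' := congrArg Subtype.val hs3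
  refine ⟨T₂, t₂, s' ≫ s ≫ r, s' ≫ s ≫ r', ?_, ?_, ?_, ?_⟩
  · rw [Functor.map_comp_apply, hs2, Functor.map_comp_apply, hs, hr]
  · rw [Functor.map_comp_apply, hs2, Functor.map_comp_apply, hs, hr']
  · simp only [Category.assoc, hs1]
  · simp only [Category.assoc, hs4]

variable (H : X → GrpCat.{w + 1})

/-- Families indexed by the elements of the fibres, as a presheaf of groups. -/
def prodP : Cᵒᵖ ⥤ GrpCat.{w + 1} where
  obj V := GrpCat.of (∀ x : X, (Φ x).fiber.obj V.unop → H x)
  map g := GrpCat.ofHom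
    { toFun := fun h x y => h x ((Φ x).fiber.map g.unop y)
      map_one' := rfl
      map_mul' := fun _ _ => rfl }
  map_id V := GrpCat.hom_ext (MonoidHom.ext fun h => funext fun x => funext fun y => by
    show h x ((Φ x).fiber.map (𝟙 V.unop) y) = h x y
    rw [Functor.map_id_apply])
  map_comp f g := GrpCat.hom_ext (MonoidHom.ext fun h => funext fun x => funext fun y => by
    show h x ((Φ x).fiber.map (g.unop ≫ f.unop) y) = h x ((Φ x).fiber.map f.unop ((Φ x).fiber.map g.unop y))
    rw [Functor.map_comp_apply])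

theorem isSheaf_prodP : Presheaf.IsSheaf J (prodP Φ H) := by
  rw [Presheaf.isSheaf_iff_isSheaf_forget J _ (forget GrpCat.{w + 1}), isSheaf_iff_isSheaf_of_type]
  intro U R hR fam hfam
  have hex : ∀ (x : X) (p : (Φ x).fiber.obj U), ∃ (Y : C) (f : Y ⟶ U) (_ : R f) (y : (Φ x).fiber.obj Y),
      (Φ x).fiber.map f y = p := fun x p => (Φ x).jointly_surjective R hR p
  choose Y f hf y hy using hex
  refine ⟨fun x p => fam (f x p) (hf x p) x (y x p), fun V g hg => funext fun x => funext fun z => ?_,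
    fun t ht => funext fun x => funext fun p => ?_⟩
  · show fam (f x _) _ x (y x ((Φ x).fiber.map g z)) = fam g hg x z
    let p := (Φ x).fiber.map g z
    obtain ⟨T, t, r, r', hr, hr', hc, -⟩ :=
      exists_common (Φ x) (f x p) (f x p) g g (y x p) z (hy x p) (hy x p)
    have h : fam (f x p) (hf x p) x ((Φ x).fiber.map r t) = fam g hg x ((Φ x).fiber.map r' t) :=
      congrFun (congrFun (hfam r r' (hf x p) hg hc) x) t
    rw [hr, hr'] at h
    exact h
  · have h : t x ((Φ x).fiber.map (f x p) (y x p)) = fam (f x p) (hf x p) x (y x p) :=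
      congrFun (congrFun (ht (f x p) (hf x p)) x) (y x p)
    rw [hy x p] at h
    exact h

/-- The sheaf of families. -/
def prodSh : Sheaf J GrpCat.{w + 1} := ⟨prodP Φ H, isSheaf_prodP Φ H⟩

section Trivial

variable {U : C} [(J.over U).HasSheafCompose (forget GrpCat.{w + 1})]

/-- The component of a section of the sheaf of families. -/
abbrev comp {Φ : X → GrothendieckTopology.Point.{w} J} {H : X → GrpCat.{w + 1}} {W : Over U}
    (g : ((prodSh Φ H).over U).obj.obj (op W)) : ∀ x : X, (Φ x).fiber.obj W.left → H x := g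

theorem isTrivial (P : NonAbH1.GSheaf ((prodSh Φ H).over U)) (hT : P.IsTorsor) : P.IsTrivial := by
  have hP := hT.1
  obtain ⟨S, hS, hne⟩ := hT.2 (Over.mk (𝟙 U))
  have hS' := (J.mem_over_iff S).1 hS
  have hex : ∀ (x : X) (p : (Φ x).fiber.obj U), ∃ (V : Over U) (_ : Nonempty (P.P.obj.obj (op V)))
      (v : (Φ x).fiber.obj V.left), (Φ x).fiber.map V.hom v = p := fun x p => by
    obtain ⟨V, f, hf, v, hv⟩ := (Φ x).jointly_surjective _ hS' p
    have hf' := (Sieve.overEquiv_iff _ f).1 hf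
    exact ⟨_, hne _ hf', v, (congrArg (fun m => (Φ x).fiber.map m v) (Category.comp_id f)).trans hv⟩
  choose V hV v hv using hex
  let q₀ : ∀ x p, P.P.obj.obj (op (V x p)) := fun x p => (hV x p).some
  -- the coordinate of a section at a point
  let Rel : ∀ (W : Over U), P.P.obj.obj (op W) → ∀ (x : X), (Φ x).fiber.obj W.left → H x → Prop :=
    fun W q x p h => ∀ (u : (Φ x).fiber.obj U), u = (Φ x).fiber.map W.hom p →
      ∀ (Z : Over U) (a : Z ⟶ W) (b : Z ⟶ V x u) (z : (Φ x).fiber.obj Z.left),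
      (Φ x).fiber.map a.left z = p → (Φ x).fiber.map b.left z = v x u →
      ∀ g : ((prodSh Φ H).over U).obj.obj (op Z),
        P.smul g (P.P.obj.map b.op (q₀ x u)) = P.P.obj.map a.op q → comp g x z = h
  have hcommon : ∀ (W : Over U) (x : X) (p : (Φ x).fiber.obj W.left) (u : (Φ x).fiber.obj U),
      u = (Φ x).fiber.map W.hom p → ∃ (Z : Over U) (a : Z ⟶ W) (b : Z ⟶ V x u) (z : (Φ x).fiber.obj Z.left),
        (Φ x).fiber.map a.left z = p ∧ (Φ x).fiber.map b.left z = v x u := by
    intro W x p u hu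
    obtain ⟨T, t, r, r', hr, hr', hc, -⟩ := exists_common (Φ x) W.hom W.hom (V x u).hom
      (V x u).hom p (v x u) (hu.symm.trans (hv x u).symm) (hu.symm.trans (hv x u).symm)
    exact ⟨Over.mk (r ≫ W.hom), Over.homMk r rfl, Over.homMk r' hc.symm, t, hr, hr'⟩
  have hrel : ∀ (W : Over U) (q : P.P.obj.obj (op W)) (x : X) (p : (Φ x).fiber.obj W.left),
      ∃! h : H x, Rel W q x p h := by
    intro W q x p
    obtain ⟨Z, a, b, z, ha, hb⟩ := hcommon W x p _ rfl
    obtain ⟨g, hg, -⟩ := hP (op Z) (P.P.obj.map b.op (q₀ _ _)) (P.P.obj.map a.op q)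
    refine ⟨comp g x z, fun u hu Z' a' b' z' ha' hb' g' hg' => ?_,
      fun h hh => (hh _ rfl Z a b z ha hb g hg).symm⟩
    subst hu
    obtain ⟨T, t, r, r', hr, hr', hca, hcb⟩ := exists_common (Φ x) a.left b.left a'.left b'.left z z'
      (ha.trans ha'.symm) (hb.trans hb'.symm)
    let Tu : Over U := Over.mk (r ≫ Z.hom)
    let rz : Tu ⟶ Z := Over.homMk r rfl
    let rz' : Tu ⟶ Z' := Over.homMk r' (by
      show r' ≫ Z'.hom = r ≫ Z.hom
      rw [← Over.w a', ← Over.w a, ← Category.assoc, ← hca, Category.assoc])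
    have ea : rz ≫ a = rz' ≫ a' := Over.OverMorphism.ext hca
    have eb : rz ≫ b = rz' ≫ b' := Over.OverMorphism.ext hcb
    have h : ((prodSh Φ H).over U).obj.map rz.op g = ((prodSh Φ H).over U).obj.map rz'.op g' := by
      refine Torsors.free hP (P.P.obj.map (rz ≫ b).op (q₀ _ _)) ?_
      conv_rhs => rw [eb, op_comp, Functor.map_comp_apply, ← P.map_smul, hg', ← Functor.map_comp_apply,
        ← op_comp, ← ea]
      rw [op_comp, Functor.map_comp_apply, ← P.map_smul, hg, ← Functor.map_comp_apply, ← op_comp]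
    have h' : comp g x ((Φ x).fiber.map r t) = comp g' x ((Φ x).fiber.map r' t) :=
      congrFun (congrFun h x) t
    rw [hr, hr'] at h'
    exact h'.symm
  choose co hco hco' using hrel
  have co_smul : ∀ (W : Over U) (g : ((prodSh Φ H).over U).obj.obj (op W)) (q : P.P.obj.obj (op W))
      (x : X) (p : (Φ x).fiber.obj W.left), co W (P.smul g q) x p = comp g x p * co W q x p := by
    intro W g q x p
    obtain ⟨Z, a, b, z, ha, hb⟩ := hcommon W x p _ rfl
    obtain ⟨g₁, hg₁, -⟩ := hP (op Z) (P.P.obj.map b.op (q₀ _ _)) (P.P.obj.map a.op q)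
    have h := hco W (P.smul g q) x p _ rfl Z a b z ha hb (((prodSh Φ H).over U).obj.map a.op g * g₁)
      (by rw [P.mul_smul, hg₁, P.map_smul])
    rw [← h, ← hco W q x p _ rfl Z a b z ha hb g₁ hg₁]
    show comp g x ((Φ x).fiber.map a.left z) * comp g₁ x z = _
    rw [ha]
  have co_map : ∀ (W W' : Over U) (k : W' ⟶ W) (q : P.P.obj.obj (op W)) (x : X) (p : (Φ x).fiber.obj W'.left),
      co W' (P.P.obj.map k.op q) x p = co W q x ((Φ x).fiber.map k.left p) := by
    intro W W' k q x p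
    obtain ⟨Z, a, b, z, ha, hb⟩ := hcommon W' x p _ rfl
    obtain ⟨g₁, hg₁, -⟩ := hP (op Z) (P.P.obj.map b.op (q₀ _ _)) (P.P.obj.map a.op (P.P.obj.map k.op q))
    rw [← hco W' _ x p _ rfl Z a b z ha hb g₁ hg₁]
    refine hco W q x ((Φ x).fiber.map k.left p) _ ?_ Z (a ≫ k) b z ?_ hb g₁ ?_
    · rw [← Functor.map_comp_apply, Over.w k]
    · show (Φ x).fiber.map (a.left ≫ k.left) z = _
      rw [Functor.map_comp_apply, ha]
    · rw [hg₁, ← Functor.map_comp_apply, ← op_comp]
  let nrm : ∀ {W : Over U}, P.P.obj.obj (op W) → P.P.obj.obj (op W) := fun {W} q =>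
    P.smul (show ((prodSh Φ H).over U).obj.obj (op W) from fun x p => (co W q x p)⁻¹) q
  have hn : ∀ (W : Over U) (q : P.P.obj.obj (op W)) (x : X) (p : (Φ x).fiber.obj W.left),
      co W (nrm q) x p = 1 := fun W q x p => by
    rw [co_smul]
    exact inv_mul_cancel _
  have huniq : ∀ (W : Over U) (q q' : P.P.obj.obj (op W)),
      (∀ x p, co W q x p = 1) → (∀ x p, co W q' x p = 1) → q = q' := by
    intro W q q' h h'
    obtain ⟨g, hg, -⟩ := hP (op W) q q'
    have h1 : g = 1 := funext fun x => funext fun p => by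
      have := co_smul W g q x p
      rw [hg, h', h, mul_one] at this
      exact this.symm
    rw [← hg, h1, P.one_smul]
  obtain ⟨t, -⟩ := Torsors.glue P.P S hS (fun W f hf => nrm (hne f hf).some) fun W' W k f hf =>
    huniq W' _ _ (fun x p => by rw [co_map, hn]) fun x p => hn _ _ x p
  let top : ∀ W : Over U, W ⟶ Over.mk (𝟙 U) := fun W => Over.homMk W.hom (Category.comp_id _)
  let η : NonAbH1.GSheaf.trivial ((prodSh Φ H).over U) ⟶ P :=
    { hom := ⟨{ app := fun W => TypeCat.ofHom fun g =>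
                  P.smul (NonAbH1.GSheaf.toGrp g) (P.P.obj.map (top W.unop).op t)
                naturality := fun W W' k => ConcreteCategory.hom_ext _ _ fun g => by
                  show P.smul (((prodSh Φ H).over U).obj.map k (NonAbH1.GSheaf.toGrp g))
                      (P.P.obj.map (top W'.unop).op t) =
                    P.P.obj.map k (P.smul (NonAbH1.GSheaf.toGrp g) (P.P.obj.map (top W.unop).op t))
                  rw [P.map_smul, ← Functor.map_comp_apply]
                  exact congrArg (fun m => P.smul _ (P.P.obj.map m t))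
                    (Quiver.Hom.unop_inj (Over.OverMorphism.ext (Over.w k.unop).symm)) }⟩
      map_smul := fun g p => P.mul_smul g (NonAbH1.GSheaf.toGrp p) _ }
  haveI : IsIso η := Torsors.isIso_of_torsor (NonAbH1.GSheaf.isTorsor_trivial _) hP η
  exact ⟨asIso η⟩

end Trivial

end Groth.L09.GodementGrp
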