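import Groth.Agent.L01.NormalDomain
import Groth.Agent.L03.RegularNormal
import Mathlib.RingTheory.Flat.Basic
import Mathlib.RingTheory.RegularLocalRing.Defs
import Mathlib.LinearAlgebra.TensorProduct.Pi

/-!
# Hartogs extension for flat algebras over a ring regular of dimension two along `V(f)`
-/

universe u

open TensorProduct

namespace Groth.L09.HartogsFlat

variable {A : Type u} [CommRing A] {ι : Type u} [Fintype ι] (f : ι → A)

/-- At the primes containing all `f i` the ring is regular of dimension at least two. -/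
def Cond : Prop :=
  ∀ p : PrimeSpectrum A, (∀ i, f i ∈ p.asIdeal) →
    IsRegularLocalRing (Localization.AtPrime p.asIdeal) ∧
      (2 : WithBot ℕ∞) ≤ ringKrullDim (Localization.AtPrime p.asIdeal)

variable {f} (h : Cond f)
include h

lemma two_le_height {p : Ideal A} [hp : p.IsPrime] (hf : ∀ i, f i ∈ p) : 2 ≤ p.height := by
  have := (h ⟨p, hp⟩ hf).2
  rw [IsLocalization.AtPrime.ringKrullDim_eq_height p (Localization.AtPrime p)] at this
  exact WithBot.coe_le_coe.mp this

variable {p : Ideal A} [p.IsPrime]

lemma exists_map_ne_zero (hf : ∀ i, f i ∈ p) [IsDomain (Localization.AtPrime p)] :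
    ∃ i, algebraMap A (Localization.AtPrime p) (f i) ≠ 0 := by
  by_contra! hc
  let L := Localization.AtPrime p
  let q : Ideal A := Ideal.comap (algebraMap A L) ⊥
  have h1 := two_le_height h (p := q) fun i => hc i
  have h2 : q.height = 0 := by
    have := IsLocalization.height_under p.primeCompl (A := L) (⊥ : Ideal L)
    rwa [Ideal.height_bot] at this
  rw [h2] at h1
  exact absurd h1 (by decide)

lemma exists_eq_smul (hf : ∀ i, f i ∈ p) (c : ι → A) (m : ℕ)
    (hc : ∀ i j, f j ^ m * c i = f i ^ m * c j) :
    ∃ i e s, s ∉ p ∧ algebraMap A (Localization.AtPrime p) (f i) ≠ 0 ∧ s * c i = f i ^ m * e := by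
  let L := Localization.AtPrime p
  obtain ⟨hreg, -⟩ := h ⟨p, inferInstance⟩ hf
  haveI : IsRegularLocalRing L := hreg
  haveI : IsDomain L := Groth.L01.isDomain_of_regular L
  haveI : IsIntegrallyClosed L := Groth.L03.RegularNormal.isIntegrallyClosed L
  obtain ⟨i, hi⟩ := exists_map_ne_zero h hf
  have hmem : algebraMap A L (c i) ∈ Ideal.span {algebraMap A L (f i) ^ m} := by
    by_contra hne
    obtain ⟨q, hq, hle⟩ := exists_le_isAssociatedPrime_of_isNoetherianRing L
      (Ideal.Quotient.mk (Ideal.span {algebraMap A L (f i) ^ m}) (algebraMap A L (c i)))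
      (by rwa [Ne, Ideal.Quotient.eq_zero_iff_mem])
    haveI := hq.isPrime
    have hq1 := Groth.L01.height_eq_one_of_mem_associatedPrimes (pow_ne_zero m hi) hq
    have hall : ∀ j, f j ∈ Ideal.comap (algebraMap A L) q := fun j => by
      refine (inferInstance : (Ideal.comap (algebraMap A L) q).IsPrime).mem_of_pow_mem m ?_
      rw [Ideal.mem_comap, map_pow]
      apply hle
      rw [Submodule.mem_colon_singleton, Submodule.mem_bot]
      show Ideal.Quotient.mk _ (algebraMap A L (f j) ^ m * algebraMap A L (c i)) = 0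
      rw [Ideal.Quotient.eq_zero_iff_mem,
        show algebraMap A L (f j) ^ m * algebraMap A L (c i) =
          algebraMap A L (f i) ^ m * algebraMap A L (c j) by
          rw [← map_pow, ← map_mul, hc i j, map_mul, map_pow]]
      exact Ideal.mul_mem_right _ _ (Ideal.mem_span_singleton_self _)
    have h1 := two_le_height h hall
    have := IsLocalization.height_under p.primeCompl (A := L) q
    rw [show (Ideal.comap (algebraMap A L) q) = q.under A from rfl, this, hq1] at h1
    exact absurd h1 (by decide)
  obtain ⟨w, hw⟩ := Ideal.mem_span_singleton'.mp hmem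
  obtain ⟨⟨e, s⟩, hws⟩ := IsLocalization.surj p.primeCompl w
  have : algebraMap A L ((s : A) * c i) = algebraMap A L (f i ^ m * e) := by
    rw [map_mul, map_mul, map_pow, ← hw, ← hws]; ring
  obtain ⟨t, ht⟩ := IsLocalization.exists_of_eq (M := p.primeCompl) this
  refine ⟨i, t * e, t * s, fun hts => ?_, hi, ?_⟩
  · exact ((inferInstance : p.IsPrime).mem_or_mem hts).elim t.2 s.2
  · rw [mul_assoc, ht]; ring

omit [p.IsPrime] in
/-- A module element annihilated by powers of all `f i`: the base ring case. -/
theorem eq_zero_base (a : A) (N : ℕ) (ha : ∀ i, f i ^ N * a = 0) : a = 0 := by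
  by_contra hne
  let I : Ideal A := LinearMap.ker (LinearMap.toSpanSingleton A A a)
  have hI : ∀ y, y ∈ I ↔ y * a = 0 := fun y => Iff.rfl
  obtain ⟨p, hp, hle⟩ := Ideal.exists_le_maximal I
    (fun e => hne (by simpa using (hI 1).mp (e ▸ Submodule.mem_top)))
  haveI := hp.isPrime
  have hf : ∀ i, f i ∈ p := fun i => hp.isPrime.mem_of_pow_mem N (hle ((hI _).mpr (ha i)))
  haveI : IsRegularLocalRing (Localization.AtPrime p) := (h ⟨p, inferInstance⟩ hf).1
  haveI : IsDomain (Localization.AtPrime p) := Groth.L01.isDomain_of_regular _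
  obtain ⟨i, hi⟩ := exists_map_ne_zero h hf
  have h0 : algebraMap A (Localization.AtPrime p) a = 0 := by
    have := congrArg (algebraMap A (Localization.AtPrime p)) (ha i)
    rw [map_mul, map_pow, map_zero] at this
    exact (mul_eq_zero.mp this).resolve_left (pow_ne_zero N hi)
  obtain ⟨⟨s, hs⟩, hsa⟩ := (IsLocalization.map_eq_zero_iff p.primeCompl _ a).mp h0
  exact hs (hle ((hI s).mpr hsa))

omit [p.IsPrime] in
/-- Compatible families come from elements: the base ring case. -/
theorem exists_base (c : ι → A) (m : ℕ) (hc : ∀ i j, f j ^ m * c i = f i ^ m * c j) :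
    ∃ a, ∀ i, f i ^ m * a = c i := by
  by_contra hne
  let I : Ideal A :=
    { carrier := {y | ∃ a, ∀ i, f i ^ m * a = y * c i}
      add_mem' := fun {x y} hx hy => by
        obtain ⟨a, ha⟩ := hx
        obtain ⟨b, hb⟩ := hy
        exact ⟨a + b, fun i => by rw [mul_add, ha, hb, add_mul]⟩
      zero_mem' := ⟨0, fun i => by simp⟩
      smul_mem' := fun r x hx => by
        obtain ⟨a, ha⟩ := hx
        exact ⟨r * a, fun i => by rw [smul_eq_mul, mul_left_comm, ha, mul_assoc]⟩ }
  obtain ⟨p, hp, hle⟩ := Ideal.exists_le_maximal I (fun e => by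
    obtain ⟨a, ha⟩ := (e ▸ Submodule.mem_top : (1 : A) ∈ I)
    exact hne ⟨a, fun i => by rw [ha, one_mul]⟩)
  haveI := hp.isPrime
  have hf : ∀ i, f i ∈ p := fun i =>
    hp.isPrime.mem_of_pow_mem m (hle ⟨c i, fun j => (hc i j).trans rfl⟩)
  obtain ⟨i, e, s, hs, hi, hse⟩ := exists_eq_smul h hf c m hc
  haveI : IsRegularLocalRing (Localization.AtPrime p) := (h ⟨p, inferInstance⟩ hf).1
  haveI : IsDomain (Localization.AtPrime p) := Groth.L01.isDomain_of_regular _
  let L := Localization.AtPrime p
  have hj : ∀ j, algebraMap A L (f j ^ m * e) = algebraMap A L (s * c j) := by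
    intro j
    apply mul_left_cancel₀ (pow_ne_zero m hi)
    rw [← map_pow, ← map_mul, ← map_mul]
    congr 1
    rw [mul_left_comm (f i ^ m) (f j ^ m) e, ← hse, mul_left_comm (f j ^ m) s, hc i j]
    ring
  choose t ht using fun j => IsLocalization.exists_of_eq (M := p.primeCompl) (hj j)
  have hu : (∏ j, (t j : A)) * s ∈ I := by
    refine ⟨(∏ j, (t j : A)) * e, fun j => ?_⟩
    obtain ⟨r, hr⟩ := Finset.dvd_prod_of_mem (fun j => (t j : A)) (Finset.mem_univ j)
    rw [hr]
    linear_combination r * ht j
  refine ((inferInstance : p.IsPrime).mem_or_mem (hle hu)).elim (fun h1 => ?_) hs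
  obtain ⟨j, -, hj⟩ := (inferInstance : p.IsPrime).prod_mem_iff.mp h1
  exact (t j).2 hj

variable {B : Type u} [CommRing B] [Algebra A B] [Module.Flat A B]

omit [p.IsPrime] in
/-- Elements of a flat algebra are determined outside `V(f)`. -/
theorem eq_zero [DecidableEq ι] (b : B) (N : ℕ) (hb : ∀ i, algebraMap A B (f i) ^ N * b = 0) :
    b = 0 := by
  let g : A →ₗ[A] (ι → A) := LinearMap.pi fun i => LinearMap.mulLeft A (f i ^ N)
  have hg : Function.Injective g := by
    rw [injective_iff_map_eq_zero]
    exact fun a ha => eq_zero_base h a N fun i => congrFun ha i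
  apply ((Module.Flat.lTensor_preserves_injective_linearMap (M := B) g hg).comp
    (TensorProduct.rid A B).symm.injective)
  apply (TensorProduct.piScalarRight A A B ι).injective
  ext i
  have := hb i
  rw [← map_pow, ← Algebra.smul_def] at this
  simp [g, this]

omit [p.IsPrime] in
/-- Compatible families in a flat algebra come from elements. -/
theorem exists_eq [DecidableEq ι] (c : ι → B) (m : ℕ)
    (hc : ∀ i j, algebraMap A B (f j) ^ m * c i = algebraMap A B (f i) ^ m * c j) :
    ∃ b, ∀ i, algebraMap A B (f i) ^ m * b = c i := by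
  classical
  let d : (ι → A) →ₗ[A] (ι × ι → A) := LinearMap.pi fun q =>
    f q.2 ^ m • LinearMap.proj (R := A) (φ := fun _ : ι => A) q.1 -
      f q.1 ^ m • LinearMap.proj (R := A) (φ := fun _ : ι => A) q.2
  let g : A →ₗ[A] (ι → A) := LinearMap.pi fun i => LinearMap.mulLeft A (f i ^ m)
  have hex : Function.Exact g d := by
    intro x
    constructor
    · intro hx
      obtain ⟨a, ha⟩ := exists_base h x m fun i j => sub_eq_zero.mp (congrFun hx (i, j))
      exact ⟨a, funext ha⟩
    · rintro ⟨a, rfl⟩
      funext q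
      simp [g, d]; ring
  let e := TensorProduct.piScalarRight A A B ι
  have hd : d.lTensor B (e.symm c) = 0 := by
    apply (TensorProduct.piScalarRight A A B (ι × ι)).injective
    rw [map_zero]
    ext ⟨i, j⟩
    have key : ∀ z : B ⊗[A] (ι → A),
        TensorProduct.piScalarRight A A B (ι × ι) (d.lTensor B z) (i, j) =
          f j ^ m • e z i - f i ^ m • e z j := by
      intro z
      induction z using TensorProduct.induction_on with
      | zero => simp
      | tmul b v => simp [d, e, sub_smul, mul_smul]
      | add x y hx hy =>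
        simp only [map_add, Pi.add_apply, smul_add, hx, hy]
        abel
    rw [key, e.apply_symm_apply, Algebra.smul_def, Algebra.smul_def, map_pow, map_pow, hc i j]
    simp
  obtain ⟨y, hy⟩ := ((Module.Flat.lTensor_exact B hex) _).mp hd
  refine ⟨TensorProduct.rid A B y, fun i => ?_⟩
  have := congrArg (fun z => e z i) hy
  simp only [e.apply_symm_apply] at this
  rw [← this, ← map_pow, ← Algebra.smul_def]
  clear this hy
  induction y using TensorProduct.induction_on with
  | zero => simp
  | tmul b a => simp [g, e, mul_smul]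
  | add x z hx hz => simp only [map_add, Pi.add_apply, smul_add, hx, hz]

end Groth.L09.HartogsFlat
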