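import Groth.Agent.L09.HartogsFlat
import Groth.Agent.L22.LocalDim
import Mathlib.AlgebraicGeometry.Morphisms.Affine
import Mathlib.AlgebraicGeometry.Morphisms.Flat
import Mathlib.AlgebraicGeometry.Morphisms.QuasiCompact

/-!
Sections of flat affine schemes extend across closed sets along which the base is regular of
dimension at least two.
-/

universe u

open CategoryTheory AlgebraicGeometry TopologicalSpace Opposite

namespace Groth.L09.HartogsSch

variable {S G : Scheme.{u}} (f : G ⟶ S) [IsAffineHom f] [Flat f] (U : S.Opens) [QuasiCompact U.ι]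

theorem res_res {X : Scheme.{u}} {W₁ W₂ W₃ : X.Opens} (h₂ : W₂ ≤ W₁) (h₃ : W₃ ≤ W₂) (s : Γ(X, W₁)) :
    X.presheaf.map (homOfLE h₃).op (X.presheaf.map (homOfLE h₂).op s) =
      X.presheaf.map (homOfLE (h₃.trans h₂)).op s := by
  rw [← ConcreteCategory.comp_apply, ← Functor.map_comp]
  rfl

theorem res_bijective
    (hU : ∀ s : S, s ∉ U → IsRegularLocalRing (S.presheaf.stalk s) ∧
      (2 : WithBot ℕ∞) ≤ ringKrullDim (S.presheaf.stalk s))
    {V : S.Opens} (hV : IsAffineOpen V) :
    Function.Bijective (G.presheaf.map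
      (homOfLE (f.preimage_mono (inf_le_left : V ⊓ U ≤ V))).op) := by
  classical
  have hW : IsAffineOpen (f ⁻¹ᵁ V) := hV.preimage f
  letI : Algebra Γ(S, V) Γ(G, f ⁻¹ᵁ V) := (f.app V).hom.toAlgebra
  haveI : Module.Flat Γ(S, V) Γ(G, f ⁻¹ᵁ V) := by
    have h : (f.appLE V (f ⁻¹ᵁ V) le_rfl).hom.Flat := f.flat_appLE hV hW le_rfl
    rw [Scheme.Hom.appLE_eq_app] at h
    exact h
  -- finitely many basic opens cover `V ⊓ U`
  have hcomp : IsCompact ((V ⊓ U : S.Opens) : Set S) := by
    have h := U.ι.isCompact_preimage (hU := hV.isCompact) (U := V)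
    have := h.image U.ι.continuous
    convert this using 1
    rw [Scheme.Hom.coe_preimage, Set.image_preimage_eq_inter_range, Scheme.Opens.range_ι]
    rfl
  have hbas : ∀ x ∈ ((V ⊓ U : S.Opens) : Set S), ∃ g : Γ(S, V),
      S.basicOpen g ≤ V ⊓ U ∧ x ∈ S.basicOpen g := fun x hx => by
    obtain ⟨g, hle, hxg⟩ := hV.exists_basicOpen_le (V := V ⊓ U) ⟨x, hx⟩ hx.1
    exact ⟨g, hle, hxg⟩
  choose g₀ hg₀le hg₀mem using hbas
  obtain ⟨F, hF⟩ := hcomp.elim_finite_subcover
    (fun x : ((V ⊓ U : S.Opens) : Set S) => (S.basicOpen (g₀ x.1 x.2) : Set S))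
    (fun x => (S.basicOpen _).2) (fun x hx => Set.mem_iUnion.mpr ⟨⟨x, hx⟩, hg₀mem x hx⟩)
  let g : F → Γ(S, V) := fun i => g₀ i.1.1 i.1.2
  have hgle : ∀ i, S.basicOpen (g i) ≤ V ⊓ U := fun i => hg₀le _ _
  have hcond : HartogsFlat.Cond g := by
    intro p hp
    have hmem : hV.fromSpec p ∈ V := L22.LocalDim.fromSpec_mem hV p
    have hnot : hV.fromSpec p ∉ U := fun hpU => by
      obtain ⟨i, hi, hpi⟩ := Set.mem_iUnion₂.mp (hF (show hV.fromSpec p ∈ _ from ⟨hmem, hpU⟩))
      have := (L22.LocalDim.mem_basicOpen_iff hV hmem _).1 hpi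
      rw [L22.LocalDim.primeIdealOf_fromSpec hV p hmem] at this
      exact this (hp ⟨i, hi⟩)
    letI : Algebra Γ(S, V) (S.presheaf.stalk (hV.fromSpec p)) :=
      TopCat.Presheaf.algebra_section_stalk S.presheaf ⟨hV.fromSpec p, hmem⟩
    have hloc := hV.isLocalization_stalk ⟨hV.fromSpec p, hmem⟩
    rw [L22.LocalDim.primeIdealOf_fromSpec hV p hmem] at hloc
    let e := (IsLocalization.algEquiv p.asIdeal.primeCompl (S.presheaf.stalk (hV.fromSpec p))
      (Localization.AtPrime p.asIdeal)).toRingEquiv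
    obtain ⟨h1, h2⟩ := hU _ hnot
    haveI := h1
    exact ⟨IsRegularLocalRing.of_ringEquiv e, ringKrullDim_eq_of_ringEquiv e ▸ h2⟩
  have hle : ∀ i, G.basicOpen (f.app V (g i)) ≤ f ⁻¹ᵁ (V ⊓ U) := fun i => by
    rw [← Scheme.preimage_basicOpen]
    exact f.preimage_mono (hgle i)
  have hcov : f ⁻¹ᵁ (V ⊓ U) ≤ ⨆ i, G.basicOpen (f.app V (g i)) := fun w hw => by
    obtain ⟨i, hi, hwi⟩ := Set.mem_iUnion₂.mp (hF (show f w ∈ _ from hw))
    refine Opens.mem_iSup.mpr ⟨⟨i, hi⟩, ?_⟩
    rw [← Scheme.preimage_basicOpen]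
    exact hwi
  constructor
  · rw [injective_iff_map_eq_zero]
    intro b hb
    have hk : ∀ i, ∃ n, f.app V (g i) ^ n * b = 0 := fun i =>
      exists_pow_mul_eq_zero_of_res_basicOpen_eq_zero_of_isCompact G hW.isCompact b _ (by
        show G.presheaf.map (homOfLE (G.basicOpen_le _)).op b = 0
        rw [← res_res (f.preimage_mono inf_le_left) (hle i)]
        exact (congrArg _ hb).trans (map_zero _))
    choose n hn using hk
    refine HartogsFlat.eq_zero hcond b (Finset.univ.sum n) fun i => ?_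
    obtain ⟨c, hc⟩ := Nat.exists_eq_add_of_le
      (Finset.single_le_sum (f := n) (fun _ _ => Nat.zero_le _) (Finset.mem_univ i))
    show f.app V (g i) ^ _ * b = 0
    rw [hc, pow_add, mul_right_comm, hn i, zero_mul]
  · intro s
    let D : F → G.Opens := fun i => G.basicOpen (f.app V (g i))
    let r : ∀ i, Γ(G, f ⁻¹ᵁ V) →+* Γ(G, D i) := fun i =>
      (G.presheaf.map (homOfLE (G.basicOpen_le (f.app V (g i)))).op).hom
    let sr : ∀ i, Γ(G, D i) := fun i => G.presheaf.map (homOfLE (hle i)).op s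
    have hk : ∀ i, ∃ n, ∃ c, sr i * r i (f.app V (g i)) ^ n = r i c := fun i => by
      haveI := hW.isLocalization_basicOpen (f.app V (g i))
      obtain ⟨n, b, hb⟩ := IsLocalization.Away.surj (f.app V (g i)) (sr i)
      exact ⟨n, b, hb⟩
    choose n c hc using hk
    let m := Finset.univ.sum n
    obtain ⟨c', hc'def⟩ : ∃ c' : F → Γ(G, f ⁻¹ᵁ V),
        ∀ i, c' i = f.app V (g i) ^ (m - n i) * c i := ⟨_, fun _ => rfl⟩
    have hnm : ∀ i, n i ≤ m := fun i =>
      Finset.single_le_sum (f := n) (fun _ _ => Nat.zero_le _) (Finset.mem_univ i)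
    have hc' : ∀ i, sr i * r i (f.app V (g i)) ^ m = r i (c' i) := fun i => by
      simp only [hc'def, map_mul, map_pow]
      conv_lhs => rw [← Nat.sub_add_cancel (hnm i), pow_add, mul_left_comm, hc i]
    have hij : ∀ q : F × F, ∃ K, (f.app V (g q.1) * f.app V (g q.2)) ^ K *
        (f.app V (g q.2) ^ m * c' q.1 - f.app V (g q.1) ^ m * c' q.2) = 0 := fun ⟨i, j⟩ => by
      apply exists_pow_mul_eq_zero_of_res_basicOpen_eq_zero_of_isCompact G hW.isCompact
      have hi : G.basicOpen (f.app V (g i) * f.app V (g j)) ≤ D i := by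
        rw [Scheme.basicOpen_mul]; exact inf_le_left
      have hj : G.basicOpen (f.app V (g i) * f.app V (g j)) ≤ D j := by
        rw [Scheme.basicOpen_mul]; exact inf_le_right
      have ei := congrArg (G.presheaf.map (homOfLE hi).op) (hc' i)
      have ej := congrArg (G.presheaf.map (homOfLE hj).op) (hc' j)
      simp only [r, sr, map_mul, map_pow, res_res] at ei ej
      dsimp only
      show G.presheaf.map (homOfLE (G.basicOpen_le _)).op (_ - _) = 0
      rw [map_sub, map_mul, map_mul, map_pow, map_pow, ← ei, ← ej, sub_eq_zero]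
      ring
    choose K hK using hij
    let k := Finset.univ.sum K
    let d : F → Γ(G, f ⁻¹ᵁ V) := fun i => f.app V (g i) ^ k * c' i
    obtain ⟨b, hb⟩ := HartogsFlat.exists_eq hcond d (m + k) fun i j => by
      obtain ⟨l, hl⟩ := Nat.exists_eq_add_of_le
        (Finset.single_le_sum (f := K) (fun _ _ => Nat.zero_le _) (Finset.mem_univ (i, j)))
      show f.app V (g j) ^ (m + k) * (f.app V (g i) ^ k * c' i) =
        f.app V (g i) ^ (m + k) * (f.app V (g j) ^ k * c' j)
      rw [← sub_eq_zero]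
      have := congrArg ((f.app V (g i) * f.app V (g j)) ^ l * ·) (hK (i, j))
      simp only [mul_zero] at this
      rw [show k = K (i, j) + l from hl]
      rw [← this]
      ring
    refine ⟨b, TopCat.Sheaf.eq_of_locally_eq' G.sheaf D (f ⁻¹ᵁ (V ⊓ U))
      (fun i => homOfLE (hle i)) hcov _ _ fun i => ?_⟩
    show G.presheaf.map (homOfLE (hle i)).op (G.presheaf.map _ b) = sr i
    rw [res_res]
    have hu : IsUnit (r i (f.app V (g i)) ^ (m + k)) :=
      (RingedSpace.isUnit_res_basicOpen _ (f.app V (g i))).pow _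
    apply hu.mul_left_cancel
    show _ * r i b = _
    rw [← map_pow, ← map_mul, show f.app V (g i) ^ (m + k) * b = d i from hb i, map_pow,
      pow_add]
    simp only [d, map_mul, map_pow, ← hc' i]
    ring

end Groth.L09.HartogsSch
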