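import Mathlib.CategoryTheory.Abelian.Indization
import Mathlib.CategoryTheory.Abelian.GrothendieckAxioms.Indization
import Mathlib.CategoryTheory.Abelian.Refinements
import Mathlib.CategoryTheory.Abelian.Exact
import Mathlib.CategoryTheory.Subobject.ArtinianObject
import Mathlib.CategoryTheory.Limits.Types.Filtered
import Mathlib.Data.Int.GCD
import Mathlib.Data.Nat.Factorization.Basic
import Mathlib.RingTheory.Coprime.Lemmas

/-!
Ind-objects of cofinite type over an Artinian torsion abelian category.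
-/

set_option autoImplicit false
universe v

open CategoryTheory CategoryTheory.Limits Opposite

namespace Groth.L09.IndCof

variable {C : Type v} [SmallCategory C] [Abelian C]

local notation "𝐲" => (Ind.yoneda (C := C))

instance : (Ind.yoneda (C := C)).Additive :=
  haveI := preservesBinaryBiproducts_of_preservesBinaryProducts (Ind.yoneda (C := C))
  Functor.additive_of_preservesBinaryBiproducts _

@[simp] lemma comp_smul_id {P A : Ind C} (m : ℕ) (x : P ⟶ A) : x ≫ (m • 𝟙 A) = m • x := by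
  rw [Preadditive.comp_nsmul, Category.comp_id]

@[simp] lemma smul_id_comp {P A : Ind C} (m : ℕ) (x : P ⟶ A) : (m • 𝟙 P) ≫ x = m • x := by
  rw [Preadditive.nsmul_comp, Category.id_comp]

/-- being (isomorphic to) an object of `C`. -/
abbrev Rep (A : Ind C) : Prop := (Ind.yoneda (C := C)).essImage A

lemma rep_kernel {A B : Ind C} (hA : Rep A) (hB : Rep B) (f : A ⟶ B) : Rep (kernel f) := by
  obtain ⟨a, ⟨ea⟩⟩ := hA
  obtain ⟨b, ⟨eb⟩⟩ := hB
  let g : a ⟶ b := (Ind.yoneda (C := C)).preimage (ea.hom ≫ f ≫ eb.inv)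
  refine ⟨kernel g, ⟨PreservesKernel.iso _ g ≪≫ kernel.mapIso _ _ ea eb ?_⟩⟩
  simp [g]

lemma rep_cokernel {A B : Ind C} (hA : Rep A) (hB : Rep B) (f : A ⟶ B) : Rep (cokernel f) := by
  obtain ⟨a, ⟨ea⟩⟩ := hA
  obtain ⟨b, ⟨eb⟩⟩ := hB
  let g : a ⟶ b := (Ind.yoneda (C := C)).preimage (ea.hom ≫ f ≫ eb.inv)
  refine ⟨cokernel g, ⟨PreservesCokernel.iso _ g ≪≫ cokernel.mapIso _ _ ea eb ?_⟩⟩
  simp [g]

lemma rep_biprod {A B : Ind C} (hA : Rep A) (hB : Rep B) : Rep (A ⊞ B) := by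
  obtain ⟨a, ⟨ea⟩⟩ := hA
  obtain ⟨b, ⟨eb⟩⟩ := hB
  haveI := preservesBinaryBiproduct_of_preservesBinaryProduct (Ind.yoneda (C := C)) (X := a) (Y := b)
  exact ⟨a ⊞ b, ⟨(Ind.yoneda (C := C)).mapBiprod a b ≪≫ biprod.mapIso ea eb⟩⟩

lemma rep_of_exact {S : ShortComplex (Ind C)} (hS : S.Exact) [Epi S.g] (h1 : Rep S.X₁) (h2 : Rep S.X₂) :
    Rep S.X₃ :=
  Functor.essImage.ofIso ((cokernelIsCokernel S.f).coconePointUniqueUpToIso hS.gIsCokernel)
    (rep_cokernel h1 h2 S.f)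

section elements

/-- elements of a presheaf attached to maps out of a representable. -/
noncomputable def ev {X : C} {B : Ind C} (f : 𝐲.obj X ⟶ B) : ((Ind.inclusion C).obj B).obj (op X) :=
  yonedaEquiv ((Ind.yonedaCompInclusion.app X).inv ≫ (Ind.inclusion C).map f)

lemma ev_comp {X : C} {A B : Ind C} (f : 𝐲.obj X ⟶ A) (g : A ⟶ B) :
    ev (f ≫ g) = ((Ind.inclusion C).map g).app (op X) (ev f) := by
  rw [ev, ev, Functor.map_comp, ← Category.assoc, yonedaEquiv_comp]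

lemma ev_injective {X : C} {B : Ind C} {f g : 𝐲.obj X ⟶ B} (h : ev f = ev g) : f = g :=
  (Ind.inclusion C).map_injective ((cancel_epi _).1 (yonedaEquiv.injective h))

/-- representables are compact: an equation in a filtered colimit holds at some stage. -/
lemma exists_stage {J : Type v} [SmallCategory J] [IsFiltered J] (D : J ⥤ Ind C) {c : Cocone D}
    (hc : IsColimit c) {X : C} {i : J} (f g : 𝐲.obj X ⟶ D.obj i) (h : f ≫ c.ι.app i = g ≫ c.ι.app i) :
    ∃ (j : J) (a : i ⟶ j), f ≫ D.map a = g ≫ D.map a := by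
  let E := Ind.inclusion C ⋙ (evaluation _ _).obj (op X)
  haveI : PreservesColimitsOfShape J (Ind.inclusion C) := inferInstance
  have hE : IsColimit (E.mapCocone c) := isColimitOfPreserves E hc
  have h' : (E.mapCocone c).ι.app i (ev f) = (E.mapCocone c).ι.app i (ev g) :=
    ((ev_comp f (c.ι.app i)).symm.trans ((congrArg ev h).trans (ev_comp g (c.ι.app i))) : _)
  obtain ⟨j, a, ha⟩ := (Types.FilteredColimit.isColimit_eq_iff' hE _ _).1 h'
  exact ⟨j, a, ev_injective ((ev_comp f (D.map a)).trans (ha.trans (ev_comp g (D.map a)).symm))⟩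

/-- maps out of representables are jointly epimorphic. -/
lemma eq_zero_of_elements {A B : Ind C} (f : A ⟶ B) (h : ∀ (X : C) (x : 𝐲.obj X ⟶ A), x ≫ f = 0) :
    f = 0 := by
  rw [← cancel_epi A.colimitPresentationCompYoneda.hom, comp_zero]
  refine colimit.hom_ext fun i => ?_
  rw [← Category.assoc, comp_zero]
  exact h _ _

lemma epi_of_elements {A B : Ind C} (f : A ⟶ B)
    (h : ∀ (X : C) (x : 𝐲.obj X ⟶ B), ∃ (Y : C) (π : Y ⟶ X) (_ : Epi π) (a : 𝐲.obj Y ⟶ A),
      a ≫ f = 𝐲.map π ≫ x) : Epi f := by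
  refine Preadditive.epi_of_cancel_zero f fun {Z} g hg => eq_zero_of_elements g fun X x => ?_
  obtain ⟨Y, π, _, a, ha⟩ := h X x
  rw [← cancel_epi (𝐲.map π), comp_zero, ← reassoc_of% ha, hg, comp_zero]

lemma exact_of_elements (S : ShortComplex (Ind C))
    (h : ∀ (X : C) (x : 𝐲.obj X ⟶ S.X₂), x ≫ S.g = 0 → ∃ (Y : C) (π : Y ⟶ X) (_ : Epi π) (a : 𝐲.obj Y ⟶ S.X₁),
      a ≫ S.f = 𝐲.map π ≫ x) : S.Exact := by
  rw [S.exact_iff_kernel_ι_comp_cokernel_π_zero]
  refine eq_zero_of_elements _ fun X x => ?_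
  obtain ⟨Y, π, _, a, ha⟩ := h X (x ≫ kernel.ι S.g) (by rw [Category.assoc, kernel.condition, comp_zero])
  rw [← cancel_epi (𝐲.map π), comp_zero, ← Category.assoc x, ← Category.assoc (𝐲.map π), ← ha, Category.assoc,
    cokernel.condition, comp_zero]

/-- an epimorphism onto a representable admits a representable refinement. -/
lemma exists_refinement {E : Ind C} {X : C} (e : E ⟶ 𝐲.obj X) [Epi e] :
    ∃ (Y : C) (π : Y ⟶ X) (_ : Epi π) (p : 𝐲.obj Y ⟶ E), p ≫ e = 𝐲.map π := by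
  let F := E.presentation.F
  let ec := E.colimitPresentationCompYoneda
  let hh : ∀ k, F.obj k ⟶ X := fun k =>
    (Ind.yoneda (C := C)).preimage (colimit.ι (F ⋙ 𝐲) k ≫ ec.hom ≫ e)
  have hhn : ∀ {k l : E.presentation.I} (a : k ⟶ l), F.map a ≫ hh l = hh k := fun {k l} a => by
    apply (Ind.yoneda (C := C)).map_injective
    simp only [hh, Functor.map_comp, Functor.map_preimage]
    exact (Category.assoc _ _ _).symm.trans (congrArg (· ≫ _) (colimit.w (F ⋙ 𝐲) a))
  let φ : F ⟶ (Functor.const E.presentation.I).obj X :=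
    { app := hh, naturality := fun k l a => (hhn a).trans (Category.comp_id _).symm }
  let G := cokernel φ
  let π : ∀ k, X ⟶ G.obj k := fun k => (cokernel.π φ).app k
  have hπ : ∀ {k l : E.presentation.I} (a : k ⟶ l), π k ≫ G.map a = π l := fun {k l} a =>
    ((cokernel.π φ).naturality a).symm.trans (Category.id_comp _)
  have hhπ : ∀ k, hh k ≫ π k = 0 := fun k => NatTrans.congr_app (cokernel.condition φ) k
  obtain ⟨i⟩ : Nonempty E.presentation.I := IsFiltered.nonempty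
  let q : 𝐲.obj X ⟶ colimit (G ⋙ 𝐲) := 𝐲.map (π i) ≫ colimit.ι (G ⋙ 𝐲) i
  have hq : ∀ k, q = 𝐲.map (π k) ≫ colimit.ι (G ⋙ 𝐲) k := fun k => by
    have hstep : ∀ {k l : E.presentation.I} (_ : k ⟶ l),
        𝐲.map (π k) ≫ colimit.ι (G ⋙ 𝐲) k = 𝐲.map (π l) ≫ colimit.ι (G ⋙ 𝐲) l := fun {k l} a => by
      rw [← hπ a, Functor.map_comp, Category.assoc]
      exact congrArg (𝐲.map (π k) ≫ ·) (colimit.w (G ⋙ 𝐲) a).symm
    exact (hstep (IsFiltered.leftToMax i k)).trans (hstep (IsFiltered.rightToMax i k)).symm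
  have hq0 : q = 0 := by
    rw [← cancel_epi e, ← cancel_epi ec.hom, comp_zero, comp_zero]
    refine colimit.hom_ext fun k => ?_
    rw [comp_zero, hq k]
    have : colimit.ι (F ⋙ 𝐲) k ≫ ec.hom ≫ e = 𝐲.map (hh k) := ((Ind.yoneda (C := C)).map_preimage _).symm
    rw [reassoc_of% this, ← Functor.map_comp_assoc, hhπ, Functor.map_zero, zero_comp]
  obtain ⟨j, a, ha⟩ := exists_stage (G ⋙ 𝐲) (colimit.isColimit _) (X := X) (i := i) (𝐲.map (π i)) 0
    (hq0.trans zero_comp.symm)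
  have hπj : π j = 0 := by
    apply (Ind.yoneda (C := C)).map_injective
    rw [Functor.map_zero, ← hπ a, Functor.map_comp]
    exact ha.trans zero_comp
  have hexact : ((ShortComplex.mk φ (cokernel.π φ) (cokernel.condition φ)).map
      ((evaluation E.presentation.I C).obj j)).Exact :=
    (ShortComplex.exact_cokernel φ).map _
  have : Epi (hh j) := hexact.epi_f hπj
  exact ⟨F.obj j, hh j, this, colimit.ι (F ⋙ 𝐲) j ≫ ec.hom,
    (Category.assoc _ _ _).trans ((Ind.yoneda (C := C)).map_preimage _).symm⟩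

lemma lift_epi {P Q : Ind C} (q : P ⟶ Q) [Epi q] {X : C} (x : 𝐲.obj X ⟶ Q) :
    ∃ (Y : C) (π : Y ⟶ X) (_ : Epi π) (p : 𝐲.obj Y ⟶ P), p ≫ q = 𝐲.map π ≫ x := by
  haveI : Epi (pullback.fst x q) := Abelian.epi_pullback_of_epi_g _ _
  obtain ⟨Y, π, hπ, p, hp⟩ := exists_refinement (pullback.fst x q)
  exact ⟨Y, π, hπ, p ≫ pullback.snd x q, by rw [Category.assoc, ← pullback.condition, reassoc_of% hp]⟩

end elements

lemma kerComp {P A : Ind C} (m : ℕ) (x : P ⟶ A) (hx : m • x = 0) : x ≫ (m • 𝟙 A) = 0 := by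
  rwa [comp_smul_id]

/-- the lift of a torsion element. -/
noncomputable def toTors {P A : Ind C} (m : ℕ) (x : P ⟶ A) (hx : m • x = 0) : P ⟶ kernel (m • 𝟙 A) :=
  kernel.lift _ x (kerComp m x hx)

lemma toTors_ι {P A : Ind C} (m : ℕ) (x : P ⟶ A) (hx : m • x = 0) :
    toTors m x hx ≫ kernel.ι (m • 𝟙 A) = x := kernel.lift_ι _ _ _

lemma smul_tors {A : Ind C} (m : ℕ) : m • kernel.ι (m • 𝟙 A) = 0 :=
  (comp_smul_id m _).symm.trans (kernel.condition _)

lemma smul_eq_zero_of_le {P A : Ind C} {n j k : ℕ} (hjk : j ≤ k) (x : P ⟶ A) (h : n ^ j • x = 0) :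
    n ^ k • x = 0 := by
  obtain ⟨d, rfl⟩ := Nat.exists_eq_add_of_le hjk
  rw [pow_add, mul_comm, mul_smul, h, smul_zero]

lemma tors_comp {A B : Ind C} (m : ℕ) (f : A ⟶ B) : m • (kernel.ι (m • 𝟙 A) ≫ f) = 0 := by
  exact ((Preadditive.nsmul_comp _ _ _).symm.trans (congrArg (· ≫ f) (smul_tors m))).trans zero_comp

lemma eq_of_desc {T X Y Z : Ind C} (k : T ⟶ X ⊞ Y) (u : X ⟶ Z) (v : Y ⟶ Z) (h : k ≫ biprod.desc u (-v) = 0) :
    (k ≫ biprod.fst) ≫ u = (k ≫ biprod.snd) ≫ v := by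
  rw [biprod.desc_eq, Preadditive.comp_add, Preadditive.comp_neg, Preadditive.comp_neg, add_neg_eq_zero] at h
  simpa using h

variable (hart : ∀ X : C, IsArtinianObject X) (htor : ∀ X : C, ∃ m : ℕ, 0 < m ∧ m • 𝟙 X = 0)

include htor in
lemma exists_torsion {X : C} {A : Ind C} (x : 𝐲.obj X ⟶ A) : ∃ m : ℕ, 0 < m ∧ m • x = 0 := by
  obtain ⟨m, hm, h⟩ := htor X
  refine ⟨m, hm, ?_⟩
  have : m • x = 𝐲.map (m • 𝟙 X) ≫ x := by rw [Functor.map_nsmul, CategoryTheory.Functor.map_id, smul_id_comp]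
  rw [this, h, Functor.map_zero, zero_comp]

include hart in
/-- the chain of `n^j`-divisible `n`-torsion stabilises. -/
lemma exists_divisible (n : ℕ) (A : Ind C) (hA : ∀ j : ℕ, Rep (kernel (n ^ j • 𝟙 A))) :
    ∃ N : ℕ, ∀ j, N ≤ j → ∀ (X : C) (x : 𝐲.obj X ⟶ A), n ^ (N + 1) • x = 0 →
      ∃ (Y : C) (π : Y ⟶ X) (_ : Epi π) (y : 𝐲.obj Y ⟶ A), n ^ j • y = 𝐲.map π ≫ (n ^ N • x) := by
  choose Z hZ using hA
  let e : ∀ j, 𝐲.obj (Z j) ≅ kernel (n ^ j • 𝟙 A) := fun j => (hZ j).some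
  let u : ∀ j, 𝐲.obj (Z j) ⟶ A := fun j => (e j).hom ≫ kernel.ι _
  have hu : ∀ j, n ^ j • u j = 0 := fun j => by
    simp only [u, ← Preadditive.comp_nsmul, smul_tors, comp_zero]
  have hlift : ∀ {X : C} (j : ℕ) (x : 𝐲.obj X ⟶ A), n ^ j • x = 0 → ∃ w : X ⟶ Z j, 𝐲.map w ≫ u j = x := by
    intro X j x hx
    refine ⟨(Ind.yoneda (C := C)).preimage (toTors _ x hx ≫ (e j).inv), ?_⟩
    simp [u, toTors_ι]
  have hu1 : ∀ j, n ^ 1 • (n ^ j • u (j + 1)) = 0 := fun j => by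
    rw [smul_smul, ← pow_add, add_comm 1 j]
    exact hu (j + 1)
  choose g hg using fun j => hlift 1 (n ^ j • u (j + 1)) (hu1 j)
  have hanti : Antitone fun j => imageSubobject (g j) := antitone_nat_of_succ_le fun j => by
    obtain ⟨d, hd⟩ := hlift (j + 1) (n • u (j + 1 + 1)) (by rw [smul_smul, ← pow_succ]; exact hu _)
    have hdg : d ≫ g j = g (j + 1) := by
      apply (Ind.yoneda (C := C)).map_injective
      haveI : Mono (u 1) := mono_comp _ _
      rw [← cancel_mono (u 1), Functor.map_comp, Category.assoc, hg, hg, Preadditive.comp_nsmul, hd,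
        smul_smul, ← pow_succ]
    show imageSubobject (g (j + 1)) ≤ imageSubobject (g j)
    rw [← hdg]
    exact imageSubobject_comp_le _ _
  haveI := hart (Z 1)
  obtain ⟨N, hN⟩ := antitone_chain_condition_of_isArtinianObject
    (X := Z 1) ⟨fun j => OrderDual.toDual (imageSubobject (g j)), hanti⟩
  refine ⟨N, fun j hj X x hx => ?_⟩
  obtain ⟨w, hw⟩ := hlift (N + 1) x hx
  have hN' : imageSubobject (g N) = imageSubobject (g j) := congrArg OrderDual.ofDual (hN j hj)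
  let fI := factorThruImageSubobject (g j)
  let t : X ⟶ (imageSubobject (g j) : C) :=
    w ≫ factorThruImageSubobject (g N) ≫ Subobject.ofLE _ _ hN'.le
  haveI : Epi (pullback.fst t fI) := Abelian.epi_pullback_of_epi_g _ _
  refine ⟨pullback t fI, pullback.fst t fI, inferInstance, 𝐲.map (pullback.snd t fI) ≫ u (j + 1), ?_⟩
  have h1 : pullback.snd t fI ≫ g j = pullback.fst t fI ≫ (w ≫ g N) := by
    have := (pullback.condition (f := t) (g := fI)).symm =≫ (imageSubobject (g j)).arrow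
    simpa [t, fI] using this
  rw [← Preadditive.comp_nsmul, ← hg, ← Functor.map_comp_assoc, h1]
  simp [hg, hw, ← Preadditive.comp_nsmul]
  rw [← hw, Preadditive.comp_nsmul]

include hart htor in
/-- every element is an `n^N`-torsion element plus a multiple of `n`. -/
lemma exists_decomp (n : ℕ) (A : Ind C) (hA : ∀ j : ℕ, Rep (kernel (n ^ j • 𝟙 A))) :
    ∃ N : ℕ, ∀ (X : C) (x : 𝐲.obj X ⟶ A), ∃ (Y : C) (π : Y ⟶ X) (_ : Epi π) (a b : 𝐲.obj Y ⟶ A),
      n ^ N • a = 0 ∧ 𝐲.map π ≫ x = a + n • b := by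
  obtain ⟨N, hN⟩ := exists_divisible hart n A hA
  refine ⟨N, fun X x => ?_⟩
  have key : ∀ (k : ℕ) (X : C) (x : 𝐲.obj X ⟶ A), n ^ (N + k) • x = 0 →
      ∃ (Y : C) (π : Y ⟶ X) (_ : Epi π) (a b : 𝐲.obj Y ⟶ A), n ^ N • a = 0 ∧ 𝐲.map π ≫ x = a + n • b := by
    intro k
    induction k with
    | zero => exact fun X x hx => ⟨X, 𝟙 X, inferInstance, x, 0, hx, by simp⟩
    | succ k ih =>
      intro X x hx
      obtain ⟨Y, π, _, y, hy⟩ := hN (N + k + 1) (by omega) X (n ^ k • x) (by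
        rw [smul_smul, ← pow_add, show N + 1 + k = N + (k + 1) by omega]; exact hx)
      obtain ⟨Y', π', _, a, b, ha, hab⟩ := ih Y (𝐲.map π ≫ x - n • y) (by
        rw [smul_sub, smul_smul, ← pow_succ, hy, ← Preadditive.comp_nsmul, smul_smul, ← pow_add, sub_self])
      refine ⟨Y', π' ≫ π, epi_comp _ _, a, b + 𝐲.map π' ≫ y, ha, ?_⟩
      rw [Preadditive.comp_sub, Preadditive.comp_nsmul, sub_eq_iff_eq_add] at hab
      rw [Functor.map_comp, Category.assoc, hab, smul_add, add_assoc]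
  obtain ⟨m, hm, hmx⟩ := exists_torsion htor x
  obtain ⟨k, g, hgk, hg⟩ : ∃ k g : ℕ, g ∣ n ^ k ∧ ∃ u w : ℤ, (g : ℤ) = (m : ℤ) * u + (n : ℤ) ^ (k + 1) * w := by
    rcases Nat.eq_zero_or_pos n with rfl | hn
    · exact ⟨1, m, by simp, 1, 0, by simp⟩
    · -- the gcd stabilises after `m` steps
      have hdiv : Nat.gcd m (n ^ (m + 1)) ∣ n ^ m := by
        have hg0 : 0 < Nat.gcd m (n ^ (m + 1)) := Nat.gcd_pos_of_pos_left _ hm
        rw [← Nat.factorization_le_iff_dvd hg0.ne' (pow_pos hn m).ne']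
        intro p
        have h1 : (Nat.gcd m (n ^ (m + 1))).factorization p ≤ m.factorization p :=
          (Nat.factorization_le_iff_dvd hg0.ne' hm.ne').2 (Nat.gcd_dvd_left _ _) p
        have h2 : (Nat.gcd m (n ^ (m + 1))).factorization p ≤ (m + 1) * n.factorization p := by
          have := (Nat.factorization_le_iff_dvd hg0.ne' (pow_pos hn (m + 1)).ne').2 (Nat.gcd_dvd_right _ _) p
          simpa [Nat.factorization_pow] using this
        have h3 : m.factorization p < m := Nat.factorization_lt p hm.ne'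
        simp only [Nat.factorization_pow, Finsupp.coe_smul, Pi.smul_apply, smul_eq_mul]
        rcases Nat.eq_zero_or_pos (n.factorization p) with h4 | h4
        · rw [h4] at h2 ⊢; simpa using h2
        · have := Nat.le_mul_of_pos_right m h4
          omega
      refine ⟨m, Nat.gcd m (n ^ (m + 1)), hdiv, Nat.gcdA m (n ^ (m + 1)), Nat.gcdB m (n ^ (m + 1)), ?_⟩
      have := Nat.gcd_eq_gcd_ab m (n ^ (m + 1))
      push_cast at this ⊢
      exact this
  obtain ⟨u, w, hg⟩ := hg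
  obtain ⟨c, hc⟩ := hgk
  obtain ⟨Y, π, hπ, a, b, ha, hab⟩ := key k X (x - n • (((c : ℤ) * w) • x)) (by
    rw [pow_add, mul_smul, smul_sub]
    suffices n ^ k • x - n ^ k • (n • (((c : ℤ) * w) • x)) = 0 by rw [this, smul_zero]
    have h1 : ((n ^ k : ℕ) : ℤ) • x = (((n : ℤ) ^ k) * ((n : ℤ) * ((c : ℤ) * w))) • x := by
      rw [hc, Nat.cast_mul, hg, add_mul, add_smul]
      have : ((m : ℤ) * u * (c : ℤ)) • x = 0 := by
        rw [mul_assoc, mul_comm, mul_smul, natCast_zsmul, hmx, smul_zero]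
      rw [this, zero_add]
      congr 1
      ring
    rw [← natCast_zsmul x, h1, ← natCast_zsmul (n • _), ← natCast_zsmul (((c : ℤ) * w) • x), smul_smul, smul_smul,
      Nat.cast_pow, ← mul_assoc, sub_self])
  refine ⟨Y, π, hπ, a, b + 𝐲.map π ≫ (((c : ℤ) * w) • x), ha, ?_⟩
  rw [Preadditive.comp_sub, Preadditive.comp_nsmul, sub_eq_iff_eq_add] at hab
  rw [hab, smul_add, add_assoc]

lemma exists_hom_tors {A : Ind C} {n i j : ℕ} (hij : i ≤ j) :
    ∃ r : kernel (n ^ i • 𝟙 A) ⟶ kernel (n ^ j • 𝟙 A), r ≫ kernel.ι _ = kernel.ι _ :=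
  ⟨toTors _ _ (smul_eq_zero_of_le hij _ (smul_tors _)), toTors_ι _ _ _⟩

include hart htor in
theorem rep_cokernel_nsmul (n : ℕ) (A : Ind C) (hA : ∀ j : ℕ, Rep (kernel (n ^ j • 𝟙 A))) :
    Rep (cokernel (n • 𝟙 A)) := by
  obtain ⟨N, hN⟩ := exists_decomp hart htor n A hA
  let r : kernel (n ^ (N + 1) • 𝟙 A) ⟶ kernel (n ^ N • 𝟙 A) :=
    toTors _ (n • kernel.ι _) (by rw [smul_smul, ← pow_succ, smul_tors])
  let S : ShortComplex (Ind C) := ShortComplex.mk r (kernel.ι (n ^ N • 𝟙 A) ≫ cokernel.π (n • 𝟙 A)) (by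
    rw [reassoc_of% (toTors_ι _ _ _ : r ≫ kernel.ι _ = _)]
    have : n • kernel.ι (n ^ (N + 1) • 𝟙 A) = kernel.ι (n ^ (N + 1) • 𝟙 A) ≫ (n • 𝟙 A) := by simp
    rw [this, Category.assoc, cokernel.condition, comp_zero])
  haveI : Epi S.g := epi_of_elements _ fun X x => by
    obtain ⟨Y, π, _, p, hp⟩ := lift_epi (cokernel.π (n • 𝟙 A)) x
    obtain ⟨Y', π', _, a, b, ha, hab⟩ := hN Y p
    refine ⟨Y', π' ≫ π, epi_comp _ _, toTors _ a ha, ?_⟩
    show toTors _ a ha ≫ kernel.ι _ ≫ cokernel.π _ = _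
    rw [reassoc_of% toTors_ι, Functor.map_comp, Category.assoc, ← hp, ← Category.assoc, hab,
      Preadditive.add_comp]
    have : n • b = b ≫ (n • 𝟙 A) := by simp
    rw [this, Category.assoc, cokernel.condition, comp_zero, add_zero]
  refine rep_of_exact (S := S) (exact_of_elements S fun X x hx => ?_) (hA _) (hA _)
  haveI : Epi (Abelian.factorThruImage (n • 𝟙 A)) := inferInstance
  have hx' : (x ≫ kernel.ι _) ≫ cokernel.π (n • 𝟙 A) = 0 := (Category.assoc _ _ _).trans hx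
  let x₀ : 𝐲.obj X ⟶ Abelian.image (n • 𝟙 A) := kernel.lift _ (x ≫ kernel.ι _) hx'
  obtain ⟨Y, π, hπ, b, hb⟩ := lift_epi (Abelian.factorThruImage (n • 𝟙 A)) x₀
  have hb' : n • b = 𝐲.map π ≫ x ≫ kernel.ι _ := by
    have := hb =≫ Abelian.image.ι (n • 𝟙 A)
    simpa [x₀] using this
  refine ⟨Y, π, hπ, toTors _ b ?_, ?_⟩
  · rw [pow_succ, mul_smul, hb', ← Preadditive.comp_nsmul, ← Preadditive.comp_nsmul, smul_tors, comp_zero, comp_zero]
  · rw [← cancel_mono (kernel.ι (n ^ N • 𝟙 A)), Category.assoc, Category.assoc]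
    refine (congrArg (_ ≫ ·)
      (show r ≫ kernel.ι (n ^ N • 𝟙 A) = n • kernel.ι (n ^ (N + 1) • 𝟙 A) from toTors_ι _ _ _)).trans ?_
    rw [Preadditive.comp_nsmul, toTors_ι, hb']

include hart htor in
theorem image_stabilizes (n : ℕ) (A : Ind C) (hA : ∀ j : ℕ, Rep (kernel (n ^ j • 𝟙 A))) :
    ∃ N : ℕ, ∀ j, N ≤ j → imageSubobject (n ^ j • 𝟙 A) = imageSubobject (n ^ N • 𝟙 A) := by
  obtain ⟨N, hN⟩ := exists_decomp hart htor n A hA
  refine ⟨N, fun j hj => ?_⟩
  induction j, hj using Nat.le_induction with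
  | base => rfl
  | succ j hj ih =>
    refine le_antisymm ?_ (ih ▸ ?_)
    · have e : n ^ (j + 1) • 𝟙 A = (n • 𝟙 A) ≫ (n ^ j • 𝟙 A) := by simp [smul_smul, pow_succ]
      rw [e]
      exact (imageSubobject_comp_le (n • 𝟙 A) _).trans ih.le
    · have h0 : (n ^ j • 𝟙 A) ≫ cokernel.π (n ^ (j + 1) • 𝟙 A) = 0 := eq_zero_of_elements _ fun X x => by
        obtain ⟨Y, π, _, a, b, ha, hab⟩ := hN X x
        rw [← cancel_epi (𝐲.map π), comp_zero, reassoc_of% hab]
        have : (a + n • b) ≫ (n ^ j • 𝟙 A) = b ≫ (n ^ (j + 1) • 𝟙 A) := by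
          simp [smul_eq_zero_of_le hj a ha, smul_smul, pow_succ]
        rw [reassoc_of% this, cokernel.condition, comp_zero]
      refine imageSubobject_le _ (kernel.lift _ (n ^ j • 𝟙 A) h0 ≫ (Abelian.imageIsoImage _).hom ≫
        (imageSubobjectIso _).inv) ?_
      rw [Category.assoc, Category.assoc, imageSubobject_arrow', Abelian.imageIsoImage_hom_comp_image_ι]
      exact kernel.lift_ι _ _ _

include hart htor in
theorem rep_kernel_nsmul_kernel {A B : Ind C} (f : A ⟶ B) (m : ℕ) (hA : Rep (kernel (m • 𝟙 A)))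
    (hB : Rep (kernel (m • 𝟙 B))) : Rep (kernel (m • 𝟙 (kernel f))) := by
  let fm : kernel (m • 𝟙 A) ⟶ kernel (m • 𝟙 B) := toTors _ (kernel.ι _ ≫ f) (tors_comp _ _)
  let a : kernel fm ⟶ kernel f := kernel.lift f (kernel.ι fm ≫ kernel.ι (m • 𝟙 A)) (by
    rw [Category.assoc, show kernel.ι (m • 𝟙 A) ≫ f = fm ≫ kernel.ι (m • 𝟙 B) from (toTors_ι _ _ _).symm]
    exact (Category.assoc _ _ _).symm.trans (by rw [kernel.condition, zero_comp]))
  have ha : m • a = 0 := by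
    rw [← cancel_mono (kernel.ι f), zero_comp, Preadditive.nsmul_comp, kernel.lift_ι, ← Preadditive.comp_nsmul,
      smul_tors, comp_zero]
  let b : kernel (m • 𝟙 (kernel f)) ⟶ kernel (m • 𝟙 A) := toTors _ (kernel.ι _ ≫ kernel.ι f) (tors_comp _ _)
  have hb : b ≫ fm = 0 := by
    rw [← cancel_mono (kernel.ι (m • 𝟙 B)), zero_comp, Category.assoc]
    refine (congrArg (b ≫ ·) (toTors_ι _ _ _)).trans ?_
    rw [← Category.assoc, toTors_ι, Category.assoc, kernel.condition, comp_zero]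
  refine Functor.essImage.ofIso ?_ (rep_kernel hA hB fm)
  refine { hom := toTors m a ha, inv := kernel.lift fm b hb, hom_inv_id := ?_, inv_hom_id := ?_ }
  · rw [← cancel_mono (kernel.ι fm), ← cancel_mono (kernel.ι (m • 𝟙 A))]
    simp [b, toTors_ι, a, reassoc_of% (toTors_ι m a ha)]
  · rw [← cancel_mono (kernel.ι (m • 𝟙 (kernel f))), ← cancel_mono (kernel.ι f)]
    simp [b, toTors_ι, a, Category.assoc, reassoc_of% (toTors_ι m a ha)]

include hart htor in
theorem rep_kernel_nsmul_cokernel {A B : Ind C} (f : A ⟶ B) (n : ℕ)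
    (hA : ∀ j, Rep (kernel (n ^ j • 𝟙 A))) (hB : ∀ j, Rep (kernel (n ^ j • 𝟙 B))) :
    Rep (kernel (n • 𝟙 (cokernel f))) := by
  obtain ⟨N, hN⟩ := exists_decomp hart htor n A hA
  let M := N + 1
  have hK : ∀ j, Rep (kernel ((n ^ M) ^ j • 𝟙 (kernel f))) := fun j => by
    rw [← pow_mul]
    exact rep_kernel_nsmul_kernel hart htor f _ (hA _) (hB _)
  obtain ⟨L, hL⟩ := exists_decomp hart htor (n ^ M) (kernel f) hK
  let R := M * L + M
  let ιA := kernel.ι (n ^ N • 𝟙 A)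
  let ιB := kernel.ι (n ^ M • 𝟙 B)
  let ιR := kernel.ι (n ^ R • 𝟙 A)
  let rB : kernel (n ^ M • 𝟙 B) ⟶ kernel (n ^ N • 𝟙 B) :=
    toTors _ (n • ιB) (by rw [smul_smul, ← pow_succ, smul_tors])
  let fN : kernel (n ^ N • 𝟙 A) ⟶ kernel (n ^ N • 𝟙 B) :=
    toTors _ (ιA ≫ f) (tors_comp _ _)
  let P := kernel (biprod.desc rB (-fN))
  let b₀ : P ⟶ kernel (n ^ M • 𝟙 B) := kernel.ι _ ≫ biprod.fst
  let a₀ : P ⟶ kernel (n ^ N • 𝟙 A) := kernel.ι _ ≫ biprod.snd
  have hP : n • (b₀ ≫ ιB) = a₀ ≫ ιA ≫ f := by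
    have h := eq_of_desc _ _ _ (kernel.condition (biprod.desc rB (-fN)))
    have h' := h =≫ kernel.ι (n ^ N • 𝟙 B)
    simpa [rB, fN, b₀, a₀, toTors_ι, Preadditive.comp_nsmul] using h'
  let fR : kernel (n ^ R • 𝟙 A) ⟶ kernel (n ^ R • 𝟙 B) :=
    toTors _ (ιR ≫ f) (tors_comp _ _)
  obtain ⟨jB, hjB⟩ := exists_hom_tors (A := B) (n := n) (show M ≤ R from Nat.le_add_left _ _)
  let T := kernel (biprod.desc (b₀ ≫ jB) (-fR))
  let p : T ⟶ P := kernel.ι _ ≫ biprod.fst
  let aT : T ⟶ kernel (n ^ R • 𝟙 A) := kernel.ι _ ≫ biprod.snd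
  have hT : p ≫ b₀ ≫ ιB = aT ≫ ιR ≫ f := by
    have h := eq_of_desc _ _ _ (kernel.condition (biprod.desc (b₀ ≫ jB) (-fR)))
    have h' := h =≫ kernel.ι (n ^ R • 𝟙 B)
    simpa [fR, p, aT, toTors_ι, hjB, ιB] using h'
  let g : P ⟶ kernel (n • 𝟙 (cokernel f)) := toTors _ (b₀ ≫ ιB ≫ cokernel.π f) (by
    rw [← Category.assoc, ← Preadditive.nsmul_comp, hP]
    simp)
  have hg : g ≫ kernel.ι (n • 𝟙 (cokernel f)) = b₀ ≫ ιB ≫ cokernel.π f := toTors_ι _ _ _
  let S : ShortComplex (Ind C) := ShortComplex.mk p g (by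
    rw [← cancel_mono (kernel.ι (n • 𝟙 (cokernel f))), Category.assoc, hg, zero_comp, reassoc_of% hT]
    simp)
  have hrepP : Rep P := rep_kernel (rep_biprod (hB _) (hA _)) (hB _) _
  haveI : Epi S.g := epi_of_elements _ fun X q => by
    obtain ⟨Y, π, _, b, hb⟩ := lift_epi (cokernel.π f) (q ≫ kernel.ι (n • 𝟙 (cokernel f)))
    have hnb : (n • b) ≫ cokernel.π f = 0 := by
      rw [Preadditive.nsmul_comp, hb, ← Preadditive.comp_nsmul, ← Preadditive.comp_nsmul, smul_tors,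
        comp_zero, comp_zero]
    obtain ⟨Y', π', _, a, ha⟩ := lift_epi (Abelian.factorThruImage f)
      (kernel.lift _ (n • b) hnb : 𝐲.obj Y ⟶ Abelian.image f)
    have ha' : a ≫ f = n • (𝐲.map π' ≫ b) := by
      have := ha =≫ Abelian.image.ι f
      simpa [Preadditive.comp_nsmul] using this
    obtain ⟨Y'', π'', _, a', a₁, ha0, hab⟩ := hN Y' a
    let b' := 𝐲.map π'' ≫ 𝐲.map π' ≫ b - a₁ ≫ f
    have hnb' : n • b' = a' ≫ f := by
      simp only [b', smul_sub, ← Preadditive.comp_nsmul, ← ha']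
      rw [← Category.assoc, hab, Preadditive.add_comp, Preadditive.nsmul_comp, Preadditive.comp_nsmul,
        add_sub_cancel_right]
    have hb'tors : n ^ M • b' = 0 := by
      rw [pow_succ, mul_smul, hnb', ← Preadditive.nsmul_comp, ha0, zero_comp]
    refine ⟨Y'', π'' ≫ π' ≫ π, epi_comp _ _, kernel.lift _ (biprod.lift (toTors _ b' hb'tors) (toTors _ a' ha0)) ?_, ?_⟩
    · rw [biprod.lift_desc, Preadditive.comp_neg, add_neg_eq_zero,
        ← cancel_mono (kernel.ι (n ^ N • 𝟙 B))]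
      simp [rB, fN, ιA, ιB, toTors_ι, hnb', Preadditive.comp_nsmul, reassoc_of% (toTors_ι (n ^ N) a' ha0)]
    · show _ ≫ g = _
      refine (cancel_mono (kernel.ι (n • 𝟙 (cokernel f)))).1
        ((((Category.assoc _ _ _).trans (congrArg (_ ≫ ·) hg)).trans ?_).trans (Category.assoc _ _ _).symm)
      simp [b₀, ιB, reassoc_of% (toTors_ι (n ^ M) b' hb'tors), b', ← hb]
  refine rep_of_exact (S := S) (exact_of_elements S fun X x hx => ?_)
    (rep_kernel (rep_biprod hrepP (hA R)) (hB R) _) hrepP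
  have hx' : (x ≫ b₀ ≫ ιB) ≫ cokernel.π f = 0 := by
    rw [Category.assoc, Category.assoc, ← hg, ← Category.assoc, show x ≫ g = 0 from hx, zero_comp]
  obtain ⟨Y, π, _, a, ha⟩ := lift_epi (Abelian.factorThruImage f)
    (kernel.lift _ (x ≫ b₀ ≫ ιB) hx' : 𝐲.obj X ⟶ Abelian.image f)
  have ha' : a ≫ f = 𝐲.map π ≫ x ≫ b₀ ≫ ιB := by
    have := ha =≫ Abelian.image.ι f
    simpa using this
  have hk : (n ^ M • a) ≫ f = 0 := by
    rw [Preadditive.nsmul_comp, ha']
    simp only [← Preadditive.comp_nsmul, ιB, smul_tors, comp_zero]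
  obtain ⟨Y', π', _, k₀, k₁, hk0, hkab⟩ := hL Y (kernel.lift f (n ^ M • a) hk)
  let a₂ := 𝐲.map π' ≫ a - k₁ ≫ kernel.ι f
  have ha2 : n ^ M • a₂ = k₀ ≫ kernel.ι f := by
    have := hkab =≫ kernel.ι f
    simp only [Category.assoc, kernel.lift_ι, Preadditive.add_comp, Preadditive.nsmul_comp] at this
    simp only [a₂, smul_sub, ← Preadditive.comp_nsmul, this]
    rw [add_sub_assoc, Preadditive.comp_nsmul, sub_self, add_zero]
  have ha2R : n ^ R • a₂ = 0 := by
    rw [pow_add, mul_smul, ha2, ← Preadditive.nsmul_comp, pow_mul, hk0, zero_comp]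
  have ha2f : a₂ ≫ f = 𝐲.map π' ≫ 𝐲.map π ≫ x ≫ b₀ ≫ ιB := by
    simp [a₂, ha']
  refine ⟨Y', π' ≫ π, epi_comp _ _,
    kernel.lift _ (biprod.lift (𝐲.map (π' ≫ π) ≫ x) (toTors _ a₂ ha2R)) ?_, ?_⟩
  · rw [biprod.lift_desc, Preadditive.comp_neg, add_neg_eq_zero,
      ← cancel_mono (kernel.ι (n ^ R • 𝟙 B))]
    simp [fR, ιR, hjB, toTors_ι, reassoc_of% (toTors_ι (n ^ R) a₂ ha2R), ha2f, ιB]
  · show kernel.lift _ _ _ ≫ kernel.ι _ ≫ biprod.fst = _
    simp

include hart in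
theorem chain_stabilizes (p : ℕ) (htorp : ∀ X : C, ∃ k : ℕ, p ^ k • 𝟙 X = 0) (A : Ind C)
    (hA : ∀ j : ℕ, Rep (kernel (p ^ j • 𝟙 A))) (S : ℕ → Subobject A) (hS : Antitone S)
    (hcof : ∀ m j : ℕ, Rep (kernel (p ^ j • 𝟙 ((S m : Subobject A) : Ind C)))) :
    ∃ N : ℕ, ∀ m : ℕ, N ≤ m → S m = S N := by
  classical
  obtain ⟨z, ⟨e1⟩⟩ := hA 1
  let u : 𝐲.obj z ⟶ A := e1.hom ≫ kernel.ι _
  haveI : Mono u := mono_comp _ _
  haveI := hart z
  choose Z hZ using hcof
  let w : ∀ m j, 𝐲.obj (Z m j) ⟶ A := fun m j => (hZ m j).some.hom ≫ kernel.ι _ ≫ (S m).arrow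
  have hw : ∀ m j, p ^ j • w m j = 0 := fun m j => by
    show p ^ j • ((hZ m j).some.hom ≫ kernel.ι _ ≫ (S m).arrow) = 0
    rw [← Preadditive.comp_nsmul, ← Preadditive.nsmul_comp, smul_tors, zero_comp, comp_zero]
  have hu1 : ∀ m i, p ^ 1 • (p ^ i • w m (i + 1)) = 0 := fun m i => by
    rw [smul_smul, ← pow_add, add_comm 1 i]
    exact hw m (i + 1)
  let g : ∀ m i, Z m (i + 1) ⟶ z := fun m i =>
    (Ind.yoneda (C := C)).preimage (toTors _ (p ^ i • w m (i + 1)) (hu1 m i) ≫ e1.inv)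
  have hg : ∀ m i, 𝐲.map (g m i) ≫ u = p ^ i • w m (i + 1) := fun m i => by simp [g, u, toTors_ι]
  have hlift : ∀ {X : C} (m j : ℕ) (x : 𝐲.obj X ⟶ A), (S m).Factors x → p ^ j • x = 0 →
      ∃ c : X ⟶ Z m j, 𝐲.map c ≫ w m j = x := by
    intro X m j x hx hpx
    have h0 : p ^ j • (S m).factorThru x hx = 0 := by
      rw [← cancel_mono (S m).arrow, Preadditive.nsmul_comp, Subobject.factorThru_arrow, hpx, zero_comp]
    refine ⟨(Ind.yoneda (C := C)).preimage (toTors _ _ h0 ≫ (hZ m j).some.inv), ?_⟩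
    simp [w, reassoc_of% (toTors_ι (p ^ j) _ h0), Subobject.factorThru_arrow]
  let T : ℕ → ℕ → Subobject z := fun m i => imageSubobject (g m i)
  have hT : ∀ m m' i, m ≤ m' → T m' i ≤ T m i := by
    intro m m' i h
    obtain ⟨c, hc⟩ := hlift m (i + 1) (w m' (i + 1))
      (Subobject.factors_of_le _ (hS h) ((Subobject.factors_iff _ _).2
        ⟨(hZ m' (i + 1)).some.hom ≫ kernel.ι _, Category.assoc _ _ _⟩)) (hw m' (i + 1))
    have hcg : c ≫ g m i = g m' i := by
      apply (Ind.yoneda (C := C)).map_injective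
      rw [← cancel_mono u, Functor.map_comp, Category.assoc, hg, hg, Preadditive.comp_nsmul, hc]
    show imageSubobject (g m' i) ≤ imageSubobject (g m i)
    rw [← hcg]
    exact imageSubobject_comp_le _ _
  have hTi : ∀ m i, T m (i + 1) ≤ T m i := by
    intro m i
    obtain ⟨c, hc⟩ := hlift m (i + 1) (p • w m (i + 1 + 1))
      ((Subobject.factors_iff _ _).2 ⟨p • ((hZ m (i + 1 + 1)).some.hom ≫ kernel.ι _), by
        show (p • _) ≫ (S m).arrow = p • _
        rw [Preadditive.nsmul_comp]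
        exact congrArg (p • ·) (Category.assoc _ _ _)⟩)
      (by rw [smul_smul, ← pow_succ]; exact hw _ _)
    have hcg : c ≫ g m i = g m (i + 1) := by
      apply (Ind.yoneda (C := C)).map_injective
      rw [← cancel_mono u, Functor.map_comp, Category.assoc, hg, hg, Preadditive.comp_nsmul, hc,
        smul_smul, ← pow_succ]
    show imageSubobject (g m (i + 1)) ≤ imageSubobject (g m i)
    rw [← hcg]
    exact imageSubobject_comp_le _ _
  obtain ⟨_, ⟨⟨M₁, I₁⟩, rfl⟩, hmin⟩ := (wellFounded_lt (α := Subobject z)).has_min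
    (Set.range fun q : ℕ × ℕ => T q.1 q.2) ⟨_, ⟨(0, 0), rfl⟩⟩
  have hbig : ∀ m i, M₁ ≤ m → I₁ ≤ i → T m i = T M₁ I₁ := fun m i hm hi =>
    eq_of_le_of_not_lt ((antitone_nat_of_succ_le (hTi m) hi).trans (hT _ _ _ hm)) (hmin _ ⟨(m, i), rfl⟩)
  choose Ns hNs using fun i => antitone_chain_condition_of_isArtinianObject
    (X := z) ⟨fun m => OrderDual.toDual (T m i), fun m m' h => hT m m' i h⟩
  let M₂ := M₁ + ∑ i ∈ Finset.range I₁, Ns i
  have hstab : ∀ m i, M₂ ≤ m → T M₂ i = T m i := by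
    intro m i hm
    rcases lt_or_ge i I₁ with hi | hi
    · have hle : Ns i ≤ M₂ :=
        (Finset.single_le_sum (fun j _ => Nat.zero_le (Ns j)) (Finset.mem_range.2 hi)).trans (Nat.le_add_left _ _)
      exact ((congrArg OrderDual.ofDual (hNs i M₂ hle)).symm.trans (congrArg OrderDual.ofDual (hNs i m (hle.trans hm))) : _)
    · rw [hbig M₂ i (Nat.le_add_right _ _) hi, hbig m i ((Nat.le_add_right _ _).trans hm) hi]
  refine ⟨M₂, fun m hm => le_antisymm (hS hm) ?_⟩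
  have key : ∀ (j : ℕ) (X : C) (x : 𝐲.obj X ⟶ A), p ^ j • x = 0 → (S M₂).Factors x →
      x ≫ cokernel.π (S m).arrow = 0 := by
    intro j
    induction j with
    | zero => exact fun X x hx _ => by rw [pow_zero, one_smul] at hx; rw [hx, zero_comp]
    | succ j ih =>
      intro X x hx hf
      obtain ⟨c, hc⟩ := hlift M₂ (j + 1) x hf hx
      let fI := factorThruImageSubobject (g m j)
      let t : X ⟶ (imageSubobject (g m j) : C) :=
        c ≫ factorThruImageSubobject (g M₂ j) ≫ Subobject.ofLE _ _ (hstab m j hm).le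
      haveI : Epi (pullback.fst t fI) := Abelian.epi_pullback_of_epi_g _ _
      let y : 𝐲.obj (pullback t fI) ⟶ A := 𝐲.map (pullback.snd t fI) ≫ w m (j + 1)
      have hy : p ^ j • y = p ^ j • (𝐲.map (pullback.fst t fI) ≫ x) := by
        have h1 : pullback.snd t fI ≫ g m j = pullback.fst t fI ≫ c ≫ g M₂ j := by
          have := (pullback.condition (f := t) (g := fI)).symm =≫ (imageSubobject (g m j)).arrow
          simpa [t, fI, T] using this
        simp only [y, ← Preadditive.comp_nsmul, ← hg, ← hc]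
        rw [← Functor.map_comp_assoc, h1]
        simp [hg]
      have hyS : (S m).Factors y := (Subobject.factors_iff _ _).2
        ⟨𝐲.map (pullback.snd t fI) ≫ (hZ m (j + 1)).some.hom ≫ kernel.ι _,
          (Category.assoc _ _ _).trans (congrArg (_ ≫ ·) (Category.assoc _ _ _))⟩
      have hd : (S M₂).Factors (𝐲.map (pullback.fst t fI) ≫ x - y) := by
        refine (Subobject.factors_iff _ _).2
          ⟨𝐲.map (pullback.fst t fI) ≫ (S M₂).factorThru x hf -
            (S M₂).factorThru y (Subobject.factors_of_le _ (hS hm) hyS), ?_⟩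
        show (_ - _) ≫ (S M₂).arrow = _
        rw [Preadditive.sub_comp, Category.assoc, Subobject.factorThru_arrow, Subobject.factorThru_arrow]
      have h := ih _ _ (by rw [smul_sub, hy, sub_self]) hd
      rw [← cancel_epi (𝐲.map (pullback.fst t fI)), comp_zero]
      rw [Preadditive.sub_comp, Category.assoc, ← Subobject.factorThru_arrow (S m) y hyS, Category.assoc,
        cokernel.condition, comp_zero, sub_zero] at h
      exact h
  have h0 : (S M₂).arrow ≫ cokernel.π (S m).arrow = 0 := eq_zero_of_elements _ fun X x => by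
    obtain ⟨k, hk⟩ := htorp X
    have hkx : p ^ k • (x ≫ (S M₂).arrow) = 0 := by
      rw [← smul_id_comp, ← CategoryTheory.Functor.map_id, ← Functor.map_nsmul, hk, Functor.map_zero, zero_comp]
    rw [← Category.assoc]
    exact key k X _ hkx ((Subobject.factors_iff _ _).2 ⟨x, rfl⟩)
  let kI := (Abelian.monoIsKernelOfCokernel _ (cokernelIsCokernel (S m).arrow)).lift
    (KernelFork.ofι (S M₂).arrow h0)
  exact Subobject.le_of_comm kI
    ((Abelian.monoIsKernelOfCokernel _ (cokernelIsCokernel (S m).arrow)).fac _ WalkingParallelPair.zero)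

end Groth.L09.IndCof
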