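import Mathlib.CategoryTheory.Limits.Indization.IndObject
import Mathlib.CategoryTheory.Limits.FinallySmall

/-! Retracts of representable presheaves are ind-objects. -/

set_option autoImplicit false
open CategoryTheory Category Limits Opposite
universe u

namespace Groth.L09.IndRetract
variable {C : Type u} [SmallCategory C]

lemma isIndObject_of_retract {R : Cᵒᵖ ⥤ Type u} {X : C} (ι : R ⟶ yoneda.obj X) (r : yoneda.obj X ⟶ R)
    (h : ι ≫ r = 𝟙 R) : IsIndObject R := by
  have : EssentiallySmall.{u} (CostructuredArrow yoneda R) := essentiallySmallSelf _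
  have := finallySmall_of_essentiallySmall.{u} (CostructuredArrow yoneda R)
  let T : CostructuredArrow yoneda R := CostructuredArrow.mk r
  let g : ∀ Z : CostructuredArrow yoneda R, Z.left ⟶ X := fun Z => yonedaEquiv (Z.hom ≫ ι)
  have hg : ∀ Z, yoneda.map (g Z) = Z.hom ≫ ι := fun Z => by
    apply yonedaEquiv.injective
    exact (show yonedaEquiv (yoneda.map (g Z)) = g Z from comp_id' _).trans rfl
  let m : ∀ Z, Z ⟶ T := fun Z => CostructuredArrow.homMk (g Z) (by
    show yoneda.map (g Z) ≫ r = Z.hom
    rw [hg, assoc, h, comp_id])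
  have hm : ∀ {Z Z' : CostructuredArrow yoneda R} (a : Z ⟶ Z'), a.left ≫ g Z' = g Z := fun {Z Z'} a => by
    apply yoneda.map_injective
    rw [Functor.map_comp, hg, hg, ← assoc, CostructuredArrow.w a]
  have : IsFilteredOrEmpty (CostructuredArrow yoneda R) :=
    { cocone_objs := fun A B => ⟨T, m A, m B, trivial⟩
      cocone_maps := fun A B a b => ⟨T, m B, by
        ext
        exact (hm a).trans (hm b).symm⟩ }
  have : IsFiltered (CostructuredArrow yoneda R) := { nonempty := ⟨T⟩ }
  exact isIndObject_of_isFiltered_of_finallySmall R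
where comp_id' {Y X : C} (f : Y ⟶ X) : 𝟙 Y ≫ f = f := id_comp f

end Groth.L09.IndRetract
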