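import Mathlib.CategoryTheory.Functor.KanExtension.Adjunction
import Mathlib.CategoryTheory.Limits.Indization.IndObject
import Mathlib.CategoryTheory.Limits.FunctorCategory.Basic
import Mathlib.CategoryTheory.Limits.Types.Filtered

/-!
Left Kan extension along `u.op` on representables and on ind-objects.
-/

set_option autoImplicit false
universe v u w

open CategoryTheory Limits Opposite

namespace Groth.L09.LanInd

variable {C : Type u} [SmallCategory C] {C' : Type u} [SmallCategory C'] (u : C ⥤ C')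


/-- The canonical map `u_!(y X) ⟶ y (u X)`. -/
noncomputable def toYoneda (X : C) : (u.op.lan : (Cᵒᵖ ⥤ Type u) ⥤ (C'ᵒᵖ ⥤ Type u)).obj (yoneda.obj X) ⟶ yoneda.obj (u.obj X) :=
  ((u.op.lanAdjunction (Type u)).homEquiv _ _).symm (yonedaEquiv.symm (𝟙 (u.obj X) : (yoneda.obj (u.obj X)).obj (op (u.obj X))))

instance (X : C) : IsIso (toYoneda u X) := by
  let g : yoneda.obj (u.obj X) ⟶ (u.op.lan : (Cᵒᵖ ⥤ Type u) ⥤ (C'ᵒᵖ ⥤ Type u)).obj (yoneda.obj X) :=
    yonedaEquiv.symm (((u.op.lanAdjunction (Type u)).unit.app (yoneda.obj X)).app (op X) (𝟙 X))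
  have h0 : ((u.op.lanAdjunction (Type u)).unit.app (yoneda.obj X)).app (op X) ≫ (toYoneda u X).app (op (u.obj X)) =
      (yonedaEquiv.symm (𝟙 (u.obj X)) : yoneda.obj X ⟶ u.op ⋙ yoneda.obj (u.obj X)).app (op X) :=
    congrArg (fun k => NatTrans.app k (op X))
      (((u.op.lanAdjunction (Type u)).homEquiv_unit _ _ (toYoneda u X)).symm.trans (Equiv.apply_symm_apply _ _))
  refine ⟨g, ?_, ?_⟩
  · apply ((u.op.lanAdjunction (Type u)).homEquiv _ _).injective
    apply yonedaEquiv.injective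
    rw [Adjunction.homEquiv_naturality_right, Adjunction.homEquiv_id]
    show g.app (op (u.obj X)) (((((u.op.lanAdjunction (Type u))).homEquiv _ _) (toYoneda u X)).app (op X) (𝟙 X)) = _
    erw [Equiv.apply_symm_apply]
    show g.app (op (u.obj X)) (u.map (𝟙 X) ≫ 𝟙 (u.obj X)) = _
    rw [u.map_id, Category.id_comp]
    show ((u.op.lan : (Cᵒᵖ ⥤ Type u) ⥤ (C'ᵒᵖ ⥤ Type u)).obj (yoneda.obj X)).map (𝟙 (u.obj X)).op
      (((u.op.lanAdjunction (Type u)).unit.app (yoneda.obj X)).app (op X) (𝟙 X)) = _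
    rw [op_id, CategoryTheory.Functor.map_id]
    rfl
  · apply yonedaEquiv.injective
    show (toYoneda u X).app (op (u.obj X)) (yonedaEquiv g) = 𝟙 (u.obj X)
    rw [Equiv.apply_symm_apply]
    refine (ConcreteCategory.congr_hom h0 (𝟙 X)).trans ?_
    show (u.map (𝟙 X) ≫ 𝟙 (u.obj X) : u.obj X ⟶ u.obj X) = 𝟙 _
    simp

lemma unit_toYoneda (X : C) (Z : C) (g : Z ⟶ X) :
    (toYoneda u X).app (op (u.obj Z)) (((u.op.lanAdjunction (Type u)).unit.app (yoneda.obj X)).app (op Z) g) = u.map g := by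
  have h0 := congrArg (fun k => NatTrans.app k (op Z))
      (((u.op.lanAdjunction (Type u)).homEquiv_unit _ _ (toYoneda u X)).symm.trans (Equiv.apply_symm_apply _ _))
  refine (ConcreteCategory.congr_hom h0 g).trans ?_
  show (u.map g ≫ 𝟙 (u.obj X) : u.obj Z ⟶ u.obj X) = _
  simp

lemma map_toYoneda {X Y : C} (c : X ⟶ Y) :
    (u.op.lan : (Cᵒᵖ ⥤ Type u) ⥤ (C'ᵒᵖ ⥤ Type u)).map (yoneda.map c) ≫ toYoneda u Y =
      toYoneda u X ≫ yoneda.map (u.map c) := by
  apply ((u.op.lanAdjunction (Type u)).homEquiv _ _).injective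
  rw [Adjunction.homEquiv_naturality_left, Adjunction.homEquiv_naturality_right]
  unfold toYoneda
  rw [Equiv.apply_symm_apply, Equiv.apply_symm_apply]
  apply yonedaEquiv.injective
  show u.map (𝟙 X ≫ c) ≫ 𝟙 (u.obj Y) = (u.map (𝟙 X) ≫ 𝟙 (u.obj X)) ≫ u.map c
  simp

lemma unit_yoneda_injective [u.Faithful] (X : C) (Z : Cᵒᵖ) :
    Function.Injective (((u.op.lanAdjunction (Type u)).unit.app (yoneda.obj X)).app Z) := by
  intro a b hab
  induction Z with
  | op Z =>
    apply u.map_injective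
    rw [← unit_toYoneda u X Z a, ← unit_toYoneda u X Z b, hab]

lemma unit_yoneda_surjective [u.Full] (X : C) (Z : Cᵒᵖ) :
    Function.Surjective (((u.op.lanAdjunction (Type u)).unit.app (yoneda.obj X)).app Z) := by
  induction Z with
  | op Z =>
    intro y
    obtain ⟨g, hg⟩ := u.map_surjective ((toYoneda u X).app (op (u.obj Z)) y)
    refine ⟨g, ?_⟩
    exact ((Iso.toEquiv ((asIso (toYoneda u X)).app (op (u.obj Z)))).injective ((unit_toYoneda u X Z g).trans hg))

/-- Evaluation at `Z` after extension and restriction. -/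
noncomputable abbrev evalLan (Z : Cᵒᵖ) : (Cᵒᵖ ⥤ Type u) ⥤ Type u :=
  (u.op.lan : (Cᵒᵖ ⥤ Type u) ⥤ (C'ᵒᵖ ⥤ Type u)) ⋙ (evaluation _ _).obj (u.op.obj Z)

lemma preservesColimits_evalLan (Z : Cᵒᵖ) {I : Type u} [SmallCategory I] :
    PreservesColimitsOfShape I (evalLan u Z) := by
  have : PreservesColimitsOfSize.{u, u} (u.op.lan : (Cᵒᵖ ⥤ Type u) ⥤ (C'ᵒᵖ ⥤ Type u)) := (u.op.lanAdjunction (Type u)).leftAdjoint_preservesColimits
  infer_instance

lemma unit_injective [u.Faithful] {G : Cᵒᵖ ⥤ Type u} (hG : IsIndObject G) (Z : Cᵒᵖ) :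
    Function.Injective (((u.op.lanAdjunction (Type u)).unit.app G).app Z) := by
  obtain ⟨P⟩ := hG.nonempty_presentation
  have hc := isColimitOfPreserves ((evaluation _ (Type u)).obj Z) P.isColimit
  have := preservesColimits_evalLan u Z (I := P.I)
  have hd := isColimitOfPreserves (evalLan u Z) P.isColimit
  intro x y hxy
  obtain ⟨i, a, ha⟩ := Types.jointly_surjective _ hc x
  obtain ⟨j, b, hb⟩ := Types.jointly_surjective _ hc y
  subst ha; subst hb
  have hn : ∀ (k : P.I) (c : (yoneda.obj (P.F.obj k)).obj Z),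
      ((u.op.lanAdjunction (Type u)).unit.app G).app Z ((P.ι.app k).app Z c) =
        ((u.op.lan : (Cᵒᵖ ⥤ Type u) ⥤ (C'ᵒᵖ ⥤ Type u)).map (P.ι.app k)).app _ (((u.op.lanAdjunction (Type u)).unit.app (yoneda.obj (P.F.obj k))).app Z c) := fun k c =>
    ConcreteCategory.congr_hom (congrArg (fun t => NatTrans.app t Z) ((u.op.lanAdjunction (Type u)).unit.naturality (P.ι.app k))) c
  have hxy' := ((hn i a).symm.trans hxy).trans (hn j b)
  obtain ⟨k, f, g, hk⟩ := (Types.FilteredColimit.isColimit_eq_iff _ hd).mp hxy'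
  have hn' : ∀ {k l : P.I} (e : k ⟶ l) (c : (yoneda.obj (P.F.obj k)).obj Z),
      ((u.op.lanAdjunction (Type u)).unit.app (yoneda.obj (P.F.obj l))).app Z ((yoneda.map (P.F.map e)).app Z c) =
        ((u.op.lan : (Cᵒᵖ ⥤ Type u) ⥤ (C'ᵒᵖ ⥤ Type u)).map (yoneda.map (P.F.map e))).app _ (((u.op.lanAdjunction (Type u)).unit.app (yoneda.obj (P.F.obj k))).app Z c) := fun e c =>
    ConcreteCategory.congr_hom (congrArg (fun t => NatTrans.app t Z) ((u.op.lanAdjunction (Type u)).unit.naturality (yoneda.map (P.F.map e)))) c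
  have := unit_yoneda_injective u _ Z (((hn' f a).trans hk).trans (hn' g b).symm)
  exact (Types.FilteredColimit.isColimit_eq_iff _ hc).mpr ⟨k, f, g, this⟩

lemma unit_surjective [u.Full] {G : Cᵒᵖ ⥤ Type u} (hG : IsIndObject G) (Z : Cᵒᵖ) :
    Function.Surjective (((u.op.lanAdjunction (Type u)).unit.app G).app Z) := by
  obtain ⟨P⟩ := hG.nonempty_presentation
  have := preservesColimits_evalLan u Z (I := P.I)
  have hd := isColimitOfPreserves (evalLan u Z) P.isColimit
  intro y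
  obtain ⟨i, a, ha⟩ := Types.jointly_surjective _ hd y
  obtain ⟨c, hc⟩ := unit_yoneda_surjective u _ Z a
  refine ⟨(P.ι.app i).app Z c, ?_⟩
  refine (ConcreteCategory.congr_hom (congrArg (fun t => NatTrans.app t Z) ((u.op.lanAdjunction (Type u)).unit.naturality (P.ι.app i))) c).trans ?_
  exact (congrArg (((u.op.lan : (Cᵒᵖ ⥤ Type u) ⥤ (C'ᵒᵖ ⥤ Type u)).map (P.ι.app i)).app _) hc).trans ha

end Groth.L09.LanInd
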