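import Mathlib.CategoryTheory.Functor.KanExtension.Adjunction
import Mathlib.CategoryTheory.Comma.Over.Basic
import Mathlib.CategoryTheory.Limits.Types.Colimits
import Mathlib.CategoryTheory.Limits.Types.Pullbacks
import Mathlib.CategoryTheory.Limits.Shapes.Pullback.IsPullback.Basic

/-!
Left Kan extension along a faithful functor which is fully faithful on slices.
-/

set_option autoImplicit false
universe u

open CategoryTheory CategoryTheory.Limits Opposite

namespace Groth.L09.LanSlice

variable {C : Type u} [SmallCategory C] {C' : Type u} [SmallCategory C'] (u : C ⥤ C') [u.Faithful]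
  (hu : ∀ X : C, (Over.post (X := X) u).Full)

/-- the extension. -/
noncomputable abbrev L : (Cᵒᵖ ⥤ Type u) ⥤ (C'ᵒᵖ ⥤ Type u) := u.op.lan

/-- the unit. -/
noncomputable abbrev η (H : Cᵒᵖ ⥤ Type u) : H ⟶ u.op ⋙ (L u).obj H := (u.op.lanAdjunction (Type u)).unit.app H

/-- class of a representative. -/
noncomputable def cls (H : Cᵒᵖ ⥤ Type u) {X Y : C} (g : u.obj X ⟶ u.obj Y) (a : H.obj (op Y)) :
    ((L u).obj H).obj (op (u.obj X)) :=
  ((L u).obj H).map g.op ((η u H).app (op Y) a)

/-- the pointwise colimit cocone. -/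
noncomputable def isColimitAt (H : Cᵒᵖ ⥤ Type u) (V : C'ᵒᵖ) :
    IsColimit ((Functor.LeftExtension.mk _ (u.op.lanUnit.app H)).coconeAt V) :=
  Functor.isPointwiseLeftKanExtensionOfIsLeftKanExtension ((L u).obj H) (u.op.lanUnit.app H) V

lemma ι_eq (H : Cᵒᵖ ⥤ Type u) {X : C} (f : CostructuredArrow u.op (op (u.obj X))) (a : H.obj f.left) :
    ((Functor.LeftExtension.mk _ (u.op.lanUnit.app H)).coconeAt (op (u.obj X))).ι.app f a =
      ((L u).obj H).map f.hom ((η u H).app f.left a) := by
  show ((L u).obj H).map f.hom ((u.op.lanUnit.app H).app f.left a) = _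
  rw [η, Functor.lanAdjunction_unit]

lemma exists_cls (H : Cᵒᵖ ⥤ Type u) {X : C} (x : ((L u).obj H).obj (op (u.obj X))) :
    ∃ (Y : C) (g : u.obj X ⟶ u.obj Y) (a : H.obj (op Y)), cls u H g a = x := by
  obtain ⟨f, a, rfl⟩ := Types.jointly_surjective_of_isColimit (isColimitAt u H (op (u.obj X))) x
  exact ⟨f.left.unop, f.hom.unop, a, (ι_eq u H f a).symm⟩

open scoped Classical in
/-- the value of the retraction on a representative. -/
noncomputable def val (H : Cᵒᵖ ⥤ Type u) (X : C) {Y : C} (g : u.obj X ⟶ u.obj Y) (a : H.obj (op Y)) :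
    H.obj (op X) ⊕ PUnit.{u + 1} :=
  if h : ∃ c : X ⟶ Y, u.map c = g then Sum.inl (H.map h.choose.op a) else Sum.inr PUnit.unit

lemma val_map (H : Cᵒᵖ ⥤ Type u) {X Y : C} (c : X ⟶ Y) (a : H.obj (op Y)) :
    val u H X (u.map c) a = Sum.inl (H.map c.op a) := by
  have h : ∃ c' : X ⟶ Y, u.map c' = u.map c := ⟨c, rfl⟩
  rw [val, dif_pos h, u.map_injective h.choose_spec]

include hu in
lemma val_comp (H : Cᵒᵖ ⥤ Type u) {X Y Y' : C} (e : Y' ⟶ Y) (g : u.obj X ⟶ u.obj Y') (a : H.obj (op Y)) :
    val u H X (g ≫ u.map e) a = val u H X g (H.map e.op a) := by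
  by_cases h : ∃ c : X ⟶ Y', u.map c = g
  · obtain ⟨c, rfl⟩ := h
    rw [← u.map_comp, val_map, val_map, op_comp, H.map_comp]
    rfl
  · have h' : ¬ ∃ c : X ⟶ Y, u.map c = g ≫ u.map e := by
      rintro ⟨c, hc⟩
      haveI := hu Y
      obtain ⟨φ, hφ⟩ := (Over.post (X := Y) u).map_surjective
        (X := Over.mk c) (Y := Over.mk e) (Over.homMk g hc.symm)
      exact h ⟨φ.left, congrArg CommaMorphism.left hφ⟩
    rw [val, dif_neg h', val, dif_neg h]

/-- the cocone defining the retraction. -/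
noncomputable def retrCocone (H : Cᵒᵖ ⥤ Type u) (X : C) :
    Cocone (CostructuredArrow.proj u.op (op (u.obj X)) ⋙ H) where
  pt := H.obj (op X) ⊕ PUnit.{u + 1}
  ι :=
    { app := fun f => ↾fun a => val u H X f.hom.unop a
      naturality := fun f f' φ => by
        ext a
        show val u H X f'.hom.unop (H.map φ.left a) = val u H X f.hom.unop a
        have hw : f.hom.unop = f'.hom.unop ≫ u.map φ.left.unop := congrArg Quiver.Hom.unop (CostructuredArrow.w φ).symm
        rw [hw, val_comp u hu]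
        rfl }

/-- the retraction. -/
noncomputable def retr (H : Cᵒᵖ ⥤ Type u) (X : C) :
    ((L u).obj H).obj (op (u.obj X)) ⟶ H.obj (op X) ⊕ PUnit.{u + 1} :=
  (isColimitAt u H (op (u.obj X))).desc (retrCocone u hu H X)

lemma retr_cls (H : Cᵒᵖ ⥤ Type u) {X Y : C} (g : u.obj X ⟶ u.obj Y) (a : H.obj (op Y)) :
    retr u hu H X (cls u H g a) = val u H X g a := by
  let f : CostructuredArrow u.op (op (u.obj X)) := CostructuredArrow.mk (Y := op Y) g.op
  refine (congrArg (retr u hu H X) (ι_eq u H f a).symm).trans ?_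
  exact ConcreteCategory.congr_hom ((isColimitAt u H (op (u.obj X))).fac (retrCocone u hu H X) f) a

lemma cls_map (H : Cᵒᵖ ⥤ Type u) {X Y : C} (c : X ⟶ Y) (a : H.obj (op Y)) :
    cls u H (u.map c) a = (η u H).app (op X) (H.map c.op a) :=
  (NatTrans.naturality_apply (η u H) c.op a).symm

lemma retr_unit (H : Cᵒᵖ ⥤ Type u) {X : C} (a : H.obj (op X)) :
    retr u hu H X ((η u H).app (op X) a) = Sum.inl a := by
  have h1 : (η u H).app (op X) a = cls u H (u.map (𝟙 X)) a := by
    rw [cls_map, op_id, H.map_id]; rfl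
  rw [h1, retr_cls, val_map, op_id, H.map_id]
  rfl

include hu in
theorem unit_injective (H : Cᵒᵖ ⥤ Type u) (Z : Cᵒᵖ) : Function.Injective ((η u H).app Z) := by
  induction Z with
  | op X =>
    intro a b hab
    have := congrArg (retr u hu H X) hab
    rw [retr_unit, retr_unit] at this
    exact Sum.inl_injective this

include hu in
theorem mono_unit (H : Cᵒᵖ ⥤ Type u) : Mono (η u H) := by
  haveI : ∀ Z, Mono ((η u H).app Z) := fun Z => (mono_iff_injective _).2 (unit_injective u hu H Z)
  exact NatTrans.mono_of_mono_app _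

include hu in
theorem faithful : (L u).Faithful :=
  ⟨fun {H K} f g h => by
    haveI := mono_unit u hu K
    rw [← cancel_mono (η u K)]
    have e : ∀ k : H ⟶ K, k ≫ η u K =
        η u H ≫ ((Functor.whiskeringLeft Cᵒᵖ C'ᵒᵖ (Type u)).obj u.op).map ((L u).map k) :=
      fun k => (u.op.lanAdjunction (Type u)).unit.naturality k
    rw [e f, e g, h]⟩

lemma map_cls {H K : Cᵒᵖ ⥤ Type u} (α : H ⟶ K) {X Y : C} (g : u.obj X ⟶ u.obj Y) (a : H.obj (op Y)) :
    ((L u).map α).app (op (u.obj X)) (cls u H g a) = cls u K g (α.app (op Y) a) := by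
  refine (NatTrans.naturality_apply ((L u).map α) g.op _).trans (congrArg (((L u).obj K).map g.op) ?_)
  exact (ConcreteCategory.congr_hom (NatTrans.congr_app ((u.op.lanAdjunction (Type u)).unit.naturality α) (op Y)) a).symm

include hu in
theorem isPullback (H K : Cᵒᵖ ⥤ Type u) (α : H ⟶ K) :
    IsPullback (η u H) α (((Functor.whiskeringLeft Cᵒᵖ C'ᵒᵖ (Type u)).obj u.op).map ((L u).map α)) (η u K) := by
  refine IsPullback.of_forall_isPullback_app fun Z => ?_
  induction Z with
  | op X =>
    rw [Types.isPullback_iff]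
    refine ⟨?_, fun a b h => unit_injective u hu H _ h.1, fun x k h => ?_⟩
    · exact (NatTrans.congr_app ((u.op.lanAdjunction (Type u)).unit.naturality α) (op X)).symm
    · obtain ⟨Y, g, a, rfl⟩ := exists_cls u H x
      have h' := congrArg (retr u hu K X) h
      change retr u hu K X (((L u).map α).app (op (u.obj X)) (cls u H g a)) = _ at h'
      rw [map_cls, retr_cls, retr_unit] at h'
      by_cases hg : ∃ c : X ⟶ Y, u.map c = g
      · obtain ⟨c, rfl⟩ := hg
        rw [val_map] at h'
        refine ⟨H.map c.op a, (cls_map u H c a).symm, ?_⟩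
        exact (NatTrans.naturality_apply α c.op a).trans (Sum.inl_injective h')
      · rw [val, dif_neg hg] at h'
        exact absurd h' Sum.inr_ne_inl

end Groth.L09.LanSlice
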