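import Groth.Agent.L09.SpaceDescent
import Groth.Agent.L09.DerivedTransport
import Mathlib.CategoryTheory.Sites.Abelian
import Mathlib.CategoryTheory.Abelian.GrothendieckCategory.EnoughInjectives
import Mathlib.CategoryTheory.Abelian.GrothendieckAxioms.Sheaf

/-!
Cohomological descent of an augmented family of spaces through injective resolutions.
-/

set_option autoImplicit false
set_option linter.unusedSectionVars false
set_option backward.isDefEq.respectTransparency false
set_option backward.isDefEq.respectTransparency.types false
universe u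
open CategoryTheory CategoryTheory.Limits Opposite Pseudofunctor.CoGrothendieck TopologicalSpace
open Groth.L09.SpaceSite

namespace Groth.L09.SpaceCrit

variable {D : Type} [Category.{0} D] (Y : (WithInitial D)ᵒᵖ ⥤ TopCat.{u})

/-- Extension from the base space. -/
noncomputable abbrev Ext := FibSite.extend (FibDesc.topAug Y) (FibDesc.topAugTop Y) AddCommGrpCat.{u} (FibDesc.bot D)

/-- Restriction to the base space. -/
noncomputable abbrev Res := FibSite.restr (FibDesc.topAug Y) (FibDesc.topAugTop Y) AddCommGrpCat.{u} (FibDesc.bot D)

/-- The adjunction of extension and restriction. -/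
noncomputable abbrev ae : Ext Y ⊣ Res Y :=
  (FibDesc.eps (FibDesc.topAug Y)).sheafAdjunctionContinuous AddCommGrpCat.{u} (FibDesc.topAugTop Y (FibDesc.bot D)) (JA Y)

/-- Restriction to the part. -/
noncomputable abbrev I : Sheaf (JA Y) AddCommGrpCat.{u} ⥤ Sheaf (JP Y) AddCommGrpCat.{u} :=
  (FibDesc.incl (FibDesc.topAug Y)).sheafPushforwardContinuous AddCommGrpCat.{u} (JP Y) (JA Y)

/-- Right Kan extension from the part. -/
noncomputable abbrev I₁ : Sheaf (JP Y) AddCommGrpCat.{u} ⥤ Sheaf (JA Y) AddCommGrpCat.{u} :=
  (FibDesc.incl (FibDesc.topAug Y)).sheafPushforwardCocontinuous AddCommGrpCat.{u} (JP Y) (JA Y)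

/-- The adjunction of restriction and right Kan extension. -/
noncomputable abbrev ai : I Y ⊣ I₁ Y :=
  (FibDesc.incl (FibDesc.topAug Y)).sheafAdjunctionCocontinuous AddCommGrpCat.{u} (JP Y) (JA Y)

/-- The inverse image of the augmentation. -/
noncomputable abbrev pull := FibDesc.pull (FibDesc.topAug Y) (FibDesc.topAugTop Y) AddCommGrpCat.{u}

/-- The direct image of the augmentation. -/
noncomputable abbrev push := FibDesc.push (FibDesc.topAug Y) (FibDesc.topAugTop Y) AddCommGrpCat.{u}

/-- The adjunction of the augmentation. -/
noncomputable abbrev adj : pull Y ⊣ push Y := FibDesc.adj (FibDesc.topAug Y) (FibDesc.topAugTop Y) AddCommGrpCat.{u}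

instance preservesFiniteLimits_pull : PreservesFiniteLimits (pull Y) :=
  have : PreservesFiniteLimits (Ext Y) := Precomp.preservesFiniteLimits_pullback (FibDesc.eps (FibDesc.topAug Y))
  comp_preservesFiniteLimits (Ext Y) (I Y)

instance enoughInjectives_part : EnoughInjectives (Sheaf (JP Y) AddCommGrpCat.{u}) := inferInstance

instance additive_ext : (Ext Y).Additive := Precomp.additive_pullback _

attribute [local instance] HasDerivedCategory.standard

/-- Descent is computed by injective resolutions. -/
theorem isCohDescentTop_of_computes (h : DerivedCrit.Computes (adj Y)) : FibDesc.IsCohDescentTop Y :=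
  ⟨inferInstance, inferInstance, inferInstance, inferInstance, fun _ => inferInstance,
    preservesFiniteLimits_pull Y, DerivedCrit.bijective_of_computes (adj Y) h⟩

theorem computes_of_isCohDescentTop (h : FibDesc.IsCohDescentTop Y) : DerivedCrit.Computes (adj Y) := by
  obtain ⟨_, _, _, _, _, _, h⟩ := h
  exact DerivedCrit.computes_of_bijective (adj Y) h

end Groth.L09.SpaceCrit
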