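import Groth.Agent.L09.FamFlat
import Groth.Agent.L09.SpaceCrit
import Groth.Agent.L09.DerivedFF
import Mathlib.CategoryTheory.IsConnected
import Mathlib.CategoryTheory.Products.Basic

/-!
Descent for a diagram of augmented families of spaces is checked levelwise.
-/

set_option autoImplicit false
set_option linter.unusedSectionVars false
set_option linter.unusedVariables false
set_option backward.isDefEq.respectTransparency false
set_option backward.isDefEq.respectTransparency.types false
universe u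
open CategoryTheory CategoryTheory.Limits Opposite Pseudofunctor.CoGrothendieck TopologicalSpace

namespace Groth.L09.LevelDescent

open FamSite

variable {D : Type} [Category.{0} D] {P : Type} [Category.{0} P]
  (Z : (WithInitial D)ᵒᵖ × P ⥤ TopCat.{u})

/-- The base indices. -/
abbrev ε : P ⥤ (WithInitial D)ᵒᵖ × P := CategoryTheory.Prod.sectR (FibDesc.bot D) P

/-- The indices of the part. -/
abbrev ιP : Dᵒᵖ × P ⥤ (WithInitial D)ᵒᵖ × P := (FibDesc.toAug D).prod (𝟭 P)

/-- One augmented family. -/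
abbrev col (n : P) : (WithInitial D)ᵒᵖ ⥤ TopCat.{u} := CategoryTheory.Prod.sectL (WithInitial D)ᵒᵖ n ⋙ Z

/-- Extension from the base diagram. -/
noncomputable abbrev Ext :=
  (reindex Z (ε (D := D))).sheafPullback AddCommGrpCat.{u} (JT (ε (D := D) ⋙ Z)) (JT Z)

/-- Restriction to the base diagram. -/
noncomputable abbrev Res :=
  (reindex Z (ε (D := D))).sheafPushforwardContinuous AddCommGrpCat.{u} (JT (ε (D := D) ⋙ Z)) (JT Z)

/-- The adjunction. -/
noncomputable abbrev ae : Ext Z ⊣ Res Z :=
  (reindex Z (ε (D := D))).sheafAdjunctionContinuous AddCommGrpCat.{u} (JT (ε (D := D) ⋙ Z)) (JT Z)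

/-- Restriction to the part. -/
noncomputable abbrev I :=
  (reindex Z (ιP (D := D) (P := P))).sheafPushforwardContinuous AddCommGrpCat.{u} (JT (ιP (D := D) ⋙ Z)) (JT Z)

/-- Right Kan extension from the part. -/
noncomputable abbrev I₁ :=
  (reindex Z (ιP (D := D) (P := P))).sheafPushforwardCocontinuous AddCommGrpCat.{u} (JT (ιP (D := D) ⋙ Z)) (JT Z)

/-- The adjunction. -/
noncomputable abbrev ai : I Z ⊣ I₁ Z :=
  (reindex Z (ιP (D := D) (P := P))).sheafAdjunctionCocontinuous AddCommGrpCat.{u} (JT (ιP (D := D) ⋙ Z)) (JT Z)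

/-- The inverse image of the diagram of augmentations. -/
noncomputable abbrev G := Ext Z ⋙ I Z

/-- Its adjunction. -/
noncomputable abbrev adjG : G Z ⊣ I₁ Z ⋙ Res Z := (ae Z).comp (ai Z)

/-- The structured arrows to the base diagram. -/
def multiInitialε (k : (WithInitial D)ᵒᵖ × P) : MultiInitial (ε (D := D) (P := P)) k where
  H := Unit
  idx _ := ()
  idx_eq _ := rfl
  ini _ := StructuredArrow.mk (Y := k.2) (Prod.mkHom ((WithInitial.starInitial (C := D)).op.from k.1) (𝟙 k.2))
  toArr g := StructuredArrow.homMk g.hom.2 (Prod.ext ((SpaceSite.subsingleton_toBot _).elim _ _) (Category.id_comp _))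
  uniq _ g a b := StructuredArrow.ext _ _ (by
    have ha := congrArg Prod.snd (StructuredArrow.w a)
    have hb := congrArg Prod.snd (StructuredArrow.w b)
    exact ((Category.id_comp _).symm.trans ha).trans ((Category.id_comp _).symm.trans hb).symm)
  idx_uniq _ := rfl

/-- The structured arrows to one level of the part. -/
def multiInitialSlice (n : P) (k : Dᵒᵖ × P) : MultiInitial (CategoryTheory.Prod.sectL Dᵒᵖ n) k where
  H := k.2 ⟶ n
  idx g := g.hom.2
  idx_eq {g g'} f := (Category.comp_id _).symm.trans (congrArg Prod.snd (StructuredArrow.w f))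
  ini h := StructuredArrow.mk (Y := k.1) (Prod.mkHom (𝟙 k.1) h)
  toArr g := StructuredArrow.homMk g.hom.1 (Prod.ext (Category.id_comp _) (Category.comp_id _))
  uniq _ g a b := StructuredArrow.ext _ _ (by
    have ha := congrArg Prod.fst (StructuredArrow.w a)
    have hb := congrArg Prod.fst (StructuredArrow.w b)
    exact ((Category.id_comp _).symm.trans ha).trans ((Category.id_comp _).symm.trans hb).symm)
  idx_uniq _ := rfl

instance preservesFiniteLimits_G : PreservesFiniteLimits (G Z) :=
  have : PreservesFiniteLimits (Ext Z) :=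
    MultiFlat.preservesFiniteLimits_pullback _ _ _ (isMultiFlat_reindex Z _ multiInitialε)
  comp_preservesFiniteLimits (Ext Z) (I Z)

instance preservesFiniteColimits_G : PreservesFiniteColimits (G Z) :=
  have : PreservesFiniteColimits (I Z) := Precomp.preservesFiniteColimits _
  comp_preservesFiniteColimits (Ext Z) (I Z)

variable (n : P)

/-- One level in the augmented diagram. -/
noncomputable abbrev sliceA : ∫ᶜ (FibDesc.topAug (col Z n)) ⥤ Tot Z :=
  reindex Z (CategoryTheory.Prod.sectL (WithInitial D)ᵒᵖ n)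

/-- One level in the part. -/
noncomputable abbrev sliceP : ∫ᶜ (FibDesc.part (FibDesc.topAug (col Z n))) ⥤ Tot (ιP (D := D) ⋙ Z) :=
  reindex (ιP (D := D) (P := P) ⋙ Z) (CategoryTheory.Prod.sectL Dᵒᵖ n)

instance sliceA_isContinuous : (sliceA Z n).IsContinuous (SpaceSite.JA (col Z n)) (JT Z) :=
  reindex_isContinuous Z (CategoryTheory.Prod.sectL (WithInitial D)ᵒᵖ n)

instance sliceA_isCocontinuous : (sliceA Z n).IsCocontinuous (SpaceSite.JA (col Z n)) (JT Z) :=
  reindex_isCocontinuous Z (CategoryTheory.Prod.sectL (WithInitial D)ᵒᵖ n)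

instance sliceP_isContinuous : (sliceP Z n).IsContinuous (SpaceSite.JP (col Z n)) (JT (ιP (D := D) ⋙ Z)) :=
  reindex_isContinuous (ιP (D := D) (P := P) ⋙ Z) (CategoryTheory.Prod.sectL Dᵒᵖ n)

instance sliceP_isCocontinuous : (sliceP Z n).IsCocontinuous (SpaceSite.JP (col Z n)) (JT (ιP (D := D) ⋙ Z)) :=
  reindex_isCocontinuous (ιP (D := D) (P := P) ⋙ Z) (CategoryTheory.Prod.sectL Dᵒᵖ n)

/-- The opens of one space of the base diagram. -/
noncomputable abbrev inclB : Opens (Z.obj ((FibDesc.bot D), n)) ⥤ Tot (ε (D := D) ⋙ Z) := inclFib (ε (D := D) ⋙ Z) n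

instance inclB_isContinuous :
    Functor.IsContinuous (C := Opens (Z.obj ((FibDesc.bot D), n))) (inclB Z n)
      (Opens.grothendieckTopology (Z.obj ((FibDesc.bot D), n))) (JT (ε (D := D) ⋙ Z)) :=
  inclFib_isContinuous (ε (D := D) ⋙ Z) n

instance inclB_isContinuous' :
    (inclB Z n).IsContinuous (FibDesc.topAugTop (col Z n) (FibDesc.bot D)) (JT (ε (D := D) ⋙ Z)) :=
  inclFib_isContinuous (ε (D := D) ⋙ Z) n

instance inclB_isCocontinuous :
    Functor.IsCocontinuous (C := Opens (Z.obj ((FibDesc.bot D), n))) (inclB Z n)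
      (Opens.grothendieckTopology (Z.obj ((FibDesc.bot D), n))) (JT (ε (D := D) ⋙ Z)) :=
  inclFib_isCocontinuous (ε (D := D) ⋙ Z) n

instance eps_isContinuous_opens :
    Functor.IsContinuous (C := Opens (Z.obj ((FibDesc.bot D), n))) (ι (FibDesc.topAug (col Z n)) (FibDesc.bot D))
      (Opens.grothendieckTopology (Z.obj ((FibDesc.bot D), n))) (SpaceSite.JA (col Z n)) :=
  SpaceSite.eps_isContinuous (col Z n)

instance sliceA_isContinuous' : (sliceA Z n).IsContinuous (SpaceSite.JA (col Z n)) (JT Z) := sliceA_isContinuous Z n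

/-- The square at the base. -/
noncomputable def eB :
    FibDesc.eps (FibDesc.topAug (col Z n)) ⋙ sliceA Z n ≅ inclB Z n ⋙ reindex Z (ε (D := D)) :=
  NatIso.ofComponents (fun _ => Iso.refl _) fun _ => FamSite.hom_ext (by
    show Prod.mkHom (𝟙 (FibDesc.bot D)) (𝟙 n) ≫ 𝟙 _ = 𝟙 _ ≫ Prod.mkHom (𝟙 (FibDesc.bot D)) (𝟙 n)
    simp)

/-- The square of the parts. -/
noncomputable def eI : sliceP Z n ⋙ reindex Z (ιP (D := D) (P := P)) ≅
    FibDesc.incl (FibDesc.topAug (col Z n)) ⋙ sliceA Z n :=
  NatIso.ofComponents (fun _ => Iso.refl _) fun {X Y} f => FamSite.hom_ext (by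
    show Prod.mkHom ((FibDesc.toAug D).map f.base) (𝟙 n) ≫ 𝟙 _ = 𝟙 _ ≫ Prod.mkHom ((FibDesc.toAug D).map f.base) (𝟙 n)
    simp)

/-- Structured arrows of the square at the base. -/
lemma initial_ΦB (x : Tot (ε (D := D) ⋙ Z)) : (SheafBC.Φ (eB Z n) x).Initial where
  out d := by
    let m := d.right.unop
    let h : n ⟶ x.base := d.hom.unop.base.2
    have hle := SpaceSite.hom_le (Y := col Z n) (𝟙 m)
    let W₀ : Opens (Z.obj ((FibDesc.bot D), n)) := (Opens.map ((ε (D := D) ⋙ Z).map h)).obj (ob x)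
    let g₀ : StructuredArrow (op x) (inclB Z n).op :=
      StructuredArrow.mk (Y := op W₀) (FamSite.hom (Z := ε (D := D) ⋙ Z) (X := mk (Z := ε (D := D) ⋙ Z) n W₀) (Y := x) h le_rfl).op
    let p : m.base ⟶ FibDesc.bot D := (WithInitial.starInitial (C := D)).op.from m.base
    have hk : SpaceSite.ob m ≤ (Opens.map ((col Z n).map p)).obj W₀ := fun z hz => by
      show Z.map (Prod.mkHom (𝟙 (FibDesc.bot D)) h) (Z.map (Prod.mkHom p (𝟙 n)) z) ∈ ob x
      rw [map_map_apply]
      have e : (Prod.mkHom p (𝟙 n) ≫ Prod.mkHom (𝟙 (FibDesc.bot D)) h) = d.hom.unop.base :=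
        Prod.ext ((SpaceSite.subsingleton_toBot _).elim _ _) (Category.id_comp _)
      rw [e]
      exact FamSite.hom_le d.hom.unop hz
    let c₀ : CostructuredArrow (SheafBC.Φ (eB Z n) x) d :=
      CostructuredArrow.mk (Y := g₀) (StructuredArrow.homMk (SpaceSite.hom (X := m)
        (Z := (FibDesc.eps (FibDesc.topAug (col Z n))).obj W₀) p hk).op (Quiver.Hom.unop_inj (FamSite.hom_ext
          (Prod.ext ((SpaceSite.subsingleton_toBot _).elim _ _) (by
            show 𝟙 n ≫ 𝟙 n ≫ h = h
            simp)))))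
    have : Nonempty (CostructuredArrow (SheafBC.Φ (eB Z n) x) d) := ⟨c₀⟩
    have key : ∀ c : CostructuredArrow (SheafBC.Φ (eB Z n) x) d, Nonempty (c₀ ⟶ c) := fun c => by
      have hh : c.left.hom.unop.base = h := by
        have e := congrArg Prod.snd (congrArg (fun z => z.unop.base) (StructuredArrow.w c.hom))
        exact ((show 𝟙 n ≫ 𝟙 n ≫ c.left.hom.unop.base = c.left.hom.unop.base by simp).symm).trans e
      let W : Opens (Z.obj ((FibDesc.bot D), n)) := c.left.right.unop
      have hW : W ≤ W₀ := fun z hz => by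
        have h' := FamSite.hom_le c.left.hom.unop hz
        rw [hh] at h'
        exact h'
      refine ⟨CostructuredArrow.homMk (StructuredArrow.homMk (SpaceSite.le_hom hW).op
        (Quiver.Hom.unop_inj (FamSite.hom_ext ((Category.id_comp _).trans hh.symm).symm.symm)))
        (StructuredArrow.ext _ _ (Quiver.Hom.unop_inj (SpaceSite.hom_ext ((SpaceSite.subsingleton_toBot _).elim _ _))))⟩
    exact zigzag_isConnected fun c c' => Relation.ReflTransGen.trans (.single (Or.inr (key c))) (.single (Or.inl (key c')))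

/-- Structured arrows of the square of the parts over the base point. -/
lemma initial_ΦI (U : Opens (Z.obj ((FibDesc.bot D), n))) :
    (SheafBC.Φ (eI Z n) ((FibDesc.eps (FibDesc.topAug (col Z n))).obj U)).Initial where
  out d := by
    let x := (FibDesc.eps (FibDesc.topAug (col Z n))).obj U
    let q := d.right.unop
    let h : q.base.2 ⟶ n := d.hom.unop.base.2
    let p : ∀ i : (WithInitial D)ᵒᵖ, i ⟶ FibDesc.bot D := fun i => (WithInitial.starInitial (C := D)).op.from i
    let top : ∀ i : Dᵒᵖ, ∫ᶜ (FibDesc.part (FibDesc.topAug (col Z n))) := fun i =>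
      SpaceSite.mkP i ((Opens.map ((col Z n).map (p ((FibDesc.toAug D).obj i)))).obj U)
    let g : ∀ i : Dᵒᵖ, StructuredArrow (op x) (FibDesc.incl (FibDesc.topAug (col Z n))).op := fun i =>
      StructuredArrow.mk (Y := op (top i)) (SpaceSite.hom (X := (FibDesc.incl (FibDesc.topAug (col Z n))).obj (top i))
        (Z := x) (p _) le_rfl).op
    have hk : ∀ (i : Dᵒᵖ) (k : q.base.1 ⟶ i),
        ob q ≤ (Opens.map ((ιP (D := D) ⋙ Z).map (Prod.mkHom k h : q.base ⟶ (i, n)))).obj (SpaceSite.obP (top i)) := fun i k z hz => by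
      show Z.map (Prod.mkHom (p _) (𝟙 n)) (Z.map (Prod.mkHom ((FibDesc.toAug D).map k) h) z) ∈ U
      rw [map_map_apply]
      have e : (Prod.mkHom ((FibDesc.toAug D).map k) h ≫ Prod.mkHom (p _) (𝟙 n)) = d.hom.unop.base :=
        Prod.ext ((SpaceSite.subsingleton_toBot _).elim _ _) (Category.comp_id _)
      rw [e]
      exact FamSite.hom_le d.hom.unop hz
    let c : ∀ (i : Dᵒᵖ) (k : q.base.1 ⟶ i), CostructuredArrow (SheafBC.Φ (eI Z n) x) d := fun i k =>
      CostructuredArrow.mk (Y := g i) (StructuredArrow.homMk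
        (FamSite.hom (Z := ιP (D := D) ⋙ Z) (X := q) (Y := (sliceP Z n).obj (top i)) (Prod.mkHom k h) (hk i k)).op
        (Quiver.Hom.unop_inj (FamSite.hom_ext (Prod.ext ((SpaceSite.subsingleton_toBot _).elim _ _) (by
          show h ≫ 𝟙 n ≫ 𝟙 n = h
          simp)))))
    have : Nonempty (CostructuredArrow (SheafBC.Φ (eI Z n) x) d) := ⟨c q.base.1 (𝟙 _)⟩
    have key : ∀ a : CostructuredArrow (SheafBC.Φ (eI Z n) x) d,
        Zigzag a (c q.base.1 (𝟙 _)) := fun a => by
      let i := a.left.right.unop.base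
      let k : q.base.1 ⟶ i := a.hom.right.unop.base.1
      have hsnd : a.hom.right.unop.base.2 = h := by
        have e := congrArg Prod.snd (congrArg (fun z => z.unop.base) (StructuredArrow.w a.hom))
        exact ((congrArg (a.hom.right.unop.base.2 ≫ ·) (Category.id_comp (𝟙 n))).trans (Category.comp_id _)).symm.trans e
      have hi : SpaceSite.obP a.left.right.unop ≤
          (Opens.map ((col Z n).map ((FibDesc.toAug D).map (𝟙 i)))).obj (SpaceSite.obP (top i)) := fun z hz => by
        have h' := SpaceSite.hom_le a.left.hom.unop hz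
        rw [(SpaceSite.subsingleton_toBot _).elim a.left.hom.unop.base (p ((FibDesc.toAug D).obj i))] at h'
        rw [CategoryTheory.Functor.map_id, CategoryTheory.Functor.map_id]
        exact h'
      have ht : SpaceSite.obP (top q.base.1) ≤
          (Opens.map ((col Z n).map ((FibDesc.toAug D).map k))).obj (SpaceSite.obP (top i)) := fun z hz => by
        show (col Z n).map (p _) ((col Z n).map ((FibDesc.toAug D).map k) z) ∈ U
        rw [map_map_apply, (SpaceSite.subsingleton_toBot _).elim (_ ≫ p _) (p ((FibDesc.toAug D).obj q.base.1))]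
        exact hz
      have m₁ : c i k ⟶ a := CostructuredArrow.homMk
        (StructuredArrow.homMk (SpaceSite.homP (X := a.left.right.unop) (Z := top i) (𝟙 i) hi).op
          (Quiver.Hom.unop_inj (SpaceSite.hom_ext ((SpaceSite.subsingleton_toBot _).elim _ _))))
        (StructuredArrow.ext _ _ (Quiver.Hom.unop_inj (FamSite.hom_ext
          (Prod.ext (Category.comp_id _) ((Category.comp_id _).trans hsnd)))))
      have m₂ : c i k ⟶ c q.base.1 (𝟙 _) := CostructuredArrow.homMk
        (StructuredArrow.homMk (SpaceSite.homP (X := top q.base.1) (Z := top i) k ht).op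
          (Quiver.Hom.unop_inj (SpaceSite.hom_ext ((SpaceSite.subsingleton_toBot _).elim _ _))))
        (StructuredArrow.ext _ _ (Quiver.Hom.unop_inj (FamSite.hom_ext
          (Prod.ext (Category.id_comp _) (Category.comp_id _)))))
      exact Relation.ReflTransGen.trans (.single (Or.inr ⟨m₁⟩)) (.single (Or.inl ⟨m₂⟩))
    exact zigzag_isConnected fun a b => (key a).trans (zigzag_symm.symm _ _ (key b))

lemma isMultiFlat_sliceP : MultiFlat.IsMultiFlat (sliceP Z n) :=
  isMultiFlat_reindex (ιP (D := D) (P := P) ⋙ Z) _ (multiInitialSlice n)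

/-- Restriction of sheaves on the base diagram to one level. -/
noncomputable abbrev rB :=
  (inclB Z n).sheafPushforwardContinuous AddCommGrpCat.{u}
    (Opens.grothendieckTopology (Z.obj ((FibDesc.bot D), n))) (JT (ε (D := D) ⋙ Z))

/-- Restriction of sheaves on the total site to one level. -/
noncomputable abbrev rA :=
  (sliceA Z n).sheafPushforwardContinuous AddCommGrpCat.{u} (SpaceSite.JA (col Z n)) (JT Z)

/-- Restriction of sheaves on the part to one level. -/
noncomputable abbrev rP :=
  (sliceP Z n).sheafPushforwardContinuous AddCommGrpCat.{u} (SpaceSite.JP (col Z n)) (JT (ιP (D := D) ⋙ Z))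

/-- The base square. -/
noncomputable abbrev θ₁ : Res Z ⋙ rB Z n ≅ rA Z n ⋙ SpaceCrit.Res (col Z n) :=
  SheafBC.θ (Opens.grothendieckTopology (Z.obj ((FibDesc.bot D), n))) (SpaceSite.JA (col Z n))
    (JT (ε (D := D) ⋙ Z)) (JT Z) AddCommGrpCat.{u} (eB Z n)

/-- The square of the parts. -/
noncomputable abbrev θ₂ : rA Z n ⋙ SpaceCrit.I (col Z n) ≅ I Z ⋙ rP Z n :=
  SheafBC.θ (SpaceSite.JP (col Z n)) (JT (ιP (D := D) ⋙ Z)) (SpaceSite.JA (col Z n)) (JT Z) AddCommGrpCat.{u} (eI Z n)

/-- The comparison of inverse images. -/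
noncomputable abbrev ν : rB Z n ⋙ SpaceCrit.pull (col Z n) ⟶ G Z ⋙ rP Z n :=
  DerivedCrit.νPaste (ae Z) (SpaceCrit.ae (col Z n)) (θ₁ Z n).hom (θ₂ Z n).hom

lemma isIso_ν : IsIso (ν Z n) := by
  have h1 : IsIso (DerivedCrit.ν₁ (ae Z) (SpaceCrit.ae (col Z n)) (θ₁ Z n).hom) :=
    DerivedCrit.isIso_ν₁ (ae Z) (SpaceCrit.ae (col Z n)) (θ₁ Z n).hom
      ((inclB Z n).sheafAdjunctionCocontinuous AddCommGrpCat.{u}
        (Opens.grothendieckTopology (Z.obj ((FibDesc.bot D), n))) (JT (ε (D := D) ⋙ Z)))
      ((sliceA Z n).sheafAdjunctionCocontinuous AddCommGrpCat.{u} (SpaceSite.JA (col Z n)) (JT Z))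
      (fun W => by
        have := fun x => initial_ΦB Z n x
        exact SheafBC.isIso_β (Opens.grothendieckTopology (Z.obj ((FibDesc.bot D), n))) (SpaceSite.JA (col Z n))
          (JT (ε (D := D) ⋙ Z)) (JT Z) AddCommGrpCat.{u} (eB Z n) W)
  have : ∀ L, IsIso ((ν Z n).app L) := fun L => by
    show IsIso ((SpaceCrit.I (col Z n)).map _ ≫ (θ₂ Z n).hom.app _)
    infer_instance
  exact NatIso.isIso_of_isIso_app _

lemma isIso_base (J : Sheaf (JT (ιP (D := D) ⋙ Z)) AddCommGrpCat.{u}) :
    IsIso (DerivedCrit.base (adjG Z) (SpaceCrit.adj (col Z n)) (ν Z n) J) := by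
  have h2 : IsIso ((sheafToPresheaf _ _).map ((SpaceCrit.Res (col Z n)).map
      (DerivedCrit.base₂ (ai Z) (SpaceCrit.ai (col Z n)) (θ₂ Z n).hom J))) := by
    refine @NatIso.isIso_of_isIso_app _ _ _ _ _ _ _ fun W => ?_
    have := initial_ΦI Z n W.unop
    exact SheafBC.isIso_β_app (SpaceSite.JP (col Z n)) (JT (ιP (D := D) ⋙ Z)) (SpaceSite.JA (col Z n)) (JT Z)
      AddCommGrpCat.{u} (eI Z n) J ((FibDesc.eps (FibDesc.topAug (col Z n))).obj W.unop)
  have := isIso_of_fully_faithful (sheafToPresheaf _ _)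
    ((SpaceCrit.Res (col Z n)).map (DerivedCrit.base₂ (ai Z) (SpaceCrit.ai (col Z n)) (θ₂ Z n).hom J))
  refine (congrArg (fun k => IsIso k) (DerivedCrit.base_paste (ae Z) (ai Z) (SpaceCrit.ae (col Z n))
    (SpaceCrit.ai (col Z n)) (θ₁ Z n).hom (θ₂ Z n).hom J)).mpr ?_
  infer_instance

lemma isIso_of_levels {E E' : Sheaf (JT (ε (D := D) ⋙ Z)) AddCommGrpCat.{u}} (f : E ⟶ E')
    (h : ∀ n, IsIso ((rB Z n).map f)) : IsIso f := by
  have : IsIso ((sheafToPresheaf _ _).map f) := by
    refine @NatIso.isIso_of_isIso_app _ _ _ _ _ _ _ fun x => ?_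
    have := h x.unop.base
    have : IsIso ((sheafToPresheaf _ _).map ((rB Z x.unop.base).map f)) := inferInstance
    exact inferInstanceAs (IsIso (((sheafToPresheaf _ _).map ((rB Z x.unop.base).map f)).app (op (ob x.unop))))
  exact isIso_of_fully_faithful (sheafToPresheaf _ _) f

attribute [local instance] HasDerivedCategory.standard

instance additive_G : (G Z).Additive :=
  have : (Ext Z).Additive := Precomp.additive_pullback _
  inferInstance

/-- Descent of every level gives full faithfulness for the diagram. -/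
theorem ff_G (h : ∀ n, FibDesc.IsCohDescentTop (col Z n)) : DerivedFF.FF (G Z) := by
  have hP : ∀ n, PreservesFiniteColimits (rP Z n) := fun n => Precomp.preservesFiniteColimits _
  have hB : ∀ n, PreservesFiniteColimits (rB Z n) := fun n => Precomp.preservesFiniteColimits _
  have : (I₁ Z ⋙ Res Z).Additive := Adjunction.right_adjoint_additive (adjG Z)
  have hc : DerivedCrit.Computes (adjG Z) := DerivedCrit.computes_of_family (adjG Z)
    (fun n => SpaceCrit.pull (col Z n)) (fun n => SpaceCrit.push (col Z n)) (fun n => SpaceCrit.adj (col Z n))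
    (fun n => rB Z n) (fun n => rP Z n)
    (fun f hf => isIso_of_levels Z f hf) (fun n => ν Z n) (fun n => isIso_ν Z n)
    (fun n J => isIso_base Z n J)
    (fun n J hJ => MultiFlat.injective_restrict (sliceP Z n) _ _ (isMultiFlat_sliceP Z n) J)
    (fun n => SpaceCrit.computes_of_isCohDescentTop _ (h n))
  exact DerivedCrit.bijective_of_computes (adjG Z) hc

end Groth.L09.LevelDescent
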