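import Mathlib.CategoryTheory.Adjunction.Reflective
import Mathlib.CategoryTheory.Sites.SheafOfTypes
import Mathlib.CategoryTheory.Sites.LocallyBijective
import Mathlib.CategoryTheory.ObjectProperty.FullSubcategory
import Mathlib.CategoryTheory.ObjectProperty.ClosedUnderIsomorphisms
import Mathlib.CategoryTheory.Limits.Preserves.Finite
import Mathlib.CategoryTheory.Limits.Shapes.Pullback.IsPullback.Basic
import Mathlib.CategoryTheory.Limits.Types.Pullbacks
import Mathlib.CategoryTheory.Limits.FunctorCategory.EpiMono

/-! A lex reflective subcategory of presheaves is the category of sheaves for a topology. -/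

set_option autoImplicit false
open CategoryTheory Category Limits Opposite
universe u

namespace Groth.L09.LexRefl

variable {C : Type u} [SmallCategory C] (P : ObjectProperty (Cᵒᵖ ⥤ Type u))
  [Reflective P.ι] [PreservesFiniteLimits (reflector P.ι)]

local notation "L" => reflector P.ι
local notation "adj" => reflectorAdjunction P.ι

def Cov (X : C) (S : Sieve X) : Prop := IsIso ((L).map S.functorInclusion)

lemma nat_unit {F G : Cᵒᵖ ⥤ Type u} (f : F ⟶ G) :
    f ≫ (adj).unit.app G = (adj).unit.app F ≫ P.ι.map ((L).map f) := (adj).unit.naturality f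

lemma cov_of_lift {X : C} (S R : Sieve X) (hS : Cov P X S)
    (h : ∀ (Y : Cᵒᵖ) (f : Y.unop ⟶ X), S f →
      ∃ r, (P.ι.map ((L).map R.functorInclusion)).app Y r = ((adj).unit.app (yoneda.obj X)).app Y f) :
    Cov P X R := by
  have : PreservesLimitsOfSize.{0, 0} P.ι :=
    (adj).rightAdjoint_preservesLimits
  have hm : Mono ((L).map R.functorInclusion) := inferInstance
  have hinj : ∀ Y, Function.Injective ((P.ι.map ((L).map R.functorInclusion)).app Y) := fun Y =>
    (CategoryTheory.mono_iff_injective _).mp inferInstance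
  choose r hr using h
  let l : S.functor ⟶ P.ι.obj ((L).obj R.functor) :=
    { app := fun Y => ↾fun f => r Y f.1 f.2
      naturality := fun Y Z i => by
        ext f
        apply hinj Z
        show (P.ι.map ((L).map R.functorInclusion)).app Z (r Z (i.unop ≫ f.1) _) =
          (P.ι.map ((L).map R.functorInclusion)).app Z ((P.ι.obj ((L).obj R.functor)).map i (r Y f.1 f.2))
        rw [hr, NatTrans.naturality_apply, hr]
        exact NatTrans.naturality_apply ((adj).unit.app (yoneda.obj X)) i f.1 }
  have hl : l ≫ P.ι.map ((L).map R.functorInclusion) = S.functorInclusion ≫ (adj).unit.app (yoneda.obj X) := by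
    ext Y f
    exact hr Y f.1 f.2
  let l' := ((adj).homEquiv _ _).symm l
  have hl' : l' ≫ (L).map R.functorInclusion = (L).map S.functorInclusion := by
    rw [← (adj).homEquiv_naturality_right_symm, hl, Equiv.symm_apply_eq, Adjunction.homEquiv_unit]
    exact nat_unit P _
  have : IsIso ((L).map S.functorInclusion) := hS
  have : IsSplitEpi ((L).map R.functorInclusion) :=
    IsSplitEpi.mk' ⟨CategoryTheory.inv ((L).map S.functorInclusion) ≫ l', by rw [assoc, hl', IsIso.inv_hom_id]⟩
  exact isIso_of_mono_of_isSplitEpi _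

lemma cov_top (X : C) : Cov P X ⊤ := by
  show IsIso _
  have : IsIso ((⊤ : Sieve X).functorInclusion) := by
    have : ∀ Y, IsIso ((⊤ : Sieve X).functorInclusion.app Y) := fun Y =>
      (isIso_iff_bijective _).mpr ⟨fun a b h => Subtype.ext h, fun f => ⟨⟨f, trivial⟩, rfl⟩⟩
    exact NatIso.isIso_of_isIso_app _
  infer_instance

def pb {X Y : C} (S : Sieve X) (f : Y ⟶ X) : (S.pullback f).functor ⟶ S.functor where
  app Z := ↾fun g => ⟨g.1 ≫ f, g.2⟩
  naturality Z W i := by
    ext g
    exact Subtype.ext (assoc _ _ _)

lemma isPullback_pullback {X Y : C} (S : Sieve X) (f : Y ⟶ X) :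
    IsPullback (pb S f)
      (S.pullback f).functorInclusion S.functorInclusion (yoneda.map f) := by
  refine ⟨⟨rfl⟩, ⟨evaluationJointlyReflectsLimits _ fun U => ?_⟩⟩
  refine (isLimitMapConePullbackConeEquiv _ _).symm ?_
  suffices h : IsPullback ((pb S f).app U) ((S.pullback f).functorInclusion.app U)
      (S.functorInclusion.app U) ((yoneda.map f).app U) from h.isLimit
  refine (Types.isPullback_iff _ _ _ _).mpr ⟨rfl, fun a b h => ?_, fun s g h => ?_⟩
  · obtain ⟨a, ha⟩ := a
    obtain ⟨b, hb⟩ := b
    obtain rfl : a = b := h.2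
    rfl
  exact ⟨⟨g, show S (g ≫ f) from (show s.1 = g ≫ f from h) ▸ s.2⟩, Subtype.ext (h : s.1 = g ≫ f).symm, rfl⟩

lemma cov_pullback {X Y : C} (S : Sieve X) (f : Y ⟶ X) (hS : Cov P X S) : Cov P Y (S.pullback f) :=
  haveI : IsIso ((L).map S.functorInclusion) := hS
  ((isPullback_pullback S f).map (L)).isIso_snd_of_isIso

def topology : GrothendieckTopology C where
  sieves X := {S | Cov P X S}
  top_mem' := cov_top P
  pullback_stable' _ _ S f hS := cov_pullback P S f hS
  transitive' X S hS R hR := by
    refine cov_of_lift P S R hS fun Y f hf => ?_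
    have : IsIso ((L).map (R.pullback f).functorInclusion) := hR hf
    let p := pb R f
    have hp : p ≫ R.functorInclusion = (R.pullback f).functorInclusion ≫ yoneda.map f := rfl
    let m := CategoryTheory.inv ((L).map (R.pullback f).functorInclusion) ≫ (L).map p
    have hm : m ≫ (L).map R.functorInclusion = (L).map (yoneda.map f) := by
      rw [assoc, ← Functor.map_comp, hp, Functor.map_comp, IsIso.inv_hom_id_assoc]
    refine ⟨(P.ι.map m).app Y (((adj).unit.app (yoneda.obj Y.unop)).app Y (𝟙 _)), ?_⟩
    have e2 := NatTrans.congr_app (nat_unit P (yoneda.map f)) Y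
    have h2 := ConcreteCategory.congr_hom e2 (𝟙 Y.unop : Y.unop ⟶ Y.unop)
    have h1' : P.ι.map m ≫ P.ι.map ((L).map R.functorInclusion) = P.ι.map ((L).map (yoneda.map f)) :=
      (P.ι.map_comp _ _).symm.trans (congrArg P.ι.map hm)
    exact (ConcreteCategory.congr_hom (NatTrans.congr_app h1' Y) _).trans (h2.symm.trans (congrArg (fun t => ((adj).unit.app (yoneda.obj X)).app Y t) (id_comp f)))

lemma mem_topology {X : C} (S : Sieve X) : S ∈ topology P X ↔ IsIso ((L).map S.functorInclusion) := Iff.rfl

lemma isSheaf_obj (F : P.FullSubcategory) : Presieve.IsSheaf (topology P) (P.ι.obj F) := by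
  intro X S hS
  have : IsIso ((L).map S.functorInclusion) := hS
  rw [Presieve.isSheafFor_iff_yonedaSheafCondition]
  intro g
  refine ⟨(adj).homEquiv _ _ (CategoryTheory.inv ((L).map S.functorInclusion) ≫ ((adj).homEquiv _ _).symm g), ?_, fun k hk => ?_⟩
  · show S.functorInclusion ≫ _ = g
    rw [← (adj).homEquiv_naturality_left, IsIso.hom_inv_id_assoc, Equiv.apply_symm_apply]
  · have hk' : S.functorInclusion ≫ k = g := hk
    rw [← hk', (adj).homEquiv_naturality_left_symm, IsIso.inv_hom_id_assoc, Equiv.apply_symm_apply]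

lemma unit_isLocallyInjective (F : Cᵒᵖ ⥤ Type u) :
    Presheaf.IsLocallyInjective (topology P) ((adj).unit.app F) where
  equalizerSieve_mem {X} a b h := by
    obtain ⟨X⟩ := X
    show IsIso ((L).map _)
    let a' : yoneda.obj X ⟶ F := yonedaEquiv.symm a
    let b' : yoneda.obj X ⟶ F := yonedaEquiv.symm b
    let E := Presheaf.equalizerSieve (D := Type u) (F := F) (X := op X) a b
    have hw : E.functorInclusion ≫ a' = E.functorInclusion ≫ b' := by
      ext Y f
      exact f.2
    have hlim : IsLimit (Fork.ofι E.functorInclusion hw) :=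
      Fork.IsLimit.mk' _ fun s =>
        ⟨{ app := fun Y => ↾fun z => ⟨s.ι.app Y z, (ConcreteCategory.congr_hom (NatTrans.congr_app s.condition Y) z :)⟩
           naturality := fun Y Z i => by
            ext z
            exact Subtype.ext ((NatTrans.naturality_apply s.ι i z :)) },
         rfl, fun {m} hm => by
          ext Y z
          exact Subtype.ext ((ConcreteCategory.congr_hom (NatTrans.congr_app hm Y) z :))⟩
    have hab : (L).map a' = (L).map b' := by
      apply ((adj).homEquiv _ _).injective
      rw [Adjunction.homEquiv_unit, Adjunction.homEquiv_unit, ← nat_unit, ← nat_unit]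
      apply yonedaEquiv.injective
      rw [yonedaEquiv_comp, yonedaEquiv_comp]
      simp only [a', b', Equiv.apply_symm_apply]
      exact h
    exact isIso_limit_cone_parallelPair_of_eq hab (isLimitForkMapOfIsLimit (L) hw hlim)

lemma unit_isLocallySurjective (F : Cᵒᵖ ⥤ Type u) :
    Presheaf.IsLocallySurjective (topology P) ((adj).unit.app F) where
  imageSieve_mem {X} s := by
    show IsIso ((L).map _)
    let η := (adj).unit.app F
    let x : yoneda.obj X ⟶ _ := yonedaEquiv.symm s
    let q := pullback.snd η x
    let S := Presheaf.imageSieve η s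
    have hη : IsIso ((L).map η) := by
      have := (adj).left_triangle_components F
      have h2 : IsIso ((L).map η ≫ (adj).counit.app ((L).obj F)) := by rw [this]; exact IsIso.id _
      exact IsIso.of_isIso_comp_right _ ((adj).counit.app ((L).obj F))
    have : IsIso ((L).map q) := ((IsPullback.of_hasPullback η x).map (L)).isIso_snd_of_isIso
    let k : pullback η x ⟶ S.functor :=
      { app := fun Y => ↾fun z => ⟨q.app Y z, (pullback.fst η x).app Y z,
          (ConcreteCategory.congr_hom (NatTrans.congr_app (pullback.condition (f := η) (g := x)) Y) z).trans rfl⟩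
        naturality := fun Y Z i => by
          ext z
          exact Subtype.ext ((NatTrans.naturality_apply q i z :)) }
    have hk : k ≫ S.functorInclusion = q := rfl
    have : IsSplitEpi ((L).map S.functorInclusion) :=
      IsSplitEpi.mk' ⟨CategoryTheory.inv ((L).map q) ≫ (L).map k, by
        rw [assoc, ← Functor.map_comp, hk, IsIso.inv_hom_id]⟩
    exact isIso_of_mono_of_isSplitEpi _

lemma prop_of_isSheaf [P.IsClosedUnderIsomorphisms] (F : Cᵒᵖ ⥤ Type u) (hF : Presieve.IsSheaf (topology P) F) : P F := by
  let F' : Sheaf (topology P) (Type u) := ⟨F, (isSheaf_iff_isSheaf_of_type _ _).mpr hF⟩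
  let G' : Sheaf (topology P) (Type u) := ⟨P.ι.obj ((L).obj F), (isSheaf_iff_isSheaf_of_type _ _).mpr (isSheaf_obj P _)⟩
  let φ : F' ⟶ G' := ⟨(adj).unit.app F⟩
  have : IsIso φ := (Sheaf.isLocallyBijective_iff_isIso φ).mp ⟨unit_isLocallyInjective P F, unit_isLocallySurjective P F⟩
  exact P.prop_of_iso ((sheafToPresheaf _ _).mapIso (asIso φ)).symm ((L).obj F).2

end Groth.L09.LexRefl

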