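import Mathlib.CategoryTheory.Adjunction.Basic

/-!
A criterion for a transposed transformation to be an isomorphism on the image of a left adjoint.
-/

set_option autoImplicit false
universe v₁ v₂ v₃ u₁ u₂ u₃

open CategoryTheory Category

namespace Groth.L09.MateUnit

variable {A : Type u₁} [Category.{v₁} A] {Q : Type u₂} [Category.{v₂} Q] {B : Type u₃} [Category.{v₃} B]
  {Γ : A ⥤ Q} {Γr : Q ⥤ A} (ag : Γ ⊣ Γr) {Aa : Q ⥤ A} {Au : A ⥤ Q} (aa : Aa ⊣ Au) {D : Q ⥤ A}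
  (t : 𝟭 A ⟶ Γ ⋙ D) (κ : Au ⋙ D ⟶ 𝟭 A)

/-- The transformation to `Γ ⋙ Aa`. -/
def η : 𝟭 A ⟶ Γ ⋙ Aa where
  app E := t.app E ≫ D.map (aa.unit.app (Γ.obj E)) ≫ κ.app (Aa.obj (Γ.obj E))
  naturality E E' f := by
    have h1 : f ≫ t.app E' = t.app E ≫ D.map (Γ.map f) := t.naturality f
    have h2 : Γ.map f ≫ aa.unit.app (Γ.obj E') = aa.unit.app (Γ.obj E) ≫ Au.map (Aa.map (Γ.map f)) :=
      aa.unit.naturality (Γ.map f)
    have h3 : D.map (Au.map (Aa.map (Γ.map f))) ≫ κ.app (Aa.obj (Γ.obj E')) =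
        κ.app (Aa.obj (Γ.obj E)) ≫ Aa.map (Γ.map f) := κ.naturality _
    simp only [Functor.id_map, Functor.comp_map, assoc]
    rw [reassoc_of% h1, ← D.map_comp_assoc, h2, D.map_comp_assoc, h3]

/-- The transposed transformation. -/
def μ (Z : A) : Γr.obj (Au.obj Z) ⟶ Z :=
  t.app (Γr.obj (Au.obj Z)) ≫ D.map (ag.counit.app (Au.obj Z)) ≫ κ.app Z

lemma η_comp {E Z : A} (g : Aa.obj (Γ.obj E) ⟶ Z) :
    (η aa t κ).app E ≫ g = ag.homEquiv _ _ (aa.homEquiv _ _ g) ≫ μ ag t κ Z := by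
  let g₁ := aa.homEquiv _ _ g
  let g₂ := ag.homEquiv _ _ g₁
  have e₁ : g₁ = aa.unit.app (Γ.obj E) ≫ Au.map g := aa.homEquiv_unit _ _ _
  have e₂ : Γ.map g₂ ≫ ag.counit.app (Au.obj Z) = g₁ :=
    ((ag.homEquiv_counit _ _ _).symm.trans ((ag.homEquiv _ _).symm_apply_apply g₁))
  have h3 : D.map (Au.map g) ≫ κ.app Z = κ.app (Aa.obj (Γ.obj E)) ≫ g := κ.naturality g
  have h1 : g₂ ≫ t.app (Γr.obj (Au.obj Z)) = t.app E ≫ D.map (Γ.map g₂) := t.naturality g₂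
  simp only [η, μ, assoc]
  show _ = g₂ ≫ _
  rw [reassoc_of% h1, ← D.map_comp_assoc, e₂, e₁, D.map_comp_assoc, h3]

/-- The variant through a second category. -/
def η₀ {P : Type u₃} [Category.{v₃} P] {Γ₀ : P ⥤ Q} {I : A ⥤ P} (t₀ : 𝟭 P ⟶ Γ₀ ⋙ D ⋙ I) : 𝟭 P ⟶ (Γ₀ ⋙ Aa) ⋙ I where
  app E := t₀.app E ≫ I.map (D.map (aa.unit.app (Γ₀.obj E))) ≫ I.map (κ.app (Aa.obj (Γ₀.obj E)))
  naturality E E' f := by
    have h1 : f ≫ t₀.app E' = t₀.app E ≫ I.map (D.map (Γ₀.map f)) := t₀.naturality f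
    have h2 : Γ₀.map f ≫ aa.unit.app (Γ₀.obj E') = aa.unit.app (Γ₀.obj E) ≫ Au.map (Aa.map (Γ₀.map f)) :=
      aa.unit.naturality (Γ₀.map f)
    have h3 : D.map (Au.map (Aa.map (Γ₀.map f))) ≫ κ.app (Aa.obj (Γ₀.obj E')) =
        κ.app (Aa.obj (Γ₀.obj E)) ≫ Aa.map (Γ₀.map f) := κ.naturality _
    simp only [Functor.id_map, Functor.comp_map, assoc]
    rw [reassoc_of% h1, ← I.map_comp_assoc, ← D.map_comp, h2, D.map_comp, I.map_comp_assoc, ← I.map_comp, h3,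
      I.map_comp]

lemma η₀_app {P : Type u₃} [Category.{v₃} P] {Γ₀ : P ⥤ Q} {I : A ⥤ P} (t₀ : 𝟭 P ⟶ Γ₀ ⋙ D ⋙ I)
    (t' : 𝟭 A ⟶ (I ⋙ Γ₀) ⋙ D) (ht : ∀ E, t₀.app (I.obj E) = I.map (t'.app E)) (E : A) :
    (η₀ aa κ t₀).app (I.obj E) = I.map ((η aa t' κ).app E) := by
  simp only [η₀, η, ht, Functor.map_comp]
  rfl

variable {Ext : B ⥤ A} {Res : A ⥤ B} (ae : Ext ⊣ Res)

include ae in
theorem isIso_η (h : ∀ Z, IsIso (Res.map (μ ag t κ Z))) (L : B) : IsIso ((η aa t κ).app (Ext.obj L)) := by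
  have hb : ∀ Z, Function.Bijective (fun g : Aa.obj (Γ.obj (Ext.obj L)) ⟶ Z => (η aa t κ).app (Ext.obj L) ≫ g) := by
    intro Z
    have := h Z
    have e : (fun g : Aa.obj (Γ.obj (Ext.obj L)) ⟶ Z => (η aa t κ).app (Ext.obj L) ≫ g) =
        (ae.homEquiv L Z).symm ∘ (fun k => k ≫ Res.map (μ ag t κ Z)) ∘
          (((aa.homEquiv _ _).trans (ag.homEquiv _ _)).trans (ae.homEquiv L (Γr.obj (Au.obj Z)))) := by
      funext g
      simp only [Function.comp_apply, Equiv.trans_apply]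
      refine (η_comp ag aa t κ g).trans ?_
      rw [← ae.homEquiv_naturality_right, Equiv.symm_apply_apply]
    rw [e]
    refine (ae.homEquiv L Z).symm.bijective.comp (Function.Bijective.comp ?_ (Equiv.bijective _))
    exact ⟨fun a b hab => (cancel_mono (Res.map (μ ag t κ Z))).1 hab,
      fun k => ⟨k ≫ inv (Res.map (μ ag t κ Z)), by simp⟩⟩
  obtain ⟨k, hk⟩ := (hb _).2 (𝟙 _)
  refine ⟨k, hk, (hb _).1 ?_⟩
  show (η aa t κ).app _ ≫ k ≫ (η aa t κ).app _ = (η aa t κ).app _ ≫ 𝟙 _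
  rw [comp_id, ← assoc]
  exact (congrArg (· ≫ _) hk).trans (id_comp _)

end Groth.L09.MateUnit
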