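import Mathlib.AlgebraicTopology.SimplicialSet.KanComplex
import Mathlib.Algebra.Category.Grp.Basic
import Mathlib.AlgebraicTopology.SimplicialSet.HornColimits
import Mathlib.Algebra.Group.Subgroup.Basic

/-! Moore: surjective homomorphisms of simplicial groups are Kan fibrations. -/

set_option autoImplicit false
open CategoryTheory Simplicial Opposite SSet
universe u

namespace Groth.L09.MooreKan

variable {X : SimplicialObject GrpCat.{u}} (P : ∀ m, Subgroup (X.obj m))
  (hP : ∀ ⦃m m' : SimplexCategoryᵒᵖ⦄ (f : m ⟶ m') (x : X.obj m), x ∈ P m → X.map f x ∈ P m')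

include hP in
theorem fill {n : ℕ} (k : Fin (n + 3)) (y : ∀ j : Fin (n + 3), j ≠ k → (X _⦋n + 1⦌ : GrpCat.{u}))
    (hy : ∀ j hj, y j hj ∈ P _)
    (hc : ∀ (i j : Fin (n + 3)) (hi : i ≠ k) (hj : j ≠ k) (hij : i < j),
      X.δ (j.pred (Fin.ne_zero_of_lt hij)) (y i hi) = X.δ (i.castPred (Fin.ne_last_of_lt hij)) (y j hj)) :
    ∃ x ∈ P _, ∀ j hj, X.δ j x = y j hj := by
  have lo : ∀ r : ℕ, r ≤ k.val → ∃ w ∈ P (op ⦋n + 2⦌), ∀ i hi, i.val < r → X.δ i w = y i hi := by
    intro r
    induction r with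
    | zero => exact fun _ => ⟨1, one_mem _, fun i hi h => absurd h (Nat.not_lt_zero _)⟩
    | succ r ih =>
      intro hr
      obtain ⟨w, hw, hwy⟩ := ih (by lia)
      let a : Fin (n + 2) := ⟨r, by have := k.isLt; lia⟩
      have hak : a.castSucc ≠ k := by simp [Fin.ext_iff, a]; lia
      let z := (X.δ a.castSucc w)⁻¹ * y _ hak
      refine ⟨w * X.σ a z, mul_mem hw (hP _ _ (mul_mem (inv_mem (hP _ _ hw)) (hy _ _))), fun i hi hir => ?_⟩
      rcases eq_or_lt_of_le (Nat.lt_succ_iff.mp hir) with h | h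
      · obtain rfl : i = a.castSucc := Fin.ext h
        rw [map_mul]
        have := ConcreteCategory.congr_hom (X.δ_comp_σ_self (i := a)) z
        simp only [ConcreteCategory.comp_apply, ConcreteCategory.id_apply] at this
        rw [this]
        exact mul_inv_cancel_left _ _
      · obtain ⟨i', rfl⟩ := i.eq_castSucc_of_ne_last (fun e => by subst e; simp at h; have := k.isLt; lia)
        obtain ⟨a', ha'⟩ := a.eq_succ_of_ne_zero (fun e => by simp [Fin.ext_iff, a] at e; lia)
        have hle : i' ≤ a'.castSucc := by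
          have e : r = a'.val + 1 := congrArg Fin.val ha'
          simp only [Fin.le_def, Fin.val_castSucc] at h ⊢; lia
        have h1 := ConcreteCategory.congr_hom (X.δ_comp_σ_of_le hle) z
        have h2 := ConcreteCategory.congr_hom (X.δ_comp_δ (i := i') (j := a'.castSucc) hle) w
        simp only [ConcreteCategory.comp_apply] at h1 h2
        have h3 : X.δ i' z = 1 := by
          have h4 := hc i'.castSucc a.castSucc hi hak (by simp only [Fin.lt_def, Fin.val_castSucc, a] at h ⊢; exact h)
          have e1 : a.castSucc = (a'.castSucc).succ := by rw [ha']; ext; simp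
          have e2 : a.castSucc.pred (by rw [e1]; exact Fin.succ_ne_zero _) = a'.castSucc := by simp [e1]
          rw [map_mul, map_inv, (congrArg (fun q => X.δ i' (X.δ q w)) e1).trans h2, hwy _ hi h, inv_mul_eq_one, ← e2]
          exact h4.trans (by simp)
        rw [map_mul, ha', h1, h3, map_one, mul_one, hwy _ hi h]
  have hi' : ∀ t : ℕ, t + k.val ≤ n + 2 → ∃ w ∈ P (op ⦋n + 2⦌), ∀ i hi, i.val < k.val ∨ n + 3 ≤ i.val + t →
      X.δ i w = y i hi := by
    intro t
    induction t with
    | zero =>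
      obtain ⟨w, hw, hwy⟩ := lo k.val le_rfl
      exact fun _ => ⟨w, hw, fun i hi h => hwy i hi (h.resolve_right (by have := i.isLt; lia))⟩
    | succ t ih =>
      intro ht
      obtain ⟨w, hw, hwy⟩ := ih (by lia)
      let a : Fin (n + 2) := ⟨n + 1 - t, by lia⟩
      have hak : a.succ ≠ k := by simp [Fin.ext_iff, a]; lia
      let z := (X.δ a.succ w)⁻¹ * y _ hak
      refine ⟨w * X.σ a z, mul_mem hw (hP _ _ (mul_mem (inv_mem (hP _ _ hw)) (hy _ _))), fun i hi hir => ?_⟩
      by_cases h : i = a.succ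
      · subst h
        rw [map_mul]
        have := ConcreteCategory.congr_hom (X.δ_comp_σ_succ (i := a)) z
        simp only [ConcreteCategory.comp_apply, ConcreteCategory.id_apply] at this
        rw [this]
        exact mul_inv_cancel_left _ _
      · have hold : i.val < k.val ∨ n + 3 ≤ i.val + t := by
          simp only [Fin.ext_iff, Fin.val_succ, a] at h; lia
        suffices X.δ i (X.σ a z) = 1 by rw [map_mul, this, mul_one, hwy _ hi hold]
        rcases hold with h' | h'
        · obtain ⟨i', rfl⟩ := i.eq_castSucc_of_ne_last (fun e => by subst e; simp at h'; have := k.isLt; lia)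
          simp only [Fin.val_castSucc] at h'
          obtain ⟨a', ha'⟩ := a.eq_succ_of_ne_zero (fun e => by simp [Fin.ext_iff, a] at e; lia)
          have e : n + 1 - t = a'.val + 1 := congrArg Fin.val ha'
          have hle : i' ≤ a'.castSucc := by simp only [Fin.le_def, Fin.val_castSucc]; lia
          have hle2 : i' ≤ a := by simp only [Fin.le_def, a]; lia
          have h1 := ConcreteCategory.congr_hom (X.δ_comp_σ_of_le hle) z
          have h2 := ConcreteCategory.congr_hom (X.δ_comp_δ hle2) w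
          simp only [ConcreteCategory.comp_apply] at h1 h2
          have h4 := hc i'.castSucc a.succ hi hak (by simp only [Fin.lt_def, Fin.val_castSucc, Fin.val_succ, a]; lia)
          simp only [Fin.pred_succ, Fin.castPred_castSucc] at h4
          have h3 : X.δ i' z = 1 := by
            rw [map_mul, map_inv, h2, hwy _ hi (Or.inl (by simpa using h')), inv_mul_eq_one, h4]
          rw [ha', h1, h3, map_one]
        · obtain ⟨i', rfl⟩ := i.eq_succ_of_ne_zero (fun e => by simp [e] at h'; lia)
          simp only [Fin.val_succ] at h'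
          obtain ⟨a', ha'⟩ := a.eq_castSucc_of_ne_last
            (fun e => by simp [Fin.ext_iff, a] at e; have := i'.isLt; lia)
          have e : n + 1 - t = a'.val := (congrArg Fin.val ha').symm
          have hgt : a'.castSucc < i' := by simp only [Fin.lt_def, Fin.val_castSucc]; lia
          let j' : Fin (n + 2) := ⟨n + 2 - t, by lia⟩
          have hj : a.succ = j'.castSucc := by ext; simp [a, j']; lia
          have h1 := ConcreteCategory.congr_hom (X.δ_comp_σ_of_gt hgt) z
          have h2 := ConcreteCategory.congr_hom (X.δ_comp_δ (i := j') (j := i') (by simp only [Fin.le_def, j']; lia)) w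
          simp only [ConcreteCategory.comp_apply] at h1 h2
          have h4 := hc a.succ i'.succ hak hi (by simp only [Fin.lt_def, Fin.val_succ, a]; lia)
          simp only [Fin.pred_succ] at h4
          have h3 : X.δ i' z = 1 := by
            have e2 : (a.succ).castPred (by rw [hj]; exact Fin.castSucc_ne_last _) = j' := by simp [hj]
            rw [map_mul, map_inv, ← h2.trans ((congrArg (fun q => X.δ i' (X.δ q w)) hj).symm) , hwy _ hi (Or.inr (by simp; lia)), inv_mul_eq_one, ← e2]
            exact h4.symm.trans (by congr 2)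
          rw [← ha', h1, h3, map_one]
  obtain ⟨w, hw, hwy⟩ := hi' (n + 2 - k.val) (by have := k.isLt; lia)
  exact ⟨w, hw, fun i hi => hwy i hi (by have := k.isLt; have : i.val ≠ k.val := fun e => hi (Fin.ext e); lia)⟩

lemma fill_zero {k : Fin 2} (y : ∀ j : Fin 2, j ≠ k → (X _⦋0⦌ : GrpCat.{u}))
    (hP : ∀ ⦃m m' : SimplexCategoryᵒᵖ⦄ (f : m ⟶ m') (x : X.obj m), x ∈ P m → X.map f x ∈ P m')
    (hy : ∀ j hj, y j hj ∈ P _) : ∃ x ∈ P _, ∀ j hj, X.δ j x = y j hj := by
  have hk : k.rev ≠ k := by clear hy y; revert k; decide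
  refine ⟨X.σ 0 (y _ hk), hP _ _ (hy _ _), fun j hj => ?_⟩
  obtain rfl : j = k.rev := by clear hy y hk; revert j k; decide
  have h : X.σ (0 : Fin 1) ≫ X.δ k.rev = 𝟙 _ := by
    fin_cases k
    · exact X.δ_comp_σ_succ' rfl
    · exact X.δ_comp_σ_self' rfl
  exact ConcreteCategory.congr_hom h _

theorem surjective_fibration {G H : SimplicialObject GrpCat.{u}} (f : G ⟶ H)
    (hf : ∀ m, Function.Surjective (f.app m)) :
    modelCategoryQuillen.J.rlp (X := G ⋙ forget GrpCat.{u}) (Y := H ⋙ forget GrpCat.{u})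
      (Functor.whiskerRight f (forget GrpCat.{u})) := by
  intro _ _ g hg
  simp only [modelCategoryQuillen.J, MorphismProperty.iSup_iff] at hg
  obtain ⟨n, ⟨i⟩⟩ := hg
  refine ⟨fun {t b} sq => ?_⟩
  obtain ⟨x₀, hx₀⟩ := hf (op ⦋n + 1⦌) (SSet.yonedaEquiv b)
  let Z : SSet.{u} := G ⋙ forget GrpCat.{u}
  let y : ∀ j : Fin (n + 2), j ≠ i → (G _⦋n⦌ : GrpCat.{u}) := fun j hj => SSet.yonedaEquiv (horn.ι i j hj ≫ t)
  have natf : ∀ {m : ℕ} (j : Fin (m + 2)) (x : (G _⦋m + 1⦌ : GrpCat.{u})), f.app _ (G.δ j x) = H.δ j (f.app _ x) := fun j x => ConcreteCategory.congr_hom (f.naturality _) x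
  have yd : ∀ (W : SSet.{u}) (m : ℕ) (j : Fin (m + 2)) (φ : Δ[m + 1] ⟶ W),
      SSet.yonedaEquiv (stdSimplex.δ j ≫ φ) = W.δ j (SSet.yonedaEquiv φ) := by
    intro W m j φ
    exact (SSet.yonedaEquiv_comp _ _).trans ((congrArg (φ.app _) (SSet.yonedaEquiv_map _)).trans
      (by
        obtain ⟨w, rfl⟩ := SSet.yonedaEquiv.symm.surjective φ
        simp
        rfl))
  have hy : ∀ j hj, f.app _ (y j hj) = f.app _ (G.δ j x₀) := by
    intro j hj
    rw [natf, hx₀]
    have := congrArg (fun q => SSet.yonedaEquiv (horn.ι i j hj ≫ q)) sq.w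
    simp only [horn.ι_ι_assoc] at this
    exact (SSet.yonedaEquiv_comp _ _).symm.trans (this.trans (yd _ n j b))
  let P : ∀ m, Subgroup (G.obj m) := fun m => (f.app m).hom.ker
  have hP : ∀ ⦃m m' : SimplexCategoryᵒᵖ⦄ (g : m ⟶ m') (x : G.obj m), x ∈ P m → G.map g x ∈ P m' := by
    intro m m' g x hx
    exact (ConcreteCategory.congr_hom (f.naturality g) x).trans ((congrArg (H.map g) hx).trans (map_one _))
  have hz : ∀ j hj, (G.δ j x₀)⁻¹ * y j hj ∈ P _ := fun j hj => by
    show f.app _ _ = 1
    rw [map_mul, map_inv, hy, inv_mul_cancel]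
  obtain ⟨x, hx, hxy⟩ : ∃ x ∈ P _, ∀ j hj, G.δ j x = (G.δ j x₀)⁻¹ * y j hj := by
    cases n with
    | zero => exact fill_zero P _ hP hz
    | succ n =>
      refine fill P hP i _ hz fun a c ha hc hac => ?_
      have h1 := congrArg SSet.yonedaEquiv (horn.IsCompatible.δ_pred_comp (horn.IsCompatible.of_hom t) a c ha hc hac)
      rw [yd, yd] at h1
      obtain ⟨a', rfl⟩ := a.eq_castSucc_of_ne_last (Fin.ne_last_of_lt hac)
      obtain ⟨c', rfl⟩ := c.eq_succ_of_ne_zero (Fin.ne_zero_of_lt hac)
      have h2 := ConcreteCategory.congr_hom (G.δ_comp_δ (i := a') (j := c')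
        (by simp only [Fin.lt_def, Fin.val_castSucc, Fin.val_succ] at hac; simp only [Fin.le_def]; lia)) x₀
      simp only [ConcreteCategory.comp_apply] at h2
      simp only [Fin.pred_succ, Fin.castPred_castSucc] at h1 ⊢
      rw [map_mul, map_mul, map_inv, map_inv, h2]
      exact congrArg (fun q : (G _⦋n⦌ : GrpCat.{u}) => (G.δ a' (G.δ c'.succ x₀))⁻¹ * q) h1 |> fun e => by rw [h2] at e; exact e
  refine CommSq.HasLift.mk' ⟨(SSet.yonedaEquiv.symm : Z _⦋n + 1⦌ → (Δ[n + 1] ⟶ Z)) (x₀ * x : (G _⦋n + 1⦌ : GrpCat.{u})), horn.hom_ext' fun j hj => ?_, ?_⟩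
  · rw [horn.ι_ι_assoc]
    apply SSet.yonedaEquiv.injective
    rw [yd, Equiv.apply_symm_apply]
    show G.δ j (x₀ * x) = y j hj
    rw [map_mul, hxy, mul_inv_cancel_left]
  · apply SSet.yonedaEquiv.injective
    refine (SSet.yonedaEquiv_comp _ _).trans ?_
    rw [Equiv.apply_symm_apply]
    show f.app _ (x₀ * x) = _
    rw [map_mul, show f.app _ x = 1 from hx, mul_one]
    exact hx₀

end Groth.L09.MooreKan
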