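import Groth.Prelude.Def_CGrpSh
import Groth.Prelude.Def_W4c1extbt15Mult
import Mathlib.CategoryTheory.Sites.LocallyBijective
import Mathlib.CategoryTheory.Sites.Abelian
import Mathlib.CategoryTheory.Limits.Preserves.Shapes.Kernels
import Mathlib.CategoryTheory.Sites.Limits
import Mathlib.Condensed.Light.Epi

/-! # Descent of morphisms along quotients of commutative group schemes -/

set_option autoImplicit false
set_option linter.style.haveILetI false
set_option backward.isDefEq.respectTransparency false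

universe u

open CategoryTheory CategoryTheory.Limits MonoidalCategory CartesianMonoidalCategory MonObj AlgebraicGeometry Opposite

noncomputable section

namespace Groth.L09.MultDesc

variable {S : Scheme.{u}}

/-- The topology. -/
abbrev J (S : Scheme.{u}) : GrothendieckTopology (Over S) := QuotSh.J Scheme.fppfPrecoverage S

theorem isSheaf_pt (N : Over S) : Presieve.IsSheaf (J S) (yoneda.obj N) :=
  GrothendieckTopology.Subcanonical.isSheaf_of_isRepresentable (J := J S) (yoneda.obj N)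

theorem hom_ext_loc {T N : Over S} {R : Sieve T} (hR : R ∈ J S T) (a b : T ⟶ N)
    (h : ∀ ⦃V⦄ (g : V ⟶ T), R g → g ≫ a = g ≫ b) : a = b :=
  ((isSheaf_pt N).isSeparated _ hR).ext h

variable {M M'' : Over S} [GrpObj M] [IsCommMonObj M] [GrpObj M''] [IsCommMonObj M'']

theorem lift_loc (π : M ⟶ M'') [IsMonHom π] (hπ : Epi (CGrpSh.ptsMap Scheme.fppfPrecoverage π))
    {T : Over S} (y : T ⟶ M'') :
    ∃ R ∈ J S T, ∀ ⦃V⦄ (g : V ⟶ T), R g → ∃ m : V ⟶ M, m ≫ π = g ≫ y := by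
  haveI hls0 : Sheaf.IsLocallySurjective (CGrpSh.ptsMap Scheme.fppfPrecoverage π) :=
    (Sheaf.isLocallySurjective_iff_epi' _ _).2 hπ
  refine ⟨_, hls0.imageSieve_mem (U := T) (ULift.up (Additive.ofMul y)), fun V g hg => ?_⟩
  obtain ⟨a, ha⟩ := hg
  exact ⟨a.down.toMul, congrArg (fun z => Additive.toMul (ULift.down z)) ha⟩

theorem lift_loc_fin (π : M ⟶ M'') [IsMonHom π] (hπ : Epi (CGrpSh.ptsMap Scheme.fppfPrecoverage π))
    {T : Over S} {n : ℕ} (y : Fin n → (T ⟶ M'')) :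
    ∃ R ∈ J S T, ∀ ⦃V⦄ (g : V ⟶ T), R g → ∃ m : Fin n → (V ⟶ M), ∀ l, m l ≫ π = g ≫ y l := by
  induction n with
  | zero => exact ⟨⊤, (J S).top_mem T, fun V g _ => ⟨fun l => l.elim0, fun l => l.elim0⟩⟩
  | succ n ih =>
    obtain ⟨R, hR, hR'⟩ := ih fun l => y l.succ
    obtain ⟨R₀, hR₀, hR₀'⟩ := lift_loc π hπ (y 0)
    refine ⟨R₀ ⊓ R, (J S).intersection_covering hR₀ hR, fun V g hg => ?_⟩
    obtain ⟨m₀, hm₀⟩ := hR₀' g hg.1
    obtain ⟨m, hm⟩ := hR' g hg.2
    exact ⟨Fin.cons m₀ m, Fin.cases (by simpa using hm₀) (fun l => by simpa using hm l)⟩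

variable {M' : Over S} [GrpObj M'] [IsCommMonObj M']

theorem ker_loc (j : M' ⟶ M) (π : M ⟶ M'') [IsMonHom j] [IsMonHom π] (w : j ≫ π = 1)
    (hex : (CGrpSh.seq Scheme.fppfPrecoverage j π w).Exact) {T : Over S} (y : T ⟶ M) (hy : y ≫ π = 1) :
    ∃ R ∈ J S T, ∀ ⦃V⦄ (g : V ⟶ T), R g → ∃ m : V ⟶ M', m ≫ j = g ≫ y := by
  let C := CGrpSh.seq Scheme.fppfPrecoverage j π w
  haveI : Epi C.toCycles := hex.epi_toCycles
  haveI hls : Sheaf.IsLocallySurjective C.toCycles := (Sheaf.isLocallySurjective_iff_epi' _ _).2 inferInstance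
  let ev := sheafToPresheaf (J S) AddCommGrpCat.{u + 1} ⋙ (evaluation _ _).obj (op T)
  let c := KernelFork.mapIsLimit _ C.cyclesIsKernel ev
  let y' : C.X₂.obj.obj (op T) := ULift.up (Additive.ofMul y)
  obtain ⟨l, hl⟩ := KernelFork.IsLimit.lift' c
    (AddCommGrpCat.ofHom ((zmultiplesHom _ y').comp AddEquiv.ulift.toAddMonoidHom) :
      AddCommGrpCat.of (ULift.{u + 1} ℤ) ⟶ ev.obj C.X₂) (AddCommGrpCat.ext fun n => by
        refine (map_zsmul (ev.map C.g).hom n.down y').trans ?_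
        have h0 : (ev.map C.g).hom y' = 0 := ULift.ext _ _ (congrArg Additive.ofMul hy)
        exact (congrArg (n.down • ·) h0).trans (zsmul_zero _))
  let z : C.cycles.obj.obj (op T) := l (ULift.up 1)
  have hz : C.iCycles.hom.app (op T) z = y' := by
    refine (congr($hl (ULift.up 1))).trans ?_
    exact one_zsmul y'
  refine ⟨_, hls.imageSieve_mem (U := T) z, fun V g ⟨a, ha⟩ => ⟨a.down.toMul, ?_⟩⟩
  refine congrArg (fun z => Additive.toMul (ULift.down z))
    (show C.f.hom.app (op V) a = C.X₂.obj.map g.op y' from ?_)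
  rw [← hz, ← C.toCycles_i]
  exact (congrArg (C.iCycles.hom.app (op V)) ha).trans (NatTrans.naturality_apply C.iCycles.hom g.op z)

theorem comp_tuple {X T V : Over S} : ∀ {n : ℕ} (g : V ⟶ T) (x : Fin n → (T ⟶ X)),
    g ≫ MultSch.tuple x = MultSch.tuple fun l => g ≫ x l
  | 0, _, _ => toUnit_unique _ _
  | n + 1, g, x => by
    show g ≫ lift (x 0) _ = lift (g ≫ x 0) _
    rw [comp_lift, comp_tuple g fun i => x i.succ]

/-- Points of a power are tuples. -/
theorem exists_tuple {X T : Over S} : ∀ {n : ℕ} (t : T ⟶ MultSch.pow X n),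
    ∃ x : Fin n → (T ⟶ X), MultSch.tuple x = t
  | 0, t => ⟨fun l => l.elim0, toUnit_unique _ _⟩
  | n + 1, t => by
    let t' : T ⟶ X ⊗ MultSch.pow X n := t
    obtain ⟨x, hx⟩ := exists_tuple (n := n) (t' ≫ snd X (MultSch.pow X n))
    refine ⟨Fin.cons (t' ≫ fst X (MultSch.pow X n)) x, ?_⟩
    show lift _ _ = t'
    rw [Fin.cons_zero, show (fun i => Fin.cons (α := fun _ : Fin (n + 1) => T ⟶ X)
      (t' ≫ fst X (MultSch.pow X n)) x i.succ) = x from funext fun i => Fin.cons_succ _ _ i, hx]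
    exact (CartesianMonoidalCategory.hom_ext _ _ (by rw [lift_fst]) (by rw [lift_snd]))

/-- Amalgamation of points given on a covering. -/
theorem amalgamate {T N : Over S} {R : Sieve T} (hR : R ∈ J S T) (a : ∀ ⦃V⦄ (g : V ⟶ T), R g → (V ⟶ N))
    (h : ∀ ⦃V W⦄ (i : W ⟶ V) (g : V ⟶ T) (hg : R g), a (i ≫ g) (R.downward_closed hg i) = i ≫ a g hg) :
    ∃ b : T ⟶ N, ∀ ⦃V⦄ (g : V ⟶ T) (hg : R g), g ≫ b = a g hg := by
  let x : Presieve.FamilyOfElements (yoneda.obj N) R.arrows := fun V g hg => a g hg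
  have hx : x.Compatible := (Presieve.compatible_iff_sieveCompatible x).2 fun V W g i hg => h i g hg
  exact ⟨_, fun V g hg => ((isSheaf_pt N) _ hR).valid_glue hx g hg⟩

end Groth.L09.MultDesc
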