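import Groth.Agent.L09.NormMap
import Groth.Prelude.Def_EtGm
import Groth.Prelude.Def_EtBase

/-!
The norm map `f_* 𝔾_m ⟶ 𝔾_m` of a finite locally free morphism on the small étale site, and the degree formula.
-/

set_option autoImplicit false
set_option linter.style.haveILetI false
set_option backward.isDefEq.respectTransparency false
set_option backward.isDefEq.respectTransparency.types false
universe u

noncomputable section

open CategoryTheory CategoryTheory.Limits AlgebraicGeometry Opposite MonoidalCategory CartesianMonoidalCategory MonObj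
open Groth.L09.NormMap

namespace Groth.L09.NormEt

variable {X Y : Scheme.{u}} (f : X ⟶ Y) [IsFinite f] [Flat f] [LocallyOfFinitePresentation f]

/-- The norm of a unit of the base change. -/
def nrmU (T : Over Y) : (Γ((P f T).left, ⊤))ˣ →* (Γ(T.left, ⊤))ˣ :=
  MonoidHom.mk' (fun u => GmPts.unitOfPt (ptN f T (GmPts.ptOfUnit u))) fun u v => by
    rw [GmPts.ptOfUnit_mul, ptN_mul, GmPts.unitOfPt_mul]

theorem nrmU_map {T T' : Over Y} (k : T' ⟶ T) (u : (Γ((P f T).left, ⊤))ˣ) :
    nrmU f T' (Units.map ((Over.pullback f).map k).left.appTop.hom.toMonoidHom u) =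
      Units.map k.left.appTop.hom.toMonoidHom (nrmU f T u) := by
  refine Units.ext ?_
  show Red.gmFn (ptN f T' (GmPts.ptOfUnit _)) = k.left.appTop (Red.gmFn (ptN f T (GmPts.ptOfUnit u)))
  rw [← GmPts.gmFn_comp, ← ptN_map]
  congr 2
  exact GmPts.gmFn_injective (by
    show Red.gmFn _ = Red.gmFn _
    rw [GmPts.gmFn_comp, GmPts.gmFn_ptOfUnit, GmPts.gmFn_ptOfUnit]
    rfl)

theorem finrank_good (d : ℕ) (hd : ∀ y : Y, f.finrank y = d) (T : Over Y) (hT : Good f T)
    [Nontrivial Γ(T.left, ⊤)] :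
    (letI := (pr f T).appTop.hom.toAlgebra; Module.finrank Γ(T.left, ⊤) Γ((P f T).left, ⊤)) = d := by
  obtain ⟨hTa, hfin, hfree⟩ := hT
  haveI := hTa
  haveI : IsAffine (P f T).left := isAffine_of_isAffineHom (pr f T)
  letI := (pr f T).appTop.hom.toAlgebra
  haveI : Module.Finite Γ(T.left, ⊤) Γ((P f T).left, ⊤) := hfin
  haveI : Module.Free Γ(T.left, ⊤) Γ((P f T).left, ⊤) := hfree
  obtain ⟨x⟩ := (inferInstance : Nonempty (PrimeSpectrum Γ(T.left, ⊤)))
  have h := Scheme.Hom.finrank_SpecMap_algebraMap Γ(T.left, ⊤) Γ((P f T).left, ⊤) x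
  have hsq : IsPullback (P f T).left.isoSpec.inv (Spec.map (pr f T).appTop) (pr f T) T.left.isoSpec.inv :=
    IsPullback.of_horiz_isIso ⟨Scheme.isoSpec_inv_naturality (pr f T) |>.symm⟩
  have h' := Scheme.Hom.finrank_of_isPullback _ _ _ _ hsq x
  erw [h] at h'
  rw [Module.rankAtStalk_eq_finrank_of_free, Pi.natCast_apply, Scheme.Hom.finrank_pullback_fst, hd] at h'
  exact h'

theorem nrmU_pr (d : ℕ) (hd : ∀ y : Y, f.finrank y = d) (T : Over Y) (v : (Γ(T.left, ⊤))ˣ) :
    nrmU f T (Units.map (pr f T).appTop.hom.toMonoidHom v) = v ^ d := by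
  suffices h : ptN f T (GmPts.ptOfUnit (Units.map (pr f T).appTop.hom.toMonoidHom v)) =
      GmPts.ptOfUnit (v ^ d) by
    show GmPts.unitOfPt (ptN f T _) = _
    rw [h, GmPts.unitOfPt_ptOfUnit]
  refine ext_good f fun T₁ j hT₁ => ?_
  rw [isNrm_ptN f T _ T₁ j hT₁, GmPts.gmFn_ptOfUnit, GmPts.gmFn_comp, GmPts.gmFn_ptOfUnit]
  have e : ((Over.pullback f).map j).left.appTop ((pr f T).appTop (v : Γ(T.left, ⊤))) =
      (pr f T₁).appTop (j.left.appTop (v : Γ(T.left, ⊤))) := by
    have := congr($(congrArg Scheme.Hom.appTop (isPullback_map f j).w) (v : Γ(T.left, ⊤)))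
    rwa [GmPts.appTop_comp_apply, GmPts.appTop_comp_apply] at this
  show nrm f T₁ (((Over.pullback f).map j).left.appTop ((pr f T).appTop (v : Γ(T.left, ⊤)))) = _
  rw [e, Units.val_pow_eq_pow_val, map_pow]
  obtain hs | hn := subsingleton_or_nontrivial Γ(T₁.left, ⊤)
  · exact Subsingleton.elim _ _
  letI := (pr f T₁).appTop.hom.toAlgebra
  haveI : Module.Free Γ(T₁.left, ⊤) Γ((P f T₁).left, ⊤) := hT₁.2.2
  show Algebra.norm Γ(T₁.left, ⊤) (algebraMap Γ(T₁.left, ⊤) Γ((P f T₁).left, ⊤) _) = _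
  rw [Algebra.norm_algebraMap, finrank_good f d hd T₁ hT₁]

/-- The underlying relative scheme of an étale scheme. -/
abbrev toOver (V : Y.Etale) : Over Y := (Scheme.Etale.forget Y).obj V

/-- Pullback of functions to the base change. -/
def resEt : EtCoh.Gm Y ⟶ (EtCoh.push f).obj (EtCoh.Gm X) :=
  ⟨{ app := fun V => EtCoh.ΓUnits.map (pullback.fst V.unop.hom f : ((EtCoh.bc f).obj V.unop).left ⟶ _).op
     naturality := fun V W g => by
      show EtCoh.ΓUnits.map g.unop.left.op ≫ _ = _ ≫ EtCoh.ΓUnits.map ((EtCoh.bc f).map g.unop).left.op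
      rw [← Functor.map_comp, ← Functor.map_comp, ← op_comp, ← op_comp,
        (EtCoh.isPullback_bc_map f g.unop).w] }⟩

/-- The norm map on the small étale site. -/
def normEt : (EtCoh.push f).obj (EtCoh.Gm X) ⟶ EtCoh.Gm Y :=
  ⟨{ app := fun V => AddCommGrpCat.uliftFunctor.{u + 1}.map
      (AddCommGrpCat.ofHom (MonoidHom.toAdditive (nrmU f (toOver V.unop))))
     naturality := fun V W g => AddCommGrpCat.ext fun s =>
      congrArg (fun z => ULift.up (Additive.ofMul z))
        (nrmU_map f ((Scheme.Etale.forget Y).map g.unop)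
          (Additive.toMul (α := (Γ((P f (toOver V.unop)).left, ⊤))ˣ) s.down)) }⟩

theorem resEt_normEt (d : ℕ) (hd : ∀ y : Y, f.finrank y = d) :
    resEt f ≫ normEt f = d • 𝟙 (EtCoh.Gm Y) := by
  refine ObjectProperty.hom_ext _ (NatTrans.ext (funext fun V => AddCommGrpCat.ext fun s => ?_))
  refine (congrArg (fun z => ULift.up (Additive.ofMul z))
    (nrmU_pr f d hd (toOver V.unop) (Additive.toMul s.down))).trans ?_
  show d • s = _
  exact (congr($(Functor.map_nsmul (F := sheafToPresheaf _ AddCommGrpCat.{u + 1} ⋙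
    (evaluation _ _).obj V) (n := d) (f := 𝟙 (EtCoh.Gm Y))) s)).symm

end Groth.L09.NormEt
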