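import Groth.Prelude.Def_CGrpSh3
import Groth.Prelude.Def_GmPts
import Groth.Agent.L18.NormFree
import Mathlib.AlgebraicGeometry.Morphisms.FlatRank
import Mathlib.RingTheory.LocalRing.Module

/-!
The norm map `f_* 𝔾_m ⟶ 𝔾_m` of a finite locally free morphism.
-/

set_option autoImplicit false
set_option linter.style.haveILetI false
set_option backward.isDefEq.respectTransparency false
set_option backward.isDefEq.respectTransparency.types false
universe u

noncomputable section

namespace Groth.L09.NormMap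

section

open TensorProduct

theorem exists_free_away (R S : Type u) [CommRing R] [AddCommGroup S] [Module R S]
    [Module.FinitePresentation R S] [Module.Flat R S] (p : Ideal R) [p.IsPrime] :
    ∃ a ∉ p, Module.Free (Localization.Away a) (Localization.Away a ⊗[R] S) := by
  have : Module.Free (Localization.AtPrime p) (LocalizedModule p.primeCompl S) :=
    Module.free_of_flat_of_isLocalRing
  obtain ⟨r, hr, hr', _⟩ := Module.FinitePresentation.exists_free_localizedModule_powers
    p.primeCompl (LocalizedModule.mkLinearMap p.primeCompl S) (Localization.AtPrime p)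
  exact ⟨r, hr, Module.Free.of_equiv (LocalizedModule.equivTensorProduct (.powers r) S)⟩

theorem free_of_baseChange (R A S Ra : Type u) [CommRing R] [CommRing A] [CommRing Ra]
    [AddCommGroup S] [Module R S] [Algebra R A] [Algebra R Ra] [Algebra Ra A]
    [IsScalarTower R Ra A] [Module.Free Ra (Ra ⊗[R] S)] : Module.Free A (A ⊗[R] S) :=
  Module.Free.of_equiv (TensorProduct.AlgebraTensorModule.cancelBaseChange R Ra A A S)

end

section

open CategoryTheory CategoryTheory.Limits AlgebraicGeometry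

theorem exists_nhd_free {P T : Scheme.{u}} (g : P ⟶ T) [IsFinite g] [Flat g]
    [LocallyOfFinitePresentation g] [IsAffine T] (t : T) :
    ∃ a : Γ(T, ⊤), t ∈ T.basicOpen a ∧
      ∀ (T' P' : Scheme.{u}) [IsAffine T'] (ι : T' ⟶ T) (g' : P' ⟶ T') (pr : P' ⟶ P),
        IsPullback pr g' g ι → IsUnit (ι.appTop a) →
          (letI := g'.appTop.hom.toAlgebra; Module.Finite Γ(T', ⊤) Γ(P', ⊤)) ∧
          (letI := g'.appTop.hom.toAlgebra; Module.Free Γ(T', ⊤) Γ(P', ⊤)) := by
  have hP : IsAffine P := isAffine_of_isAffineHom g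
  letI : Algebra Γ(T, ⊤) Γ(P, ⊤) := g.appTop.hom.toAlgebra
  have hfin : g.appTop.hom.Finite := g.finite_appTop
  have hflat : g.appTop.hom.Flat := g.flat_appTop
  have hfp : g.appTop.hom.FinitePresentation := by
    have := g.finitePresentation_appLE (isAffineOpen_top T) (isAffineOpen_top P) le_rfl
    rw [Scheme.Hom.appTop, Scheme.Hom.app_eq_appLE]
    exact this
  have : Module.Finite Γ(T, ⊤) Γ(P, ⊤) := hfin
  have : Module.Flat Γ(T, ⊤) Γ(P, ⊤) := hflat
  have : Algebra.FinitePresentation Γ(T, ⊤) Γ(P, ⊤) := hfp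
  have : Module.FinitePresentation Γ(T, ⊤) Γ(P, ⊤) :=
    Module.FinitePresentation.of_finite_of_finitePresentation _ _
  let p : PrimeSpectrum Γ(T, ⊤) := T.isoSpec.hom t
  obtain ⟨a, ha, hfree⟩ := exists_free_away Γ(T, ⊤) Γ(P, ⊤) p.asIdeal
  refine ⟨a, ?_, ?_⟩
  · rw [← Scheme.toSpecΓ_preimage_basicOpen]
    exact ha
  intro T' P' _ ι g' pr hpb hu
  letI := g'.appTop.hom.toAlgebra
  letI : Algebra Γ(T, ⊤) Γ(T', ⊤) := ι.appTop.hom.toAlgebra
  letI : Algebra Γ(P, ⊤) Γ(P', ⊤) := pr.appTop.hom.toAlgebra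
  letI : Algebra Γ(T, ⊤) Γ(P', ⊤) := (g'.appTop.hom.comp ι.appTop.hom).toAlgebra
  have sq : IsPushout ι.appTop g.appTop g'.appTop pr.appTop :=
    isPushout_appTop_of_isPullback hpb.flip
  have : IsScalarTower Γ(T, ⊤) Γ(T', ⊤) Γ(P', ⊤) := .of_algebraMap_eq' rfl
  have : IsScalarTower Γ(T, ⊤) Γ(P, ⊤) Γ(P', ⊤) :=
    .of_algebraMap_eq' (congrArg CommRingCat.Hom.hom sq.w)
  have hpo : Algebra.IsPushout Γ(T, ⊤) Γ(T', ⊤) Γ(P, ⊤) Γ(P', ⊤) :=
    CommRingCat.isPushout_iff_isPushout.1 sq
  let e := (Algebra.IsPushout.equiv Γ(T, ⊤) Γ(T', ⊤) Γ(P, ⊤) Γ(P', ⊤)).toLinearEquiv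
  letI : Algebra (Localization.Away a) Γ(T', ⊤) :=
    (IsLocalization.Away.lift a hu : Localization.Away a →+* Γ(T', ⊤)).toAlgebra
  have : IsScalarTower Γ(T, ⊤) (Localization.Away a) Γ(T', ⊤) :=
    .of_algebraMap_eq' (IsLocalization.Away.lift_comp a hu).symm
  have := free_of_baseChange Γ(T, ⊤) Γ(T', ⊤) Γ(P, ⊤) (Localization.Away a)
  exact ⟨Module.Finite.equiv e, Module.Free.of_equiv e⟩

end

section Norm

open CategoryTheory CategoryTheory.Limits AlgebraicGeometry Opposite MonoidalCategory CartesianMonoidalCategory MonObj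

variable {X X' : Scheme.{u}} (f : X' ⟶ X)

/-- The base change of a test scheme. -/
abbrev P (T : Over X) : Over X' := (Over.pullback f).obj T

/-- The projection of the base change. -/
abbrev pr (T : Over X) : (P f T).left ⟶ T.left := pullback.fst T.hom f

/-- The determinant of multiplication on the functions of the base change. -/
def nrm (T : Over X) : Γ((P f T).left, ⊤) →* Γ(T.left, ⊤) :=
  letI := (pr f T).appTop.hom.toAlgebra
  Algebra.norm Γ(T.left, ⊤)

/-- An affine test scheme whose base change has finite free functions. -/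
def Good (T : Over X) : Prop :=
  letI := (pr f T).appTop.hom.toAlgebra
  IsAffine T.left ∧ Module.Finite Γ(T.left, ⊤) Γ((P f T).left, ⊤) ∧ Module.Free Γ(T.left, ⊤) Γ((P f T).left, ⊤)

theorem isPullback_map {T T' : Over X} (j : T' ⟶ T) :
    IsPullback ((Over.pullback f).map j).left (pr f T') (pr f T) j.left := by
  have h1 : ((Over.pullback f).map j).left ≫ pullback.snd T.hom f = pullback.snd T'.hom f :=
    Over.w ((Over.pullback f).map j)
  have h2 : ((Over.pullback f).map j).left ≫ pr f T = pr f T' ≫ j.left := pullback.lift_fst _ _ _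
  refine IsPullback.of_right (h₁₂ := pullback.snd T.hom f) (v₁₃ := f) ?_ h2 (IsPullback.of_hasPullback _ f).flip
  rw [h1, Over.w j]
  exact (IsPullback.of_hasPullback T'.hom f).flip

theorem nrm_map [IsAffineHom f] {T T' : Over X} (hT : Good f T) (hT' : IsAffine T'.left) (j : T' ⟶ T)
    (s : Γ((P f T).left, ⊤)) :
    nrm f T' (((Over.pullback f).map j).left.appTop s) = j.left.appTop (nrm f T s) := by
  classical
  obtain ⟨hTa, hfin, hfree⟩ := hT
  haveI := hTa
  haveI := hT'
  let m := ((Over.pullback f).map j).left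
  haveI : IsAffineHom (pr f T) := MorphismProperty.pullback_fst T.hom f ‹_›
  haveI : IsAffine (P f T).left := isAffine_of_isAffineHom (pr f T)
  letI := (pr f T).appTop.hom.toAlgebra
  letI := (pr f T').appTop.hom.toAlgebra
  letI : Algebra Γ(T.left, ⊤) Γ(T'.left, ⊤) := j.left.appTop.hom.toAlgebra
  letI : Algebra Γ((P f T).left, ⊤) Γ((P f T').left, ⊤) := m.appTop.hom.toAlgebra
  letI : Algebra Γ(T.left, ⊤) Γ((P f T').left, ⊤) := ((pr f T').appTop.hom.comp j.left.appTop.hom).toAlgebra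
  have sq : IsPushout j.left.appTop (pr f T).appTop (pr f T').appTop m.appTop :=
    isPushout_appTop_of_isPullback (isPullback_map f j).flip
  haveI : IsScalarTower Γ(T.left, ⊤) Γ(T'.left, ⊤) Γ((P f T').left, ⊤) := .of_algebraMap_eq' rfl
  haveI : IsScalarTower Γ(T.left, ⊤) Γ((P f T).left, ⊤) Γ((P f T').left, ⊤) :=
    .of_algebraMap_eq' (congrArg CommRingCat.Hom.hom sq.w)
  haveI hpo : Algebra.IsPushout Γ(T.left, ⊤) Γ(T'.left, ⊤) Γ((P f T).left, ⊤) Γ((P f T').left, ⊤) :=
    CommRingCat.isPushout_iff_isPushout.1 sq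
  haveI : Module.Finite Γ(T.left, ⊤) Γ((P f T).left, ⊤) := hfin
  haveI : Module.Free Γ(T.left, ⊤) Γ((P f T).left, ⊤) := hfree
  let b := (Module.Free.chooseBasis Γ(T.left, ⊤) Γ((P f T).left, ⊤)).reindex (Fintype.equivFin _)
  let e := (Algebra.IsPushout.equiv Γ(T.left, ⊤) Γ(T'.left, ⊤) Γ((P f T).left, ⊤) Γ((P f T').left, ⊤)).toLinearEquiv
  let b' := (Algebra.TensorProduct.basis Γ(T'.left, ⊤) b).map e
  exact Groth.L18.NormFree.norm_map_of_basis b b' j.left.appTop.hom m.appTop.hom
    (fun r => (congr($(sq.w) r)).symm)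
    (fun i => by
      show m.appTop (b i) = e (Algebra.TensorProduct.basis Γ(T'.left, ⊤) b i)
      rw [Algebra.TensorProduct.basis_apply]
      refine Eq.symm ?_
      refine Eq.trans (Algebra.IsPushout.equiv_tmul Γ(T.left, ⊤) Γ(T'.left, ⊤) Γ((P f T).left, ⊤)
        Γ((P f T').left, ⊤) 1 (b i)) ?_
      rw [map_one, _root_.one_mul]
      rfl) s

variable [IsFinite f] [Flat f] [LocallyOfFinitePresentation f]

/-- Test schemes have good open neighbourhoods. -/
theorem exists_good (T : Over X) (t : T.left) :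
    ∃ (T₁ : Over X) (j : T₁ ⟶ T), IsOpenImmersion j.left ∧ t ∈ Set.range j.left ∧ Good f T₁ := by
  obtain ⟨V, hV, htV, -⟩ := exists_isAffineOpen_mem_and_subset (U := (⊤ : T.left.Opens))
    (show t ∈ (⊤ : T.left.Opens) from trivial)
  have : IsAffine V.toScheme := hV
  obtain ⟨a, hta, ha⟩ := exists_nhd_free (pullback.fst (V.ι ≫ T.hom) f) ⟨t, htV⟩
  have h₁ : IsAffine (V.toScheme.basicOpen a).toScheme := (isAffineOpen_top V.toScheme).basicOpen a
  let ι₀ := (V.toScheme.basicOpen a).ι ≫ V.ι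
  refine ⟨Over.mk (ι₀ ≫ T.hom), Over.homMk ι₀ rfl, inferInstanceAs (IsOpenImmersion ι₀), ⟨⟨⟨t, htV⟩, hta⟩, rfl⟩,
    h₁, ?_⟩
  refine ha _ _ (V.toScheme.basicOpen a).ι _ (pullback.lift
    (pullback.fst _ f ≫ (V.toScheme.basicOpen a).ι) (pullback.snd _ f)
    (by rw [Category.assoc, ← pullback.condition]; simp only [ι₀, Category.assoc]; rfl)) ?_ ?_
  · refine IsPullback.of_right (h₁₂ := pullback.snd (V.ι ≫ T.hom) f) (v₁₃ := f) ?_
      (pullback.lift_fst _ _ _) (IsPullback.of_hasPullback _ f).flip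
    rw [pullback.lift_snd]
    simpa [ι₀, pr] using (IsPullback.of_hasPullback (ι₀ ≫ T.hom) f).flip
  · refine RingedSpace.isUnit_of_isUnit_germ _ _ _ fun x hx => ?_
    have hb : (V.toScheme.basicOpen a).toScheme.basicOpen ((V.toScheme.basicOpen a).ι.appTop a) = ⊤ :=
      (Scheme.preimage_basicOpen_top _ _).symm.trans (Scheme.Opens.ι_preimage_self _)
    exact (Scheme.mem_basicOpen _ _ x hx).1 (by rw [hb]; trivial)

/-- Points of `𝔾_m` are determined on good open neighbourhoods. -/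
theorem ext_good {T : Over X} {a b : T ⟶ Red.Gm X}
    (h : ∀ (T₁ : Over X) (j : T₁ ⟶ T), Good f T₁ → Red.gmFn (j ≫ a) = Red.gmFn (j ≫ b)) : a = b := by
  choose T₁ j ho hmem hg using exists_good f T
  refine Over.OverMorphism.ext ?_
  haveI := ho
  refine (T.left.openCoverOfIsOpenCover (fun t => (j t).left.opensRange)
    (TopologicalSpace.IsOpenCover.mk (eq_top_iff.2 fun x _ =>
      TopologicalSpace.Opens.mem_iSup.2 ⟨x, hmem x⟩))).hom_ext _ _ fun t => ?_
  show (j t).left.opensRange.ι ≫ _ = (j t).left.opensRange.ι ≫ _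
  rw [← cancel_epi (j t).left.isoOpensRange.hom, ← Category.assoc, ← Category.assoc,
    Scheme.Hom.isoOpensRange_hom_ι]
  exact congrArg CommaMorphism.left (GmPts.gmFn_injective (h (T₁ t) (j t) (hg t)))

/-- `a` is the norm of `s`. -/
def IsNrm (T : Over X) (s : Γ((P f T).left, ⊤)) (a : T ⟶ Red.Gm X) : Prop :=
  ∀ (T₁ : Over X) (j : T₁ ⟶ T), Good f T₁ →
    Red.gmFn (j ≫ a) = nrm f T₁ (((Over.pullback f).map j).left.appTop s)

theorem map_appTop {T₁ T₂ T₃ : Over X} (k : T₁ ⟶ T₂) (j : T₂ ⟶ T₃) (s : Γ((P f T₃).left, ⊤)) :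
    ((Over.pullback f).map k).left.appTop (((Over.pullback f).map j).left.appTop s) =
      ((Over.pullback f).map (k ≫ j)).left.appTop s := by
  rw [Functor.map_comp]
  exact (congr($(Scheme.Hom.comp_appTop ((Over.pullback f).map k).left ((Over.pullback f).map j).left) s)).symm

theorem exists_isNrm (T : Over X) (s : (Γ((P f T).left, ⊤))ˣ) : ∃ a, IsNrm f T (s : Γ((P f T).left, ⊤)) a := by
  choose T₁ j ho hmem hg using exists_good f T
  haveI := ho
  let q : ∀ t, T₁ t ⟶ Red.Gm X := fun t => GmPts.ptOfUnit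
    (Units.map (nrm f (T₁ t)) (Units.map ((Over.pullback f).map (j t)).left.appTop.hom.toMonoidHom s))
  have hq : ∀ (t : T.left) (Z : Over X) (k : Z ⟶ T₁ t), Good f Z →
      Red.gmFn (k ≫ q t) = nrm f Z (((Over.pullback f).map (k ≫ j t)).left.appTop (s : Γ((P f T).left, ⊤))) := by
    intro t Z k hZ
    rw [GmPts.gmFn_comp, GmPts.gmFn_ptOfUnit, ← map_appTop, nrm_map f (hg t) hZ.1 k]
    rfl
  let 𝒰 : T.left.OpenCover := Scheme.Cover.mkOfCovers T.left (fun t => (T₁ t).left) (fun t => (j t).left)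
    (fun x => by obtain ⟨y, hy⟩ := hmem x; exact ⟨x, y, hy⟩) (fun t => ho t)
  have compat : ∀ (t t' : T.left), pullback.fst (j t).left (j t').left ≫ (q t).left =
      pullback.snd (j t).left (j t').left ≫ (q t').left := by
    intro t t'
    let W : Over X := Over.mk (pullback.fst (j t).left (j t').left ≫ (T₁ t).hom)
    let p₁ : W ⟶ T₁ t := Over.homMk (pullback.fst (j t).left (j t').left) rfl
    let p₂ : W ⟶ T₁ t' := Over.homMk (pullback.snd (j t).left (j t').left) (by
      show pullback.snd _ _ ≫ (T₁ t').hom = pullback.fst _ _ ≫ (T₁ t).hom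
      rw [← Over.w (j t), ← Over.w (j t'), pullback.condition_assoc])
    suffices h : p₁ ≫ q t = p₂ ≫ q t' from congrArg CommaMorphism.left h
    refine ext_good f fun Z k hZ => ?_
    rw [← Category.assoc, ← Category.assoc, hq t Z _ hZ, hq t' Z _ hZ]
    have e : p₁ ≫ j t = p₂ ≫ j t' := Over.OverMorphism.ext pullback.condition
    rw [Category.assoc, e, ← Category.assoc]
  let g : T.left ⟶ (Red.Gm X).left := 𝒰.glueMorphisms (fun t => (q t).left) fun t t' => compat t t'
  have hgl : ∀ t, (j t).left ≫ g = (q t).left := fun t => 𝒰.ι_glueMorphisms _ _ t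
  let a : T ⟶ Red.Gm X := Over.homMk g (𝒰.hom_ext _ _ fun t => by
    show (j t).left ≫ g ≫ (Red.Gm X).hom = (j t).left ≫ T.hom
    rw [← Category.assoc, hgl, Over.w (q t), Over.w (j t)])
  have ha : ∀ t, j t ≫ a = q t := fun t => Over.OverMorphism.ext (hgl t)
  refine ⟨a, fun Z k hZ => ?_⟩
  -- compare on good pieces inside the preimages of the cover
  obtain ⟨hZa, hZfin, hZfree⟩ := id hZ
  let b : Z ⟶ Red.Gm X := GmPts.ptOfUnit
    (Units.map (nrm f Z) (Units.map ((Over.pullback f).map k).left.appTop.hom.toMonoidHom s))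
  have hb : k ≫ a = b := by
    refine Over.OverMorphism.ext (Scheme.Cover.hom_ext (𝒰.pullback₁ k.left) _ _ fun t => ?_)
    let W : Over X := Over.mk (pullback.fst k.left (j t).left ≫ Z.hom)
    let p₁ : W ⟶ Z := Over.homMk (pullback.fst k.left (j t).left) rfl
    let p₂ : W ⟶ T₁ t := Over.homMk (pullback.snd k.left (j t).left) (by
      show pullback.snd _ _ ≫ (T₁ t).hom = pullback.fst _ _ ≫ Z.hom
      rw [← Over.w (j t), ← Over.w k, pullback.condition_assoc])
    suffices h : p₁ ≫ k ≫ a = p₁ ≫ b from congrArg CommaMorphism.left h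
    have e : p₁ ≫ k = p₂ ≫ j t := Over.OverMorphism.ext pullback.condition
    refine ext_good f fun V l hV => ?_
    rw [reassoc_of% e, ha, ← Category.assoc, hq t V _ hV, Category.assoc, ← e, ← Category.assoc,
      GmPts.gmFn_comp, GmPts.gmFn_comp, GmPts.gmFn_ptOfUnit, ← map_appTop, nrm_map f hZ hV.1 (l ≫ p₁)]
    exact (congr($(Scheme.Hom.comp_appTop l.left p₁.left) _))
  rw [hb, GmPts.gmFn_ptOfUnit]
  rfl

theorem IsNrm.unique {T : Over X} {s : Γ((P f T).left, ⊤)} {a b : T ⟶ Red.Gm X}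
    (ha : IsNrm f T s a) (hb : IsNrm f T s b) : a = b :=
  ext_good f fun T₁ j hT₁ => (ha T₁ j hT₁).trans (hb T₁ j hT₁).symm

/-- The norm of a point. -/
def ptN (T : Over X) (t : P f T ⟶ Red.Gm X') : T ⟶ Red.Gm X :=
  (exists_isNrm f T (GmPts.unitOfPt t)).choose

theorem isNrm_ptN (T : Over X) (t : P f T ⟶ Red.Gm X') : IsNrm f T (Red.gmFn t) (ptN f T t) :=
  (exists_isNrm f T (GmPts.unitOfPt t)).choose_spec

theorem ptN_mul (T : Over X) (t t' : P f T ⟶ Red.Gm X') : ptN f T (t * t') = ptN f T t * ptN f T t' :=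
  (isNrm_ptN f T _).unique f fun T₁ j hT₁ => by
    rw [MonObj.comp_mul, GmPts.gmFn_mul, isNrm_ptN f T t T₁ j hT₁, isNrm_ptN f T t' T₁ j hT₁,
      GmPts.gmFn_mul, map_mul, map_mul]

theorem ptN_map {T T' : Over X} (k : T' ⟶ T) (t : P f T ⟶ Red.Gm X') :
    ptN f T' ((Over.pullback f).map k ≫ t) = k ≫ ptN f T t :=
  (isNrm_ptN f T' _).unique f fun T₁ j hT₁ => by
    rw [← Category.assoc, isNrm_ptN f T t T₁ _ hT₁, GmPts.gmFn_comp, map_appTop]

set_option backward.isDefEq.respectTransparency true in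
set_option backward.isDefEq.respectTransparency.types true in
/-- The norm on points, additively. -/
def ptNHom (T : Over X) : Additive (P f T ⟶ Red.Gm X') →+ Additive (T ⟶ Red.Gm X) :=
  MonoidHom.toAdditive (MonoidHom.mk' (ptN f T) (ptN_mul f T))

set_option backward.isDefEq.respectTransparency true in
set_option backward.isDefEq.respectTransparency.types true in
/-- The norm map. -/
def normMap : CGrpSh3.pushGm Scheme.fppfPrecoverage f ⟶ CGrpSh2.Gm Scheme.fppfPrecoverage X :=
  ⟨{ app := fun T => AddCommGrpCat.ofHom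
      (((CGrpSh.sectEquiv Scheme.fppfPrecoverage (Red.Gm X) T.unop).symm.toAddMonoidHom.comp (ptNHom f T.unop)).comp
        (CGrpSh.sectEquiv Scheme.fppfPrecoverage (Red.Gm X') (P f T.unop)).toAddMonoidHom)
     naturality := fun T T' k => AddCommGrpCat.ext fun s =>
      congrArg (fun z => ULift.up (Additive.ofMul z)) (ptN_map f k.unop (Additive.toMul s.down)) }⟩

theorem isNormMap_normMap : CGrpSh3.IsNormMap Scheme.fppfPrecoverage f (normMap f) := by
  intro T hT alg hfin hfree halg t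
  obtain rfl : alg = (pr f T).appTop.hom.toAlgebra := Algebra.algebra_ext _ _ fun a => halg a
  have h := isNrm_ptN f T t T (𝟙 T) ⟨hT, hfin, hfree⟩
  rw [Category.id_comp, CategoryTheory.Functor.map_id] at h
  refine Eq.trans ?_ (h.trans ?_)
  · rfl
  · rw [show (𝟙 (P f T) : P f T ⟶ P f T).left.appTop (Red.gmFn t) = Red.gmFn t from
      congr($(Scheme.Hom.id_appTop (X := (P f T).left)) (Red.gmFn t))]
    rfl

end Norm

end Groth.L09.NormMap
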