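import Mathlib.RingTheory.Flat.Basic
import Mathlib.RingTheory.Valuation.LocalSubring
import Mathlib.RingTheory.IntegralClosure.IntegrallyClosed
import Mathlib.RingTheory.TensorProduct.Maps

/-!
# Flat algebras over normal domains: the generic part and valuation rings
-/

universe u

open TensorProduct

namespace Groth.L09.NormalExt

/-- An element of the fraction field lying in all valuation subrings over an integrally closed
domain lies in the domain. -/
theorem exists_algebraMap_eq {A K L : Type u} [CommRing A] [IsDomain A] [IsIntegrallyClosed A]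
    [Field K] [Algebra A K] [IsFractionRing A K] [Field L] [Algebra A L] (φ : K →ₐ[A] L) (k : K)
    (h : ∀ V : ValuationSubring L, (∀ a, algebraMap A L a ∈ V.toSubring) → φ k ∈ V) :
    ∃ a, algebraMap A K a = k := by
  apply IsIntegrallyClosed.isIntegral_iff.mp
  refine (isIntegral_algHom_iff φ φ.toRingHom.injective).mp ?_
  let C := (integralClosure A L).toSubring
  haveI : IsIntegrallyClosedIn C L := Subring.isIntegrallyClosedIn_iff.mpr fun {z} hz => by
    haveI : Algebra.IsIntegral A (integralClosure A L) := integralClosure.AlgebraIsIntegral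
    have hz' : IsIntegral (integralClosure A L) z := hz
    exact isIntegral_trans z hz'
  by_contra hn
  obtain ⟨V, hV, hk⟩ := Subring.exists_le_valuationSubring_of_isIntegrallyClosedIn (R := C)
    (x := φ k) hn
  exact hk (h V fun a => hV ((integralClosure A L).algebraMap_mem a))

variable {A K W W₀ B : Type u} [CommRing A] [CommRing K] [Algebra A K] [CommRing W] [Algebra A W]
  [CommRing W₀] [Algebra A W₀] [CommRing B] [Algebra A B] [Module.Flat A B]

/-- Descent of ring homomorphisms into a flat algebra along `A = K ∩ W`. -/
theorem exists_hom {C : Type u} [CommRing C] (φ : K →ₐ[A] W₀) (ev : W →ₐ[A] W₀)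
    (hev : Function.Injective ev) (hK : Function.Injective (algebraMap A K))
    (heq : ∀ k w, φ k = ev w → ∃ a, algebraMap A K a = k)
    (f : C →+* B ⊗[A] K) (g : C →+* B ⊗[A] W)
    (hfg : ∀ c, Algebra.TensorProduct.map (AlgHom.id A B) φ (f c) =
      Algebra.TensorProduct.map (AlgHom.id A B) ev (g c)) :
    ∃ h : C →+* B, ∀ c, h c ⊗ₜ[A] (1 : K) = f c := by
  let inc : B →+* B ⊗[A] K := Algebra.TensorProduct.includeLeftRingHom
  have hinj : Function.Injective inc := by
    intro b b' e
    have : Function.Injective ((Algebra.linearMap A K).lTensor B ∘ (TensorProduct.rid A B).symm) :=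
      (Module.Flat.lTensor_preserves_injective_linearMap _ hK).comp
        (TensorProduct.rid A B).symm.injective
    apply this
    simpa [inc] using e
  let ι₀ : A →ₗ[A] K × W := (Algebra.linearMap A K).prod (Algebra.linearMap A W)
  let d : K × W →ₗ[A] W₀ :=
    φ.toLinearMap ∘ₗ LinearMap.fst A K W - ev.toLinearMap ∘ₗ LinearMap.snd A K W
  have hex : Function.Exact ι₀ d := by
    intro x
    constructor
    · intro hx
      have hx' : φ x.1 = ev x.2 := sub_eq_zero.mp hx
      obtain ⟨a, ha⟩ := heq _ _ hx'
      refine ⟨a, Prod.ext ha (hev ?_)⟩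
      rw [← hx', ← ha]
      simp [ι₀]
    · rintro ⟨a, rfl⟩
      simp [ι₀, d]
  have hex' := Module.Flat.lTensor_exact B hex
  have key : ∀ c, ∃ b, inc b = f c := by
    intro c
    let z : B ⊗[A] (K × W) :=
      (LinearMap.inl A K W).lTensor B (f c) + (LinearMap.inr A K W).lTensor B (g c)
    have hz : d.lTensor B z = 0 := by
      simp only [z, map_add, ← LinearMap.lTensor_comp_apply]
      have e1 : d ∘ₗ LinearMap.inl A K W = φ.toLinearMap := by ext; simp [d]
      have e2 : d ∘ₗ LinearMap.inr A K W = -ev.toLinearMap := by ext; simp [d]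
      rw [e1, e2, LinearMap.lTensor_neg, LinearMap.neg_apply, ← sub_eq_add_neg, sub_eq_zero]
      exact hfg c
    obtain ⟨t, ht⟩ := (hex' z).mp hz
    refine ⟨TensorProduct.rid A B t, ?_⟩
    have := congrArg ((LinearMap.fst A K W).lTensor B) ht
    simp only [z, map_add, ← LinearMap.lTensor_comp_apply] at this
    rw [show LinearMap.fst A K W ∘ₗ LinearMap.inl A K W = LinearMap.id from rfl,
      show LinearMap.fst A K W ∘ₗ LinearMap.inr A K W = 0 from rfl,
      show LinearMap.fst A K W ∘ₗ ι₀ = Algebra.linearMap A K from rfl] at this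
    simp only [LinearMap.lTensor_id, LinearMap.id_apply, LinearMap.lTensor_zero,
      LinearMap.zero_apply, add_zero] at this
    rw [← this]
    conv_rhs => rw [← (TensorProduct.rid A B).symm_apply_apply t, TensorProduct.rid_symm_apply,
      LinearMap.lTensor_tmul, Algebra.linearMap_apply, map_one]
    rfl
  choose h hh using key
  have h1 : h 1 = 1 := hinj (by rw [hh, map_one, map_one])
  have hm : ∀ x y, h (x * y) = h x * h y := fun x y =>
    hinj (by rw [hh, map_mul, map_mul, hh, hh])
  have h0 : h 0 = 0 := hinj (by rw [hh, map_zero, map_zero])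
  have ha : ∀ x y, h (x + y) = h x + h y := fun x y =>
    hinj (by rw [hh, map_add, map_add, hh, hh])
  exact ⟨{ toFun := h
           map_one' := h1
           map_mul' := hm
           map_zero' := h0
           map_add' := ha }, fun c => hh c⟩

end Groth.L09.NormalExt
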