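import Groth.Agent.L09.GenericTorsor
import Groth.Agent.L09.NormalExtRing
import Groth.Agent.L21.NormalAffine
import Groth.Prelude.Def_Pi1
import Mathlib.AlgebraicGeometry.FunctionField
import Mathlib.AlgebraicGeometry.Morphisms.Affine
import Mathlib.AlgebraicGeometry.Morphisms.Flat

/-!
# Equivariant maps of torsors over normal bases extend from the generic point
-/

universe u

open CategoryTheory CategoryTheory.Limits MonoidalCategory CartesianMonoidalCategory MonObj
  AlgebraicGeometry
open scoped TensorProduct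

set_option linter.style.haveILetI false
set_option backward.isDefEq.respectTransparency.types false
set_option backward.isDefEq.respectTransparency false

namespace Groth.L09.NormalExt

open Groth.L09.TorsorPts Groth.L09.GenericTorsor

lemma comp_div {S : Scheme.{u}} {G P : Over S} [GrpObj G] {aP : AlgGrp.Action G P}
    (hP : RelPseudo aP (toUnit P)) {Z Z' : Over S} (j : Z' ⟶ Z) (x y : Z ⟶ P) :
    j ≫ hP.div x y (toUnit_unique _ _) = hP.div (j ≫ x) (j ≫ y) (toUnit_unique _ _) := by
  apply hP.eq_div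
  have := congrArg (j ≫ ·) (hP.sm_div x y (toUnit_unique _ _))
  rw [comp_sm] at this
  exact this

/-- The generic point as an object over `X`. -/
noncomputable abbrev gen (X : Scheme.{u}) [IsIntegral X] : Over X :=
  Over.mk (X.fromSpecStalk (genericPoint X))

lemma gen_subsingleton {X : Scheme.{u}} [IsIntegral X] {Z : Over X} (k k' : Z ⟶ gen X) : k = k' := by
  ext1
  rw [← cancel_mono (X.fromSpecStalk (genericPoint X))]
  exact (Over.w k).trans (Over.w k').symm

lemma gen_dominant (X : Scheme.{u}) [IsIntegral X] :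
    IsSchemeTheoreticallyDominant (X.fromSpecStalk (genericPoint X)) := by
  haveI : IsDominant (X.fromSpecStalk (genericPoint X)) := ⟨fun z => by
    have h : genericPoint X ∈ Set.range (X.fromSpecStalk (genericPoint X)) :=
      ⟨IsLocalRing.closedPoint _, Scheme.fromSpecStalk_closedPoint⟩
    refine closure_mono (Set.singleton_subset_iff.2 h) ?_
    rw [genericPoint_spec X]
    trivial⟩
  exact .of_isDominant _

variable {X : Scheme.{u}} [IsIntegral X]

/-- Morphisms from a flat scheme are determined at the generic point. -/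
lemma eq_of_gen {Z Q : Over X} [Flat Z.hom] [IsSeparated Q.hom] (f g : Z ⟶ Q)
    (h : fst Z (gen X) ≫ f = fst Z (gen X) ≫ g) : f = g := by
  haveI := gen_dominant X
  haveI : QuasiCompact (X.fromSpecStalk (genericPoint X)) := inferInstance
  haveI : IsSchemeTheoreticallyDominant (fst Z (gen X)).left :=
    inferInstanceAs (IsSchemeTheoreticallyDominant
      (pullback.fst Z.hom (X.fromSpecStalk (genericPoint X))))
  ext1
  exact Groth.Agent.NeronL.eq_of_std (fst Z (gen X)).left f.left g.left Q.hom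
    ((Over.w f).trans (Over.w g).symm) (congrArg Over.Hom.left h)

variable {G P Q : Over X} [GrpObj G]

/-- The extension over an affine open. -/
theorem exists_local (hX : Pi1.IsNormalScheme X) [Flat P.hom] [Surjective P.hom]
    [IsAffineHom P.hom] [IsAffineHom Q.hom] [UniversallyClosed P.hom] [UniversallyClosed Q.hom]
    {aP : AlgGrp.Action G P} {aQ : AlgGrp.Action G Q} (hP : RelPseudo aP (toUnit P))
    (θ : P ⊗ gen X ⟶ Q)
    (hθ : ∀ {Z : Over X} (g : Z ⟶ G) (x : Z ⟶ P) (k : Z ⟶ gen X),
      lift (sm aP g x) k ≫ θ = sm aQ g (lift x k ≫ θ))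
    {U : X.Opens} (hU : IsAffineOpen U) [Nonempty U] :
    ∃ (ZB : Over X) (p : ZB ⟶ P) (h : ZB ⟶ Q),
      IsOpenImmersion p.left ∧ Set.range p.left = P.hom ⁻¹' (U : Set X) ∧
      ∀ {Z : Over X} (z : Z ⟶ ZB) (k : Z ⟶ gen X), z ≫ h = lift (z ≫ p) k ≫ θ := by
  let A : Type u := Γ(X, U)
  let K : Type u := X.functionField
  haveI : IsFractionRing A K := functionField_isFractionRing_of_isAffineOpen X U hU
  haveI : IsIntegrallyClosed A := Groth.L21.isIntegrallyClosed_of_normal hX hU
  have hη : genericPoint X ∈ U := by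
    obtain ⟨⟨y, hy⟩⟩ := ‹Nonempty U›
    exact ((genericPoint_spec X).mem_open_set_iff U.isOpen).mpr ⟨y, trivial, hy⟩
  have eA : Spec.map (CommRingCat.ofHom (algebraMap A K)) ≫ hU.fromSpec =
      X.fromSpecStalk (genericPoint X) := hU.fromSpecStalk_eq_fromSpecStalk hη
  -- a point over the generic point
  obtain ⟨x, hx⟩ := P.hom.surjective (genericPoint X)
  let L : Type u := P.left.residueField x
  letI : Field L := inferInstanceAs (Field (P.left.residueField x))
  let φc : X.functionField ⟶ P.left.residueField x :=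
    X.residue (genericPoint X) ≫ (X.residueFieldCongr hx).inv ≫ P.hom.residueFieldMap x
  have hφc : Spec.map φc ≫ X.fromSpecStalk (genericPoint X) =
      P.left.fromSpecResidueField x ≫ P.hom := by
    simp only [φc, Spec.map_comp, Category.assoc]
    rw [← Scheme.Hom.SpecMap_residueFieldMap_fromSpecResidueField]
    congr 1
    exact Scheme.residueFieldCongr_fromSpecResidueField hx.symm
  letI : Algebra A L := (φc.hom.comp (algebraMap A K)).toAlgebra
  let φK : K →ₐ[A] L := { φc.hom with commutes' := fun _ => rfl }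
  let ov (D : Type u) [CommRing D] [Algebra A D] : Over X :=
    Over.mk (Spec.map (CommRingCat.ofHom (algebraMap A D)) ≫ hU.fromSpec)
  let om {D D' : Type u} [CommRing D] [Algebra A D] [CommRing D'] [Algebra A D'] (f : D →ₐ[A] D') :
      ov D' ⟶ ov D := Over.homMk (Spec.map (CommRingCat.ofHom f.toRingHom)) (by
        show _ ≫ _ ≫ _ = _ ≫ _
        rw [← Category.assoc, ← Spec.map_comp]
        congr 2
        exact CommRingCat.hom_ext f.comp_algebraMap)
  have toK : ∀ {D : Type u} [CommRing D] [Algebra A D] (f : K →ₐ[A] D),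
      Spec.map (CommRingCat.ofHom f.toRingHom) ≫ X.fromSpecStalk (genericPoint X) =
        Spec.map (CommRingCat.ofHom (algebraMap A D)) ≫ hU.fromSpec := by
    intro D _ _ f
    rw [← eA, ← Category.assoc, ← Spec.map_comp]
    congr 2
    exact CommRingCat.hom_ext f.comp_algebraMap
  let sK : ov L ⟶ gen X := Over.homMk (Spec.map (CommRingCat.ofHom φK.toRingHom)) (toK φK)
  let sP : ov L ⟶ P := Over.homMk (P.left.fromSpecResidueField x) (hφc.symm.trans (toK φK))
  let sQ : ov L ⟶ Q := lift sP sK ≫ θ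
  -- the parts over the affine open
  let PU := pullback P.hom hU.fromSpec
  let QU := pullback Q.hom hU.fromSpec
  haveI : IsAffine PU := isAffine_of_isAffineHom (pullback.snd P.hom hU.fromSpec)
  haveI : IsAffine QU := isAffine_of_isAffineHom (pullback.snd Q.hom hU.fromSpec)
  -- valuation rings
  let J := {V : ValuationSubring L // ∀ a, algebraMap A L a ∈ V.toSubring}
  let W : Type u := ∀ V : J, V.1
  letI : Algebra A W :=
    (RingHom.pi fun V : J => (algebraMap A L).codRestrict V.1.toSubring V.2).toAlgebra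
  choose lP hlP hlP' using fun V : J => exists_valuation_lift (pullback.snd P.hom hU.fromSpec)
    (pullback.lift sP.left (Spec.map (CommRingCat.ofHom (algebraMap A L))) (Over.w sP))
    (pullback.lift_snd _ _ _) V.1 V.2
  choose lQ hlQ hlQ' using fun V : J => exists_valuation_lift (pullback.snd Q.hom hU.fromSpec)
    (pullback.lift sQ.left (Spec.map (CommRingCat.ofHom (algebraMap A L))) (Over.w sQ))
    (pullback.lift_snd _ _ _) V.1 V.2
  obtain ⟨s₀, hs₀⟩ := exists_lift_pi (V := fun V : J => V.1) lP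
  obtain ⟨y₀, hy₀⟩ := exists_lift_pi (V := fun V : J => V.1) lQ
  have hW : ∀ (s : Spec (CommRingCat.of W) ⟶ Spec (CommRingCat.of A)),
      (∀ V : J, Spec.map (CommRingCat.ofHom (Pi.evalRingHom (fun V : J => V.1) V)) ≫ s =
        Spec.map (CommRingCat.ofHom ((algebraMap A L).codRestrict V.1.toSubring V.2))) →
      s = Spec.map (CommRingCat.ofHom (algebraMap A W)) := by
    intro s h
    obtain ⟨f, rfl⟩ := Spec.map_surjective s
    congr 1
    refine CommRingCat.hom_ext (RingHom.ext fun r => funext fun V => ?_)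
    have := h V
    rw [← Spec.map_comp] at this
    exact congr($(Spec.map_injective this) r)
  have hsA := hW (s₀ ≫ pullback.snd P.hom hU.fromSpec) fun V => by
    rw [← hlP' V, ← hs₀ V, Category.assoc]
  have hyA := hW (y₀ ≫ pullback.snd Q.hom hU.fromSpec) fun V => by
    rw [← hlQ' V, ← hy₀ V, Category.assoc]
  let s : ov W ⟶ P := Over.homMk (s₀ ≫ pullback.fst P.hom hU.fromSpec) (by
    show (s₀ ≫ _) ≫ P.hom = Spec.map (CommRingCat.ofHom (algebraMap A W)) ≫ hU.fromSpec
    rw [← hsA, Category.assoc, Category.assoc, pullback.condition])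
  let y : ov W ⟶ Q := Over.homMk (y₀ ≫ pullback.fst Q.hom hU.fromSpec) (by
    show (y₀ ≫ _) ≫ Q.hom = Spec.map (CommRingCat.ofHom (algebraMap A W)) ≫ hU.fromSpec
    rw [← hyA, Category.assoc, Category.assoc, pullback.condition])
  let ev : W →ₐ[A] (J → L) :=
    { RingHom.pi fun V : J => V.1.subtype.comp (Pi.evalRingHom (fun V : J => V.1) V) with
      commutes' := fun _ => rfl }
  let φ₀ : K →ₐ[A] (J → L) := Pi.algHom A _ fun _ => φK
  let jW : ov (J → L) ⟶ ov W := om ev
  let jK : ov (J → L) ⟶ gen X :=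
    Over.homMk (Spec.map (CommRingCat.ofHom φ₀.toRingHom)) (toK φ₀)
  have hy : jW ≫ y = lift (jW ≫ s) jK ≫ θ := by
    ext1
    refine eq_of_joint (C := CommRingCat.of (J → L)) (Iso.refl _)
      (fun V : J => CommRingCat.ofHom (Pi.evalRingHom (fun _ : J => L) V))
      (fun c hc => funext hc) _ _ Q.hom ((Over.w _).trans (Over.w _).symm) fun V => ?_
    let q : ov L ⟶ ov (J → L) := om (Pi.evalAlgHom A (fun _ : J => L) V)
    have e : ∀ {T : Scheme.{u}} (t : Spec (CommRingCat.of W) ⟶ T),
        q.left ≫ jW.left ≫ t = Spec.map (CommRingCat.ofHom V.1.subtype) ≫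
          Spec.map (CommRingCat.ofHom (Pi.evalRingHom (fun V : J => V.1) V)) ≫ t := by
      intro T t
      show Spec.map _ ≫ Spec.map _ ≫ t = _
      rw [← Spec.map_comp_assoc, ← Spec.map_comp_assoc]
      rfl
    have hs : q ≫ jW ≫ s = sP := by
      ext1
      rw [Over.comp_left, Over.comp_left, e]
      show _ ≫ _ ≫ s₀ ≫ _ = _
      rw [reassoc_of% hs₀ V, reassoc_of% hlP V, pullback.lift_fst]
    have hy' : q ≫ jW ≫ y = sQ := by
      ext1
      rw [Over.comp_left, Over.comp_left, e]
      show _ ≫ _ ≫ y₀ ≫ _ = _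
      rw [reassoc_of% hy₀ V, reassoc_of% hlQ V, pullback.lift_fst]
    have hk : q ≫ jK = sK := gen_subsingleton _ _
    refine (congrArg (q.left ≫ ·) (Category.id_comp _)).trans
      (Eq.trans ?_ (congrArg (q.left ≫ ·) (Category.id_comp _)).symm)
    show q.left ≫ _ = q.left ≫ _
    rw [← Over.comp_left, ← Over.comp_left, hy', ← Category.assoc q, comp_lift, hs, hk]
  -- the affine ring of the open piece
  let B : Type u := Γ(PU, ⊤)
  let aB : CommRingCat.of A ⟶ Γ(PU, ⊤) :=
    Spec.preimage (PU.isoSpec.inv ≫ pullback.snd P.hom hU.fromSpec)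
  have haB : Spec.map aB = PU.isoSpec.inv ≫ pullback.snd P.hom hU.fromSpec := Spec.map_preimage _
  letI : Algebra A B := aB.hom.toAlgebra
  haveI : Module.Flat A B := by
    have : Flat (Spec.map aB) := by rw [haB]; infer_instance
    rw [HasRingHomProperty.Spec_iff (P := @Flat)] at this
    exact this
  let p : ov B ⟶ P := Over.homMk (PU.isoSpec.inv ≫ pullback.fst P.hom hU.fromSpec) (by
    show (PU.isoSpec.inv ≫ _) ≫ P.hom = Spec.map aB ≫ hU.fromSpec
    rw [haB, Category.assoc, Category.assoc, pullback.condition])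
  let pB : ov (B ⊗[A] K) ⟶ ov B := om Algebra.TensorProduct.includeLeft
  let pK : ov (B ⊗[A] K) ⟶ gen X := Over.homMk
    (Spec.map (CommRingCat.ofHom
      (Algebra.TensorProduct.includeRight : K →ₐ[A] B ⊗[A] K).toRingHom)) (toK _)
  let fQ : ov (B ⊗[A] K) ⟶ Q := lift (pB ≫ p) pK ≫ θ
  let pB' : ov (B ⊗[A] W) ⟶ ov B := om Algebra.TensorProduct.includeLeft
  let pW : ov (B ⊗[A] W) ⟶ ov W := om Algebra.TensorProduct.includeRight
  let gQ : ov (B ⊗[A] W) ⟶ Q :=
    sm aQ (hP.div (pB' ≫ p) (pW ≫ s) (toUnit_unique _ _)) (pW ≫ y)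
  let C : CommRingCat.{u} := Γ(QU, ⊤)
  have fac : ∀ {D : Type u} [CommRing D] [Algebra A D] (t : ov D ⟶ Q),
      ∃ f : C ⟶ CommRingCat.of D,
        Spec.map f ≫ QU.isoSpec.inv =
          pullback.lift t.left (Spec.map (CommRingCat.ofHom (algebraMap A D))) (Over.w t) := by
    intro D _ _ t
    refine ⟨Spec.preimage (pullback.lift t.left _ (Over.w t) ≫ QU.isoSpec.hom), ?_⟩
    rw [Spec.map_preimage, Category.assoc, Iso.hom_inv_id, Category.comp_id]
  obtain ⟨f, hf⟩ := fac fQ
  obtain ⟨g, hg⟩ := fac gQ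
  let mφ : B ⊗[A] K →ₐ[A] B ⊗[A] (J → L) := Algebra.TensorProduct.map (AlgHom.id A B) φ₀
  let mev : B ⊗[A] W →ₐ[A] B ⊗[A] (J → L) := Algebra.TensorProduct.map (AlgHom.id A B) ev
  have hfg : om mφ ≫ fQ = om mev ≫ gQ := by
    let z : ov (B ⊗[A] (J → L)) ⟶ ov (J → L) := om Algebra.TensorProduct.includeRight
    have e1 : om mev ≫ pW = z ≫ jW := by
      ext1
      show Spec.map _ ≫ Spec.map _ = Spec.map _ ≫ Spec.map _
      rw [← Spec.map_comp, ← Spec.map_comp]
      refine congrArg Spec.map (CommRingCat.hom_ext (RingHom.ext fun w => ?_))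
      exact Algebra.TensorProduct.map_tmul _ _ 1 w
    have e2 : om mev ≫ pB' = om mφ ≫ pB := by
      ext1
      show Spec.map _ ≫ Spec.map _ = Spec.map _ ≫ Spec.map _
      rw [← Spec.map_comp, ← Spec.map_comp]
      congr 1
      refine CommRingCat.hom_ext (RingHom.ext fun b => ?_)
      show mev (b ⊗ₜ 1) = mφ (b ⊗ₜ 1)
      simp [mev, mφ]
    have e3 : om mev ≫ gQ = sm aQ
        (hP.div (om mφ ≫ pB ≫ p) (z ≫ jW ≫ s) (toUnit_unique _ _)) (z ≫ jW ≫ y) := by
      rw [show gQ = sm aQ _ _ from rfl, comp_sm, comp_div]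
      simp only [reassoc_of% e1, reassoc_of% e2]
    have hy' : z ≫ jW ≫ y = lift (z ≫ jW ≫ s) (om mφ ≫ pK) ≫ θ := by
      rw [hy, ← Category.assoc, comp_lift, gen_subsingleton (z ≫ jK) (om mφ ≫ pK)]
    rw [e3, hy', show fQ = lift (pB ≫ p) pK ≫ θ from rfl, ← Category.assoc, comp_lift, ← hθ,
      hP.sm_div]
  have hfg' : ∀ c, mφ (f c) = mev (g c) := by
    have : f ≫ CommRingCat.ofHom mφ.toRingHom = g ≫ CommRingCat.ofHom mev.toRingHom := by
      apply Spec.map_injective
      rw [Spec.map_comp, Spec.map_comp, ← cancel_mono QU.isoSpec.inv, Category.assoc,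
        Category.assoc, hf, hg]
      apply pullback.hom_ext
      · rw [Category.assoc, Category.assoc, pullback.lift_fst, pullback.lift_fst]
        exact congrArg Over.Hom.left hfg
      · rw [Category.assoc, Category.assoc, pullback.lift_snd, pullback.lift_snd, ← Spec.map_comp,
          ← Spec.map_comp]
        congr 1
        exact CommRingCat.hom_ext (mφ.comp_algebraMap.trans mev.comp_algebraMap.symm)
    exact fun c => congr($this c)
  obtain ⟨h, hh⟩ := exists_hom φ₀ ev (fun v w e => funext fun V => Subtype.ext (congrFun e V))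
    (IsFractionRing.injective A K)
    (fun k w hkw => exists_algebraMap_eq φK k fun V hV => by
      have := congrFun hkw ⟨V, hV⟩
      exact (show φK k = _ from this) ▸ (w ⟨V, hV⟩).2)
    f.hom g.hom hfg'
  have hhf : CommRingCat.ofHom h ≫
      CommRingCat.ofHom (Algebra.TensorProduct.includeLeftRingHom : B →+* B ⊗[A] K) = f :=
    CommRingCat.hom_ext (RingHom.ext hh)
  let cQ : CommRingCat.of A ⟶ C :=
    Spec.preimage (QU.isoSpec.inv ≫ pullback.snd Q.hom hU.fromSpec)
  have hhA : Spec.map (CommRingCat.ofHom h) ≫ QU.isoSpec.inv ≫ pullback.snd Q.hom hU.fromSpec =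
      Spec.map (CommRingCat.ofHom (algebraMap A B)) := by
    rw [← Spec.map_preimage (QU.isoSpec.inv ≫ pullback.snd Q.hom hU.fromSpec), ← Spec.map_comp]
    congr 1
    have hinj : Function.Injective
        (Algebra.TensorProduct.includeLeftRingHom : B →+* B ⊗[A] K) :=
      Algebra.TensorProduct.includeLeft_injective (S := A) (IsFractionRing.injective A K)
    refine CommRingCat.hom_ext (RingHom.ext fun r => hinj ?_)
    have e : cQ ≫ f = CommRingCat.ofHom (algebraMap A (B ⊗[A] K)) := by
      apply Spec.map_injective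
      rw [Spec.map_comp, Spec.map_preimage, reassoc_of% hf, pullback.lift_snd]
    rw [← hhf] at e
    exact congr($e r)
  let hQ : ov B ⟶ Q := Over.homMk
    (Spec.map (CommRingCat.ofHom h) ≫ QU.isoSpec.inv ≫ pullback.fst Q.hom hU.fromSpec) (by
    show (_ ≫ _ ≫ _) ≫ Q.hom = Spec.map (CommRingCat.ofHom (algebraMap A B)) ≫ hU.fromSpec
    rw [← hhA, Category.assoc, Category.assoc, Category.assoc, Category.assoc, pullback.condition])
  have hpB : pB ≫ hQ = fQ := by
    ext1
    show Spec.map _ ≫ Spec.map _ ≫ _ = _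
    rw [← Spec.map_comp_assoc]
    have : CommRingCat.ofHom h ≫ CommRingCat.ofHom
        (Algebra.TensorProduct.includeLeft : B →ₐ[A] B ⊗[A] K).toRingHom = f := hhf
    rw [this, reassoc_of% hf, pullback.lift_fst]
  refine ⟨ov B, p, hQ, ?_, ?_, ?_⟩
  · show IsOpenImmersion (PU.isoSpec.inv ≫ pullback.fst P.hom hU.fromSpec)
    infer_instance
  · show Set.range (PU.isoSpec.inv ≫ pullback.fst P.hom hU.fromSpec : _ ⟶ P.left) = _
    rw [Scheme.Hom.comp_base, TopCat.coe_comp, Set.range_comp,
      Set.range_eq_univ.mpr PU.isoSpec.inv.surjective, Set.image_univ,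
      Scheme.Pullback.range_fst, hU.range_fromSpec]
  · intro Z z k
    have hzk : z.left ≫ Spec.map (CommRingCat.ofHom (algebraMap A B)) =
        k.left ≫ Spec.map (CommRingCat.ofHom (algebraMap A K)) := by
      rw [← cancel_mono hU.fromSpec, Category.assoc, Category.assoc, eA]
      exact (Over.w z).trans (Over.w k).symm
    let w₀ : Z.left ⟶ Spec (CommRingCat.of (B ⊗[A] K)) :=
      pullback.lift z.left k.left hzk ≫ (pullbackSpecIso A B K).hom
    have hwB : w₀ ≫ pB.left = z.left := by
      refine Eq.trans ?_ (pullback.lift_fst z.left k.left hzk)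
      rw [Category.assoc]
      congr 1
      rw [← Iso.eq_inv_comp]
      exact (pullbackSpecIso_inv_fst A B K).symm
    let w : Z ⟶ ov (B ⊗[A] K) := Over.homMk w₀ (by
      have := Over.w pB
      rw [← this, ← Category.assoc, hwB]
      exact Over.w z)
    have hw : w ≫ pB = z := by ext1; exact hwB
    rw [← hw, Category.assoc, hpB, show fQ = _ ≫ θ from rfl, ← Category.assoc, comp_lift,
      gen_subsingleton (w ≫ pK) k, Category.assoc]

/-- Equivariant maps of finite torsors over a normal base extend from the generic point. -/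
theorem exists_equivariant (hX : Pi1.IsNormalScheme X) [Flat G.hom] [Flat P.hom]
    [Surjective P.hom] [IsAffineHom P.hom] [IsAffineHom Q.hom] [UniversallyClosed P.hom]
    [UniversallyClosed Q.hom] {aP : AlgGrp.Action G P} {aQ : AlgGrp.Action G Q}
    (hP : NonAbH1.IsPseudoTorsorSch aP) (θ : P ⊗ gen X ⟶ Q)
    (hθ : ∀ {Z : Over X} (g : Z ⟶ G) (x : Z ⟶ P) (k : Z ⟶ gen X),
      lift (sm aP g x) k ≫ θ = sm aQ g (lift x k ≫ θ)) :
    ∃ f : P ⟶ Q, aP.act ≫ f = (G ◁ f) ≫ aQ.act := by
  let U (x : X) : X.Opens :=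
    (X.affineCover.f (X.affineCover.idx x)).opensRange
  have hU (x : X) : IsAffineOpen (U x) := isAffineOpen_opensRange _
  have hmem (x : X) : x ∈ U x := X.affineCover.covers x
  haveI (x : X) : Nonempty (U x) := ⟨⟨x, hmem x⟩⟩
  choose ZB p h hp hr hh using fun x =>
    exists_local hX (relPseudo_of_isPseudo hP) θ hθ (hU x)
  haveI := fun x => hp x
  let 𝒰 : P.left.OpenCover := Scheme.Cover.mkOfCovers X (fun x => (ZB x).left) (fun x => (p x).left)
    (fun y => by
      have : y ∈ Set.range (p (P.hom y)).left := by rw [hr]; exact hmem _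
      obtain ⟨z, hz⟩ := this
      exact ⟨P.hom y, z, hz⟩)
    (fun x => hp x)
  have compat : ∀ x y : 𝒰.I₀, pullback.fst (𝒰.f x) (𝒰.f y) ≫ (h x).left =
      pullback.snd (𝒰.f x) (𝒰.f y) ≫ (h y).left := by
    intro (x : X) (y : X)
    let T := pullback (p x).left (p y).left
    let Z : Over X := Over.mk (pullback.fst (p x).left (p y).left ≫ (p x).left ≫ P.hom)
    haveI : Flat Z.hom := by
      show Flat (pullback.fst (p x).left (p y).left ≫ (p x).left ≫ P.hom)
      infer_instance
    let zx : Z ⟶ ZB x := Over.homMk (pullback.fst _ _) (by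
      rw [← Over.w (p x)]; rfl)
    let zy : Z ⟶ ZB y := Over.homMk (pullback.snd _ _) (by
      rw [← Over.w (p y), ← pullback.condition_assoc]; rfl)
    have e : zx ≫ p x = zy ≫ p y := by ext1; exact pullback.condition
    have := eq_of_gen (zx ≫ h x) (zy ≫ h y) (by
      rw [← Category.assoc, ← Category.assoc, hh x _ (snd _ _), hh y _ (snd _ _), Category.assoc,
        Category.assoc, e])
    exact congrArg Over.Hom.left this
  let f₀ : P.left ⟶ Q.left := 𝒰.glueMorphisms (fun x => (h x).left) compat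
  have hf₀ (x : X) : (p x).left ≫ f₀ = (h x).left := 𝒰.ι_glueMorphisms _ compat x
  let f : P ⟶ Q := Over.homMk f₀ (by
    refine 𝒰.hom_ext _ _ fun x => ?_
    show (p x).left ≫ f₀ ≫ Q.hom = (p x).left ≫ P.hom
    rw [← Category.assoc, hf₀, Over.w, Over.w])
  have hpf (x : X) : p x ≫ f = h x := by ext1; exact hf₀ x
  have hf : fst P (gen X) ≫ f = θ := by
    ext1
    refine Scheme.Cover.hom_ext (𝒰.pullback₁ (fst P (gen X)).left) _ _ fun (x : X) => ?_
    let Z : Over X := Over.mk (pullback.fst (fst P (gen X)).left (p x).left ≫ (P ⊗ gen X).hom)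
    let z₁ : Z ⟶ P ⊗ gen X := Over.homMk (pullback.fst _ _) rfl
    let z₂ : Z ⟶ ZB x := Over.homMk (pullback.snd _ _) (by
      show _ = pullback.fst _ _ ≫ (P ⊗ gen X).hom
      rw [← Over.w (p x), ← pullback.condition_assoc, Over.w])
    have e : z₂ ≫ p x = z₁ ≫ fst P (gen X) := by ext1; exact pullback.condition.symm
    have : z₁ ≫ fst P (gen X) ≫ f = z₁ ≫ θ := by
      rw [← reassoc_of% e, hpf, hh x z₂ (z₁ ≫ snd P (gen X)), e, ← comp_lift, lift_fst_snd,
        Category.comp_id]
    exact congrArg Over.Hom.left this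
  refine ⟨f, ?_⟩
  haveI : Flat (G ⊗ P).hom := by
    show Flat (pullback.fst G.hom P.hom ≫ G.hom)
    infer_instance
  apply eq_of_gen
  let g : (G ⊗ P) ⊗ gen X ⟶ G := fst _ _ ≫ fst _ _
  let x : (G ⊗ P) ⊗ gen X ⟶ P := fst _ _ ≫ snd _ _
  have hf' : ∀ z : (G ⊗ P) ⊗ gen X ⟶ P, z ≫ f = lift z (snd _ _) ≫ θ := fun z => by
    rw [← hf, lift_fst_assoc]
  have h1 : fst (G ⊗ P) (gen X) ≫ aP.act ≫ f = sm aP g x ≫ f := by
    rw [← Category.assoc]
    congr 1
    simp only [sm, g, x, ← comp_lift, lift_fst_snd, Category.comp_id]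
  have h2 : fst (G ⊗ P) (gen X) ≫ (G ◁ f) ≫ aQ.act = sm aQ g (x ≫ f) := by
    rw [← Category.assoc]
    congr 1
    apply CartesianMonoidalCategory.hom_ext <;> simp [g, x]
  rw [h1, h2, hf', hf', hθ]

end Groth.L09.NormalExt
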