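import Groth.Agent.L09.SpaceCrit
import Groth.Agent.L09.SheafBC
import Groth.Agent.L09.MultiFlat
import Mathlib.CategoryTheory.Sites.LocallyBijective
import Mathlib.CategoryTheory.IsConnected

/-!
Restriction of an augmented family of spaces to an open part of the base.
-/

set_option autoImplicit false
set_option linter.unusedSectionVars false
set_option linter.unusedVariables false
set_option backward.isDefEq.respectTransparency false
set_option backward.isDefEq.respectTransparency.types false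
universe u
open CategoryTheory CategoryTheory.Limits Opposite Pseudofunctor.CoGrothendieck TopologicalSpace
open Groth.L09.SpaceSite

namespace Groth.L09

variable {D : Type} [Category.{0} D]

/-- A cartesian open embedding of augmented families of spaces. -/
structure OpenMap (Y' Y : (WithInitial D)ᵒᵖ ⥤ TopCat.{u}) where
  /-- The map. -/
  j : Y' ⟶ Y
  isOpenEmbedding : ∀ i, Topology.IsOpenEmbedding (j.app i)
  cartesian : ∀ (i : (WithInitial D)ᵒᵖ) (p : i ⟶ FibDesc.bot D) (y : Y.obj i),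
    Y.map p y ∈ Set.range (j.app (FibDesc.bot D)) → y ∈ Set.range (j.app i)

instance eps_isContinuous' (Y : (WithInitial D)ᵒᵖ ⥤ TopCat.{u}) :
    Functor.IsContinuous (C := Opens (Y.obj (FibDesc.bot D))) (ι (FibDesc.topAug Y) (FibDesc.bot D))
      (Opens.grothendieckTopology (Y.obj (FibDesc.bot D))) (JA Y) :=
  SpaceSite.eps_isContinuous Y

namespace OpenMap

variable {Y' Y : (WithInitial D)ᵒᵖ ⥤ TopCat.{u}} (c : OpenMap Y' Y)

/-- The image of an open set. -/
noncomputable abbrev im (i : (WithInitial D)ᵒᵖ) : Opens (Y'.obj i) ⥤ Opens (Y.obj i) :=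
  (c.isOpenEmbedding i).isOpenMap.functor

instance im_isContinuous (i : (WithInitial D)ᵒᵖ) :
    (c.im i).IsContinuous (Opens.grothendieckTopology (Y'.obj i)) (Opens.grothendieckTopology (Y.obj i)) :=
  (c.isOpenEmbedding i).functor_isContinuous

instance im_isCocontinuous (i : (WithInitial D)ᵒᵖ) :
    (c.im i).IsCocontinuous (Opens.grothendieckTopology (Y'.obj i)) (Opens.grothendieckTopology (Y.obj i)) where
  cover_lift {U S} hS := by
    intro x hx
    obtain ⟨V, f, hf, hV⟩ := hS (c.j.app i x) ⟨x, hx, rfl⟩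
    refine ⟨U ⊓ (Opens.map (c.j.app i)).obj V, homOfLE inf_le_left, ?_, hx, hV⟩
    have hle : (c.im i).obj (U ⊓ (Opens.map (c.j.app i)).obj V) ≤ V := by
      rintro _ ⟨z, ⟨-, hz⟩, rfl⟩
      exact hz
    show S.arrows ((c.im i).map _)
    rw [Subsingleton.elim ((c.im i).map _) (homOfLE hle ≫ f)]
    exact S.downward_closed hf _

instance im_isContinuous' (i : (WithInitial D)ᵒᵖ) :
    (c.im i).IsContinuous (FibDesc.topAugTop Y' i) (FibDesc.topAugTop Y i) := c.im_isContinuous i

instance im_isCocontinuous' (i : (WithInitial D)ᵒᵖ) :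
    (c.im i).IsCocontinuous (FibDesc.topAugTop Y' i) (FibDesc.topAugTop Y i) := c.im_isCocontinuous i

lemma j_nat {i k : (WithInitial D)ᵒᵖ} (f : i ⟶ k) (x : Y'.obj i) :
    c.j.app k (Y'.map f x) = Y.map f (c.j.app i x) :=
  ConcreteCategory.congr_hom (c.j.naturality f) x

/-- Image on the total categories. -/
noncomputable def m : ∫ᶜ (FibDesc.topAug Y') ⥤ ∫ᶜ (FibDesc.topAug Y) where
  obj X := SpaceSite.mk X.base ((c.im X.base).obj (ob X))
  map {X Z} f := hom f.base (by
    rintro _ ⟨x, hx, rfl⟩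
    exact ⟨Y'.map f.base x, hom_le f hx, c.j_nat f.base x⟩)
  map_id _ := hom_ext rfl
  map_comp _ _ := hom_ext rfl

/-- Image on the total categories of the parts. -/
noncomputable def mP : ∫ᶜ (FibDesc.part (FibDesc.topAug Y')) ⥤ ∫ᶜ (FibDesc.part (FibDesc.topAug Y)) where
  obj X := mkP X.base ((c.im ((FibDesc.toAug D).obj X.base)).obj (obP X))
  map {X Z} f := homP f.base (by
    rintro _ ⟨x, hx, rfl⟩
    exact ⟨Y'.map ((FibDesc.toAug D).map f.base) x, homP_le f hx, c.j_nat _ x⟩)
  map_id _ := homP_ext rfl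
  map_comp _ _ := homP_ext rfl

/-- `m` on fibres. -/
noncomputable def mIso (i : (WithInitial D)ᵒᵖ) :
    ι (FibDesc.topAug Y') i ⋙ c.m ≅ c.im i ⋙ ι (FibDesc.topAug Y) i :=
  NatIso.ofComponents (fun _ => Iso.refl _) fun _ => hom_ext (by
    show 𝟙 i ≫ 𝟙 _ = 𝟙 _ ≫ 𝟙 _
    rfl)

/-- `mP` on fibres. -/
noncomputable def mPIso (i : Dᵒᵖ) :
    ι (FibDesc.part (FibDesc.topAug Y')) i ⋙ c.mP ≅
      c.im ((FibDesc.toAug D).obj i) ⋙ ι (FibDesc.part (FibDesc.topAug Y)) i :=
  NatIso.ofComponents (fun _ => Iso.refl _) fun _ => homP_ext (by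
    show 𝟙 i ≫ 𝟙 _ = 𝟙 _ ≫ 𝟙 _
    rfl)

instance m_isContinuous : c.m.IsContinuous (JA Y') (JA Y) :=
  isContinuous_of_fibres (isPreFibSite Y') (isPreFibSite Y) _ fun i =>
    ⟨i, c.im i, c.im_isContinuous i, ⟨c.mIso i⟩⟩

instance mP_isContinuous : c.mP.IsContinuous (JP Y') (JP Y) :=
  isContinuous_of_fibres (isPreFibSite_part Y') (isPreFibSite_part Y) _ fun i =>
    ⟨i, c.im _, c.im_isContinuous _, ⟨c.mPIso i⟩⟩

instance m_isCocontinuous : c.m.IsCocontinuous (JA Y') (JA Y) where
  cover_lift {X S} hS := by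
    refine (FibSiteTop.mem_total_iff (isPreFibSite Y') _ _).2 ?_
    have h := (c.im X.base).cover_lift (FibDesc.topAugTop Y' X.base) (FibDesc.topAugTop Y X.base)
      ((FibSiteTop.mem_total_iff (isPreFibSite Y) _ _).1 hS)
    refine GrothendieckTopology.superset_covering _ ?_ h
    intro W a ha
    show S.arrows (c.m.map ((ι (FibDesc.topAug Y') X.base).map a))
    rw [show c.m.map ((ι (FibDesc.topAug Y') X.base).map a) = (ι (FibDesc.topAug Y) X.base).map ((c.im X.base).map a) from
      hom_ext rfl]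
    exact ha

instance mP_isCocontinuous : c.mP.IsCocontinuous (JP Y') (JP Y) where
  cover_lift {X S} hS := by
    refine (FibSiteTop.mem_total_iff (isPreFibSite_part Y') _ _).2 ?_
    have h := (c.im_isCocontinuous ((FibDesc.toAug D).obj X.base)).cover_lift
      ((FibSiteTop.mem_total_iff (isPreFibSite_part Y) _ _).1 hS)
    refine GrothendieckTopology.superset_covering _ ?_ h
    intro W a ha
    show S.arrows (c.mP.map ((ι (FibDesc.part (FibDesc.topAug Y')) X.base).map a))
    rw [show c.mP.map ((ι (FibDesc.part (FibDesc.topAug Y')) X.base).map a) =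
      (ι (FibDesc.part (FibDesc.topAug Y)) X.base).map ((c.im ((FibDesc.toAug D).obj X.base)).map a) from homP_ext rfl]
    exact ha

/-- The square with the inclusions of the parts. -/
noncomputable def eI : c.mP ⋙ FibDesc.incl (FibDesc.topAug Y) ≅ FibDesc.incl (FibDesc.topAug Y') ⋙ c.m :=
  NatIso.ofComponents (fun _ => Iso.refl _) fun {X Z} f => hom_ext (by
    show (FibDesc.toAug D).map f.base ≫ 𝟙 _ = 𝟙 _ ≫ (FibDesc.toAug D).map f.base
    exact (Category.comp_id _).trans (Category.id_comp _).symm)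

/-- The square with the base. -/
noncomputable def eB : FibDesc.eps (FibDesc.topAug Y') ⋙ c.m ≅ c.im (FibDesc.bot D) ⋙ FibDesc.eps (FibDesc.topAug Y) :=
  c.mIso (FibDesc.bot D)

lemma im_le_iff {i : (WithInitial D)ᵒᵖ} {U V : Opens (Y'.obj i)} : (c.im i).obj U ≤ (c.im i).obj V ↔ U ≤ V := by
  refine ⟨fun h x hx => ?_, fun h => ((c.im i).map (homOfLE h)).le⟩
  obtain ⟨z, hz, e⟩ := h ⟨x, hx, rfl⟩
  rwa [← (c.isOpenEmbedding i).injective e]

/-- Structured arrows of the square of the inclusions agree over the base point. -/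
lemma initial_ΦI (W : Opens (Y'.obj (FibDesc.bot D))) :
    (SheafBC.Φ c.eI ((FibDesc.eps (FibDesc.topAug Y')).obj W)).Initial := by
  let x := (FibDesc.eps (FibDesc.topAug Y')).obj W
  have : (SheafBC.Φ c.eI x).Faithful := ⟨fun {g g'} k k' hk => StructuredArrow.ext _ _ (Quiver.Hom.unop_inj (homP_ext
    (congrArg (fun z : (SheafBC.Φ c.eI x).obj g ⟶ (SheafBC.Φ c.eI x).obj g' => z.right.unop.base) hk :)))⟩
  have : (SheafBC.Φ c.eI x).Full := ⟨fun {g g'} k => by
    have hk := homP_le k.right.unop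
    refine ⟨StructuredArrow.homMk (homP (X := g'.right.unop) (Z := g.right.unop) k.right.unop.base fun z hz => ?_).op
      (Quiver.Hom.unop_inj (hom_ext ((subsingleton_toBot _).elim _ _))), StructuredArrow.ext _ _ (Quiver.Hom.unop_inj (homP_ext rfl))⟩
    obtain ⟨w, hw, e⟩ := hk ⟨z, hz, rfl⟩
    show Y'.map _ z ∈ obP g.right.unop
    have e' := (c.isOpenEmbedding _).injective (e.trans (c.j_nat _ z).symm)
    exact (congrArg (fun q => q ∈ obP g.right.unop) e').mp hw⟩
  have : (SheafBC.Φ c.eI x).EssSurj := ⟨fun h => by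
    let i := h.right.unop.base
    have hh := hom_le h.hom.unop
    let U : Opens (Y'.obj ((FibDesc.toAug D).obj i)) := (Opens.map (c.j.app _)).obj (obP h.right.unop)
    have hsub : ∀ y ∈ obP h.right.unop, y ∈ Set.range (c.j.app ((FibDesc.toAug D).obj i)) := fun y hy => by
      obtain ⟨w, -, e⟩ := hh hy
      exact c.cartesian _ _ y ⟨w, e⟩
    have heq : (c.im _).obj U = obP h.right.unop := by
      refine Opens.ext (Set.ext fun y => ⟨?_, fun hy => ?_⟩)
      · rintro ⟨z, hz, rfl⟩
        exact hz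
      · obtain ⟨z, rfl⟩ := hsub y hy
        exact ⟨z, hy, rfl⟩
    have hx : (Opens.map (c.j.app ((FibDesc.toAug D).obj i))).obj (obP h.right.unop) ≤
        (Opens.map (Y'.map h.hom.unop.base)).obj W := fun z hz => by
      obtain ⟨w, hw, e⟩ := hh (show c.j.app _ z ∈ obP h.right.unop from hz)
      show Y'.map _ z ∈ W
      have e' := (c.isOpenEmbedding _).injective (e.trans (c.j_nat _ z).symm)
      exact (congrArg (fun q => q ∈ W) e').mp hw
    let g : StructuredArrow (op x) (FibDesc.incl (FibDesc.topAug Y')).op :=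
      StructuredArrow.mk (Y := op (mkP i U))
        (hom (X := (FibDesc.incl (FibDesc.topAug Y')).obj (mkP i U)) (Z := x) h.hom.unop.base hx).op
    have e : mkP i ((c.im _).obj U) = h.right.unop := by rw [heq]
    refine ⟨g, ⟨StructuredArrow.isoMk (Iso.op
      { hom := homP (X := h.right.unop) (Z := mkP i ((c.im _).obj U)) (𝟙 _) (fun y hy => ?_)
        inv := homP (X := mkP i ((c.im _).obj U)) (Z := h.right.unop) (𝟙 _) (fun y hy => ?_)
        hom_inv_id := homP_ext (Category.id_comp _)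
        inv_hom_id := homP_ext (Category.id_comp _) })
      (Quiver.Hom.unop_inj (hom_ext ((subsingleton_toBot _).elim _ _)))⟩⟩
    · show Y.map ((FibDesc.toAug D).map (𝟙 i)) y ∈ (c.im _).obj U
      rw [CategoryTheory.Functor.map_id, CategoryTheory.Functor.map_id, heq]
      exact hy
    · show Y.map ((FibDesc.toAug D).map (𝟙 i)) y ∈ obP h.right.unop
      rw [CategoryTheory.Functor.map_id, CategoryTheory.Functor.map_id, ← heq]
      exact hy⟩
  have : (SheafBC.Φ c.eI x).IsEquivalence := { }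
  infer_instance

lemma initial_of_preserves_initial {C E : Type*} [Category C] [Category E] (G : C ⥤ E) {c₀ : C}
    (h₀ : IsInitial c₀) (h₁ : IsInitial (G.obj c₀)) : G.Initial where
  out d := by
    have : Nonempty (CostructuredArrow G d) := ⟨CostructuredArrow.mk (h₁.to d)⟩
    exact zigzag_isConnected fun g g' => Relation.ReflTransGen.trans
      (.single (Or.inr ⟨CostructuredArrow.homMk (f := CostructuredArrow.mk (h₁.to d)) (h₀.to g.left) (h₁.hom_ext _ _)⟩))
      (.single (Or.inl ⟨CostructuredArrow.homMk (f := CostructuredArrow.mk (h₁.to d)) (h₀.to g'.left) (h₁.hom_ext _ _)⟩))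

/-- Structured arrows of the square of the base agree. -/
lemma initial_ΦB (W : Opens (Y.obj (FibDesc.bot D))) : (SheafBC.Φ c.eB W).Initial := by
  let W' : Opens (Y'.obj (FibDesc.bot D)) := (Opens.map (c.j.app (FibDesc.bot D))).obj W
  have hW : (c.im _).obj W' ≤ W := by
    rintro _ ⟨z, hz, rfl⟩
    exact hz
  let g₀ : StructuredArrow (op W) (c.im (FibDesc.bot D)).op :=
    StructuredArrow.mk (Y := op W') (le_hom hW).op
  have key : ∀ g : StructuredArrow (op W) (c.im (FibDesc.bot D)).op, g.right.unop ≤ W' := fun g z hz =>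
    (g.hom.unop).le ⟨z, hz, rfl⟩
  refine initial_of_preserves_initial _ (c₀ := g₀)
    (IsInitial.ofUniqueHom (fun g => StructuredArrow.homMk (le_hom (key g)).op (Subsingleton.elim _ _))
      (fun g m => StructuredArrow.ext _ _ (Quiver.Hom.unop_inj (Subsingleton.elim _ _)))) ?_
  let X := SpaceSite.mk (FibDesc.bot D) W'
  let p : ∀ i : (WithInitial D)ᵒᵖ, i ⟶ FibDesc.bot D := fun i => (WithInitial.starInitial (C := D)).op.from i
  have hk : ∀ g : StructuredArrow (op ((FibDesc.eps (FibDesc.topAug Y)).obj W)) c.m.op,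
      ob g.right.unop ≤ (Opens.map (Y'.map (p g.right.unop.base))).obj W' := fun g z hz => by
    have h := hom_le g.hom.unop ⟨z, hz, rfl⟩
    show c.j.app _ (Y'.map (p g.right.unop.base) z) ∈ W
    rw [c.j_nat, (subsingleton_toBot _).elim (p g.right.unop.base) g.hom.unop.base]
    exact h
  exact IsInitial.ofUniqueHom
    (fun g => StructuredArrow.homMk (hom (X := g.right.unop) (Z := X) (p _) (hk g)).op
      (Quiver.Hom.unop_inj (hom_ext ((subsingleton_toBot _).elim _ _))))
    (fun g m => StructuredArrow.ext _ _ (Quiver.Hom.unop_inj (hom_ext ((subsingleton_toBot _).elim _ _))))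

lemma isMultiFlat_mP : MultiFlat.IsMultiFlat c.mP := fun x => by
  refine ⟨ULift.{u} (PLift (Nonempty (CostructuredArrow c.mP.op x))),
    { obj := fun g => ⟨⟨⟨⟨g⟩⟩⟩⟩, map := fun _ => Discrete.eqToHom rfl }, fun d => ?_⟩
  obtain ⟨⟨⟨⟨g⟩⟩⟩⟩ := d
  let U : Opens (Y'.obj ((FibDesc.toAug D).obj x.unop.base)) := (Opens.map (c.j.app _)).obj (obP x.unop)
  have hrange : ∀ y ∈ obP x.unop, y ∈ Set.range (c.j.app ((FibDesc.toAug D).obj x.unop.base)) := fun y hy => by
    obtain ⟨w, -, e⟩ := homP_le g.hom.unop hy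
    let p : ∀ i : (WithInitial D)ᵒᵖ, i ⟶ FibDesc.bot D := fun i => (WithInitial.starInitial (C := D)).op.from i
    refine c.cartesian _ (p _) y ⟨Y'.map (p _) w, ?_⟩
    rw [c.j_nat, e]
    exact (ConcreteCategory.congr_hom (Y.map_comp _ _) y).symm.trans
      (congrArg (fun k => Y.map k y) ((subsingleton_toBot _).elim _ _))
  let q : ∫ᶜ (FibDesc.part (FibDesc.topAug Y')) := mkP x.unop.base U
  let g₀ : CostructuredArrow c.mP.op x :=
    CostructuredArrow.mk (Y := op q) (homP (X := x.unop) (Z := c.mP.obj q) (𝟙 _) fun y hy => by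
      obtain ⟨z, rfl⟩ := hrange y hy
      show Y.map ((FibDesc.toAug D).map (𝟙 _)) (c.j.app _ z) ∈ (c.im _).obj U
      rw [CategoryTheory.Functor.map_id, CategoryTheory.Functor.map_id]
      exact ⟨z, hy, rfl⟩).op
  have hle : ∀ g : CostructuredArrow c.mP.op x,
      obP q ≤ (Opens.map (Y'.map ((FibDesc.toAug D).map g.hom.unop.base))).obj (obP g.left.unop) := fun g z hz => by
    obtain ⟨w, hw, e⟩ := homP_le g.hom.unop hz
    have e' := (c.isOpenEmbedding _).injective (e.trans (c.j_nat _ z).symm)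
    exact (congrArg (fun q => q ∈ obP g.left.unop) e').mp hw
  have h₀ : IsTerminal g₀ := IsTerminal.ofUniqueHom
    (fun g => CostructuredArrow.homMk (homP (X := q) (Z := g.left.unop) g.hom.unop.base (hle g)).op
      (Quiver.Hom.unop_inj (homP_ext (Category.id_comp _))))
    (fun g m => CostructuredArrow.ext _ _ (Quiver.Hom.unop_inj (homP_ext
      (((Category.id_comp _).symm.trans (congrArg (fun z => z.unop.base) (CostructuredArrow.w m) :))))))
  refine IsFiltered.of_isTerminal _ (X := CostructuredArrow.mk (Y := g₀) (Discrete.eqToHom rfl))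
    (IsTerminal.ofUniqueHom (fun h => CostructuredArrow.homMk (h₀.from _) (Subsingleton.elim _ _))
      (fun h m => CostructuredArrow.ext _ _ (h₀.hom_ext _ _)))

/-- Restriction of sheaves on the base. -/
noncomputable abbrev rB : Sheaf (FibDesc.topAugTop Y (FibDesc.bot D)) AddCommGrpCat.{u} ⥤
    Sheaf (FibDesc.topAugTop Y' (FibDesc.bot D)) AddCommGrpCat.{u} :=
  (c.im (FibDesc.bot D)).sheafPushforwardContinuous AddCommGrpCat.{u}
    (Opens.grothendieckTopology (Y'.obj (FibDesc.bot D))) (Opens.grothendieckTopology (Y.obj (FibDesc.bot D)))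

/-- Restriction of sheaves on the total site. -/
noncomputable abbrev rA : Sheaf (JA Y) AddCommGrpCat.{u} ⥤ Sheaf (JA Y') AddCommGrpCat.{u} :=
  c.m.sheafPushforwardContinuous AddCommGrpCat.{u} _ _

/-- Restriction of sheaves on the part. -/
noncomputable abbrev rP : Sheaf (JP Y) AddCommGrpCat.{u} ⥤ Sheaf (JP Y') AddCommGrpCat.{u} :=
  c.mP.sheafPushforwardContinuous AddCommGrpCat.{u} _ _

/-- The base square. -/
noncomputable abbrev θ₁ : SpaceCrit.Res Y ⋙ c.rB ≅ c.rA ⋙ SpaceCrit.Res Y' :=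
  SheafBC.θ (Opens.grothendieckTopology (Y'.obj (FibDesc.bot D))) (JA Y')
    (Opens.grothendieckTopology (Y.obj (FibDesc.bot D))) (JA Y) AddCommGrpCat.{u} c.eB

/-- The square of the parts. -/
noncomputable abbrev θ₂ : c.rA ⋙ SpaceCrit.I Y' ≅ SpaceCrit.I Y ⋙ c.rP :=
  SheafBC.θ (JP Y') (JP Y) (JA Y') (JA Y) AddCommGrpCat.{u} c.eI

/-- The comparison of the inverse images. -/
noncomputable abbrev ν : c.rB ⋙ SpaceCrit.pull Y' ⟶ SpaceCrit.pull Y ⋙ c.rP :=
  DerivedCrit.νPaste (SpaceCrit.ae Y) (SpaceCrit.ae Y') c.θ₁.hom c.θ₂.hom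

lemma isIso_ν : IsIso c.ν := by
  have h1 : IsIso (DerivedCrit.ν₁ (SpaceCrit.ae Y) (SpaceCrit.ae Y') c.θ₁.hom) :=
    DerivedCrit.isIso_ν₁ (SpaceCrit.ae Y) (SpaceCrit.ae Y') c.θ₁.hom
      ((c.im (FibDesc.bot D)).sheafAdjunctionCocontinuous AddCommGrpCat.{u} (Opens.grothendieckTopology _)
        (Opens.grothendieckTopology _))
      (c.m.sheafAdjunctionCocontinuous AddCommGrpCat.{u} (JA Y') (JA Y))
      (fun W => by
        have := fun x => c.initial_ΦB x
        exact SheafBC.isIso_β (Opens.grothendieckTopology (Y'.obj (FibDesc.bot D))) (JA Y') (Opens.grothendieckTopology (Y.obj (FibDesc.bot D))) (JA Y)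
          AddCommGrpCat.{u} c.eB W)
  have : ∀ L, IsIso (c.ν.app L) := fun L => by
    show IsIso ((SpaceCrit.I Y').map _ ≫ c.θ₂.hom.app _)
    infer_instance
  exact NatIso.isIso_of_isIso_app _

lemma isIso_base (J : Sheaf (JP Y) AddCommGrpCat.{u}) :
    IsIso (DerivedCrit.base (SpaceCrit.adj Y) (SpaceCrit.adj Y') c.ν J) := by
  have h2 : IsIso ((sheafToPresheaf _ _).map ((SpaceCrit.Res Y').map
      (DerivedCrit.base₂ (SpaceCrit.ai Y) (SpaceCrit.ai Y') c.θ₂.hom J))) := by
    refine @NatIso.isIso_of_isIso_app _ _ _ _ _ _ _ fun W => ?_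
    have := c.initial_ΦI W.unop
    exact SheafBC.isIso_β_app (JP Y') (JP Y) (JA Y') (JA Y) AddCommGrpCat.{u} c.eI J
      ((FibDesc.eps (FibDesc.topAug Y')).obj W.unop)
  have := isIso_of_fully_faithful (sheafToPresheaf _ _)
    ((SpaceCrit.Res Y').map (DerivedCrit.base₂ (SpaceCrit.ai Y) (SpaceCrit.ai Y') c.θ₂.hom J))
  refine (congrArg (fun k => IsIso k) (DerivedCrit.base_paste (SpaceCrit.ae Y) (SpaceCrit.ai Y) (SpaceCrit.ae Y')
    (SpaceCrit.ai Y') c.θ₁.hom c.θ₂.hom J)).mpr ?_
  infer_instance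

end OpenMap

open GrothendieckTopology in
lemma isIso_of_openCover {T : Type u} {Y : (WithInitial D)ᵒᵖ ⥤ TopCat.{u}} {Y' : T → (WithInitial D)ᵒᵖ ⥤ TopCat.{u}}
    (c : ∀ i, OpenMap (Y' i) Y) (hcov : ∀ x, ∃ i, x ∈ Set.range ((c i).j.app (FibDesc.bot D)))
    {E E' : Sheaf (FibDesc.topAugTop Y (FibDesc.bot D)) AddCommGrpCat.{u}} (f : E ⟶ E')
    (h : ∀ i, IsIso ((c i).rB.map f)) : IsIso f := by
  have key : ∀ (W : Opens (Y.obj (FibDesc.bot D))) (i : T), (∀ x ∈ W, x ∈ Set.range ((c i).j.app (FibDesc.bot D))) →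
      Function.Bijective (f.hom.app (op W)) := fun W i hW => by
    have : IsIso ((sheafToPresheaf _ _).map ((c i).rB.map f)) := inferInstance
    have e : ((c i).im (FibDesc.bot D)).obj ((Opens.map ((c i).j.app (FibDesc.bot D))).obj W) = W := by
      refine Opens.ext (Set.ext fun y => ⟨?_, fun hy => ?_⟩)
      · rintro ⟨z, hz, rfl⟩
        exact hz
      · obtain ⟨z, rfl⟩ := hW y hy
        exact ⟨z, hy, rfl⟩
    rw [← e]
    exact ConcreteCategory.bijective_of_isIso (((sheafToPresheaf _ _).map ((c i).rB.map f)).app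
      (op ((Opens.map ((c i).j.app (FibDesc.bot D))).obj W)))
  have cov : ∀ (U : Opens (Y.obj (FibDesc.bot D))) (S : Sieve U),
      (∀ (W : Opens (Y.obj (FibDesc.bot D))) (g : W ⟶ U) (i : T), (∀ x ∈ W, x ∈ Set.range ((c i).j.app (FibDesc.bot D))) → S g) →
      S ∈ FibDesc.topAugTop Y (FibDesc.bot D) U := fun U S hS x hx => by
    obtain ⟨i, hi⟩ := hcov x
    exact ⟨U ⊓ ⟨_, ((c i).isOpenEmbedding (FibDesc.bot D)).isOpen_range⟩, homOfLE inf_le_left,
      hS _ _ i (fun y hy => hy.2), hx, hi⟩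
  have : Sheaf.IsLocallyInjective f := ⟨fun {U} a b hab => cov U.unop _ fun W g i hW => (key W i hW).1 (by
    rw [NatTrans.naturality_apply, NatTrans.naturality_apply, hab])⟩
  have : Sheaf.IsLocallySurjective f := ⟨fun {U} s => cov U _ fun W g i hW => (key W i hW).2 _⟩
  exact (Sheaf.isLocallyBijective_iff_isIso f).1 ⟨inferInstance, inferInstance⟩

/-- Cohomological descent is local on the base. -/
theorem isCohDescentTop_of_openCover {T : Type u} {Y : (WithInitial D)ᵒᵖ ⥤ TopCat.{u}}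
    {Y' : T → (WithInitial D)ᵒᵖ ⥤ TopCat.{u}} (c : ∀ i, OpenMap (Y' i) Y)
    (hcov : ∀ x, ∃ i, x ∈ Set.range ((c i).j.app (FibDesc.bot D)))
    (h : ∀ i, FibDesc.IsCohDescentTop (Y' i)) : FibDesc.IsCohDescentTop Y := by
  refine SpaceCrit.isCohDescentTop_of_computes Y ?_
  have hP : ∀ i, PreservesFiniteColimits (c i).rP := fun i => Precomp.preservesFiniteColimits _
  have hB : ∀ i, PreservesFiniteColimits (c i).rB := fun i => Precomp.preservesFiniteColimits _
  exact DerivedCrit.computes_of_family (SpaceCrit.adj Y)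
    (fun i => SpaceCrit.pull (Y' i)) (fun i => SpaceCrit.push (Y' i)) (fun i => SpaceCrit.adj (Y' i))
    (fun i => (c i).rB) (fun i => (c i).rP)
    (fun f hf => isIso_of_openCover c hcov f hf) (fun i => (c i).ν) (fun i => (c i).isIso_ν)
    (fun i J => (c i).isIso_base J)
    (fun i J hJ => MultiFlat.injective_restrict (c i).mP _ _ (c i).isMultiFlat_mP J)
    (fun i => SpaceCrit.computes_of_isCohDescentTop _ (h i))

end Groth.L09
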