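import Groth.Agent.L09.QuillenTransport

/-!
# Morphisms between base changes as morphisms over the base
-/

universe u

open CategoryTheory CategoryTheory.Limits MonoidalCategory CartesianMonoidalCategory MonObj
  AlgebraicGeometry

namespace Groth.L09.OverS

open Groth.L09.TorsorPts Groth.L09

set_option backward.isDefEq.respectTransparency.types false
set_option backward.isDefEq.respectTransparency false

section Bc

variable {S Y : Scheme.{u}} {d₀ : Y ⟶ S} {G P Q : Over S} [GrpObj G]

/-- A morphism between base changes as a morphism over `S`. -/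
noncomputable def overS (θ : Red.bc d₀ P ⟶ Red.bc d₀ Q) : P ⊗ Over.mk d₀ ⟶ Q :=
  Over.homMk (θ.left ≫ pullback.fst Q.hom d₀) (by
    show (θ.left ≫ pullback.fst Q.hom d₀) ≫ Q.hom = pullback.fst P.hom d₀ ≫ P.hom
    rw [Category.assoc, pullback.condition, pullback.condition, ← Category.assoc]
    exact congrArg (· ≫ d₀) (Over.w θ))

lemma overS_equiv {aP : AlgGrp.Action G P} {aQ : AlgGrp.Action G Q}
    (θ : Red.bc d₀ P ⟶ Red.bc d₀ Q)
    (hθ : AlgGrp.Action.IsEquivariant (aP.bc d₀) (aQ.bc d₀) θ)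
    {Z : Over S} (g : Z ⟶ G) (x : Z ⟶ P) (k : Z ⟶ Over.mk d₀) :
    lift (sm aP g x) k ≫ overS θ = sm aQ g (lift x k ≫ overS θ) := by
  let y : Z.left ⟶ (Red.bc d₀ P).left := (lift x k).left
  have hy1 : y ≫ pullback.fst P.hom d₀ = x.left := Conv.lift_left_fst _ _
  have hy2 : y ≫ pullback.snd P.hom d₀ = k.left := Conv.lift_left_snd _ _
  have hg : g.left ≫ G.hom = y ≫ (Red.bc d₀ P).hom ≫ d₀ := by
    show g.left ≫ G.hom = y ≫ pullback.snd P.hom d₀ ≫ d₀
    rw [← Category.assoc, hy2, Over.w g]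
    exact (Over.w k).symm
  let Z' : Over S := Over.mk (g.left ≫ G.hom)
  let i : Z ⟶ Z' := Over.homMk (𝟙 _) (by simp [Z'])
  have hsm : ∀ {V : Over S} (a : AlgGrp.Action G V) (v : Z' ⟶ V) (v₀ : Z ⟶ V),
      v.left = v₀.left → (sm a (Over.homMk g.left rfl : Z' ⟶ G) v).left = (sm a g v₀).left := by
    intro V a v v₀ hv
    have e1 : i ≫ (Over.homMk g.left rfl : Z' ⟶ G) = g := by ext1; exact Category.id_comp _
    have e2 : i ≫ v = v₀ := by ext1; exact (Category.id_comp _).trans hv
    have := congrArg Over.Hom.left (comp_sm a i (Over.homMk g.left rfl : Z' ⟶ G) v)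
    rw [e1, e2, Over.comp_left] at this
    exact ((Category.id_comp _).symm.trans this)
  have h1 : (lift (sm aP g x) k).left = Conv.sact (aP.bc d₀) g.left y hg := by
    refine pullback.hom_ext ?_ ?_
    · refine (Conv.lift_left_fst _ _).trans ?_
      exact ((Conv.sact_act_bc aP d₀ g.left y hg).trans (hsm aP _ x hy1)).symm
    · refine (Conv.lift_left_snd _ _).trans ?_
      exact (Conv.sact_proj (aP.bc d₀) g.left y hg).trans hy2 |>.symm
  ext1
  show (lift (sm aP g x) k).left ≫ θ.left ≫ pullback.fst Q.hom d₀ = _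
  rw [← Category.assoc, h1, Conv.sact_equivariant θ hθ, Conv.sact_act_bc]
  refine hsm aQ _ (lift x k ≫ overS θ) ?_
  exact Category.assoc _ _ _

end Bc

end Groth.L09.OverS
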