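import Groth.Agent.L09.PatchStage

/-!
# Uniqueness of lifts from `D[X] ×_D C` up to `X ↦ s X`
-/

universe u

open CategoryTheory CategoryTheory.Limits MonoidalCategory CartesianMonoidalCategory
  AlgebraicGeometry Polynomial Opposite MonObj

namespace Groth.L09.Patch

set_option backward.isDefEq.respectTransparency.types false
set_option backward.isDefEq.respectTransparency false
set_option backward.defeqAttrib.useBackward true

variable {R : Type u} [CommRing R]
variable {C D : Type u} [CommRing C] [CommRing D] [Algebra R C] [Algebra R D] [Algebra C D]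
  [IsScalarTower R C D] (s : C) [IsLocalization.Away s D]

include s in
/-- Two points over `C[X]` which agree over `D[X]` and at `X = 0` agree after `X ↦ sᴹ X`. -/
theorem exists_eq_scale {G : Over (Spec (CommRingCat.of R))} [LocallyOfFiniteType G.hom]
    (h h' : spO R C[X] ⟶ G)
    (hD : pm (mapA (R := R) (C := C) (D := D)) ≫ h = pm (mapA (R := R) (C := C) (D := D)) ≫ h')
    (h0 : pm (evalA (R := R) C) ≫ h = pm (evalA (R := R) C) ≫ h') :
    ∃ M : ℕ, pm (scaleA (R := R) (s ^ M)) ≫ h = pm (scaleA (R := R) (s ^ M)) ≫ h' := by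
  have hD' := congrArg (fun k => CommaMorphism.left k) hD
  have h0' := congrArg (fun k => CommaMorphism.left k) h0
  simp only [Over.comp_left, pm_left, evalA_toRingHom] at hD' h0'
  have e1 : (pr1 C D).comp (theta D s 0) = mapRingHom (algebraMap C D) := by
    rw [pr1_theta, pow_zero, scale_one, RingHom.id_comp]
  have hH : sp (theta D s 0) ≫ h.left = sp (theta D s 0) ≫ h'.left := by
    refine (isPB_sq (D := D) s).toIsJoint.hom_ext (𝟙 _) _ _
      (fun {Z} v w hvw => ?_) (fun {Z} v w hvw => ?_)
    · rw [Category.comp_id] at hvw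
      rw [hvw, Category.assoc, Category.assoc, ← Category.assoc (sp (pr1 C D)),
        ← Category.assoc (sp (pr1 C D)), sp_comp, e1]
      exact congrArg (w ≫ ·) hD'
    · rw [Category.comp_id] at hvw
      rw [hvw, Category.assoc, Category.assoc, ← Category.assoc (sp (pr2 C D)),
        ← Category.assoc (sp (pr2 C D)), sp_comp, pr2_theta]
      exact congrArg (w ≫ ·) h0'
  haveI : PreservesLimitsOfSize.{u, u} Scheme.Spec.{u} :=
    ΓSpec.adjunction.rightAdjoint_preservesLimits
  let Ds : (ULift.{u} ℕ)ᵒᵖ ⥤ Scheme.{u} := (stages s).op ⋙ Scheme.Spec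
  haveI : ∀ {i j} (f : i ⟶ j), IsAffineHom (Ds.map f) := fun f => by
    haveI : ∀ k, IsAffine (Ds.obj k) := fun k => inferInstanceAs (IsAffine (Spec _))
    exact isAffineHom_of_isAffine _
  haveI : ∀ k, CompactSpace (Ds.obj k) := fun k => inferInstanceAs (CompactSpace (Spec _))
  haveI : ∀ k, QuasiSeparatedSpace (Ds.obj k) := fun k =>
    inferInstanceAs (QuasiSeparatedSpace (Spec _))
  let t : Ds ⟶ (Functor.const _).obj (Spec (CommRingCat.of R)) :=
    { app := fun _ => sp (algebraMap R C[X])
      naturality := fun n m f => by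
        show sp (scale (s ^ (n.unop.down - m.unop.down))) ≫ sp (algebraMap R C[X]) =
          sp (algebraMap R C[X]) ≫ 𝟙 _
        rw [Category.comp_id, sp_comp]
        exact congrArg sp (RingHom.ext fun r => scale_C _ _) }
  obtain ⟨⟨⟨k⟩⟩, hik, hk⟩ := Scheme.exists_hom_comp_eq_comp_of_locallyOfFiniteType Ds t
    G.hom (Scheme.Spec.mapCone (stageCocone D s).op)
    (isLimitOfPreserves Scheme.Spec (isColimitStageCocone D s).op) (i := op ⟨0⟩) h.left h'.left
    (Over.w h).symm (Over.w h').symm hH
  replace hk : sp (scale (s ^ (k - 0))) ≫ h.left = sp (scale (s ^ (k - 0))) ≫ h'.left := hk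
  refine ⟨k, ?_⟩
  ext1
  rw [Nat.sub_zero] at hk
  exact hk

end Groth.L09.Patch
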