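import Mathlib.AlgebraicGeometry.AffineScheme
import Mathlib.AlgebraicGeometry.Cover.Open
import Mathlib.AlgebraicGeometry.Gluing
import Mathlib.AlgebraicGeometry.PullbackCarrier
import Mathlib.RingTheory.Localization.Away.Basic

/-!
# Morphisms out of the spectrum of a fibre product of rings

For a fibre product `T = T₁ ×_{T₀} T₂` of rings with `Spec T₁ ⊔ Spec T₂ ⟶ Spec T` surjective,
morphisms `Spec T ⟶ X` are determined by their restrictions, and exist when they exist locally.
-/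

universe u

open CategoryTheory Limits AlgebraicGeometry

namespace Groth.L09.Patch

/-- The morphism of spectra of a ring map. -/
noncomputable abbrev sp {A B : Type u} [CommRing A] [CommRing B] (φ : A →+* B) :
    Spec (CommRingCat.of B) ⟶ Spec (CommRingCat.of A) :=
  Spec.map (CommRingCat.ofHom φ)

lemma sp_comp {A B C : Type u} [CommRing A] [CommRing B] [CommRing C] (φ : A →+* B)
    (ψ : B →+* C) : sp ψ ≫ sp φ = sp (ψ.comp φ) := by
  rw [sp, sp, ← Spec.map_comp]; rfl

lemma sp_id {A : Type u} [CommRing A] : sp (RingHom.id A) = 𝟙 _ := by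
  rw [sp, show CommRingCat.ofHom (RingHom.id A) = 𝟙 (CommRingCat.of A) from rfl, Spec.map_id]

variable {T T1 T2 T0 : Type u} [CommRing T] [CommRing T1] [CommRing T2] [CommRing T0]

/-- The inclusion of the basic open `D(β)` as a spectrum. -/
noncomputable abbrev jaw (β : T) :
    Spec (CommRingCat.of (Localization.Away β)) ⟶ Spec (CommRingCat.of T) :=
  sp (algebraMap T (Localization.Away β))

instance (β : T) : IsOpenImmersion (jaw β) :=
  IsOpenImmersion.of_isLocalization β

lemma range_jaw (β : T) :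
    Set.range (jaw β) = (PrimeSpectrum.basicOpen β : Set (PrimeSpectrum T)) :=
  PrimeSpectrum.localization_away_comap_range (Localization.Away β) β

/-- The ring map between localisations induced by a ring map. -/
noncomputable abbrev awMap (φ : T →+* T1) (β : T) :
    Localization.Away β →+* Localization.Away (φ β) :=
  IsLocalization.Away.map _ _ φ β

lemma awMap_comp (φ : T →+* T1) (β : T) :
    (awMap φ β).comp (algebraMap T (Localization.Away β)) =
      (algebraMap T1 (Localization.Away (φ β))).comp φ :=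
  IsLocalization.map_comp _

lemma sp_awMap_jaw (φ : T →+* T1) (β : T) :
    sp (awMap φ β) ≫ jaw β = jaw (φ β) ≫ sp φ := by
  rw [sp_comp, sp_comp, awMap_comp]

/-- A morphism to `Spec T₁` whose composite to `Spec T` lands in `D(β)` factors through `D(φ β)`. -/
lemma exists_factor (φ : T →+* T1) (β : T) {Z : Scheme.{u}}
    (v : Z ⟶ Spec (CommRingCat.of (Localization.Away β))) (w : Z ⟶ Spec (CommRingCat.of T1))
    (hvw : v ≫ jaw β = w ≫ sp φ) :
    ∃ w' : Z ⟶ Spec (CommRingCat.of (Localization.Away (φ β))),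
      w' ≫ jaw (φ β) = w ∧ w' ≫ sp (awMap φ β) = v := by
  have hr : Set.range w ⊆ Set.range (jaw (φ β)) := by
    rintro _ ⟨z, rfl⟩
    rw [range_jaw]
    have h1 : sp φ (w z) ∈ Set.range (jaw β) := ⟨v z, by rw [← Scheme.Hom.comp_apply, hvw]; rfl⟩
    rw [range_jaw] at h1
    exact h1
  refine ⟨IsOpenImmersion.lift (jaw (φ β)) w hr, IsOpenImmersion.lift_fac _ _ hr, ?_⟩
  rw [← cancel_mono (jaw β), Category.assoc, sp_awMap_jaw, IsOpenImmersion.lift_fac_assoc, hvw]

/-- Compatibility of a morphism on an open piece with a given morphism on `Spec T₁`. -/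
def Compat (φ : T →+* T1) {X : Scheme.{u}} (h : Spec (CommRingCat.of T1) ⟶ X) {U : Scheme.{u}}
    (u : U ⟶ Spec (CommRingCat.of T)) (f : U ⟶ X) : Prop :=
  ∀ {Z : Scheme.{u}} (v : Z ⟶ U) (w : Z ⟶ Spec (CommRingCat.of T1)),
    v ≫ u = w ≫ sp φ → v ≫ f = w ≫ h

/-- The two ring maps are jointly injective and jointly surjective on spectra. -/
structure IsJoint (φ1 : T →+* T1) (φ2 : T →+* T2) : Prop where
  inj : ∀ t, φ1 t = 0 → φ2 t = 0 → t = 0
  surj : ∀ p : PrimeSpectrum T,
    (∃ q, PrimeSpectrum.comap φ1 q = p) ∨ (∃ q, PrimeSpectrum.comap φ2 q = p)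

variable {φ1 : T →+* T1} {φ2 : T →+* T2}

lemma IsJoint.eq_zero_away (hJ : IsJoint φ1 φ2) (β : T) (t : Localization.Away β)
    (h1 : awMap φ1 β t = 0) (h2 : awMap φ2 β t = 0) : t = 0 := by
  obtain ⟨⟨x, m⟩, hx⟩ := IsLocalization.surj (Submonoid.powers β) t
  have key : ∀ {S : Type u} [CommRing S] (φ : T →+* S), awMap φ β t = 0 →
      ∃ n : ℕ, φ (β ^ n * x) = 0 := by
    intro S _ φ h
    have := congr_arg (awMap φ β) hx
    rw [map_mul, h, zero_mul] at this
    have h' : algebraMap S (Localization.Away (φ β)) (φ x) = 0 := by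
      rw [← RingHom.comp_apply, ← awMap_comp]; exact this.symm
    obtain ⟨⟨_, n, rfl⟩, hn⟩ := (IsLocalization.map_eq_zero_iff (Submonoid.powers (φ β)) _ _).mp h'
    exact ⟨n, by simpa using hn⟩
  obtain ⟨n1, hn1⟩ := key φ1 h1
  obtain ⟨n2, hn2⟩ := key φ2 h2
  have hz : β ^ (n1 + n2) * x = 0 := hJ.inj _
    (by rw [pow_add, show β ^ n1 * β ^ n2 * x = β ^ n2 * (β ^ n1 * x) by ring, map_mul, hn1,
      mul_zero])
    (by rw [pow_add, mul_assoc, map_mul, hn2, mul_zero])
  have hx0 : algebraMap T (Localization.Away β) x = 0 :=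
    (IsLocalization.map_eq_zero_iff (Submonoid.powers β) _ _).mpr ⟨⟨_, n1 + n2, rfl⟩, hz⟩
  rw [hx0] at hx
  exact (IsUnit.mul_left_eq_zero (IsLocalization.map_units _ m)).mp hx

/-- Morphisms on an open piece of `Spec T` are determined by their restrictions. -/
theorem IsJoint.hom_ext (hJ : IsJoint φ1 φ2) {X U : Scheme.{u}}
    (u : U ⟶ Spec (CommRingCat.of T)) [IsOpenImmersion u] (f f' : U ⟶ X)
    (h1 : ∀ {Z : Scheme.{u}} (v : Z ⟶ U) (w : Z ⟶ Spec (CommRingCat.of T1)),
      v ≫ u = w ≫ sp φ1 → v ≫ f = v ≫ f')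
    (h2 : ∀ {Z : Scheme.{u}} (v : Z ⟶ U) (w : Z ⟶ Spec (CommRingCat.of T2)),
      v ≫ u = w ≫ sp φ2 → v ≫ f = v ≫ f') : f = f' := by
  have hpt : ∀ p : U, f p = f' p := by
    intro p
    have key : ∀ {S : Type u} [CommRing S] (φ : T →+* S),
        (∀ {Z : Scheme.{u}} (v : Z ⟶ U) (w : Z ⟶ Spec (CommRingCat.of S)),
          v ≫ u = w ≫ sp φ → v ≫ f = v ≫ f') →
        (∃ q, PrimeSpectrum.comap φ q = u p) → f p = f' p := by
      intro S _ φ h hq
      obtain ⟨q, hq⟩ := hq
      obtain ⟨z, hz, -⟩ := Scheme.Pullback.exists_preimage_pullback (f := u) (g := sp φ) p q hq.symm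
      have := h (pullback.fst u (sp φ)) (pullback.snd u (sp φ)) pullback.condition
      rw [← hz, ← Scheme.Hom.comp_apply, this, Scheme.Hom.comp_apply]
    rcases hJ.surj (u p) with hq | hq
    · exact key φ1 h1 hq
    · exact key φ2 h2 hq
  have hloc : ∀ p : U, ∃ (β : T) (l : Spec (CommRingCat.of (Localization.Away β)) ⟶ U),
      p ∈ Set.range l ∧ l ≫ u = jaw β ∧ l ≫ f = l ≫ f' := by
    intro p
    obtain ⟨W, hW, hpW, -⟩ := exists_isAffineOpen_mem_and_subset (X := X)
      (x := f p) (U := ⊤) (TopologicalSpace.Opens.mem_top _)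
    have hopen : IsOpen (u '' (f ⁻¹' (W : Set X) ∩ f' ⁻¹' (W : Set X))) :=
      u.isOpenEmbedding.isOpenMap _
        ((W.isOpen.preimage f.continuous).inter (W.isOpen.preimage f'.continuous))
    have hmem : u p ∈ u '' (f ⁻¹' (W : Set X) ∩ f' ⁻¹' (W : Set X)) :=
      ⟨p, ⟨hpW, by show f' p ∈ (W : Set X); rw [← hpt p]; exact hpW⟩, rfl⟩
    obtain ⟨_, ⟨β, rfl⟩, hpβ, hβ⟩ :=
      PrimeSpectrum.isTopologicalBasis_basic_opens.exists_subset_of_mem_open hmem hopen
    have hjr : Set.range (jaw β) ⊆ Set.range u := by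
      rw [range_jaw]; exact hβ.trans (Set.image_subset_range _ _)
    let l := IsOpenImmersion.lift u (jaw β) hjr
    have hl : l ≫ u = jaw β := IsOpenImmersion.lift_fac _ _ hjr
    have hlW : ∀ z, l z ∈ f ⁻¹' (W : Set X) ∩ f' ⁻¹' (W : Set X) := by
      intro z
      have hz : u (l z) ∈ u '' (f ⁻¹' (W : Set X) ∩ f' ⁻¹' (W : Set X)) := by
        apply hβ
        have hz' : u (l z) ∈ Set.range (jaw β) := ⟨z, by rw [← hl]; rfl⟩
        rw [range_jaw] at hz'
        exact hz'
      obtain ⟨y, hy, hyz⟩ := hz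
      rwa [← u.isOpenEmbedding.injective hyz]
    refine ⟨β, l, ?_, hl, ?_⟩
    · obtain ⟨z, hz⟩ : u p ∈ Set.range (jaw β) := by rw [range_jaw]; exact hpβ
      exact ⟨z, u.isOpenEmbedding.injective (by rw [← Scheme.Hom.comp_apply, hl]; exact hz)⟩
    · have hr : Set.range (l ≫ f) ⊆ Set.range hW.fromSpec := by
        rw [hW.range_fromSpec]; rintro _ ⟨z, rfl⟩; exact (hlW z).1
      have hr' : Set.range (l ≫ f') ⊆ Set.range hW.fromSpec := by
        rw [hW.range_fromSpec]; rintro _ ⟨z, rfl⟩; exact (hlW z).2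
      let g := IsOpenImmersion.lift hW.fromSpec (l ≫ f) hr
      let g' := IsOpenImmersion.lift hW.fromSpec (l ≫ f') hr'
      suffices hg : Spec.preimage g = Spec.preimage g' by
        calc l ≫ f = g ≫ hW.fromSpec := (IsOpenImmersion.lift_fac hW.fromSpec (l ≫ f) hr).symm
          _ = g' ≫ hW.fromSpec := by rw [← Spec.map_preimage g, ← Spec.map_preimage g', hg]
          _ = l ≫ f' := IsOpenImmersion.lift_fac hW.fromSpec (l ≫ f') hr'
      have key : ∀ {S : Type u} [CommRing S] (φ : T →+* S),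
          (∀ {Z : Scheme.{u}} (v : Z ⟶ U) (w : Z ⟶ Spec (CommRingCat.of S)),
            v ≫ u = w ≫ sp φ → v ≫ f = v ≫ f') →
          ∀ t, awMap φ β ((Spec.preimage g).hom t) = awMap φ β ((Spec.preimage g').hom t) := by
        intro S _ φ h t
        have hh := h (sp (awMap φ β) ≫ l) (jaw (φ β))
          (by rw [Category.assoc, hl, sp_awMap_jaw])
        have e : sp (awMap φ β) ≫ g = sp (awMap φ β) ≫ g' := by
          rw [← cancel_mono hW.fromSpec]
          simp only [g, g', Category.assoc, IsOpenImmersion.lift_fac]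
          simpa only [Category.assoc] using hh
        rw [← Spec.map_preimage g, ← Spec.map_preimage g', sp, ← Spec.map_comp, ← Spec.map_comp]
          at e
        exact congr($(Spec.map_injective e).hom t)
      ext t
      refine sub_eq_zero.mp (hJ.eq_zero_away β _ ?_ ?_)
      · rw [map_sub, key φ1 h1 t, sub_self]
      · rw [map_sub, key φ2 h2 t, sub_self]
  choose β l hp hlu hlf using hloc
  let 𝒰 : U.OpenCover :=
    { I₀ := U
      X := fun p => Spec (CommRingCat.of (Localization.Away (β p)))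
      f := l
      mem₀ := (Scheme.ofArrows_mem_precoverage_iff _).mpr ⟨fun p => ⟨p, hp p⟩, fun p => by
        haveI : IsOpenImmersion (l p ≫ u) := by rw [hlu]; infer_instance
        exact IsOpenImmersion.of_comp (l p) u⟩ }
  exact Scheme.Cover.hom_ext 𝒰 f f' hlf

/-- A fibre product of rings with jointly surjective spectra. -/
structure IsPB (φ1 : T →+* T1) (φ2 : T →+* T2) (ψ1 : T1 →+* T0) (ψ2 : T2 →+* T0) : Prop
    extends IsJoint φ1 φ2 where
  comm : ψ1.comp φ1 = ψ2.comp φ2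
  glue : ∀ x y, ψ1 x = ψ2 y → ∃ t, φ1 t = x ∧ φ2 t = y

variable {ψ1 : T1 →+* T0} {ψ2 : T2 →+* T0}

/-- The fibre product survives localisation. -/
lemma IsPB.glue_away (h : IsPB φ1 φ2 ψ1 ψ2) (α : T) (x : Localization.Away (φ1 α))
    (y : Localization.Away (φ2 α)) {L : Type u} [CommRing L] [Algebra T0 L]
    [IsLocalization.Away (ψ1 (φ1 α)) L] (k1 : Localization.Away (φ1 α) →+* L)
    (hk1 : k1.comp (algebraMap T1 _) = (algebraMap T0 L).comp ψ1)
    (k2 : Localization.Away (φ2 α) →+* L)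
    (hk2 : k2.comp (algebraMap T2 _) = (algebraMap T0 L).comp ψ2) (hxy : k1 x = k2 y) :
    ∃ t : Localization.Away α, awMap φ1 α t = x ∧ awMap φ2 α t = y := by
  obtain ⟨⟨x0, ⟨_, n, rfl⟩⟩, hx⟩ := IsLocalization.surj (Submonoid.powers (φ1 α)) x
  obtain ⟨⟨y0, ⟨_, m, rfl⟩⟩, hy⟩ := IsLocalization.surj (Submonoid.powers (φ2 α)) y
  simp only [map_pow] at hx hy
  have c1 : ∀ z, k1 (algebraMap T1 _ z) = algebraMap T0 L (ψ1 z) := RingHom.congr_fun hk1
  have c2 : ∀ z, k2 (algebraMap T2 _ z) = algebraMap T0 L (ψ2 z) := RingHom.congr_fun hk2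
  have ec : ψ1 (φ1 α) = ψ2 (φ2 α) := RingHom.congr_fun h.comm α
  have hxk := congr_arg k1 hx
  have hyk := congr_arg k2 hy
  simp only [map_mul, map_pow, c1, c2] at hxk hyk
  have he : algebraMap T0 L (ψ1 (x0 * φ1 α ^ m)) = algebraMap T0 L (ψ2 (y0 * φ2 α ^ n)) := by
    simp only [map_mul, map_pow, ← hxk, ← hyk, ec, hxy]
    ring
  obtain ⟨⟨_, N, rfl⟩, hN⟩ := (IsLocalization.eq_iff_exists (Submonoid.powers (ψ1 (φ1 α))) L).mp he
  simp only at hN
  obtain ⟨t0, ht1, ht2⟩ := h.glue (φ1 α ^ N * (x0 * φ1 α ^ m)) (φ2 α ^ N * (y0 * φ2 α ^ n))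
    (by rw [map_mul, map_mul ψ2, map_pow, map_pow ψ2, hN, ec])
  refine ⟨IsLocalization.mk' _ t0 (⟨_, N + m + n, rfl⟩ : Submonoid.powers α), ?_, ?_⟩
  · refine ((IsLocalization.map_units (Localization.Away (φ1 α))
      (⟨_, N + m + n, rfl⟩ : Submonoid.powers (φ1 α))).mul_left_inj).mp ?_
    simp only [map_pow]
    rw [show algebraMap T1 (Localization.Away (φ1 α)) (φ1 α) ^ (N + m + n) =
      awMap φ1 α (algebraMap T _ (α ^ (N + m + n))) by
        rw [← RingHom.comp_apply (awMap φ1 α), awMap_comp, RingHom.comp_apply, map_pow, map_pow],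
      ← map_mul, IsLocalization.mk'_spec, ← RingHom.comp_apply (awMap φ1 α), awMap_comp,
      RingHom.comp_apply, ht1]
    rw [← RingHom.comp_apply (awMap φ1 α), awMap_comp, RingHom.comp_apply]
    simp only [map_mul, map_pow, ← hx]
    ring
  · refine ((IsLocalization.map_units (Localization.Away (φ2 α))
      (⟨_, N + m + n, rfl⟩ : Submonoid.powers (φ2 α))).mul_left_inj).mp ?_
    simp only [map_pow]
    rw [show algebraMap T2 (Localization.Away (φ2 α)) (φ2 α) ^ (N + m + n) =
      awMap φ2 α (algebraMap T _ (α ^ (N + m + n))) by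
        rw [← RingHom.comp_apply (awMap φ2 α), awMap_comp, RingHom.comp_apply, map_pow, map_pow],
      ← map_mul, IsLocalization.mk'_spec, ← RingHom.comp_apply (awMap φ2 α), awMap_comp,
      RingHom.comp_apply, ht2]
    rw [← RingHom.comp_apply (awMap φ2 α), awMap_comp, RingHom.comp_apply]
    simp only [map_mul, map_pow, ← hy]
    ring

/-- Two compatible morphisms into an affine open extend over the basic open. -/
theorem IsPB.exists_local (h : IsPB φ1 φ2 ψ1 ψ2) {X : Scheme.{u}}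
    (h1 : Spec (CommRingCat.of T1) ⟶ X) (h2 : Spec (CommRingCat.of T2) ⟶ X)
    (hcompat : sp ψ1 ≫ h1 = sp ψ2 ≫ h2) {W : X.Opens} (hW : IsAffineOpen W) (α : T)
    (hα1 : ∀ z, φ1 α ∉ (z : PrimeSpectrum T1).asIdeal → h1 z ∈ W)
    (hα2 : ∀ z, φ2 α ∉ (z : PrimeSpectrum T2).asIdeal → h2 z ∈ W) :
    ∃ f : Spec (CommRingCat.of (Localization.Away α)) ⟶ X,
      Compat φ1 h1 (jaw α) f ∧ Compat φ2 h2 (jaw α) f := by
  have hr1 : Set.range (jaw (φ1 α) ≫ h1) ⊆ Set.range hW.fromSpec := by
    rw [hW.range_fromSpec]; rintro _ ⟨z, rfl⟩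
    refine hα1 _ ?_
    have : jaw (φ1 α) z ∈ Set.range (jaw (φ1 α)) := ⟨z, rfl⟩
    rw [range_jaw] at this
    exact this
  have hr2 : Set.range (jaw (φ2 α) ≫ h2) ⊆ Set.range hW.fromSpec := by
    rw [hW.range_fromSpec]; rintro _ ⟨z, rfl⟩
    refine hα2 _ ?_
    have : jaw (φ2 α) z ∈ Set.range (jaw (φ2 α)) := ⟨z, rfl⟩
    rw [range_jaw] at this
    exact this
  let e1 := Spec.preimage (IsOpenImmersion.lift hW.fromSpec (jaw (φ1 α) ≫ h1) hr1)
  let e2 := Spec.preimage (IsOpenImmersion.lift hW.fromSpec (jaw (φ2 α) ≫ h2) hr2)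
  have he1 : Spec.map e1 ≫ hW.fromSpec = jaw (φ1 α) ≫ h1 := by
    rw [Spec.map_preimage, IsOpenImmersion.lift_fac]
  have he2 : Spec.map e2 ≫ hW.fromSpec = jaw (φ2 α) ≫ h2 := by
    rw [Spec.map_preimage, IsOpenImmersion.lift_fac]
  have ec : ψ2 (φ2 α) = ψ1 (φ1 α) := (RingHom.congr_fun h.comm α).symm
  let L := Localization.Away (ψ1 (φ1 α))
  have hu2 : IsUnit ((algebraMap T0 L).comp ψ2 (φ2 α)) := by
    rw [RingHom.comp_apply, ec]; exact IsLocalization.Away.algebraMap_isUnit _
  have hu1 : IsUnit ((algebraMap T0 L).comp ψ1 (φ1 α)) := by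
    rw [RingHom.comp_apply]; exact IsLocalization.Away.algebraMap_isUnit _
  let k1 : Localization.Away (φ1 α) →+* L := IsLocalization.Away.lift (φ1 α) hu1
  let k2 : Localization.Away (φ2 α) →+* L := IsLocalization.Away.lift (φ2 α) hu2
  have hk1 : k1.comp (algebraMap T1 _) = (algebraMap T0 L).comp ψ1 :=
    IsLocalization.Away.lift_comp _ _
  have hk2 : k2.comp (algebraMap T2 _) = (algebraMap T0 L).comp ψ2 :=
    IsLocalization.Away.lift_comp _ _
  have hk : e1 ≫ CommRingCat.ofHom k1 = e2 ≫ CommRingCat.ofHom k2 := by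
    apply Spec.map_injective
    rw [Spec.map_comp, Spec.map_comp, ← cancel_mono hW.fromSpec, Category.assoc, Category.assoc,
      he1, he2]
    change sp k1 ≫ jaw _ ≫ h1 = sp k2 ≫ jaw _ ≫ h2
    have a1 : sp k1 ≫ jaw (φ1 α) = sp (algebraMap T0 L) ≫ sp ψ1 := by
      rw [sp_comp, sp_comp, hk1]
    have a2 : sp k2 ≫ jaw (φ2 α) = sp (algebraMap T0 L) ≫ sp ψ2 := by
      rw [sp_comp, sp_comp, hk2]
    rw [← Category.assoc, a1, ← Category.assoc (sp k2), a2, Category.assoc, Category.assoc,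
      hcompat]
  choose t ht1 ht2 using fun a => h.glue_away α (e1.hom a) (e2.hom a) k1 hk1 k2 hk2
    congr(($hk).hom a)
  have huniq : ∀ {p q : Localization.Away α},
      awMap φ1 α p = awMap φ1 α q → awMap φ2 α p = awMap φ2 α q → p = q := fun {p q} a b =>
    sub_eq_zero.mp (h.toIsJoint.eq_zero_away α _ (by rw [map_sub, a, sub_self])
      (by rw [map_sub, b, sub_self]))
  let e : Γ(X, W) →+* Localization.Away α :=
    { toFun := t
      map_one' := huniq (by rw [ht1, map_one, map_one]) (by rw [ht2, map_one, map_one])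
      map_mul' := fun a b => huniq (by rw [map_mul, ht1, ht1, ht1, map_mul])
        (by rw [map_mul, ht2, ht2, ht2, map_mul])
      map_zero' := huniq (by rw [ht1, map_zero, map_zero]) (by rw [ht2, map_zero, map_zero])
      map_add' := fun a b => huniq (by rw [map_add, ht1, ht1, ht1, map_add])
        (by rw [map_add, ht2, ht2, ht2, map_add]) }
  have hee1 : CommRingCat.ofHom e ≫ CommRingCat.ofHom (awMap φ1 α) = e1 := by
    ext a; exact ht1 a
  have hee2 : CommRingCat.ofHom e ≫ CommRingCat.ofHom (awMap φ2 α) = e2 := by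
    ext a; exact ht2 a
  refine ⟨Spec.map (CommRingCat.ofHom e) ≫ hW.fromSpec, ?_, ?_⟩
  · intro Z v w hvw
    obtain ⟨w', hw, hv⟩ := exists_factor φ1 α v w hvw
    rw [← hv, ← hw, Category.assoc, Category.assoc, ← he1, ← hee1, Spec.map_comp, Category.assoc]
  · intro Z v w hvw
    obtain ⟨w', hw, hv⟩ := exists_factor φ2 α v w hvw
    rw [← hv, ← hw, Category.assoc, Category.assoc, ← he2, ← hee2, Spec.map_comp, Category.assoc]

/-- Local solutions glue. -/
theorem IsJoint.exists_of_local (hJ : IsJoint φ1 φ2) {X : Scheme.{u}}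
    (h1 : Spec (CommRingCat.of T1) ⟶ X) (h2 : Spec (CommRingCat.of T2) ⟶ X)
    (hloc : ∀ p : PrimeSpectrum T, ∃ α : T, α ∉ p.asIdeal ∧
      ∃ f : Spec (CommRingCat.of (Localization.Away α)) ⟶ X,
        Compat φ1 h1 (jaw α) f ∧ Compat φ2 h2 (jaw α) f) :
    ∃ H : Spec (CommRingCat.of T) ⟶ X, sp φ1 ≫ H = h1 ∧ sp φ2 ≫ H = h2 := by
  choose α hα f hf1 hf2 using hloc
  let 𝒰 : (Spec (CommRingCat.of T)).OpenCover :=
    { I₀ := PrimeSpectrum T
      X := fun p => Spec (CommRingCat.of (Localization.Away (α p)))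
      f := fun p => jaw (α p)
      mem₀ := (Scheme.ofArrows_mem_precoverage_iff _).mpr
        ⟨fun p => ⟨p, by
          show p ∈ Set.range (jaw (α p))
          rw [range_jaw]; exact hα p⟩, fun p => inferInstance⟩ }
  have hglue : ∀ p q : PrimeSpectrum T,
      pullback.fst (jaw (α p)) (jaw (α q)) ≫ f p = pullback.snd (jaw (α p)) (jaw (α q)) ≫ f q := by
    intro p q
    refine hJ.hom_ext (pullback.fst (jaw (α p)) (jaw (α q)) ≫ jaw (α p)) _ _
      (fun {Z} v w hvw => ?_) (fun {Z} v w hvw => ?_)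
    · have a := hf1 p (v ≫ pullback.fst _ _) w (by rw [Category.assoc]; exact hvw)
      have b := hf1 q (v ≫ pullback.snd _ _) w
        (by rw [Category.assoc, ← pullback.condition]; exact hvw)
      simp only [Category.assoc] at a b
      rw [a, b]
    · have a := hf2 p (v ≫ pullback.fst _ _) w (by rw [Category.assoc]; exact hvw)
      have b := hf2 q (v ≫ pullback.snd _ _) w
        (by rw [Category.assoc, ← pullback.condition]; exact hvw)
      simp only [Category.assoc] at a b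
      rw [a, b]
  let H := 𝒰.glueMorphisms f hglue
  have hH : ∀ p, jaw (α p) ≫ H = f p := fun p => 𝒰.ι_glueMorphisms f hglue p
  refine ⟨H, ?_, ?_⟩
  · refine Scheme.Cover.hom_ext (𝒰.pullback₁ (sp φ1)) _ _ fun (p : PrimeSpectrum T) => ?_
    show pullback.fst (sp φ1) (jaw (α p)) ≫ sp φ1 ≫ H = pullback.fst (sp φ1) (jaw (α p)) ≫ h1
    rw [← Category.assoc, pullback.condition, Category.assoc, hH]
    exact hf1 p _ _ pullback.condition.symm
  · refine Scheme.Cover.hom_ext (𝒰.pullback₁ (sp φ2)) _ _ fun (p : PrimeSpectrum T) => ?_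
    show pullback.fst (sp φ2) (jaw (α p)) ≫ sp φ2 ≫ H = pullback.fst (sp φ2) (jaw (α p)) ≫ h2
    rw [← Category.assoc, pullback.condition, Category.assoc, hH]
    exact hf2 p _ _ pullback.condition.symm

end Groth.L09.Patch
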