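import Groth.Agent.L09.PatchLift

/-!
# `D[X] ×_D C` as the colimit of `C[X]` along `X ↦ s X`, and the lifting theorem
-/

universe u

open CategoryTheory CategoryTheory.Limits MonoidalCategory CartesianMonoidalCategory
  AlgebraicGeometry Polynomial Opposite MonObj

namespace Groth.L09.Patch

set_option backward.isDefEq.respectTransparency.types false
set_option backward.isDefEq.respectTransparency false
set_option backward.defeqAttrib.useBackward true

variable {R : Type u} [CommRing R]
variable {C D : Type u} [CommRing C] [CommRing D] [Algebra R C] [Algebra R D] [Algebra C D]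
  [IsScalarTower R C D] (s : C)

/-- The diagram `C[X] → C[X] → ⋯`, `X ↦ s X`. -/
noncomputable def stages : ULift.{u} ℕ ⥤ CommRingCat.{u} where
  obj _ := CommRingCat.of C[X]
  map {n m} _ := CommRingCat.ofHom (scale (s ^ (m.down - n.down)))
  map_id n := by
    ext1
    show scale (s ^ (n.down - n.down)) = RingHom.id _
    rw [Nat.sub_self, pow_zero, scale_one]
  map_comp {a b c} f g := by
    ext1
    show scale (s ^ (c.down - a.down)) =
      (scale (s ^ (c.down - b.down))).comp (scale (s ^ (b.down - a.down)))
    have hab : a.down ≤ b.down := f.le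
    have hbc : b.down ≤ c.down := g.le
    rw [scale_comp, ← pow_add]
    congr 2
    omega

variable [IsLocalization.Away s D]

variable (D) in
/-- The fibre product as a cocone. -/
noncomputable def stageCocone : Cocone (stages s) where
  pt := CommRingCat.of (sq C D)
  «ι» :=
    { app := fun n => CommRingCat.ofHom (theta D s n.down)
      naturality := fun n m f => by
        ext1
        show (theta D s m.down).comp (scale (s ^ (m.down - n.down))) = theta D s n.down
        exact theta_scale s f.le }

variable (D) in
/-- The fibre product is the colimit. -/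
noncomputable def isColimitStageCocone : IsColimit (stageCocone D s) := by
  haveI : PreservesColimitsOfShape (ULift.{u} ℕ) (forget CommRingCat.{u}) := inferInstance
  haveI : HasColimitsOfShape (ULift.{u} ℕ) CommRingCat.{u} := inferInstance
  haveI : ReflectsColimitsOfShape (ULift.{u} ℕ) (forget CommRingCat.{u}) :=
    reflectsColimitsOfShape_of_reflectsIsomorphisms
  refine isColimitOfReflects (forget CommRingCat.{u}) ?_
  refine Types.FilteredColimit.isColimitOf' _ _ (fun x => ?_) (fun n p q h => ?_)
  · obtain ⟨m, q, hq⟩ := theta_surj (D := D) s (show sq C D from x)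
    exact ⟨⟨m⟩, q, hq.symm⟩
  · obtain ⟨M, hM⟩ := theta_eq (D := D) s (n := n.down)
      (show theta D s n.down p = theta D s n.down q from h)
    refine ⟨⟨n.down + M⟩, homOfLE (Nat.le_add_right _ _), ?_⟩
    show scale (s ^ (n.down + M - n.down)) p = scale (s ^ (n.down + M - n.down)) q
    rw [Nat.add_sub_cancel_left, hM]

/-- The algebra map `C[X] → D[X]`. -/
noncomputable abbrev mapA : C[X] →ₐ[R] D[X] := Polynomial.mapAlgHom (IsScalarTower.toAlgHom R C D)

/-- Setting `X = 0`. -/
noncomputable abbrev evalA (C : Type u) [CommRing C] [Algebra R C] : C[X] →ₐ[R] C :=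
  (Polynomial.aeval (0 : C)).restrictScalars R

lemma evalA_toRingHom (C : Type u) [CommRing C] [Algebra R C] :
    (evalA (R := R) C).toRingHom = evalRingHom 0 :=
  Polynomial.ringHom_ext (fun c => by simp) (by simp)

variable (G : Over (Spec (CommRingCat.of R))) [GrpObj G] [LocallyOfFinitePresentation G.hom]

/-- A point over `D[X]` trivial at `X = 0` lifts to `C[X]` after `X ↦ sᴺ X`. -/
theorem exists_lift (h : spO R D[X] ⟶ G) (h0 : pm (evalA (R := R) D) ≫ h = 1) :
    ∃ (N : ℕ) (g : spO R C[X] ⟶ G),
      pm (mapA (R := R) (C := C) (D := D)) ≫ g =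
        pm (scaleA (R := R) (algebraMap C D s ^ N)) ≫ h := by
  have hcompat : sp (evalRingHom (0 : D)) ≫ h.left =
      sp (algebraMap C D) ≫ (1 : spO R C ⟶ G).left := by
    have e1 : pm (IsScalarTower.toAlgHom R C D) ≫ (1 : spO R C ⟶ G) = 1 := MonObj.comp_one _
    have := congrArg (fun k => CommaMorphism.left k) (h0.trans e1.symm)
    simp only [Over.comp_left, pm_left, evalA_toRingHom] at this
    exact this
  obtain ⟨H, hH1, hH2⟩ := exists_sq_desc (D := D) s h.left (1 : spO R C ⟶ G).left hcompat
  have hHG : H ≫ G.hom = sp ((kap C D).comp (algebraMap R C)) := by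
    refine (isPB_sq (D := D) s).toIsJoint.hom_ext (𝟙 _) _ _
      (fun {Z} v w hvw => ?_) (fun {Z} v w hvw => ?_)
    · rw [Category.comp_id] at hvw
      rw [hvw, Category.assoc, Category.assoc, reassoc_of% hH1, sp_comp, ← RingHom.comp_assoc]
      congr 1
      rw [Over.w h]
      show sp (algebraMap R D[X]) = _
      congr
      refine RingHom.ext fun r => ?_
      show algebraMap R D[X] r = Polynomial.C (algebraMap C D (algebraMap R C r))
      rw [← IsScalarTower.algebraMap_apply R C D, Polynomial.algebraMap_apply]
    · rw [Category.comp_id] at hvw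
      rw [hvw, Category.assoc, Category.assoc, reassoc_of% hH2, sp_comp, ← RingHom.comp_assoc]
      congr 1
      rw [Over.w (1 : spO R C ⟶ G)]
      rfl
  haveI : PreservesLimitsOfSize.{u, u} Scheme.Spec.{u} := ΓSpec.adjunction.rightAdjoint_preservesLimits
  let Ds : (ULift.{u} ℕ)ᵒᵖ ⥤ Scheme.{u} := (stages s).op ⋙ Scheme.Spec
  haveI : ∀ {i j} (f : i ⟶ j), IsAffineHom (Ds.map f) := fun f => by
    haveI : ∀ k, IsAffine (Ds.obj k) := fun k => inferInstanceAs (IsAffine (Spec _))
    exact isAffineHom_of_isAffine _
  haveI : ∀ k, CompactSpace (Ds.obj k) := fun k => inferInstanceAs (CompactSpace (Spec _))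
  haveI : ∀ k, QuasiSeparatedSpace (Ds.obj k) := fun k =>
    inferInstanceAs (QuasiSeparatedSpace (Spec _))
  let t : Ds ⟶ (Functor.const _).obj (Spec (CommRingCat.of R)) :=
    { app := fun _ => sp (algebraMap R C[X])
      naturality := fun n m f => by
        show sp (scale (s ^ (n.unop.down - m.unop.down))) ≫ sp (algebraMap R C[X]) =
          sp (algebraMap R C[X]) ≫ 𝟙 _
        rw [Category.comp_id, sp_comp]
        exact congrArg sp (RingHom.ext fun r => scale_C _ _) }
  obtain ⟨⟨⟨N⟩⟩, g, hg, hg'⟩ := Scheme.exists_π_app_comp_eq_of_locallyOfFinitePresentation Ds t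
    G.hom (Scheme.Spec.mapCone (stageCocone D s).op)
    (isLimitOfPreserves Scheme.Spec (isColimitStageCocone D s).op) H (by
      ext ⟨⟨n⟩⟩ : 2
      show sp (theta D s n) ≫ sp (algebraMap R C[X]) = H ≫ G.hom
      rw [hHG, sp_comp]
      refine congrArg sp (RingHom.ext fun r => ?_)
      show theta D s n (Polynomial.C (algebraMap R C r)) = kap C D (algebraMap R C r)
      simp [theta])
  replace hg : sp (theta D s N) ≫ g = H := hg
  refine ⟨N, Over.homMk g hg', ?_⟩
  ext1
  show sp (mapA (R := R) (C := C) (D := D)).toRingHom ≫ g =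
    sp (scale (algebraMap C D s ^ N)) ≫ h.left
  rw [← hH1, ← hg, ← Category.assoc (sp (pr1 C D)), sp_comp, pr1_theta, ← Category.assoc, sp_comp,
    ← RingHom.comp_assoc, scale_comp, ← mul_pow, IsLocalization.Away.mul_invSelf, one_pow,
    scale_one]
  rfl

end Groth.L09.Patch
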