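import Groth.Agent.L09.PerfBasic
import Groth.Agent.L20.ThickeningTopology
import Groth.Agent.L20.Chevalley.Reduction
import Groth.Agent.L27.TopInv.Sections
import Groth.Agent.L28.AWN.Local
import Mathlib.AlgebraicGeometry.Morphisms.Flat
import Mathlib.AlgebraicGeometry.Morphisms.Etale
import Mathlib.AlgebraicGeometry.Morphisms.Immersion
import Mathlib.AlgebraicGeometry.Morphisms.Proper
import Mathlib.RingTheory.Flat.EquationalCriterion

/-!
Properties of morphisms and their perfections.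
-/

set_option autoImplicit false
universe u

open CategoryTheory CategoryTheory.Limits AlgebraicGeometry

namespace Groth.L09.Perf

variable {p : ℕ} [hp : Fact p.Prime]

section Ring

lemma pow_sum {R : Type u} [CommRing R] (h : (p : R) = 0) (n : ℕ) {ι : Type*} (s : Finset ι) (g : ι → R) :
    (∑ i ∈ s, g i) ^ p ^ n = ∑ i ∈ s, g i ^ p ^ n := by
  induction n with
  | zero => simp
  | succ n ih =>
    simp only [pow_succ, pow_mul, ih, ← FrobSch.powHom_apply p R h, map_sum]

lemma pow_bijective {R : Type u} [CommRing R] (h : Function.Bijective fun s : R => s ^ p) (n : ℕ) :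
    Function.Bijective fun s : R => s ^ p ^ n := by
  induction n with
  | zero =>
    simp only [pow_zero, pow_one]
    exact Function.bijective_id
  | succ n ih =>
    have : (fun s : R => s ^ p ^ (n + 1)) = (fun s : R => s ^ p) ∘ fun s => s ^ p ^ n := by
      funext s
      simp [pow_succ, pow_mul]
    rw [this]
    exact h.comp ih

/-- Flatness passes to perfections. -/
theorem flat_of_perfection {R A R' A' : Type u} [CommRing R] [CommRing A] [CommRing R'] [CommRing A']
    (f : R →+* A) (ψ : R →+* R') (φ : A →+* A') (f' : R' →+* A') (hcomm : f'.comp ψ = φ.comp f)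
    (hψ : PRad p ψ) (hφ : PRad p φ) (hR : (p : R) = 0) (hA : (p : A) = 0) (hR'p : Function.Bijective fun s : R' => s ^ p)
    (hA'p : Function.Bijective fun s : A' => s ^ p) (hf : f.Flat) : f'.Flat := by
  algebraize [f']
  have hA' : (p : A') = 0 := by rw [← map_natCast φ, hA, map_zero]
  refine Module.Flat.iff_forall_isTrivialRelation.2 fun {l r x} hrx => ?_
  choose n ρ hρ using fun i => hψ.1 (r i)
  choose m α hα using fun i => hφ.1 (x i)
  have hc := fun z => RingHom.congr_fun hcomm z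
  simp only [RingHom.comp_apply] at hc
  let N := ∑ i, (n i + m i)
  have hn : ∀ i, n i + m i ≤ N := fun i => Finset.single_le_sum (f := fun i => n i + m i) (fun _ _ => Nat.zero_le _) (Finset.mem_univ i)
  let ρ' := fun i => ρ i ^ p ^ (N - n i)
  let α' := fun i => α i ^ p ^ (N - m i)
  have hρ' : ∀ i, r i ^ p ^ N = ψ (ρ' i) := fun i => by
    rw [map_pow, ← hρ, ← pow_mul, ← pow_add, Nat.add_sub_cancel' (by have := hn i; omega)]
  have hα' : ∀ i, x i ^ p ^ N = φ (α' i) := fun i => by
    rw [map_pow, ← hα, ← pow_mul, ← pow_add, Nat.add_sub_cancel' (by have := hn i; omega)]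
  have h0 : φ (∑ i, f (ρ' i) * α' i) = 0 := by
    have h1 : ∀ i, φ (f (ρ' i) * α' i) = (f' (r i) * x i) ^ p ^ N := fun i => by
      rw [map_mul, ← hc, ← hρ', ← hα', map_pow, mul_pow]
    rw [map_sum, Finset.sum_congr rfl fun i _ => h1 i, ← pow_sum hA',
      show (∑ i, f' (r i) * x i) = 0 from hrx, zero_pow (pow_ne_zero N hp.out.ne_zero)]
  obtain ⟨M, hM⟩ := hφ.2 _ h0
  have hM' : (∑ i, f (ρ' i) * α' i) ^ p ^ M = 0 :=
    pow_eq_zero_of_le (M.lt_pow_self hp.out.one_lt).le hM
  rw [pow_sum hA] at hM'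
  obtain ⟨k, c, y, hy, hc0⟩ : @Module.IsTrivialRelation R A _ _ f.toAlgebra.toModule (Fin l) _
      (fun i => ρ' i ^ p ^ M) (fun i => α' i ^ p ^ M) := by
    algebraize [f]
    refine Module.Flat.iff_forall_isTrivialRelation.1 hf ?_
    simpa [Algebra.smul_def, RingHom.algebraMap_toAlgebra, mul_pow] using hM'
  obtain ⟨c', hc'⟩ : ∃ c' : Fin l → Fin k → R', ∀ i j, c' i j ^ p ^ (N + M) = ψ (c i j) :=
    ⟨fun i j => ((pow_bijective hR'p (N + M)).2 (ψ (c i j))).choose,
      fun i j => ((pow_bijective hR'p (N + M)).2 (ψ (c i j))).choose_spec⟩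
  obtain ⟨y', hy'⟩ : ∃ y' : Fin k → A', ∀ j, y' j ^ p ^ (N + M) = φ (y j) :=
    ⟨fun j => ((pow_bijective hA'p (N + M)).2 (φ (y j))).choose,
      fun j => ((pow_bijective hA'p (N + M)).2 (φ (y j))).choose_spec⟩
  have hR' : (p : R') = 0 := by rw [← map_natCast ψ, hR, map_zero]
  refine ⟨k, c', y', fun i => (pow_bijective hA'p (N + M)).1 ?_, fun j => (pow_bijective hR'p (N + M)).1 ?_⟩
  · show x i ^ p ^ (N + M) = (∑ j, f' (c' i j) * y' j) ^ p ^ (N + M)
    rw [pow_sum hA']
    have h2 : ∀ j, (f' (c' i j) * y' j) ^ p ^ (N + M) = φ (f (c i j) * y j) := fun j => by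
      rw [mul_pow, ← map_pow, hc', hy', hc, map_mul]
    rw [Finset.sum_congr rfl fun j _ => h2 j, ← map_sum]
    have h3 : α' i ^ p ^ M = ∑ j, f (c i j) * y j := hy i
    rw [← h3, map_pow, ← hα', ← pow_mul, ← pow_add]
  · show (∑ i, r i * c' i j) ^ p ^ (N + M) = (0 : R') ^ p ^ (N + M)
    rw [zero_pow (pow_ne_zero _ hp.out.ne_zero)]
    rw [pow_sum hR']
    have h2 : ∀ i, (r i * c' i j) ^ p ^ (N + M) = ψ (ρ' i ^ p ^ M * c i j) := fun i => by
      rw [mul_pow, hc', map_mul, map_pow, ← hρ', ← pow_mul, ← pow_add]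
    rw [Finset.sum_congr rfl fun i _ => h2 i, ← map_sum, hc0 j, map_zero]

end Ring

/-! ### Morphisms -/

variable {X Y XP YP : Scheme.{u}} [FrobSch.IsCharP X p] [FrobSch.IsCharP Y p] [FrobSch.IsCharP XP p]
  [FrobSch.IsCharP YP p] {πX : XP ⟶ X} {πY : YP ⟶ Y} (hX : FrobSch.IsPerfection πX p)
  (hY : FrobSch.IsPerfection πY p) {f : X ⟶ Y} {fP : XP ⟶ YP} (w : fP ≫ πY = πX ≫ f)

include hX hY w

theorem quasiCompact_iff : QuasiCompact f ↔ QuasiCompact fP := by
  have := isIntegralHom hX
  have := isIntegralHom hY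
  have := surjective hX
  constructor
  · intro _
    have : QuasiCompact (fP ≫ πY) := by rw [w]; infer_instance
    exact MorphismProperty.of_postcomp (W := @QuasiCompact) (W' := @QuasiSeparated) fP πY inferInstance this
  · intro _
    have : QuasiCompact (πX ≫ f) := by rw [← w]; infer_instance
    exact Groth.L20.Thick.quasiCompact_of_comp_surjective πX f

theorem quasiSeparated_iff : QuasiSeparated f ↔ QuasiSeparated fP := by
  have := isIntegralHom hX
  have := isIntegralHom hY
  have := surjective hX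
  constructor
  · intro _
    have : QuasiSeparated (fP ≫ πY) := by rw [w]; infer_instance
    exact MorphismProperty.of_postcomp (W := @QuasiSeparated) (W' := ⊤) fP πY trivial this
  · intro _
    have : QuasiSeparated (πX ≫ f) := by rw [← w]; infer_instance
    exact Groth.L20.Thick.quasiSeparated_of_comp_surjective πX f

theorem isSeparated_iff : IsSeparated f ↔ IsSeparated fP := by
  have := isIntegralHom hX
  have := isIntegralHom hY
  have := surjective hX
  constructor
  · intro _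
    have : IsSeparated (fP ≫ πY) := by rw [w]; infer_instance
    exact IsSeparated.of_comp fP πY
  · intro _
    have : IsSeparated (πX ≫ f) := by rw [← w]; infer_instance
    exact Groth.L20.Thick.isSeparated_of_comp_surjective πX f

theorem universallyClosed_iff : UniversallyClosed f ↔ UniversallyClosed fP := by
  have := isIntegralHom hX
  have := isIntegralHom hY
  have := surjective hX
  constructor
  · intro _
    have : UniversallyClosed (fP ≫ πY) := by rw [w]; infer_instance
    exact MorphismProperty.of_postcomp (W := @UniversallyClosed) (W' := @IsSeparated) fP πY inferInstance this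
  · intro _
    have : UniversallyClosed (πX ≫ f) := by rw [← w]; infer_instance
    exact UniversallyClosed.of_comp_surjective πX f

theorem isAffineHom_iff : IsAffineHom f ↔ IsAffineHom fP := by
  have := isIntegralHom hX
  have := isIntegralHom hY
  have := surjective hX
  constructor
  · intro _
    have : IsAffineHom (fP ≫ πY) := by rw [w]; infer_instance
    exact IsAffineHom.of_comp fP πY
  · intro _
    have h : IsAffineHom (πX ≫ f) := by rw [← w]; infer_instance
    refine ⟨fun U hU => ?_⟩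
    have hV : IsAffineOpen (πX ⁻¹ᵁ (f ⁻¹ᵁ U)) := h.isAffine_preimage U hU
    have : IsAffine (πX ⁻¹ᵁ (f ⁻¹ᵁ U)).toScheme := hV
    have : Surjective (πX ∣_ (f ⁻¹ᵁ U)) := IsZariskiLocalAtTarget.restrict (P := @Surjective) inferInstance _
    have : UniversallyClosed (πX ∣_ (f ⁻¹ᵁ U)) :=
      IsZariskiLocalAtTarget.restrict (P := @UniversallyClosed) inferInstance _
    exact Groth.L20.Chevalley.isAffine_of_surjective_universallyClosed (πX ∣_ (f ⁻¹ᵁ U))

theorem isUnivHomeo_iff : FlatMor.IsUnivHomeo f ↔ FlatMor.IsUnivHomeo fP := by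
  have h₁ := isUnivHomeo hX
  have h₂ := isUnivHomeo hY
  constructor
  · intro hf
    exact Groth.L20.isUnivHomeo_of_comp_right (w ▸ Groth.L28.AWN.isUnivHomeo_comp h₁ hf) h₂
  · intro hf
    exact Groth.L20.isUnivHomeo_of_comp_left (w ▸ Groth.L28.AWN.isUnivHomeo_comp hf h₂) h₁

theorem surjective_map [Surjective f] : Surjective fP := by
  have := surjective hX
  refine ⟨fun y => ?_⟩
  obtain ⟨x, hx⟩ := (πX ≫ f).surjective (πY y)
  refine ⟨x, (Groth.L20.isHomeomorph_of_isUnivHomeo (isUnivHomeo hY)).bijective.1 ?_⟩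
  rw [← hx, ← Scheme.Hom.comp_apply, w]

/-- The square of perfections is cartesian when the base change is perfect. -/
theorem isPullback_of_isPerfect {Z : Scheme.{u}} [FrobSch.IsCharP Z p] {q : Z ⟶ YP} {π' : Z ⟶ X}
    (sq : IsPullback q π' πY f) (hZ : FrobSch.IsPerfect Z p) : IsPullback fP πX πY f := by
  obtain ⟨e, he⟩ := exists_iso hX (isPerfection_of_isPullback hY sq hZ)
  have h2 : e.hom ≫ q = fP := eq_of_comp hY hX.1 (by rw [Category.assoc, sq.w, reassoc_of% he, w])
  refine sq.of_iso e.symm (Iso.refl _) (Iso.refl _) (Iso.refl _) ?_ ?_ (by simp) (by simp)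
  · simp [← h2]
  · simp [← he]

theorem isOpenImmersion_map [IsOpenImmersion f] : IsOpenImmersion fP := by
  have := FrobSch.IsCharP.of_hom (pullback.fst πY f) p
  have h := isPullback_of_isPerfect hX hY w (IsPullback.of_hasPullback πY f)
    (isPerfect_of_isOpenImmersion p (pullback.fst πY f) hY.1)
  exact MorphismProperty.of_isPullback h.flip inferInstance

theorem isPullback_of_etale [Etale f] : IsPullback fP πX πY f := by
  let q := pullback.fst πY f
  have := FrobSch.IsCharP.of_hom q p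
  refine isPullback_of_isPerfect hX hY w (IsPullback.of_hasPullback πY f) ?_
  have : IsIso (FrobSch.frob YP p) := hY.1
  have hq : Etale (FrobSch.frob (pullback πY f) p ≫ q) := by
    rw [FrobSch.frob_comp]
    infer_instance
  have : Etale (FrobSch.frob (pullback πY f) p) :=
    MorphismProperty.of_postcomp (W := @Etale) (W' := @Etale) _ q inferInstance hq
  have := universallyInjective_frob p (X := pullback πY f)
  have := Groth.L27.TopInv.isOpenImmersion_of_etale_univInjective (FrobSch.frob (pullback πY f) p)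
  have : Epi (FrobSch.frob (pullback πY f) p).base := by rw [FrobSch.frob_base]; infer_instance
  exact IsOpenImmersion.isIso _

theorem surjective_appLE [IsClosedImmersion f] {U : Y.Opens} (hU : IsAffineOpen U)
    (e : πX ⁻¹ᵁ (f ⁻¹ᵁ U) ≤ fP ⁻¹ᵁ (πY ⁻¹ᵁ U)) :
    Function.Surjective (fP.appLE (πY ⁻¹ᵁ U) (πX ⁻¹ᵁ (f ⁻¹ᵁ U)) e) := by
  intro b
  obtain ⟨n, a, ha⟩ := (affine hX (hU.preimage f)).2.1 b
  obtain ⟨c, hc⟩ := (isClosedImmersion_iff_isAffineHom.1 ‹IsClosedImmersion f›).2 U hU a
  obtain ⟨d, hd⟩ := (pow_bijective (bijective_pow_of_isPerfect p hY.1 (πY ⁻¹ᵁ U)) n).2 ((πY.app U).hom c)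
  refine ⟨d, (pow_bijective (bijective_pow_of_isPerfect p hX.1 (πX ⁻¹ᵁ (f ⁻¹ᵁ U))) n).1 ?_⟩
  dsimp only at hd ⊢
  rw [← map_pow, hd, ha, ← hc]
  have h : πY.app U ≫ fP.appLE (πY ⁻¹ᵁ U) (πX ⁻¹ᵁ (f ⁻¹ᵁ U)) e = f.app U ≫ πX.app (f ⁻¹ᵁ U) := by
    simp only [Scheme.Hom.app_eq_appLE, Scheme.Hom.appLE_comp_appLE, w]
  exact ConcreteCategory.congr_hom h c

theorem isClosedImmersion_map [IsClosedImmersion f] : IsClosedImmersion fP := by
  have := isIntegralHom hY
  have hf : IsAffineHom fP := (isAffineHom_iff hX hY w).1 inferInstance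
  refine (IsZariskiLocalAtTarget.iff_of_iSup_eq_top (P := @IsClosedImmersion)
    (fun U : Y.affineOpens => πY ⁻¹ᵁ (U : Y.Opens)) ?_).2 fun U => ?_
  · exact (πY.preimage_iSup _).symm.trans ((congrArg (πY ⁻¹ᵁ ·) (iSup_affineOpens_eq_top Y)).trans (by simp))
  have hV : IsAffineOpen (πY ⁻¹ᵁ (U : Y.Opens)) := U.2.preimage πY
  have : IsAffine (πY ⁻¹ᵁ (U : Y.Opens)).toScheme := hV
  have : IsAffine (fP ⁻¹ᵁ (πY ⁻¹ᵁ (U : Y.Opens))).toScheme := hV.preimage fP
  refine IsClosedImmersion.of_surjective_of_isAffine _ ?_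
  have e : πX ⁻¹ᵁ (f ⁻¹ᵁ (U : Y.Opens)) = fP ⁻¹ᵁ (πY ⁻¹ᵁ (U : Y.Opens)) := by
    rw [← Scheme.Hom.comp_preimage, ← w]
    rfl
  have h := surjective_appLE hX hY w U.2 e.le
  have hsurj : Function.Surjective (fP.app (πY ⁻¹ᵁ (U : Y.Opens))) := by
    have h' : fP.app (πY ⁻¹ᵁ (U : Y.Opens)) = fP.appLE _ _ e.le ≫ XP.presheaf.map (eqToHom e.symm).op := by
      rw [Scheme.Hom.appLE_map, Scheme.Hom.app_eq_appLE]
    rw [h']
    exact ((ConcreteCategory.isIso_iff_bijective (XP.presheaf.map (eqToHom e.symm).op)).1 inferInstance).2.comp h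
  rw [morphismRestrict_appTop]
  have : ∀ (W : YP.Opens), W = πY ⁻¹ᵁ (U : Y.Opens) → Function.Surjective (fP.app W) := by
    rintro W rfl
    exact hsurj
  exact ((ConcreteCategory.isIso_iff_bijective (XP.presheaf.map (eqToHom _).op)).1 inferInstance).2.comp
    (this _ (by simp))

theorem isImmersion_map [IsImmersion f] : IsImmersion fP := by
  let W := f.coborderRange
  have := FrobSch.IsCharP.of_hom W.ι p
  have := FrobSch.IsCharP.of_hom (πY ⁻¹ᵁ W).ι p
  have sq : IsPullback (πY ⁻¹ᵁ W).ι (πY ∣_ W) πY W.ι := (isPullback_morphismRestrict πY W).flip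
  have hW := isPerfection_of_isPullback hY sq (isPerfect_of_isOpenImmersion p (πY ⁻¹ᵁ W).ι hY.1)
  let g : XP ⟶ (πY ⁻¹ᵁ W).toScheme := sq.lift fP (πX ≫ f.liftCoborder) (by
    rw [w, Category.assoc]
    exact congrArg (πX ≫ ·) f.liftCoborder_ι.symm)
  have : IsClosedImmersion g := isClosedImmersion_map hX hW (f := f.liftCoborder) (sq.lift_snd _ _ _)
  rw [← sq.lift_fst fP (πX ≫ f.liftCoborder) (by
    rw [w, Category.assoc]
    exact congrArg (πX ≫ ·) f.liftCoborder_ι.symm)]
  infer_instance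

theorem flat_map [Flat f] : Flat fP := by
  have := isIntegralHom hX
  have := isIntegralHom hY
  refine (HasRingHomProperty.iff_exists_appLE (P := @Flat) ?_).2 fun x => ?_
  · exact (RingHom.Flat.stableUnderComposition.stableUnderCompositionWithLocalizationAway
      RingHom.Flat.holdsForLocalizationAway).1
  obtain ⟨U, hU, hxU, -⟩ := TopologicalSpace.Opens.isBasis_iff_nbhd.mp Y.isBasis_affineOpens (show f (πX x) ∈ (⊤ : Y.Opens) from trivial)
  obtain ⟨V, hV, hxV, hVU⟩ := TopologicalSpace.Opens.isBasis_iff_nbhd.mp X.isBasis_affineOpens (show πX x ∈ f ⁻¹ᵁ U from hxU)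
  have e : πX ⁻¹ᵁ V ≤ fP ⁻¹ᵁ (πY ⁻¹ᵁ U) := by
    rw [← Scheme.Hom.comp_preimage, w]
    exact fun z hz => hVU hz
  refine ⟨⟨πY ⁻¹ᵁ U, hU.preimage πY⟩, ⟨πX ⁻¹ᵁ V, hV.preimage πX⟩, hxV, e, ?_⟩
  have h : πY.app U ≫ fP.appLE (πY ⁻¹ᵁ U) (πX ⁻¹ᵁ V) e = f.appLE U V hVU ≫ πX.app V := by
    simp only [Scheme.Hom.app_eq_appLE, Scheme.Hom.appLE_comp_appLE, w]
  exact flat_of_perfection (f.appLE U V hVU).hom (πY.app U).hom (πX.app V).hom _
    (by simpa only [← CommRingCat.hom_comp] using congrArg CommRingCat.Hom.hom h)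
    (affine hY hU).2 (affine hX hV).2 (FrobSch.natCast_eq_zero_app Y p U) (FrobSch.natCast_eq_zero_app X p V)
    (bijective_pow_of_isPerfect p hY.1 _) (bijective_pow_of_isPerfect p hX.1 _)
    (f.flat_appLE hU hV hVU)

end Groth.L09.Perf
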