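import Groth.Prelude.Def_NonAbH2
import Groth.Agent.L09.TorsorSch
import Groth.Agent.L13.CGrpExt.Descend
import Groth.Agent.L24.Boot.SmoothSection
import Mathlib.RingTheory.PowerSeries.Basic
import Mathlib.RingTheory.Smooth.Basic
import Mathlib.RingTheory.Etale.Pi

/-!
Torsors under smooth affine groups over a power series ring have sections over power series rings
over etale covers.
-/

set_option autoImplicit false
set_option linter.style.haveILetI false
set_option backward.isDefEq.respectTransparency.types false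

universe u

open CategoryTheory CategoryTheory.Limits AlgebraicGeometry

noncomputable section

namespace Groth.L09.PowSerSection

open PowerSeries in
/-- Lifting a point of a formally smooth algebra modulo `X` to power series. -/
theorem exists_lift {A B R' : Type u} [CommRing A] [CommRing B] [CommRing R'] [Algebra A B]
    [Algebra.FormallySmooth A B] (ψ : A →+* R'⟦X⟧) (σ₀ : B →+* R')
    (h₀ : σ₀.comp (algebraMap A B) = (constantCoeff (R := R')).comp ψ) :
    ∃ τ : B →+* R'⟦X⟧, τ.comp (algebraMap A B) = ψ := by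
  classical
  letI : Algebra A R'⟦X⟧ := ψ.toAlgebra
  let I : ℕ → Ideal R'⟦X⟧ := fun n => Ideal.span {(X : R'⟦X⟧) ^ (n + 1)}
  have hle : ∀ n, I (n + 1) ≤ I n := fun n =>
    Ideal.span_singleton_le_span_singleton.2 (pow_dvd_pow X (Nat.le_succ _))
  let q : ∀ n, (R'⟦X⟧ ⧸ I (n + 1)) →ₐ[A] (R'⟦X⟧ ⧸ I n) := fun n => Ideal.Quotient.factorₐ A (hle n)
  have hq : ∀ n, Function.Surjective (q n) := fun n x => by
    obtain ⟨y, rfl⟩ := Ideal.Quotient.mk_surjective x
    exact ⟨Ideal.Quotient.mk _ y, rfl⟩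
  have hnil : ∀ n, IsNilpotent (RingHom.ker (q n)) := fun n => by
    refine ⟨2, ?_⟩
    rw [Ideal.zero_eq_bot, eq_bot_iff]; refine le_of_eq_of_le (Submodule.pow_succ _) ?_; rw [Submodule.pow_one]
    refine Ideal.mul_le.2 fun x hx y hy => ?_
    obtain ⟨a, rfl⟩ := Ideal.Quotient.mk_surjective x
    obtain ⟨b, rfl⟩ := Ideal.Quotient.mk_surjective y
    have ha : a ∈ I n := Ideal.Quotient.eq_zero_iff_mem.1 hx
    have hb : b ∈ I n := Ideal.Quotient.eq_zero_iff_mem.1 hy
    refine Submodule.mem_bot _ |>.2 ?_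
    rw [← map_mul, Ideal.Quotient.eq_zero_iff_mem]
    obtain ⟨a', rfl⟩ := Ideal.mem_span_singleton.1 ha
    obtain ⟨b', rfl⟩ := Ideal.mem_span_singleton.1 hb
    exact Ideal.mem_span_singleton.2 ⟨a' * b' * X ^ n, by ring⟩
  have base : ∃ σ : B →ₐ[A] R'⟦X⟧ ⧸ I 0, True := by
    refine ⟨{ toRingHom := ((Ideal.Quotient.mk (I 0)).comp (PowerSeries.C (R := R'))).comp σ₀, commutes' := fun a => ?_ }, trivial⟩
    show Ideal.Quotient.mk (I 0) (PowerSeries.C (σ₀ (algebraMap A B a))) = Ideal.Quotient.mk (I 0) (ψ a)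
    have h₀' : σ₀ (algebraMap A B a) = constantCoeff (ψ a) := RingHom.congr_fun h₀ a
    rw [h₀', Ideal.Quotient.mk_eq_mk_iff_sub_mem, Ideal.mem_span_singleton, pow_one,
      X_dvd_iff]
    simp
  choose σ₁ _ using base
  let s : ∀ n, B →ₐ[A] R'⟦X⟧ ⧸ I n := fun n => Nat.rec σ₁
    (fun n f => Algebra.FormallySmooth.liftOfSurjective f (q n) (hq n) (hnil n)) n
  have hs : ∀ n b, q n (s (n + 1) b) = s n b := fun n b =>
    Algebra.FormallySmooth.liftOfSurjective_apply (s n) (q n) (hq n) (hnil n) b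
  choose r hr using fun n b => Ideal.Quotient.mk_surjective (s n b)
  have hcompat : ∀ b n m, m ≤ n → r n b - r m b ∈ I m := by
    intro b n m hmn
    induction n, hmn using Nat.le_induction with
    | base => simp
    | succ n hn ih =>
      have h1 : r (n + 1) b - r n b ∈ I n := by
        rw [← Ideal.Quotient.mk_eq_mk_iff_sub_mem, hr n b, ← hs n b, ← hr (n + 1) b]
        rfl
      have h2 : I n ≤ I m := Ideal.span_singleton_le_span_singleton.2 (pow_dvd_pow X (by omega))
      simpa using (I m).add_mem (h2 h1) ih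
  let t : B → R'⟦X⟧ := fun b => PowerSeries.mk fun n => coeff n (r n b)
  have ht : ∀ b n, Ideal.Quotient.mk (I n) (t b) = s n b := by
    intro b n
    rw [← hr n b, Ideal.Quotient.mk_eq_mk_iff_sub_mem, Ideal.mem_span_singleton, X_pow_dvd_iff]
    intro m hm
    have := X_pow_dvd_iff.1 (Ideal.mem_span_singleton.1 (hcompat b n m (by omega))) m (Nat.lt_succ_self m)
    rw [map_sub, sub_eq_zero] at this ⊢
    rw [show coeff m (t b) = coeff m (r m b) from coeff_mk _ _, this]
  have hext : ∀ x y : R'⟦X⟧, (∀ n, Ideal.Quotient.mk (I n) x = Ideal.Quotient.mk (I n) y) → x = y := by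
    intro x y h
    ext n
    have := X_pow_dvd_iff.1 (Ideal.mem_span_singleton.1 (Ideal.Quotient.mk_eq_mk_iff_sub_mem _ _ |>.1 (h n))) n
      (Nat.lt_succ_self n)
    rwa [map_sub, sub_eq_zero] at this
  refine ⟨{ toFun := t
            map_one' := hext _ _ fun n => by rw [ht, map_one, map_one]
            map_mul' := fun a b => hext _ _ fun n => by rw [ht, map_mul, map_mul, ht, ht]
            map_zero' := hext _ _ fun n => by rw [ht, map_zero, map_zero]
            map_add' := fun a b => hext _ _ fun n => by rw [ht, map_add, map_add, ht, ht] },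
    RingHom.ext fun a => hext _ _ fun n => ?_⟩
  show Ideal.Quotient.mk (I n) (t (algebraMap A B a)) = _
  rw [ht, AlgHom.commutes]
  rfl

open PowerSeries in
/-- The statement. -/
theorem exists_section (R : Type u) [CommRing R]
    (G : Over (Spec (CommRingCat.of R⟦X⟧))) [GrpObj G] [IsAffine G.left] [Smooth G.hom]
    (P : Over (Spec (CommRingCat.of R⟦X⟧))) (a : AlgGrp.Action G P)
    (hP : NonAbH1.IsTorsorFor Scheme.fpqcPrecoverage a) :
    ∃ (R' : Type u) (_ : CommRing R') (_ : Algebra R R'),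
      Algebra.Etale R R' ∧ Module.FaithfullyFlat R R' ∧
      NonAbH1.HasSectionOver P (Spec.map (CommRingCat.ofHom (PowerSeries.map (algebraMap R R')))) := by
  classical
  haveI : IsAffineHom G.hom := inferInstance
  haveI : IsAffineHom P.hom := TorsorSch.of_grp @IsAffineHom a hP inferInstance
  haveI : Smooth P.hom := TorsorSch.of_grp @Smooth a hP inferInstance
  haveI : Surjective P.hom := TorsorSch.of_grp @Surjective a hP (Groth.L25.Actions.surjective_grp G)
  haveI : IsAffine P.left := isAffine_of_isAffineHom P.hom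
  let cc : CommRingCat.of R⟦X⟧ ⟶ CommRingCat.of R := CommRingCat.ofHom constantCoeff
  let q := pullback.snd P.hom (Spec.map cc)
  have hloc : ∀ p : Spec (CommRingCat.of R), ∃ (E : CommRingCat.{u}) (φ : CommRingCat.of R ⟶ E)
      (k : Spec E ⟶ P.left), φ.hom.Etale ∧ p ∈ Set.range (Spec.map φ) ∧
      k ≫ P.hom = Spec.map (cc ≫ φ) := by
    intro p
    haveI : Surjective q := MorphismProperty.pullback_snd P.hom (Spec.map cc) ‹_›
    obtain ⟨x, hx⟩ := q.surjective p
    haveI : Smooth q := MorphismProperty.pullback_snd P.hom (Spec.map cc) ‹_›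
    obtain ⟨S', g, s', h, hg, hs', hh⟩ := Groth.L24.Boot.exists_etale_nhd_section q x
    obtain ⟨W, hW, hsW, -⟩ := exists_isAffineOpen_mem_and_subset (U := (⊤ : S'.Opens))
      (show s' ∈ (⊤ : S'.Opens) from trivial)
    have he : Spec.map (Spec.preimage (hW.fromSpec ≫ g)) = hW.fromSpec ≫ g := Spec.map_preimage _
    refine ⟨Γ(S', W), Spec.preimage (hW.fromSpec ≫ g), hW.fromSpec ≫ h ≫ pullback.fst _ _, ?_, ?_, ?_⟩
    · have : Etale (Spec.map (Spec.preimage (hW.fromSpec ≫ g))) := by rw [he]; infer_instance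
      exact (HasRingHomProperty.Spec_iff (P := @Etale)).1 this
    · obtain ⟨w, hw⟩ : s' ∈ Set.range hW.fromSpec := by rw [hW.range_fromSpec]; exact hsW
      exact ⟨w, by rw [he, Scheme.Hom.comp_apply, hw, hs', hx]⟩
    · rw [Spec.map_comp, he, Category.assoc, Category.assoc, Category.assoc, pullback.condition]
      rw [← Category.assoc h, show h ≫ pullback.snd P.hom (Spec.map cc) = g from hh]
  choose E φ k hφ hp hk using hloc
  letI := fun p => (φ p).hom.toAlgebra
  haveI het : ∀ p, Algebra.Etale R (E p) := fun p => hφ p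
  have hopen : ∀ p, IsOpen (Set.range (PrimeSpectrum.comap (algebraMap R (E p)))) := fun p =>
    (PrimeSpectrum.isOpenMap_comap_of_hasGoingDown_of_finitePresentation).isOpen_range
  obtain ⟨s, hs⟩ := isCompact_univ.elim_finite_subcover _ hopen
    (fun p _ => Set.mem_iUnion.2 ⟨p, hp p⟩)
  let R' := ∀ p : s, E p.1
  refine ⟨R', inferInstance, inferInstance, inferInstance, ?_, ?_⟩
  · refine Module.FaithfullyFlat.of_comap_surjective fun p => ?_
    obtain ⟨p₀, hp₀, Q, hQ⟩ := Set.mem_iUnion₂.1 (hs (Set.mem_univ p))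
    refine ⟨PrimeSpectrum.comap (Pi.evalRingHom (fun p : s => (E p.1 : Type u)) ⟨p₀, hp₀⟩) Q, ?_⟩
    rw [← PrimeSpectrum.comap_comp_apply]
    exact hQ
  let B := Γ(P.left, ⊤)
  let α : CommRingCat.of R⟦X⟧ ⟶ B := Spec.preimage (P.left.isoSpec.inv ≫ P.hom)
  have hα : Spec.map α = P.left.isoSpec.inv ≫ P.hom := Spec.map_preimage _
  have hsm : α.hom.Smooth := by
    have : Smooth (Spec.map α) := by rw [hα]; infer_instance
    exact (HasRingHomProperty.Spec_iff (P := @Smooth)).1 this
  letI := α.hom.toAlgebra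
  haveI : Algebra.Smooth R⟦X⟧ B := hsm
  have hσ : ∀ p, α ≫ Spec.preimage (k p ≫ P.left.isoSpec.hom) = cc ≫ φ p := fun p => Spec.map_injective (by
    rw [Spec.map_comp, Spec.map_preimage, hα, Category.assoc, Iso.hom_inv_id_assoc, hk])
  let σ₀ : B →+* R' := Pi.ringHom fun p : s => (Spec.preimage (k p.1 ≫ P.left.isoSpec.hom)).hom
  obtain ⟨τ, hτ⟩ := exists_lift (PowerSeries.map (algebraMap R R')) σ₀ (RingHom.ext fun f => funext fun p => by
    show (Spec.preimage (k p.1 ≫ P.left.isoSpec.hom)).hom (α.hom f) = (constantCoeff (PowerSeries.map (algebraMap R R') f) : R') p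
    rw [← PowerSeries.coeff_zero_eq_constantCoeff_apply, PowerSeries.coeff_map,
      PowerSeries.coeff_zero_eq_constantCoeff_apply]
    exact congrArg (fun χ : CommRingCat.of R⟦X⟧ ⟶ E p.1 => χ.hom f) (hσ p.1))
  refine ⟨Spec.map (CommRingCat.ofHom τ) ≫ P.left.isoSpec.inv, ?_⟩
  rw [Category.assoc, ← hα, ← Spec.map_comp]
  exact congrArg Spec.map (CommRingCat.hom_ext hτ)

end Groth.L09.PowSerSection
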