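import Groth.Prelude.Def_W4stkcategoriessitesFib

/-!
The functor between 2-fibre products of categories induced by a morphism of cospans.
-/

set_option autoImplicit false
universe v₄ u₄ v₅ u₅ v₆ u₆ v₇ u₇ v₈ u₈ v₉ u₉

open CategoryTheory CategoryTheory.Limits

namespace Groth.L09.PullbackMap

variable {X : Type u₄} {Y : Type u₅} {Z : Type u₆} {A : Type u₇} {B : Type u₈} {C : Type u₉}
  [Category.{v₄} X] [Category.{v₅} Y] [Category.{v₆} Z] [Category.{v₇} A] [Category.{v₈} B] [Category.{v₉} C]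
  {H : X ⥤ Z} {I : Y ⥤ Z} {F : A ⥤ C} {G : B ⥤ C} (ψ : CatCospanTransform H I F G)

lemma obj_iso_hom (x : CategoricalPullback H I) : ((FibCat.categoricalPullbackMap ψ).obj x).iso.hom =
    ψ.squareLeft.iso.inv.app x.fst ≫ ψ.base.map x.iso.hom ≫ ψ.squareRight.iso.hom.app x.snd := by
  simp [FibCat.categoricalPullbackMap]
  rfl

lemma aux {P Q R S : C} (f : P ⟶ Q) (g : Q ⟶ R) (h : R ⟶ S) (h' : S ⟶ R) (e : h ≫ h' = 𝟙 R) :
    f ≫ g = (f ≫ g ≫ h) ≫ h' := by
  rw [Category.assoc, Category.assoc, e, Category.comp_id]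

theorem faithful [ψ.left.Faithful] [ψ.right.Faithful] : (FibCat.categoricalPullbackMap ψ).Faithful where
  map_injective h := CategoricalPullback.Hom.ext (ψ.left.map_injective (congrArg (·.fst) h))
    (ψ.right.map_injective (congrArg (·.snd) h))

theorem full [ψ.left.Full] [ψ.right.Full] [ψ.base.Faithful] : (FibCat.categoricalPullbackMap ψ).Full where
  map_surjective {x y} m := by
    obtain ⟨a, ha⟩ := ψ.left.map_surjective m.fst
    obtain ⟨b, hb⟩ := ψ.right.map_surjective m.snd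
    refine ⟨⟨a, b, ?_⟩, CategoricalPullback.Hom.ext ha hb⟩
    apply ψ.base.map_injective
    have hw : F.map (ψ.left.map a) ≫ ((FibCat.categoricalPullbackMap ψ).obj y).iso.hom =
        ((FibCat.categoricalPullbackMap ψ).obj x).iso.hom ≫ G.map (ψ.right.map b) := by
      rw [ha, hb]; exact m.w
    rw [obj_iso_hom, obj_iso_hom] at hw
    have h1 : F.map (ψ.left.map a) ≫ ψ.squareLeft.iso.inv.app y.fst =
        ψ.squareLeft.iso.inv.app x.fst ≫ ψ.base.map (H.map a) := ψ.squareLeft.iso.inv.naturality a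
    have h2 : ψ.base.map (I.map b) ≫ ψ.squareRight.iso.hom.app y.snd =
        ψ.squareRight.iso.hom.app x.snd ≫ G.map (ψ.right.map b) := ψ.squareRight.iso.hom.naturality b
    have hl : F.map (ψ.left.map a) ≫ ψ.squareLeft.iso.inv.app y.fst ≫ ψ.base.map y.iso.hom ≫ ψ.squareRight.iso.hom.app y.snd =
        ψ.squareLeft.iso.inv.app x.fst ≫ ψ.base.map (H.map a ≫ y.iso.hom) ≫ ψ.squareRight.iso.hom.app y.snd :=
      ((Category.assoc _ _ _).symm.trans (congrArg (· ≫ _) h1)).trans (by rw [Functor.map_comp]; erw [Category.assoc, Category.assoc]; rfl)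
    have hr : (ψ.squareLeft.iso.inv.app x.fst ≫ ψ.base.map x.iso.hom ≫ ψ.squareRight.iso.hom.app x.snd) ≫ G.map (ψ.right.map b) =
        ψ.squareLeft.iso.inv.app x.fst ≫ ψ.base.map (x.iso.hom ≫ I.map b) ≫ ψ.squareRight.iso.hom.app y.snd := by
      simp only [Category.assoc, Functor.map_comp]
      exact congrArg (ψ.squareLeft.iso.inv.app x.fst ≫ ·) (congrArg (ψ.base.map x.iso.hom ≫ ·) h2.symm)
    exact (cancel_mono _).1 ((cancel_epi _).1 ((hl.symm.trans hw).trans hr))

theorem essSurj [ψ.left.EssSurj] [ψ.right.EssSurj] [ψ.base.Full] [ψ.base.Faithful] :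
    (FibCat.categoricalPullbackMap ψ).EssSurj where
  mem_essImage t := by
    let ea := ψ.left.objObjPreimageIso t.fst
    let eb := ψ.right.objObjPreimageIso t.snd
    let e : ψ.base.obj (H.obj (ψ.left.objPreimage t.fst)) ≅ ψ.base.obj (I.obj (ψ.right.objPreimage t.snd)) :=
      ψ.squareLeft.iso.app _ ≪≫ F.mapIso ea ≪≫ t.iso ≪≫ (G.mapIso eb).symm ≪≫ (ψ.squareRight.iso.app _).symm
    refine ⟨⟨ψ.left.objPreimage t.fst, ψ.right.objPreimage t.snd, ψ.base.preimageIso e⟩,
      ⟨CategoricalPullback.mkIso ea eb ?_⟩⟩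
    rw [obj_iso_hom]
    simp [e]
    exact aux _ _ _ _ (G.mapIso eb).inv_hom_id

end Groth.L09.PullbackMap
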