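import Groth.Agent.L09.QuillenDesc
import Groth.Agent.L09.QuillenTransport

/-!
# Torsors over affine space over an affine base which descend locally descend
-/

universe u

open CategoryTheory CategoryTheory.Limits MonoidalCategory CartesianMonoidalCategory MonObj
  AlgebraicGeometry

namespace Groth.L09.Quillen

open Groth.L09.Patch Groth.L09.TorsorPts Groth.L09.Conv NonAbH1

set_option backward.isDefEq.respectTransparency.types false
set_option backward.isDefEq.respectTransparency false

variable {S : Scheme.{u}} {R : Type u} [CommRing R] (e : Spec (CommRingCat.of R) ⟶ S) {n : Type u}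
  {G : Over S} [GrpObj G]
variable (X : TorsorSch (Red.bc (𝔸(n; S) ↘ S) G) Scheme.fppfPrecoverage)

/-- The map of affine spaces. -/
noncomputable abbrev aMap : 𝔸(n; Spec (CommRingCat.of R)) ⟶ 𝔸(n; S) := AffineSpace.map n e

lemma aMap_over :
    aMap (n := n) e ≫ (𝔸(n; S) ↘ S) =
      (𝔸(n; Spec (CommRingCat.of R)) ↘ Spec (CommRingCat.of R)) ≫ e :=
  AffineSpace.map_over e

/-- The torsor on the affine space over `Spec R`. -/
noncomputable abbrev XR :
    TorsorSch (Red.bc (𝔸(n; Spec (CommRingCat.of R)) ↘ Spec (CommRingCat.of R)) (Red.bc e G))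
      Scheme.fppfPrecoverage where
  X := Red.bc (aMap e) X.X
  act := restrictComp e rfl (bcR (aMap e) (aMap_over e) X.act)
  isTorsor := isTorsor_restrict _ (isTorsor_bcR (aMap e) (aMap_over e) X.isTorsor)

lemma sact_XR {Z : Scheme.{u}} (g : Z ⟶ (Red.bc e G).left) (y : Z ⟶ (XR e X).X.left)
    (h : g ≫ (Red.bc e G).hom = y ≫ (XR e X).X.hom ≫
      (𝔸(n; Spec (CommRingCat.of R)) ↘ Spec (CommRingCat.of R))) :
    sact (XR e X).act g y h ≫ pullback.fst X.X.hom (aMap e) =
      sact X.act (g ≫ pullback.fst G.hom e) (y ≫ pullback.fst X.X.hom (aMap e)) (by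
        rw [Category.assoc, pullback.condition, ← Category.assoc g]
        show (g ≫ (Red.bc e G).hom) ≫ e = _
        rw [h]
        simp only [Category.assoc, pullback.condition_assoc, aMap_over]
        rfl) := by
  show sact (restrictComp e rfl (bcR (aMap e) (aMap_over e) X.act)) g y h ≫ _ = _
  rw [sact_restrictComp, sact_bcR]

/-- A local descent datum gives descent over a basic open. -/
theorem desc_of_local {U : Scheme.{u}} (j : U ⟶ S)
    (P : TorsorSch (Red.bc j G) Scheme.fppfPrecoverage)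
    (θ : EquivIso
      (bcR (d' := pullback.snd (𝔸(n; S) ↘ S) j ≫ j) (pullback.snd (𝔸(n; S) ↘ S) j) rfl P.act)
      (bcR (d' := pullback.snd (𝔸(n; S) ↘ S) j ≫ j) (pullback.fst (𝔸(n; S) ↘ S) j)
        pullback.condition X.act))
    (K : Type u) [CommRing K] [Algebra R K] (k : Spec (CommRingCat.of K) ⟶ U)
    (hk : k ≫ j = jK (R := R) K ≫ e) : Desc (XR e X) K := by
  let Pr : TorsorSch (Red.bc (jK (R := R) K) (Red.bc e G)) Scheme.fppfPrecoverage :=
    { X := Red.bc k P.X
      act := restrictComp e rfl (bcR k hk P.act)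
      isTorsor := isTorsor_restrict _ (isTorsor_bcR k hk P.isTorsor) }
  let p' := 𝔸(n; Spec (CommRingCat.of R)) ↘ Spec (CommRingCat.of R)
  let f1 := pullback.fst p' (jK (R := R) K)
  let f2 := pullback.snd p' (jK (R := R) K)
  let d' := f2 ≫ jK (R := R) K
  let m : pullback p' (jK (R := R) K) ⟶ pullback (𝔸(n; S) ↘ S) j :=
    pullback.lift (f1 ≫ aMap e) (f2 ≫ k) (by
      rw [Category.assoc, Category.assoc, aMap_over, hk, ← Category.assoc, ← Category.assoc]
      exact congrArg (· ≫ e) pullback.condition)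
  have hm1 : m ≫ pullback.fst _ _ = f1 ≫ aMap e := pullback.lift_fst _ _ _
  have hm2 : m ≫ pullback.snd _ _ = f2 ≫ k := pullback.lift_snd _ _ _
  let B : Over (pullback p' (jK (R := R) K)) := Red.bc f2 Pr.X
  let q : B.left ⟶ pullback p' (jK (R := R) K) := pullback.snd Pr.X.hom f2
  let b0 : B.left ⟶ Pr.X.left := pullback.fst Pr.X.hom f2
  let b1 : B.left ⟶ P.X.left := b0 ≫ pullback.fst P.X.hom k
  let u : B.left ⟶ (Red.bc (pullback.snd (𝔸(n; S) ↘ S) j) P.X).left :=
    pullback.lift b1 (q ≫ m) (by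
      simp only [b1, Category.assoc, pullback.condition, hm2]
      rw [← Category.assoc, ← Category.assoc]
      exact congrArg (· ≫ k) pullback.condition)
  have hu1 : u ≫ pullback.fst _ _ = b1 := pullback.lift_fst _ _ _
  have hu2 : u ≫ pullback.snd _ _ = q ≫ m := pullback.lift_snd _ _ _
  let v : B.left ⟶ X.X.left :=
    u ≫ θ.iso.hom.left ≫ pullback.fst X.X.hom (pullback.fst (𝔸(n; S) ↘ S) j)
  have hv : v ≫ X.X.hom = (q ≫ f1) ≫ aMap e := by
    simp only [v, Category.assoc, pullback.condition]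
    rw [← Category.assoc θ.iso.hom.left, show θ.iso.hom.left ≫ pullback.snd X.X.hom _ =
      pullback.snd P.X.hom (pullback.snd (𝔸(n; S) ↘ S) j) from Over.w θ.iso.hom, reassoc_of% hu2,
      hm1]
  let θr : B ⟶ Red.bc f1 (XR e X).X :=
    Over.homMk (pullback.lift (pullback.lift v (q ≫ f1) hv) q (pullback.lift_snd _ _ _))
      (pullback.lift_snd _ _ _)
  have hθr1 : θr.left ≫ pullback.fst _ f1 ≫ pullback.fst X.X.hom (aMap e) = v := by
    show pullback.lift _ _ _ ≫ _ = _
    rw [pullback.lift_fst_assoc, pullback.lift_fst]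
  have hθr2 : θr.left ≫ pullback.snd _ f1 = q := pullback.lift_snd _ _ _
  have heq : AlgGrp.Action.IsEquivariant (bcR (d' := d') f2 rfl Pr.act)
      (bcR (d' := d') f1 pullback.condition (XR e X).act) θr := by
    refine isEquivariant_of_sact θr fun {Z} g y hy => ?_
    let gb : Z ⟶ G.left := g ≫ pullback.fst G.hom e
    have hq : sact (bcR (d' := d') f2 rfl Pr.act) g y hy ≫ q = y ≫ q :=
      sact_proj _ _ _ _
    have hb : sact (bcR (d' := d') f2 rfl Pr.act) g y hy ≫ b1 =
        sact P.act gb (y ≫ b1) (by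
          simp only [gb, b1, b0, Category.assoc, pullback.condition]
          rw [← Category.assoc g]
          show (g ≫ (Red.bc e G).hom) ≫ e = _
          rw [hy]
          simp only [d', Category.assoc, pullback.condition_assoc]
          rw [← hk]
          exact congrArg (y ≫ ·) ((pullback.condition_assoc (k ≫ j)).symm)) := by
      simp only [b1, b0]
      rw [← Category.assoc, sact_bcR, sact_restrictComp, sact_bcR]
      exact sact_congr _ rfl (Category.assoc _ _ _) _ _
    have hsu : sact (bcR (d' := d') f2 rfl Pr.act) g y hy ≫ u =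
        sact (bcR (d' := pullback.snd (𝔸(n; S) ↘ S) j ≫ j) (pullback.snd (𝔸(n; S) ↘ S) j) rfl P.act)
          gb (y ≫ u) (by
          show (g ≫ pullback.fst G.hom e) ≫ G.hom =
            (y ≫ u) ≫ pullback.snd _ _ ≫ pullback.snd _ _ ≫ j
          rw [Category.assoc, Category.assoc, pullback.condition, reassoc_of% hu2, reassoc_of% hm2,
            hk, ← Category.assoc g]
          show (g ≫ (Red.bc e G).hom) ≫ e = _
          rw [hy]
          simp only [d', Category.assoc]
          rfl) := by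
      apply pullback.hom_ext
      · rw [Category.assoc, hu1, hb, sact_bcR]
        exact sact_congr _ rfl (by rw [Category.assoc, hu1]) _ _
      · refine (Category.assoc _ _ _).trans ((congrArg (_ ≫ ·) hu2).trans ?_)
        refine Eq.trans ?_ (sact_proj _ _ _ _).symm
        rw [← Category.assoc, hq, Category.assoc]
        exact (congrArg (y ≫ ·) hu2.symm).trans (Category.assoc _ _ _).symm
    apply pullback.hom_ext
    · apply pullback.hom_ext
      · rw [Category.assoc, Category.assoc, hθr1, sact_bcR, sact_XR]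
        simp only [v]
        rw [← Category.assoc, hsu, ← Category.assoc, sact_equivariant _ θ.comm, sact_bcR]
        refine sact_congr _ rfl ?_ _ _
        simp only [Category.assoc]
        rw [hθr1]
      · refine Eq.trans ?_ ((congrArg (· ≫ pullback.snd X.X.hom (aMap e)) (sact_bcR f1
          pullback.condition (XR e X).act g (y ≫ θr.left) _)).trans (sact_proj _ _ _ _)).symm
        simp only [Category.assoc]
        have e3 : θr.left ≫ pullback.fst _ f1 ≫ pullback.snd X.X.hom (aMap e) = q ≫ f1 := by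
          show pullback.lift _ _ _ ≫ _ = _
          rw [pullback.lift_fst_assoc, pullback.lift_snd]
        show _ = y ≫ θr.left ≫ pullback.fst _ f1 ≫ pullback.snd X.X.hom (aMap e)
        rw [e3, reassoc_of% hq]
    · rw [Category.assoc, hθr2, hq]
      refine Eq.trans ?_ (sact_proj _ _ _ _).symm
      show y ≫ q = (y ≫ θr.left) ≫ pullback.snd _ f1
      rw [Category.assoc, hθr2]
  haveI := Groth.L09.TorsorSch.isIso_of_isEquivariant _ _
    (show IsTorsorFor Scheme.fpqcPrecoverage (bcR (d' := d') f2 rfl Pr.act) from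
      have t := isTorsor_bcR (d' := d') f2 rfl Pr.isTorsor
      ⟨t.1, t.2.imp fun Rv hR => ⟨Scheme.fppfPrecoverage_le_fpqcPrecoverage _ hR.1, hR.2⟩⟩)
    (isPseudo_bcR f1 pullback.condition (XR e X).isTorsor.1) θr heq
  exact desc_of_iso (XR e X) K Pr ⟨asIso θr, heq⟩

/-- A global trivialisation over `Spec R` gives a torsor over `S`. -/
theorem exists_of_desc [IsIso e] (h : Desc (XR e X) R) :
    ∃ P : TorsorSch G Scheme.fppfPrecoverage,
      Nonempty (EquivIso (P.act.bc (𝔸(n; S) ↘ S)) X.act) := by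
  obtain ⟨φ, hφ⟩ := h
  haveI : IsIso (aMap (n := n) e) := (AffineSpace.isPullback_map e).isIso_fst_of_isIso
  let zR := (zSec R n).left
  have hzR : zR ≫ (𝔸(n; Spec (CommRingCat.of R)) ↘ Spec (CommRingCat.of R)) = 𝟙 _ :=
    Over.w (zSec R n)
  let z : S ⟶ 𝔸(n; S) := inv e ≫ zR ≫ aMap e
  have hz : z ≫ (𝔸(n; S) ↘ S) = 𝟙 S := by
    simp only [z, Category.assoc, aMap_over, reassoc_of% hzR, IsIso.inv_hom_id]
  let α0 := bcR (d' := 𝟙 S) z hz X.act
  let V : Over S := obS (𝟙 S) (Red.bc z X.X)
  have hrel : RelPseudo (toS α0) (toUnit V) := by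
    have h := relPseudo_toS (isPseudo_bcR z hz X.isTorsor.1)
    rwa [show toUnit V = prS (𝟙 S) (Red.bc z X.X) from toUnit_unique _ _]
  have hlt : IsLocallyTrivialFor Scheme.fppfPrecoverage V := by
    obtain ⟨Rv, hR, hs⟩ := (isTorsor_bcR z hz X.isTorsor).2
    refine ⟨Rv, hR, fun S' f hf => ?_⟩
    obtain ⟨s, hs'⟩ := hs f hf
    exact ⟨s, by show s ≫ (Red.bc z X.X).hom ≫ 𝟙 _ = f; rw [Category.comp_id, hs']⟩
  let P : TorsorSch G Scheme.fppfPrecoverage := ⟨V, toS α0, isPseudo_of_relPseudo hrel, hlt⟩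
  refine ⟨P, ?_⟩
  let p := 𝔸(n; S) ↘ S
  let p' := 𝔸(n; Spec (CommRingCat.of R)) ↘ Spec (CommRingCat.of R)
  have hinv : inv (aMap (n := n) e) ≫ p' = p ≫ inv e := by
    rw [IsIso.inv_comp_eq, ← Category.assoc, IsIso.eq_comp_inv, aMap_over]
  let W := Red.bc p V
  let y1 : W.left ⟶ (Red.bc z X.X).left := pullback.fst V.hom p
  let t : W.left ⟶ 𝔸(n; S) := pullback.snd V.hom p
  have hy1 : y1 ≫ pullback.snd X.X.hom z = t ≫ p := by
    have := pullback.condition (f := V.hom) (g := p)
    simp only [V, Category.comp_id] at this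
    exact this
  let u : W.left ⟶ (Red.bc (aMap e) X.X).left :=
    pullback.lift (y1 ≫ pullback.fst X.X.hom z) (y1 ≫ pullback.snd X.X.hom z ≫ inv e ≫ zR) (by
      simp only [Category.assoc, pullback.condition, z])
  let x' : W.left ⟶ (Red.bc zR (XR e X).X).left :=
    pullback.lift u (y1 ≫ pullback.snd X.X.hom z ≫ inv e) (by
      simp only [u, Category.assoc]
      exact pullback.lift_snd _ _ _)
  have hx1 : x' ≫ pullback.fst _ zR ≫ pullback.fst X.X.hom (aMap e) = y1 ≫ pullback.fst X.X.hom z := by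
    simp only [x', u, pullback.lift_fst_assoc, pullback.lift_fst]
  have hx2 : x' ≫ pullback.snd _ zR = t ≫ p ≫ inv e := by
    simp only [x', pullback.lift_snd, reassoc_of% hy1]
  let T0 : Over (Spec (CommRingCat.of R)) := Over.mk (t ≫ inv (aMap e) ≫ p')
  let kx : T0 ⟶ PP (XR e X) := Over.homMk x' (by
    show x' ≫ pullback.snd _ zR ≫ 𝟙 _ = t ≫ inv (aMap e) ≫ p'
    rw [Category.comp_id, hx2, hinv])
  let kt : T0 ⟶ AS R n := Over.homMk (t ≫ inv (aMap e)) (Category.assoc _ _ _)
  let k : T0 ⟶ PP (XR e X) ⊗ spO R (MvPolynomial n R) := lift kx (kt ≫ (eA R n).inv)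
  have hid : pm (mvOf (R := R) n R) = 𝟙 _ := by
    rw [← pm_id]; congr 1
    exact mv_ext (fun c => by simp) (fun i => by simp)
  have hπ : φ ≫ prS _ (XR e X).X = snd _ _ ≫ (eA R n).hom := by
    have := congrArg (· ≫ (eA R n).hom) hφ.proj
    simp only [piV, Category.assoc, Iso.inv_hom_id, Category.comp_id, hid, Category.id_comp] at this
    exact this
  let θl : W.left ⟶ X.X.left := (k ≫ φ).left ≫ pullback.fst X.X.hom (aMap e)
  have hθl : θl ≫ X.X.hom = t := by
    have h1 : (k ≫ φ).left ≫ pullback.snd X.X.hom (aMap e) = t ≫ inv (aMap e) := by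
      have := congrArg Over.Hom.left (show (k ≫ φ) ≫ prS _ (XR e X).X = kt by
        rw [Category.assoc, hπ, lift_snd_assoc, Category.assoc, Iso.inv_hom_id, Category.comp_id])
      exact this
    simp only [θl, Category.assoc, pullback.condition]
    rw [← Category.assoc, h1, Category.assoc, IsIso.inv_hom_id, Category.comp_id]
  let θ : W ⟶ X.X := Over.homMk θl hθl
  have heq : AlgGrp.Action.IsEquivariant (P.act.bc p) X.act θ := by
    refine isEquivariant_of_sact θ fun {Z} g y hy => ?_
    have hyp : g ≫ G.hom = y ≫ t ≫ p := hy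
    let y2 : Z ⟶ W.left := sact (P.act.bc p) g y hy
    have h2t : y2 ≫ t = y ≫ t := sact_proj _ _ _ _
    let Zo : Over (Spec (CommRingCat.of R)) := Over.mk (y ≫ t ≫ inv (aMap e) ≫ p')
    let g' : Zo ⟶ Red.bc e G :=
      Over.homMk (pullback.lift g (y ≫ t ≫ inv (aMap e) ≫ p') (by
        rw [hyp]; simp only [Category.assoc, reassoc_of% hinv, IsIso.inv_hom_id, Category.comp_id]))
        (pullback.lift_snd _ _ _)
    have hg' : g'.left ≫ pullback.fst G.hom e = g := pullback.lift_fst _ _ _
    let κ : Zo ⟶ T0 := Over.homMk y rfl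
    let κ2 : Zo ⟶ T0 := Over.homMk y2 (by
      show y2 ≫ t ≫ _ = y ≫ t ≫ _
      rw [reassoc_of% h2t])
    have hκt : κ2 ≫ kt = κ ≫ kt := by
      ext1
      show y2 ≫ t ≫ _ = y ≫ t ≫ _
      rw [reassoc_of% h2t]
    have hκx : κ2 ≫ kx = sm (aPP (XR e X)) g' (κ ≫ kx) := by
      ext1
      rw [Over.comp_left, sm_toS_left]
      show y2 ≫ x' = _
      apply pullback.hom_ext
      · apply pullback.hom_ext
        · rw [Category.assoc, Category.assoc, hx1, sact_bcR, sact_XR,
            ← Category.assoc]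
          have e1 : y2 ≫ y1 = sact α0 g (y ≫ y1) (by
              rw [hyp, Category.assoc, ← hy1]
              show _ = y ≫ y1 ≫ pullback.snd X.X.hom z ≫ 𝟙 S
              rw [Category.comp_id]) :=
            (sact_act_bc (toS α0) p g y hy).trans (sm_toS_left α0 _ _)
          rw [e1, sact_bcR]
          refine sact_congr _ hg'.symm ?_ _ _
          show (y ≫ y1) ≫ _ = ((y ≫ x') ≫ _) ≫ _
          simp only [Category.assoc]
          exact congrArg (y ≫ ·) hx1.symm
        · refine Eq.trans ?_ ((congrArg (· ≫ pullback.snd X.X.hom (aMap e))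
            (sact_bcR zR (Over.w (zSec R n)) (XR e X).act _ _ _)).trans (sact_proj _ _ _ _)).symm
          have e3 : x' ≫ pullback.fst _ zR ≫ pullback.snd X.X.hom (aMap e) =
              t ≫ p ≫ inv e ≫ zR := by
            simp only [x', u, pullback.lift_fst_assoc, pullback.lift_snd, reassoc_of% hy1]
          simp only [Category.assoc]
          show _ = y ≫ x' ≫ pullback.fst _ zR ≫ pullback.snd X.X.hom (aMap e)
          rw [e3, reassoc_of% h2t]
      · refine Eq.trans ?_ (sact_proj _ _ _ _).symm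
        show _ = (y ≫ x') ≫ pullback.snd _ zR
        rw [Category.assoc, Category.assoc, hx2, reassoc_of% h2t]
    have hκ : κ2 ≫ k = lift (sm (aPP (XR e X)) g' (κ ≫ kx)) (κ ≫ kt ≫ (eA R n).inv) := by
      rw [comp_lift, hκx, reassoc_of% hκt]
    have hφk : κ2 ≫ k ≫ φ = sm (toS (XR e X).act) g' (κ ≫ k ≫ φ) := by
      rw [← Category.assoc, hκ, hφ.equiv, ← comp_lift_assoc]
    show y2 ≫ θl = sact X.act g (y ≫ θl) _
    have := congrArg (fun f => Over.Hom.left f ≫ pullback.fst X.X.hom (aMap e)) hφk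
    simp only [sm_toS_left] at this
    rw [sact_XR] at this
    simp only [Over.comp_left, Category.assoc] at this
    simp only [θl, Over.comp_left, Category.assoc]
    refine this.trans (sact_congr _ hg' ?_ _ _)
    rfl
  haveI := Groth.L09.TorsorSch.isIso_of_isEquivariant _ _
    (show IsTorsorFor Scheme.fpqcPrecoverage (P.act.bc p) from
      ⟨isPseudoTorsorSch_bc p P.isTorsor.1, (isLocallyTrivialFor_bc p Scheme.fppfPrecoverage hlt).imp
        fun Rv hR => ⟨Scheme.fppfPrecoverage_le_fpqcPrecoverage _ hR.1, hR.2⟩⟩)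
    X.isTorsor.1 θ heq
  exact ⟨⟨asIso θ, heq⟩⟩

end Groth.L09.Quillen
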