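import Groth.Prelude.Def_ActBC
import Groth.Prelude.Def_NonAbH2
import Groth.Agent.L09.TorsorPts
import Groth.Agent.L09.TorsorSch

/-!
# Torsors under base-changed groups as objects over the base with an action
-/

universe u

open CategoryTheory CategoryTheory.Limits MonoidalCategory CartesianMonoidalCategory MonObj
  AlgebraicGeometry

namespace Groth.L09.Conv

open Groth.L09.TorsorPts NonAbH1

set_option backward.isDefEq.respectTransparency.types false
set_option backward.isDefEq.respectTransparency false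

variable {S Y Y' : Scheme.{u}} {d : Y ⟶ S} {G : Over S} [GrpObj G] {X X' : Over Y}

lemma lift_left_fst {Y : Scheme.{u}} {T A B : Over Y} (a : T ⟶ A) (b : T ⟶ B) :
    (lift a b).left ≫ pullback.fst A.hom B.hom = a.left := by
  have := congrArg Over.Hom.left (lift_fst a b)
  rwa [Over.comp_left, Over.fst_left] at this

lemma lift_left_snd {Y : Scheme.{u}} {T A B : Over Y} (a : T ⟶ A) (b : T ⟶ B) :
    (lift a b).left ≫ pullback.snd A.hom B.hom = b.left := by
  have := congrArg Over.Hom.left (lift_snd a b)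
  rwa [Over.comp_left, Over.snd_left] at this

/-- A scheme point as a morphism over `Y`. -/
noncomputable def bcPt {Z : Scheme.{u}} (g : Z ⟶ G.left) (q : Z ⟶ Y) (h : g ≫ G.hom = q ≫ d) :
    Over.mk q ⟶ Red.bc d G :=
  Over.homMk (pullback.lift g q h) (pullback.lift_snd _ _ _)

lemma bcPt_fst {Z : Scheme.{u}} (g : Z ⟶ G.left) (q : Z ⟶ Y) (h : g ≫ G.hom = q ≫ d) :
    (bcPt g q h).left ≫ pullback.fst G.hom d = g :=
  pullback.lift_fst _ _ _

/-- Two morphisms into `(G ×_S Y) ×_Y X` are equal when their components are. -/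
lemma gext {Z : Scheme.{u}} {k k' : Z ⟶ (Red.bc d G ⊗ X).left}
    (h1 : k ≫ pullback.fst (Red.bc d G).hom X.hom ≫ pullback.fst G.hom d =
      k' ≫ pullback.fst (Red.bc d G).hom X.hom ≫ pullback.fst G.hom d)
    (h2 : k ≫ pullback.snd (Red.bc d G).hom X.hom = k' ≫ pullback.snd (Red.bc d G).hom X.hom) :
    k = k' := by
  apply pullback.hom_ext
  · apply pullback.hom_ext
    · rw [Category.assoc, Category.assoc]; exact h1
    · have e : pullback.fst (Red.bc d G).hom X.hom ≫ pullback.snd G.hom d =
          pullback.snd (Red.bc d G).hom X.hom ≫ X.hom := pullback.condition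
      rw [Category.assoc, Category.assoc, e, reassoc_of% h2]
  · exact h2

/-- The pair of a scheme point of `G` and one of `X`. -/
noncomputable def gpair {Z : Scheme.{u}} (g : Z ⟶ G.left) (y : Z ⟶ X.left)
    (h : g ≫ G.hom = y ≫ X.hom ≫ d) : Z ⟶ (Red.bc d G ⊗ X).left :=
  (lift (bcPt g (y ≫ X.hom) (by rw [Category.assoc, h]))
    (Over.homMk y : Over.mk (y ≫ X.hom) ⟶ X)).left

lemma gpair_fst {Z : Scheme.{u}} (g : Z ⟶ G.left) (y : Z ⟶ X.left)
    (h : g ≫ G.hom = y ≫ X.hom ≫ d) :
    gpair g y h ≫ pullback.fst (Red.bc d G).hom X.hom ≫ pullback.fst G.hom d = g := by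
  rw [gpair, ← Category.assoc, lift_left_fst, bcPt_fst]

lemma gpair_snd {Z : Scheme.{u}} (g : Z ⟶ G.left) (y : Z ⟶ X.left)
    (h : g ≫ G.hom = y ≫ X.hom ≫ d) :
    gpair g y h ≫ pullback.snd (Red.bc d G).hom X.hom = y := by
  rw [gpair, lift_left_snd]; rfl

/-- The action on scheme-valued points. -/
noncomputable def sact (α : AlgGrp.Action (Red.bc d G) X) {Z : Scheme.{u}} (g : Z ⟶ G.left)
    (y : Z ⟶ X.left) (h : g ≫ G.hom = y ≫ X.hom ≫ d) : Z ⟶ X.left :=
  gpair g y h ≫ α.act.left

lemma comp_sact (α : AlgGrp.Action (Red.bc d G) X) {Z Z' : Scheme.{u}} (k : Z' ⟶ Z)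
    (g : Z ⟶ G.left) (y : Z ⟶ X.left) (h : g ≫ G.hom = y ≫ X.hom ≫ d) :
    k ≫ sact α g y h =
      sact α (k ≫ g) (k ≫ y) (by rw [Category.assoc, h, Category.assoc]) := by
  rw [sact, sact, ← Category.assoc]
  congr 1
  apply gext
  · rw [Category.assoc, gpair_fst, gpair_fst]
  · rw [Category.assoc, gpair_snd, gpair_snd]

lemma sact_congr (α : AlgGrp.Action (Red.bc d G) X) {Z : Scheme.{u}} {g g' : Z ⟶ G.left}
    {y y' : Z ⟶ X.left} (hg : g = g') (hy : y = y') (h : g ≫ G.hom = y ≫ X.hom ≫ d)
    (h' : g' ≫ G.hom = y' ≫ X.hom ≫ d) : sact α g y h = sact α g' y' h' := by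
  subst hg hy; rfl

lemma act_eq_sact (α : AlgGrp.Action (Red.bc d G) X) :
    α.act.left = sact α (pullback.fst (Red.bc d G).hom X.hom ≫ pullback.fst G.hom d)
      (pullback.snd (Red.bc d G).hom X.hom) (by
        rw [← pullback.condition_assoc, Category.assoc, pullback.condition]; rfl) := by
  rw [sact]
  refine ((Category.id_comp α.act.left).symm.trans (congrArg (· ≫ α.act.left) ?_))
  apply gext
  · exact (Category.id_comp _).trans (gpair_fst _ _ _).symm
  · exact (Category.id_comp _).trans (gpair_snd _ _ _).symm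

lemma sact_eq (α : AlgGrp.Action (Red.bc d G) X) {Z : Scheme.{u}} (g : Z ⟶ G.left)
    (y : Z ⟶ X.left) (h : g ≫ G.hom = y ≫ X.hom ≫ d) :
    sact α g y h =
      (lift (bcPt g (y ≫ X.hom) (by rw [Category.assoc, h]))
        (Over.homMk y : Over.mk (y ≫ X.hom) ⟶ X) ≫ α.act).left := by
  rw [Over.comp_left]; rfl

lemma sact_proj (α : AlgGrp.Action (Red.bc d G) X) {Z : Scheme.{u}} (g : Z ⟶ G.left)
    (y : Z ⟶ X.left) (h : g ≫ G.hom = y ≫ X.hom ≫ d) : sact α g y h ≫ X.hom = y ≫ X.hom := by
  rw [sact_eq]; exact Over.w _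

variable (d) in
/-- The object over `S`. -/
noncomputable abbrev obS (X : Over Y) : Over S := Over.mk (X.hom ≫ d)

variable (d) in
/-- The projection. -/
noncomputable abbrev prS (X : Over Y) : obS d X ⟶ Over.mk d := Over.homMk X.hom

/-- The action over `S`. -/
noncomputable def actS (α : AlgGrp.Action (Red.bc d G) X) : G ⊗ obS d X ⟶ obS d X :=
  Over.homMk (sact α (fst G (obS d X)).left (snd G (obS d X)).left
    ((Over.w (fst G (obS d X))).trans (Over.w (snd G (obS d X))).symm)) (by
    show sact α _ _ _ ≫ X.hom ≫ d = _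
    rw [← Category.assoc, sact_proj, Category.assoc]
    exact Over.w (snd G (obS d X)))

lemma lift_actS_left (α : AlgGrp.Action (Red.bc d G) X) {Z : Over S} (g : Z ⟶ G)
    (x : Z ⟶ obS d X) :
    (lift g x ≫ actS α).left = sact α g.left x.left ((Over.w g).trans (Over.w x).symm) := by
  rw [Over.comp_left]
  show _ ≫ sact α _ _ _ = _
  rw [comp_sact]
  exact sact_congr α (congrArg Over.Hom.left (lift_fst g x))
    (congrArg Over.Hom.left (lift_snd g x)) _ _

set_option synthInstance.maxHeartbeats 200000 in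
lemma bcPt_mul {Z : Over S} (g g' : Z ⟶ G) (q : Z.left ⟶ Y) (hq : q ≫ d = Z.hom) :
    bcPt (g * g').left q ((Over.w _).trans hq.symm) =
      bcPt g.left q ((Over.w _).trans hq.symm) * bcPt g'.left q ((Over.w _).trans hq.symm) := by
  let T : Over Y := Over.mk q
  let e : (Over.map d).obj T ⟶ Z := Over.homMk (𝟙 _) (by
    show 𝟙 _ ≫ Z.hom = q ≫ d
    rw [Category.id_comp, hq])
  have key : ∀ k : Z ⟶ G, (Over.mapPullbackAdj d).homEquiv T G (e ≫ k) =
      bcPt k.left q ((Over.w _).trans hq.symm) := by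
    intro k
    ext1
    apply pullback.hom_ext
    · refine Eq.trans ?_ (pullback.lift_fst _ _ _).symm
      simp [Adjunction.homEquiv_unit, e, T]
      exact Category.id_comp _
    · refine Eq.trans ?_ (pullback.lift_snd _ _ _).symm
      simp [Adjunction.homEquiv_unit, e, T]
  rw [← key, ← key, ← key, MonObj.comp_mul]
  exact AlgGrp.Action.homEquiv_mul d _ _

set_option synthInstance.maxHeartbeats 200000 in
lemma bcPt_one {Z : Over S} (q : Z.left ⟶ Y) (hq : q ≫ d = Z.hom) :
    bcPt (1 : Z ⟶ G).left q ((Over.w _).trans hq.symm) = 1 := by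
  have := bcPt_mul (1 : Z ⟶ G) 1 q hq
  rw [_root_.mul_one] at this
  exact left_eq_mul.mp this

/-- The action of `G` on the object over `S`. -/
noncomputable def toS (α : AlgGrp.Action (Red.bc d G) X) : AlgGrp.Action G (obS d X) where
  act := actS α
  one_act := by
    have h1 : (η[G] ▷ obS d X) = lift 1 (λ_ (obS d X)).hom := by
      refine CartesianMonoidalCategory.hom_ext _ _ ?_ ?_
      · rw [whiskerRight_fst, lift_fst, Hom.one_def]
        exact congrArg (· ≫ η[G]) (toUnit_unique _ _)
      · rw [whiskerRight_snd, lift_snd, leftUnitor_hom]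
    rw [h1]
    ext1
    rw [lift_actS_left, sact_eq, bcPt_one ((λ_ (obS d X)).hom.left ≫ X.hom) (by
      rw [Category.assoc]; exact Over.w (λ_ (obS d X)).hom), Groth.L25.Actions.one_act]
    rfl
  mul_act := by
    let T := (G ⊗ G) ⊗ obS d X
    let x : T ⟶ obS d X := snd _ _
    let g₁ : T ⟶ G := fst _ _ ≫ fst _ _
    let g₂ : T ⟶ G := fst _ _ ≫ snd _ _
    have h1 : (μ[G] ▷ obS d X) = lift (g₁ * g₂) x := by
      refine CartesianMonoidalCategory.hom_ext _ _ ?_ ?_
      · simp only [whiskerRight_fst, lift_fst, Hom.mul_def, g₁, g₂]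
        rw [← comp_lift, lift_fst_snd, Category.comp_id]
      · simp [x]
    have h2 : (α_ G G (obS d X)).hom ≫ (G ◁ actS α) = lift g₁ (lift g₂ x ≫ actS α) := by
      refine CartesianMonoidalCategory.hom_ext _ _ ?_ ?_
      · simp [g₁]
      · simp only [Category.assoc, whiskerLeft_snd, lift_snd]
        rw [← Category.assoc]
        congr 1
        ext <;> simp [g₂, x]
    rw [h1, reassoc_of% h2]
    ext1
    rw [lift_actS_left, lift_actS_left, sact_eq]
    have hq : (x.left ≫ X.hom) ≫ d = T.hom := by rw [Category.assoc]; exact Over.w x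
    rw [bcPt_mul g₁ g₂ (x.left ≫ X.hom) hq, Groth.L25.Actions.mul_act, Over.comp_left, sact]
    congr 1
    apply gext
    · rw [← Category.assoc, lift_left_fst, bcPt_fst, gpair_fst]
    · rw [lift_left_snd, gpair_snd, lift_actS_left, sact_eq]

lemma sm_toS_left (α : AlgGrp.Action (Red.bc d G) X) {Z : Over S} (g : Z ⟶ G)
    (x : Z ⟶ obS d X) :
    (sm (toS α) g x).left = sact α g.left x.left ((Over.w g).trans (Over.w x).symm) :=
  lift_actS_left α g x

lemma relPseudo_toS {α : AlgGrp.Action (Red.bc d G) X} (hα : IsPseudoTorsorSch α) :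
    RelPseudo (toS α) (prS d X) where
  inv := by
    ext1
    exact sact_proj α _ _ ((Over.w (fst G (obS d X))).trans (Over.w (snd G (obS d X))).symm)
  uniq {Z} x y e := by
    have e' : x.left ≫ X.hom = y.left ≫ X.hom := congrArg Over.Hom.left e
    let T : Over Y := Over.mk (y.left ≫ X.hom)
    let x' : T ⟶ X := Over.homMk x.left e'
    let y' : T ⟶ X := Over.homMk y.left rfl
    haveI : IsIso (lift α.act (snd (Red.bc d G) X)) := hα
    let k := lift x' y' ≫ inv (lift α.act (snd (Red.bc d G) X))
    have hk1 : k ≫ α.act = x' := by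
      simp only [k, Category.assoc]
      rw [show inv (lift α.act (snd (Red.bc d G) X)) ≫ α.act = fst X X from by
        rw [IsIso.inv_comp_eq, lift_fst], lift_fst]
    have hk2 : k ≫ snd _ _ = y' := by
      simp only [k, Category.assoc]
      rw [show inv (lift α.act (snd (Red.bc d G) X)) ≫ snd _ _ = snd X X from by
        rw [IsIso.inv_comp_eq, lift_snd], lift_snd]
    let gl : Z.left ⟶ G.left := (k ≫ fst _ _).left ≫ pullback.fst G.hom d
    have hgl : gl ≫ G.hom = Z.hom := by
      simp only [gl, Category.assoc]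
      rw [pullback.condition, ← Category.assoc,
        show (k ≫ fst (Red.bc d G) X).left ≫ pullback.snd G.hom d = T.hom from Over.w _,
        ← Over.w y]
      exact Category.assoc _ _ _
    let g : Z ⟶ G := Over.homMk gl hgl
    have hg : bcPt g.left (y.left ≫ X.hom)
        ((Over.w g).trans ((Over.w y).symm.trans (Category.assoc _ _ _).symm)) = k ≫ fst _ _ := by
      ext1
      apply pullback.hom_ext
      · exact pullback.lift_fst _ _ _
      · exact (pullback.lift_snd _ _ _).trans (Over.w (k ≫ fst (Red.bc d G) X)).symm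
    refine ⟨g, ?_, fun g' hg' => ?_⟩
    · ext1
      rw [sm_toS_left, sact_eq, hg]
      have : lift (k ≫ fst _ _) y' = k := by rw [← hk2, ← comp_lift, lift_fst_snd, Category.comp_id]
      rw [show (Over.homMk y.left : Over.mk (y.left ≫ X.hom) ⟶ X) = y' from rfl, this, hk1]
      rfl
    · let p' : T ⟶ Red.bc d G := bcPt g'.left (y.left ≫ X.hom)
        ((Over.w g').trans ((Over.w y).symm.trans (Category.assoc _ _ _).symm))
      have h' : lift p' y' = k := by
        rw [← cancel_mono (lift α.act (snd (Red.bc d G) X))]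
        rw [show k ≫ lift α.act (snd (Red.bc d G) X) = lift x' y' by
          simp only [k, Category.assoc, IsIso.inv_hom_id, Category.comp_id], comp_lift, lift_snd]
        congr 1
        ext1
        have := congrArg Over.Hom.left hg'
        rw [sm_toS_left, sact_eq] at this
        exact this
      ext1
      show g'.left = gl
      simp only [gl, ← h', lift_fst]
      exact (pullback.lift_fst _ _ _).symm

section bc

variable {d' : Y' ⟶ S} (f : Y' ⟶ Y) (h : f ≫ d = d')

/-- Base change of the action, for the group base changed in one step. -/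
noncomputable abbrev bcR (α : AlgGrp.Action (Red.bc d G) X) :
    AlgGrp.Action (Red.bc d' G) (Red.bc f X) :=
  (α.bc f).restrict (ActBC.bcCompIso f d G h).inv

/-- The projection from the base change. -/
noncomputable def prBC (X : Over Y) : obS d' (Red.bc f X) ⟶ obS d X :=
  Over.homMk (pullback.fst X.hom f) (by
    show pullback.fst X.hom f ≫ X.hom ≫ d = pullback.snd X.hom f ≫ d'
    rw [← Category.assoc, pullback.condition, Category.assoc, h])

include h in
lemma isPullback_prBC (X : Over Y) :
    IsPullback (prBC f h X) (prS d' (Red.bc f X)) (prS d X)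
      (Over.homMk f h : Over.mk d' ⟶ Over.mk d) :=
  IsPullback.of_map_of_faithful (Over.forget S) (IsPullback.of_hasPullback X.hom f)

lemma sact_bcR (α : AlgGrp.Action (Red.bc d G) X) {Z : Scheme.{u}} (g : Z ⟶ G.left)
    (y : Z ⟶ (Red.bc f X).left) (hy : g ≫ G.hom = y ≫ (Red.bc f X).hom ≫ d') :
    sact (bcR f h α) g y hy ≫ pullback.fst X.hom f =
      sact α g (y ≫ pullback.fst X.hom f) (by
        rw [hy, Category.assoc, pullback.condition_assoc, h]; rfl) := by
  have e1 : (ActBC.bcCompIso f d G h).inv.left ≫ pullback.fst (Red.bc d G).hom f ≫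
      pullback.fst G.hom d = pullback.fst G.hom d' := by
    rw [← ActBC.bcCompIso_hom_left_fst f d (X := G) h, ← Category.assoc, ← Over.comp_left,
      Iso.inv_hom_id, Over.id_left, Category.id_comp]
  have e2 : (ActBC.bcCompIso f d G h).inv.left ≫ pullback.fst (Red.bc d G).hom f ≫
      pullback.snd G.hom d = pullback.snd G.hom d' ≫ f := by
    rw [show pullback.fst (Red.bc d G).hom f ≫ pullback.snd G.hom d =
      pullback.snd (Red.bc d G).hom f ≫ f from pullback.condition, ← Category.assoc]
    exact congrArg (· ≫ f) (Over.w (ActBC.bcCompIso f d G h).inv)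
  simp only [sact, bcR, AlgGrp.Action.restrict_act, AlgGrp.Action.bc_act, Over.comp_left,
    Category.assoc, ActBC.pullback_map_left_fst]
  simp only [← Category.assoc]
  congr 1
  simp only [Category.assoc]
  apply gext
  · simp only [Category.assoc]
    rw [gpair_fst, ActBC.μ_left_fst_fst_assoc, Over.whiskerRight_left_fst_assoc, e1, gpair_fst]
  · simp only [Category.assoc]
    rw [gpair_snd, ActBC.μ_left_fst_snd, Over.whiskerRight_left_snd_assoc, ← Category.assoc,
      gpair_snd]

lemma prBC_sm (α : AlgGrp.Action (Red.bc d G) X) {Z : Over S} (g : Z ⟶ G)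
    (x : Z ⟶ obS d' (Red.bc f X)) :
    sm (toS (bcR f h α)) g x ≫ prBC f h X = sm (toS α) g (x ≫ prBC f h X) := by
  ext1
  rw [Over.comp_left, sm_toS_left, sm_toS_left, show (prBC f h X).left = pullback.fst X.hom f from rfl,
    sact_bcR]
  rfl

lemma isPseudo_bcR {α : AlgGrp.Action (Red.bc d G) X} (hα : IsPseudoTorsorSch α) :
    IsPseudoTorsorSch (bcR f h α) := by
  have h1 : IsIso (lift (α.bc f).act (snd _ _)) := isPseudoTorsorSch_bc f hα
  show IsIso (lift (bcR f h α).act (snd _ _))
  have : lift (bcR f h α).act (snd _ _) =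
      ((ActBC.bcCompIso f d G h).inv ▷ Red.bc f X) ≫ lift (α.bc f).act (snd _ _) := by
    rw [comp_lift, whiskerRight_snd]; rfl
  rw [this]
  infer_instance

lemma isTorsor_bcR {α : AlgGrp.Action (Red.bc d G) X}
    (hα : IsTorsorFor Scheme.fppfPrecoverage α) :
    IsTorsorFor Scheme.fppfPrecoverage (bcR f h α) :=
  ⟨isPseudo_bcR f h hα.1, isLocallyTrivialFor_bc f Scheme.fppfPrecoverage hα.2⟩

end bc

/-- An equivariant isomorphism over `Y` as an equivariant map over `S`. -/
noncomputable def homS (θ : X ⟶ X') : obS d X ⟶ obS d X' :=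
  Over.homMk θ.left (by
    show θ.left ≫ X'.hom ≫ d = X.hom ≫ d
    rw [← Category.assoc, Over.w])

lemma homS_sm {α : AlgGrp.Action (Red.bc d G) X} {α' : AlgGrp.Action (Red.bc d G) X'} (θ : X ⟶ X')
    (hθ : AlgGrp.Action.IsEquivariant α α' θ) {Z : Over S} (g : Z ⟶ G) (x : Z ⟶ obS d X) :
    sm (toS α) g x ≫ homS θ = sm (toS α') g (x ≫ homS θ) := by
  ext1
  rw [Over.comp_left, sm_toS_left, sm_toS_left]
  show sact α g.left x.left _ ≫ θ.left = sact α' g.left (x.left ≫ θ.left) _
  rw [sact, sact, Category.assoc, ← Over.comp_left, hθ, Over.comp_left, ← Category.assoc]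
  congr 1
  apply gext
  · rw [Category.assoc, gpair_fst, Over.whiskerLeft_left_fst_assoc, gpair_fst]
  · rw [Category.assoc, gpair_snd, Over.whiskerLeft_left_snd, ← Category.assoc, gpair_snd]

/-- An equivariant map over `S` compatible with the projections is an equivariant map over `Y`. -/
lemma isEquivariant_of_homS {α : AlgGrp.Action (Red.bc d G) X}
    {α' : AlgGrp.Action (Red.bc d G) X'} (φ : obS d X ⟶ obS d X')
    (hπ : φ ≫ prS d X' = prS d X)
    (hφ : φ.left ≫ X'.hom = X.hom)
    (he : ∀ {Z : Over S} (g : Z ⟶ G) (x : Z ⟶ obS d X),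
      sm (toS α) g x ≫ φ = sm (toS α') g (x ≫ φ)) :
    AlgGrp.Action.IsEquivariant α α' (Over.homMk φ.left hφ) := by
  ext1
  let Z : Over S := Over.mk ((Red.bc d G ⊗ X).hom ≫ d)
  let g : Z ⟶ G := Over.homMk (pullback.fst (Red.bc d G).hom X.hom ≫ pullback.fst G.hom d) (by
    show (_ ≫ _) ≫ G.hom = (pullback.fst _ _ ≫ pullback.snd G.hom d) ≫ d
    rw [Category.assoc, pullback.condition, Category.assoc])
  let x : Z ⟶ obS d X := Over.homMk (pullback.snd (Red.bc d G).hom X.hom) (by
    show pullback.snd _ _ ≫ X.hom ≫ d = (pullback.fst _ _ ≫ pullback.snd G.hom d) ≫ d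
    rw [← pullback.condition_assoc, Category.assoc]; rfl)
  have hh := congrArg Over.Hom.left (he g x)
  rw [Over.comp_left, sm_toS_left, sm_toS_left] at hh
  rw [Over.comp_left, Over.comp_left]
  show α.act.left ≫ φ.left = _
  rw [act_eq_sact α, act_eq_sact α', comp_sact]
  refine hh.trans (sact_congr α' ?_ ?_ _ _)
  · rw [← Category.assoc, Over.whiskerLeft_left_fst]; rfl
  · rw [Over.whiskerLeft_left_snd]; rfl

end Groth.L09.Conv
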