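import Groth.Prelude.Def_NonAbH2
import Groth.Agent.L25.Covers
import Groth.Agent.L09.PatchLift
import Mathlib.AlgebraicGeometry.Limits
import Mathlib.AlgebraicGeometry.Morphisms.UniversallyOpen
import Mathlib.AlgebraicGeometry.Morphisms.Flat

/-!
# An affine faithfully flat trivialising cover
-/

universe u

open CategoryTheory CategoryTheory.Limits MonoidalCategory CartesianMonoidalCategory AlgebraicGeometry

namespace Groth.L09.Quillen

open Groth.L09.Patch

set_option backward.isDefEq.respectTransparency.types false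

/-- An fppf locally trivial scheme over `Spec R` has a section over an affine fpqc cover. -/
theorem exists_affine_cover {R : Type u} [CommRing R] {X : Over (Spec (CommRingCat.of R))}
    (h : NonAbH1.IsLocallyTrivialFor Scheme.fppfPrecoverage X) :
    ∃ (W : Type u) (_ : CommRing W) (_ : Algebra R W) (_ : spO R W ⟶ X),
      Groth.L25.Covers.Cov (toUnit (spO R W)) := by
  obtain ⟨Rv, hR, hsec⟩ := h
  obtain ⟨κ, Z, g, rfl⟩ := Rv.exists_eq_ofArrows
  obtain ⟨hcov, hP⟩ := (Scheme.ofArrows_mem_precoverage_iff _).mp hR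
  choose i w hw using hcov
  have hB : ∀ t, ∃ B : (Z (i t)).Opens, IsAffineOpen B ∧ w t ∈ B := fun t => by
    obtain ⟨B, hB, hwB, -⟩ := exists_isAffineOpen_mem_and_subset (X := Z (i t)) (x := w t) (U := ⊤)
      (TopologicalSpace.Opens.mem_top _)
    exact ⟨B, hB, hwB⟩
  choose B hB hwB using hB
  have hop : ∀ t, IsOpenMap (g (i t)) := fun t => by
    haveI := (hP (i t)).1
    haveI := (hP (i t)).2
    exact (g (i t)).isOpenMap
  obtain ⟨F, hF⟩ := isCompact_univ.elim_finite_subcover (fun t => g (i t) '' (B t : Set _))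
    (fun t => hop t _ (B t).isOpen) (fun t _ => Set.mem_iUnion.2 ⟨t, w t, hwB t, hw t⟩)
  let P : {t // t ∈ F} → Scheme.{u} := fun t => (B t.1).toScheme
  haveI : ∀ t, IsAffine (P t) := fun t => hB t.1
  let T : Scheme.{u} := ∐ P
  haveI : IsAffine T := inferInstanceAs (IsAffine (∐ P))
  let c : T ⟶ Spec (CommRingCat.of R) := Sigma.desc fun t => (B t.1).ι ≫ g (i t.1)
  choose sec hsec' using fun k => hsec (g k) (Presieve.ofArrows.mk k)
  let σ : T ⟶ X.left := Sigma.desc fun t => (B t.1).ι ≫ sec (i t.1)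
  have hσ : σ ≫ X.hom = c := Sigma.hom_ext _ _ fun t => by simp [σ, c, P, hsec']
  haveI hfl : Flat c := by
    refine IsZariskiLocalAtSource.sigmaDesc (P := @Flat) fun t => ?_
    haveI := (hP (i t.1)).1
    infer_instance
  haveI hsu : Surjective c := by
    refine ⟨fun x => ?_⟩
    obtain ⟨t, ht, y, hy, rfl⟩ := Set.mem_iUnion₂.1 (hF (Set.mem_univ x))
    refine ⟨Sigma.ι P ⟨t, ht⟩ ⟨y, hy⟩, ?_⟩
    rw [← Scheme.Hom.comp_apply, Sigma.ι_desc]
    rfl
  haveI : IsAffineHom c := isAffineHom_of_isAffine c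
  haveI : QuasiCompact c := inferInstance
  let φ := Spec.preimage (R := CommRingCat.of R) (S := Γ(T, ⊤)) (T.isoSpec.inv ≫ c)
  letI : Algebra R Γ(T, ⊤) := φ.hom.toAlgebra
  have hhom : (spO R Γ(T, ⊤)).hom = T.isoSpec.inv ≫ c := by
    show Spec.map φ = _
    exact Spec.map_preimage _
  refine ⟨Γ(T, ⊤), inferInstance, inferInstance, Over.homMk (T.isoSpec.inv ≫ σ) ?_, ?_⟩
  · rw [hhom, Category.assoc, hσ]
  · have e : (toUnit (spO R Γ(T, ⊤))).left = T.isoSpec.inv ≫ c :=
      (Category.comp_id _).symm.trans ((Over.w (toUnit (spO R Γ(T, ⊤)))).trans hhom)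
    refine ⟨⟨?_, ?_⟩, ?_⟩ <;> rw [e] <;> infer_instance

end Groth.L09.Quillen
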