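import Groth.Agent.L09.QuillenGlue
import Groth.Agent.L09.QuillenConv
import Groth.Agent.L09.QuillenCover
import Mathlib.AlgebraicGeometry.AffineSpace

/-!
# Descending torsors over affine space to the base: the set of good localisations is an ideal
-/

universe u

open CategoryTheory CategoryTheory.Limits MonoidalCategory CartesianMonoidalCategory MonObj
  AlgebraicGeometry

namespace Groth.L09.Quillen

open Groth.L09.Patch Groth.L09.TorsorPts Groth.L09.Conv NonAbH1

set_option backward.isDefEq.respectTransparency.types false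
set_option backward.isDefEq.respectTransparency false

lemma isEquivariant_inv {S : Scheme.{u}} {G X X' : Over S} [GrpObj G] {a : AlgGrp.Action G X}
    {a' : AlgGrp.Action G X'} (f : X ⟶ X') [IsIso f] (hf : AlgGrp.Action.IsEquivariant a a' f) :
    AlgGrp.Action.IsEquivariant a' a (inv f) := by
  show a'.act ≫ inv f = (G ◁ inv f) ≫ a.act
  rw [IsIso.comp_inv_eq, Category.assoc, hf, ← MonoidalCategory.whiskerLeft_comp_assoc,
    IsIso.inv_hom_id, MonoidalCategory.whiskerLeft_id, Category.id_comp]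

lemma relPseudo_comp {S : Scheme.{u}} {G V B B' : Over S} [GrpObj G] {a : AlgGrp.Action G V}
    {π : V ⟶ B} (h : RelPseudo a π) (e : B ⟶ B') [Mono e] : RelPseudo a (π ≫ e) where
  inv := by rw [← Category.assoc, h.inv, Category.assoc]
  uniq x y hxy := h.uniq x y ((cancel_mono e).mp (by simpa using hxy))

lemma prS_sm {S Y : Scheme.{u}} {d : Y ⟶ S} {G : Over S} [GrpObj G] {M : Over Y}
    (α : AlgGrp.Action (Red.bc d G) M) {Z : Over S} (g : Z ⟶ G) (x : Z ⟶ obS d M) :
    sm (toS α) g x ≫ prS d M = x ≫ prS d M := by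
  ext1
  exact (congrArg (· ≫ M.hom) (sm_toS_left α g x)).trans (sact_proj α _ _ _)

lemma sm_ext {S Y Y' : Scheme.{u}} {d : Y ⟶ S} {d' : Y' ⟶ S} {G : Over S} [GrpObj G]
    (f : Y' ⟶ Y) (h : f ≫ d = d') {M : Over Y} (α : AlgGrp.Action (Red.bc d G) M) {Z : Over S}
    {g : Z ⟶ G} {u v : Z ⟶ obS d' (Red.bc f M)}
    (e1 : u ≫ prBC f h M = sm (toS α) g (v ≫ prBC f h M))
    (e2 : u ≫ prS d' (Red.bc f M) = v ≫ prS d' (Red.bc f M)) :
    u = sm (toS (bcR f h α)) g v :=
  (isPullback_prBC f h M).hom_ext (e1.trans (prBC_sm f h α g v).symm)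
    (e2.trans (prS_sm (bcR f h α) g v).symm)

/-- Action followed by a map, on points. -/
lemma comp_eq_sm {S : Scheme.{u}} {G A B C : Over S} [GrpObj G] {a : AlgGrp.Action G A}
    {b : AlgGrp.Action G B} {c : AlgGrp.Action G C} (k : A ⟶ B) (l : B ⟶ C)
    (hk : ∀ {Z : Over S} (g : Z ⟶ G) (x : Z ⟶ A), sm a g x ≫ k = sm b g (x ≫ k))
    (hl : ∀ {Z : Over S} (g : Z ⟶ G) (x : Z ⟶ B), sm b g x ≫ l = sm c g (x ≫ l))
    {Z : Over S} (g : Z ⟶ G) (x : Z ⟶ A) : sm a g x ≫ k ≫ l = sm c g (x ≫ k ≫ l) := by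
  rw [← Category.assoc, hk, hl, Category.assoc]

variable {R : Type u} [CommRing R] {n : Type u}

variable (R n) in
/-- Affine space as an object over the base. -/
noncomputable abbrev AS : Over (Spec (CommRingCat.of R)) :=
  Over.mk (𝔸(n; Spec (CommRingCat.of R)) ↘ Spec (CommRingCat.of R))

variable (R n) in
/-- Affine space is the spectrum of the polynomial algebra. -/
noncomputable def eA : spO R (MvPolynomial n R) ≅ AS R n :=
  Over.isoMk (AffineSpace.SpecIso n (CommRingCat.of R)).symm
    (AffineSpace.SpecIso_inv_over (CommRingCat.of R))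

lemma spOR_hom_eq : (spO R R).hom = 𝟙 _ := sp_id

lemma to_spOR_ext {Z : Over (Spec (CommRingCat.of R))} (f g : Z ⟶ spO R R) : f = g := by
  have hf := Over.w f
  have hg := Over.w g
  rw [spOR_hom_eq] at hf hg
  exact Over.OverMorphism.ext
    ((Category.comp_id _).symm.trans (hf.trans (hg.symm.trans (Category.comp_id _))))

variable (R) in
/-- The base is `Spec R`. -/
noncomputable def u1 : 𝟙_ (Over (Spec (CommRingCat.of R))) ⟶ spO R R :=
  Over.homMk (𝟙 _) (by rw [spOR_hom_eq]; exact Category.comp_id _)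

variable (R n) in
/-- The zero section. -/
noncomputable def zSec : 𝟙_ (Over (Spec (CommRingCat.of R))) ⟶ AS R n :=
  (u1 R ≫ pm (zeroA (n := n) (R := R) R)) ≫ (eA R n).hom

lemma zero_comp (K : Type u) [CommRing K] [Algebra R K] :
    pm (zeroA (n := n) (R := R) K) ≫ pm (mvOf (R := R) n K) ≫ (eA R n).hom =
      toUnit _ ≫ zSec R n := by
  have e : pm (zeroA (n := n) (R := R) K) ≫ pm (mvOf (R := R) n K) =
      pm (Algebra.ofId R K) ≫ pm (zeroA (n := n) (R := R) R) := by
    simp only [pm_comp]; congr 1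
    exact mv_ext (fun c => by simp [zeroA]) (fun i => by simp [zeroA])
  rw [reassoc_of% e, zSec, to_spOR_ext (pm (Algebra.ofId R K)) (toUnit _ ≫ u1 R)]
  simp only [Category.assoc]

variable {G : Over (Spec (CommRingCat.of R))} [GrpObj G]
variable (X : TorsorSch (Red.bc (𝔸(n; Spec (CommRingCat.of R)) ↘ Spec (CommRingCat.of R)) G)
  Scheme.fppfPrecoverage)

/-- The torsor over the base. -/
noncomputable abbrev VV : Over (Spec (CommRingCat.of R)) :=
  obS (𝔸(n; Spec (CommRingCat.of R)) ↘ Spec (CommRingCat.of R)) X.X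

/-- The projection to the polynomial algebra. -/
noncomputable abbrev piV : VV X ⟶ spO R (MvPolynomial n R) :=
  prS _ X.X ≫ (eA R n).inv

/-- The zero fibre, with its action. -/
noncomputable abbrev act0 :
    AlgGrp.Action (Red.bc (𝟙 (Spec (CommRingCat.of R))) G) (Red.bc (zSec R n).left X.X) :=
  bcR (zSec R n).left (Over.w (zSec R n)) X.act

/-- The zero fibre over the base. -/
noncomputable abbrev PP : Over (Spec (CommRingCat.of R)) :=
  obS (𝟙 (Spec (CommRingCat.of R))) (Red.bc (zSec R n).left X.X)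

/-- The action on the zero fibre. -/
noncomputable abbrev aPP : AlgGrp.Action G (PP X) := toS (act0 X)

/-- The inclusion of the zero fibre. -/
noncomputable abbrev iota : PP X ⟶ VV X :=
  prBC (zSec R n).left (Over.w (zSec R n)) X.X

lemma relV : RelPseudo (toS X.act) (piV X) := relPseudo_comp (relPseudo_toS X.isTorsor.1) _

lemma relP : RelPseudo (aPP X) (toUnit (PP X)) := by
  have h := relPseudo_toS (isPseudo_bcR (zSec R n).left (Over.w (zSec R n)) X.isTorsor.1)
  rwa [show toUnit (PP X) = prS (𝟙 (Spec (CommRingCat.of R))) (Red.bc (zSec R n).left X.X) from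
    (toUnit_unique _ _)]

lemma iota_piV : iota X ≫ piV X = toUnit _ ≫ zSec R n ≫ (eA R n).inv := by
  have h := (isPullback_prBC (d := 𝔸(n; Spec (CommRingCat.of R)) ↘ Spec (CommRingCat.of R))
    (zSec R n).left (Over.w (zSec R n)) X.X).w
  rw [piV, reassoc_of% h]
  congr 1

lemma bcR_ext {S Y Y' : Scheme.{u}} {d : Y ⟶ S} {d' : Y' ⟶ S} (f : Y' ⟶ Y) (h : f ≫ d = d')
    (M : Over Y) {Z : Over S} {x y : Z ⟶ obS d' (Red.bc f M)}
    (h1 : x ≫ prBC f h M = y ≫ prBC f h M)
    (h2 : x ≫ prS d' (Red.bc f M) = y ≫ prS d' (Red.bc f M)) : x = y :=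
  (isPullback_prBC f h M).hom_ext h1 h2

/-- The torsor is isomorphic over `K` to the pullback of its zero fibre. -/
def Desc (K : Type u) [CommRing K] [Algebra R K] : Prop :=
  ∃ φ : PP X ⊗ spO R (MvPolynomial n K) ⟶ VV X,
    IsEq (aPP X) (toS X.act) (piV X) (pm (mvOf n K)) φ

section

variable (K : Type u) [CommRing K] [Algebra R K]

/-- The structure map. -/
noncomputable abbrev jK : Spec (CommRingCat.of K) ⟶ Spec (CommRingCat.of R) :=
  Spec.map (CommRingCat.ofHom (algebraMap R K))

variable (R n) in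
/-- Affine space over `K`. -/
noncomputable abbrev Yo : Over (Spec (CommRingCat.of R)) :=
  Over.mk (pullback.snd (𝔸(n; Spec (CommRingCat.of R)) ↘ Spec (CommRingCat.of R)) (jK (R := R) K) ≫
    jK K)

variable (R n) in
/-- First projection. -/
noncomputable abbrev q1 : Yo R n K ⟶ AS R n := Over.homMk (pullback.fst _ _) pullback.condition

variable (R n) in
/-- Second projection. -/
noncomputable abbrev q2 : Yo R n K ⟶ spO R K := Over.homMk (pullback.snd _ _) rfl

variable (R n) in
/-- The constants. -/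
noncomputable abbrev cA : spO R (MvPolynomial n K) ⟶ spO R K :=
  pm (IsScalarTower.toAlgHom R K (MvPolynomial n K))

variable (R n) in
/-- Affine space over `K` is the spectrum of the polynomial algebra. -/
noncomputable def eps : spO R (MvPolynomial n K) ⟶ Yo R n K :=
  Over.homMk (pullback.lift (pm (mvOf (R := R) n K) ≫ (eA R n).hom).left (cA R n K).left
    ((Over.w (pm (mvOf (R := R) n K) ≫ (eA R n).hom)).trans (Over.w (cA R n K)).symm))
    (by
      show pullback.lift _ _ _ ≫ pullback.snd _ _ ≫ jK K = _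
      rw [pullback.lift_snd_assoc]
      exact Over.w (cA R n K))

lemma eps_q1 : eps R n K ≫ q1 R n K = pm (mvOf (R := R) n K) ≫ (eA R n).hom := by
  ext1; exact pullback.lift_fst _ _ _

lemma eps_q2 : eps R n K ≫ q2 R n K = cA R n K := by
  ext1; exact pullback.lift_snd _ _ _

instance isIso_eps : IsIso (eps R n K) := by
  let hom : TensorProduct R (MvPolynomial n R) K →ₐ[R] MvPolynomial n K :=
    Algebra.TensorProduct.lift (mvOf (R := R) n K) (IsScalarTower.toAlgHom R K (MvPolynomial n K))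
      fun _ _ => .all _ _
  let hinv : MvPolynomial n K →ₐ[R] TensorProduct R (MvPolynomial n R) K :=
    mvSub Algebra.TensorProduct.includeRight fun i => MvPolynomial.X i ⊗ₜ[R] 1
  have h1 : hom.comp hinv = AlgHom.id R _ :=
    mv_ext (fun c => by simp [hom, hinv]) (fun i => by simp [hom, hinv])
  have h2 : hinv.comp hom = AlgHom.id R _ := by
    refine Algebra.TensorProduct.ext ?_ ?_
    · exact mv_ext (fun c => by
        simp [hom, hinv])
        (fun i => by simp [hom, hinv])
    · ext k; simp [hom, hinv]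
  haveI : IsIso (pm hom) := by
    refine ⟨pm hinv, ?_, ?_⟩ <;> rw [pm_comp, ← pm_id]
    · rw [h1]
    · rw [h2]
  let e := pm hom ≫ specTensor (MvPolynomial n R) K ≫ ((eA R n).hom ▷ spO R K)
  have he : e.left = (eps R n K).left := by
    have a1 : e ≫ fst _ _ = pm (mvOf (R := R) n K) ≫ (eA R n).hom := by
      simp only [e, Category.assoc, whiskerRight_fst, specTensor, lift_fst_assoc]
      rw [← Category.assoc, pm_comp]
      congr 2
      simp [hom, AlgHom.ext_iff]
    have a2 : e ≫ snd _ _ = cA R n K := by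
      simp only [e, Category.assoc, whiskerRight_snd, specTensor, lift_snd]
      rw [pm_comp]
      congr 1
      simp [hom, AlgHom.ext_iff]
    apply pullback.hom_ext
    · exact (congrArg Over.Hom.left a1).trans (pullback.lift_fst _ _ _).symm
    · exact (congrArg Over.Hom.left a2).trans (pullback.lift_snd _ _ _).symm
  haveI : IsIso ((Over.forget _).map (eps R n K)) := by
    show IsIso (eps R n K).left
    rw [← he]
    exact inferInstanceAs (IsIso ((Over.forget _).map e))
  exact isIso_of_reflects_iso _ (Over.forget _)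

/-- The zero fibre over `K`. -/
noncomputable abbrev actK :=
  bcR (d := 𝟙 (Spec (CommRingCat.of R))) (d' := jK (R := R) K) (jK K) (Category.comp_id _) (act0 X)

/-- A point of the zero fibre turns a trivialisation into an isomorphism. -/
theorem exists_equivIso (P : TorsorSch (Red.bc (jK (R := R) K) G) Scheme.fppfPrecoverage)
    (pr : obS (jK (R := R) K) P.X ⟶ PP X)
    (hpr : ∀ {Z : Over (Spec (CommRingCat.of R))} (g : Z ⟶ G) (x : Z ⟶ obS (jK (R := R) K) P.X),
      sm (toS P.act) g x ≫ pr = sm (aPP X) g (x ≫ pr))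
    (φ : PP X ⊗ spO R (MvPolynomial n K) ⟶ VV X)
    (hφ : IsEq (aPP X) (toS X.act) (piV X) (pm (mvOf n K)) φ) :
    Nonempty (EquivIso
      (bcR (d' := pullback.snd (𝔸(n; Spec (CommRingCat.of R)) ↘ Spec (CommRingCat.of R))
        (jK (R := R) K) ≫ jK K) (pullback.snd _ (jK (R := R) K)) rfl P.act)
      (bcR (d' := pullback.snd (𝔸(n; Spec (CommRingCat.of R)) ↘ Spec (CommRingCat.of R))
        (jK (R := R) K) ≫ jK K) (pullback.fst _ (jK (R := R) K)) pullback.condition X.act)) := by
  let f1 := pullback.fst (𝔸(n; Spec (CommRingCat.of R)) ↘ Spec (CommRingCat.of R)) (jK (R := R) K)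
  let f2 := pullback.snd (𝔸(n; Spec (CommRingCat.of R)) ↘ Spec (CommRingCat.of R)) (jK (R := R) K)
  let kY : Yo R n K ⟶ spO R (MvPolynomial n K) := inv (eps R n K)
  let prX := prBC (d' := (Yo R n K).hom) f1 pullback.condition X.X
  let prP := prBC (d := jK (R := R) K) (d' := (Yo R n K).hom) f2 rfl P.X
  let φ' : obS (Yo R n K).hom (Red.bc f2 P.X) ⟶ VV X :=
    lift (prP ≫ pr) (prS _ _ ≫ kY) ≫ φ
  have hφ' : φ' ≫ prS _ X.X = prS _ _ ≫ q1 R n K := by
    have hp : φ ≫ piV X ≫ (eA R n).hom = snd _ _ ≫ pm (mvOf (R := R) n K) ≫ (eA R n).hom := by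
      simpa only [Category.assoc] using congrArg (· ≫ (eA R n).hom) hφ.proj
    simp only [piV, Category.assoc, Iso.inv_hom_id, Category.comp_id] at hp
    simp only [φ', Category.assoc, hp, lift_snd_assoc, ← eps_q1]
    simp only [kY, IsIso.inv_hom_id_assoc]
  let θS : obS (Yo R n K).hom (Red.bc f2 P.X) ⟶ obS (Yo R n K).hom (Red.bc f1 X.X) :=
    (isPullback_prBC f1 pullback.condition X.X).lift φ' (prS _ _) hφ'
  have e1 : θS ≫ prX = φ' := IsPullback.lift_fst _ _ _ _
  have e2 : θS ≫ prS _ _ = prS _ _ := IsPullback.lift_snd _ _ _ _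
  have hθ : θS.left ≫ (Red.bc f1 X.X).hom = (Red.bc f2 P.X).hom := congrArg Over.Hom.left e2
  have hs : IsPseudoTorsorSch
      (bcR (d' := (Yo R n K).hom) f2 rfl P.act) := isPseudo_bcR _ _ P.isTorsor.1
  have ht : IsPseudoTorsorSch
      (bcR (d' := (Yo R n K).hom) f1 pullback.condition X.act) := isPseudo_bcR _ _ X.isTorsor.1
  have hprP : ∀ {Z : Over (Spec (CommRingCat.of R))} (g : Z ⟶ G) (x : Z ⟶ _),
      sm (toS (bcR (d' := (Yo R n K).hom) f2 rfl P.act)) g x ≫ (prP ≫ pr) =
        sm (aPP X) g (x ≫ prP ≫ pr) :=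
    fun g x => comp_eq_sm prP pr (fun g x => prBC_sm f2 rfl P.act g x) hpr g x
  have hequiv := isEquivariant_of_homS (α := bcR f2 rfl P.act)
    (α' := bcR f1 pullback.condition X.act) θS e2 hθ (fun {Z} g x => by
      have hπ := prS_sm (bcR (d' := (Yo R n K).hom) f2 rfl P.act) g x
      refine sm_ext f1 pullback.condition X.act ?_ ?_
      · rw [Category.assoc _ θS, e1, Category.assoc x θS, e1]
        calc sm _ g x ≫ φ'
            = lift (sm (aPP X) g (x ≫ prP ≫ pr)) ((x ≫ prS _ _) ≫ kY) ≫ φ := by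
              simp only [φ', comp_lift_assoc, ← hprP g x, ← hπ, Category.assoc]
          _ = sm (toS X.act) g (lift (x ≫ prP ≫ pr) ((x ≫ prS _ _) ≫ kY) ≫ φ) := hφ.equiv _ _ _
          _ = _ := by simp only [φ', comp_lift_assoc, Category.assoc]
      · rw [Category.assoc _ θS, e2, hπ, Category.assoc x θS, e2])
  haveI := Groth.L09.TorsorSch.isIso_of_isEquivariant _ _
    (show IsTorsorFor Scheme.fpqcPrecoverage (bcR (d' := (Yo R n K).hom) f2 rfl P.act) from
      ⟨hs, (isTorsor_bcR f2 rfl (d' := (Yo R n K).hom) P.isTorsor).2.imp fun Rv hR =>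
        ⟨Scheme.fppfPrecoverage_le_fpqcPrecoverage _ hR.1, hR.2⟩⟩)
    ht _ hequiv
  exact ⟨⟨asIso (Over.homMk θS.left hθ), hequiv⟩⟩

/-- A trivialisation gives a descended torsor. -/
theorem exists_torsor_of_desc (h : Desc X K) :
    ∃ P : TorsorSch (Red.bc (jK (R := R) K) G) Scheme.fppfPrecoverage,
      Nonempty (EquivIso
        (bcR (d' := pullback.snd (𝔸(n; Spec (CommRingCat.of R)) ↘ Spec (CommRingCat.of R))
          (jK (R := R) K) ≫ jK K) (pullback.snd _ (jK (R := R) K)) rfl P.act)
        (bcR (d' := pullback.snd (𝔸(n; Spec (CommRingCat.of R)) ↘ Spec (CommRingCat.of R))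
          (jK (R := R) K) ≫ jK K) (pullback.fst _ (jK (R := R) K)) pullback.condition X.act)) := by
  obtain ⟨φ, hφ⟩ := h
  exact ⟨⟨_, actK X K, isTorsor_bcR _ _ (isTorsor_bcR _ _ X.isTorsor)⟩,
    exists_equivIso X K _ (prBC (jK K) (Category.comp_id _) _)
      (fun g x => prBC_sm (jK K) (Category.comp_id _) (act0 X) g x) φ hφ⟩

/-- A descended torsor gives a trivialisation. -/
theorem desc_of_iso (P : TorsorSch (Red.bc (jK (R := R) K) G) Scheme.fppfPrecoverage)
    (θ : EquivIso
        (bcR (d' := pullback.snd (𝔸(n; Spec (CommRingCat.of R)) ↘ Spec (CommRingCat.of R))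
          (jK (R := R) K) ≫ jK K) (pullback.snd _ (jK (R := R) K)) rfl P.act)
        (bcR (d' := pullback.snd (𝔸(n; Spec (CommRingCat.of R)) ↘ Spec (CommRingCat.of R))
          (jK (R := R) K) ≫ jK K) (pullback.fst _ (jK (R := R) K)) pullback.condition X.act)) :
    Desc X K := by
  let f1 := pullback.fst (𝔸(n; Spec (CommRingCat.of R)) ↘ Spec (CommRingCat.of R)) (jK (R := R) K)
  let f2 := pullback.snd (𝔸(n; Spec (CommRingCat.of R)) ↘ Spec (CommRingCat.of R)) (jK (R := R) K)
  let prX := prBC (d' := (Yo R n K).hom) f1 pullback.condition X.X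
  let prP := prBC (d := jK (R := R) K) (d' := (Yo R n K).hom) f2 rfl P.X
  let pr0 := prBC (d := 𝟙 (Spec (CommRingCat.of R))) (d' := jK (R := R) K) (jK K)
    (Category.comp_id _) (Red.bc (zSec R n).left X.X)
  let Θ : obS (Yo R n K).hom (Red.bc f2 P.X) ⟶ VV X :=
    homS (d := (Yo R n K).hom) θ.iso.hom ≫ prX
  have hΘπ : Θ ≫ prS _ X.X = prS _ _ ≫ q1 R n K := by
    have a1 : homS (d := (Yo R n K).hom) θ.iso.hom ≫ prS _ (Red.bc f1 X.X) = prS _ _ := by
      ext1; exact Over.w θ.iso.hom
    simp only [Θ, Category.assoc]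
    rw [show prX ≫ prS _ X.X = prS _ (Red.bc f1 X.X) ≫ q1 R n K from
      (isPullback_prBC f1 pullback.condition X.X).w, reassoc_of% a1]
  have hΘ : ∀ {Z : Over (Spec (CommRingCat.of R))} (g : Z ⟶ G)
      (x : Z ⟶ obS (Yo R n K).hom (Red.bc f2 P.X)),
      sm (toS (bcR f2 rfl P.act)) g x ≫ Θ = sm (toS X.act) g (x ≫ Θ) := by
    intro Z g x
    simp only [Θ, prX]
    rw [← Category.assoc, homS_sm θ.iso.hom θ.comm, prBC_sm, Category.assoc]
  let zY : spO R K ⟶ Yo R n K := pm (zeroA (n := n) (R := R) K) ≫ eps R n K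
  have zY2 : zY ≫ q2 R n K = 𝟙 _ := by
    rw [Category.assoc, eps_q2, pm_comp, ← pm_id]
    congr 1
    exact AlgHom.ext fun c => by simp [zeroA]
  have zY1 : zY ≫ q1 R n K = toUnit _ ≫ zSec R n := by
    rw [Category.assoc, eps_q1, zero_comp]
  let PS : Over (Spec (CommRingCat.of R)) := obS (jK (R := R) K) P.X
  let π : PS ⟶ spO R K := prS (jK (R := R) K) P.X
  let z' : PS ⟶ obS (Yo R n K).hom (Red.bc f2 P.X) :=
    (isPullback_prBC f2 rfl P.X).lift (𝟙 _) (π ≫ zY) (by
      rw [Category.id_comp, Category.assoc]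
      exact ((congrArg (π ≫ ·) zY2).trans (Category.comp_id _)).symm)
  have z1 : z' ≫ prP = 𝟙 _ := IsPullback.lift_fst _ _ _ _
  have z2 : z' ≫ prS _ _ = π ≫ zY := IsPullback.lift_snd _ _ _ _
  let m₀ : PS ⟶ PP X := (isPullback_prBC (zSec R n).left (Over.w (zSec R n)) X.X).lift (z' ≫ Θ)
    (toUnit PS) (by
      rw [Category.assoc, hΘπ, reassoc_of% z2, zY1, ← Category.assoc,
        toUnit_unique (π ≫ toUnit _) (toUnit PS)]
      rfl)
  have m1 : m₀ ≫ iota X = z' ≫ Θ := IsPullback.lift_fst _ _ _ _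
  let mu : PS ⟶ obS (jK (R := R) K) (Red.bc (jK (R := R) K) (Red.bc (zSec R n).left X.X)) :=
    (isPullback_prBC (d := 𝟙 _) (jK K) (Category.comp_id _) (Red.bc (zSec R n).left X.X)).lift
      m₀ π (toUnit_unique _ _)
  have mu1 : mu ≫ pr0 = m₀ := IsPullback.lift_fst _ _ _ _
  have mu2 : mu ≫ prS _ _ = π := IsPullback.lift_snd _ _ _ _
  have hmuw : mu.left ≫ (Red.bc (jK (R := R) K) (Red.bc (zSec R n).left X.X)).hom = P.X.hom :=
    congrArg Over.Hom.left mu2
  have torK : IsPseudoTorsorSch (actK X K) :=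
    isPseudo_bcR _ _ (isPseudo_bcR _ _ X.isTorsor.1)
  have hz' : ∀ {Z : Over (Spec (CommRingCat.of R))} (g : Z ⟶ G) (x : Z ⟶ PS),
      sm (toS P.act) g x ≫ z' = sm (toS (bcR (d' := (Yo R n K).hom) f2 rfl P.act)) g (x ≫ z') := by
    intro Z g x
    refine sm_ext f2 rfl P.act ?_ ?_
    · rw [Category.assoc _ z', z1, Category.comp_id, Category.assoc x z', z1, Category.comp_id]
    · rw [Category.assoc _ z', z2, ← Category.assoc (sm _ g x), prS_sm P.act g x,
        Category.assoc x z', z2, Category.assoc]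
  have hm₀ : ∀ {Z : Over (Spec (CommRingCat.of R))} (g : Z ⟶ G) (x : Z ⟶ PS),
      sm (toS P.act) g x ≫ m₀ = sm (aPP X) g (x ≫ m₀) := by
    intro Z g x
    refine sm_ext (zSec R n).left (Over.w (zSec R n)) X.act ?_ (toUnit_unique _ _)
    rw [Category.assoc _ m₀, m1, Category.assoc x m₀, m1]
    exact comp_eq_sm z' Θ hz' hΘ g x
  have hmue := isEquivariant_of_homS (α := P.act) (α' := actK X K) mu mu2 hmuw (fun {Z} g x => by
    refine sm_ext (jK (R := R) K) (Category.comp_id _) (act0 X) ?_ ?_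
    · rw [Category.assoc _ mu, mu1, Category.assoc x mu, mu1]
      exact hm₀ g x
    · rw [Category.assoc _ mu, mu2, Category.assoc x mu, mu2]
      exact prS_sm P.act g x)
  haveI := Groth.L09.TorsorSch.isIso_of_isEquivariant _ _
    (show IsTorsorFor Scheme.fpqcPrecoverage P.act from
      ⟨P.isTorsor.1, P.isTorsor.2.imp fun Rv hR =>
        ⟨Scheme.fppfPrecoverage_le_fpqcPrecoverage _ hR.1, hR.2⟩⟩)
    torK _ hmue
  have hνe := isEquivariant_inv _ hmue
  let ν := homS (d := jK (R := R) K) (inv (Over.homMk mu.left hmuw :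
    P.X ⟶ Red.bc (jK (R := R) K) (Red.bc (zSec R n).left X.X)))
  have ν2 : ν ≫ π = prS _ _ := by
    ext1; exact Over.w (inv (Over.homMk mu.left hmuw :
      P.X ⟶ Red.bc (jK (R := R) K) (Red.bc (zSec R n).left X.X)))
  let y : PP X ⊗ spO R (MvPolynomial n K) ⟶
      obS (jK (R := R) K) (Red.bc (jK (R := R) K) (Red.bc (zSec R n).left X.X)) :=
    (isPullback_prBC (d := 𝟙 _) (jK K) (Category.comp_id _) (Red.bc (zSec R n).left X.X)).lift
      (fst _ _) (snd _ _ ≫ cA R n K) (toUnit_unique _ _)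
  have y1 : y ≫ pr0 = fst _ _ := IsPullback.lift_fst _ _ _ _
  have y2 : y ≫ prS _ _ = snd _ _ ≫ cA R n K := IsPullback.lift_snd _ _ _ _
  let χ : PP X ⊗ spO R (MvPolynomial n K) ⟶ obS (Yo R n K).hom (Red.bc f2 P.X) :=
    (isPullback_prBC f2 rfl P.X).lift (y ≫ ν) (snd _ _ ≫ eps R n K) (by
      rw [Category.assoc, Category.assoc, ν2, y2, ← eps_q2])
  have χ1 : χ ≫ prP = y ≫ ν := IsPullback.lift_fst _ _ _ _
  have χ2 : χ ≫ prS _ _ = snd _ _ ≫ eps R n K := IsPullback.lift_snd _ _ _ _
  refine ⟨χ ≫ Θ, ⟨?_, fun {Z} g x t => ?_⟩⟩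
  · simp only [piV, Category.assoc]
    rw [reassoc_of% hΘπ, reassoc_of% χ2, reassoc_of% (eps_q1 (R := R) (n := n) K),
      Iso.hom_inv_id, Category.comp_id]
  · have hy : lift (sm (aPP X) g x) t ≫ y = sm (toS (actK X K)) g (lift x t ≫ y) := by
      refine sm_ext (jK (R := R) K) (Category.comp_id _) (act0 X) ?_ ?_
      · rw [Category.assoc _ y, y1, lift_fst, Category.assoc _ y, y1, lift_fst]
      · rw [Category.assoc _ y, y2, lift_snd_assoc, Category.assoc _ y, y2, lift_snd_assoc]
    have hχ : lift (sm (aPP X) g x) t ≫ χ =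
        sm (toS (bcR (d' := (Yo R n K).hom) f2 rfl P.act)) g (lift x t ≫ χ) := by
      refine sm_ext f2 rfl P.act ?_ ?_
      · rw [Category.assoc _ χ, χ1, ← Category.assoc _ y ν, hy, homS_sm _ hνe g,
          Category.assoc _ χ, χ1, Category.assoc _ y ν]
      · rw [Category.assoc _ χ, χ2, lift_snd_assoc, Category.assoc _ χ, χ2, lift_snd_assoc]
    rw [← Category.assoc _ χ Θ, hχ, hΘ, Category.assoc _ χ Θ]

end

/-- A trivialisation can be normalised along the zero section. -/
theorem exists_normalised {W : Type u} [CommRing W] [Algebra R W] (s : spO R W ⟶ PP X)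
    (hW : Groth.L25.Covers.Cov (toUnit (spO R W))) {K : Type u} [CommRing K] [Algebra R K]
    (h : Desc X K) :
    ∃ φ : PP X ⊗ spO R (MvPolynomial n K) ⟶ VV X,
      IsEq (aPP X) (toS X.act) (piV X) (pm (mvOf n K)) φ ∧
        (PP X ◁ pm (zeroA (n := n) (R := R) K)) ≫ φ = fst _ _ ≫ iota X := by
  obtain ⟨φ, hφ⟩ := h
  let z := pm (zeroA (n := n) (R := R) K)
  let c := pm (IsScalarTower.toAlgHom R K (MvPolynomial n K))
  have h1 : IsEq (aPP X) (toS X.act) (piV X) (z ≫ pm (mvOf n K)) (fst _ _ ≫ iota X) := by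
    refine ⟨?_, fun g x t => ?_⟩
    · rw [Category.assoc, iota_piV,
        ← cancel_mono (eA R n).hom]
      simp only [Category.assoc, Iso.inv_hom_id, Category.comp_id]
      rw [show z ≫ pm (mvOf (R := R) n K) ≫ (eA R n).hom = _ from zero_comp K, ← Category.assoc,
        ← Category.assoc, toUnit_unique (fst _ _ ≫ toUnit _) (snd _ _ ≫ toUnit _)]
    · rw [lift_fst_assoc, lift_fst_assoc, prBC_sm]
  obtain ⟨d, hd, hdφ⟩ := exists_diff (relV X) s (hφ.comp z) h1
  obtain ⟨φ', hφ', he⟩ := exists_twist (relP X) (relV X) s hW hφ (comp_mem_H (aPP X) s c hd)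
  refine ⟨φ', hφ', (hφ'.comp z).ext (relP X) s hW h1 ?_⟩
  have hzc : z ≫ c = 𝟙 _ := by
    rw [pm_comp, ← pm_id]; congr 1
    exact AlgHom.ext fun k => by simp [zeroA]
  have sw : sPt s (spO R K) ≫ (PP X ◁ z) = (z ▷ spO R W) ≫ sPt s _ := by simp [sPt]
  have hh := congrArg ((z ▷ spO R W) ≫ ·) he
  simp only [comp_sm] at hh
  rw [← comp_whiskerRight_assoc, hzc, id_whiskerRight, Category.id_comp, ← Category.assoc,
    ← sw, Category.assoc, hdφ] at hh
  rw [reassoc_of% sw]
  exact hh.symm

lemma Desc.map {A A' : Type u} [CommRing A] [CommRing A'] [Algebra R A] [Algebra R A']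
    (f : A →ₐ[R] A') (h : Desc X A) : Desc X A' := by
  obtain ⟨φ, hφ⟩ := h
  refine ⟨_, (?_ : pm (mvMap (n := n) f) ≫ pm (mvOf (R := R) n A) = pm (mvOf n A')) ▸
    hφ.comp (pm (mvMap (n := n) f))⟩
  rw [pm_comp]; congr 1
  exact mv_ext (fun c => by simp) (fun i => by simp)

lemma desc_of_subsingleton (K : Type u) [CommRing K] [Algebra R K] [Subsingleton K] : Desc X K := by
  haveI : Subsingleton (MvPolynomial n K) := inferInstance
  haveI hE : IsEmpty (spO R (MvPolynomial n K)).left :=
    inferInstanceAs (IsEmpty (PrimeSpectrum (MvPolynomial n K)))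
  have emp : ∀ {Z : Over (Spec (CommRingCat.of R))} (t : Z ⟶ spO R (MvPolynomial n K)),
      IsEmpty Z.left := fun t => Function.isEmpty t.left
  have ext0 : ∀ {Z M : Over (Spec (CommRingCat.of R))} (_ : Z ⟶ spO R (MvPolynomial n K))
      (a b : Z ⟶ M), a = b := by
    intro Z M t a b
    haveI := emp t
    exact Over.OverMorphism.ext ((isInitialOfIsEmpty (X := Z.left)).hom_ext _ _)
  haveI := emp (snd (PP X) (spO R (MvPolynomial n K)))
  refine ⟨Over.homMk ((isInitialOfIsEmpty (X := (PP X ⊗ spO R (MvPolynomial n K)).left)).to _)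
    ((isInitialOfIsEmpty (X := (PP X ⊗ spO R (MvPolynomial n K)).left)).hom_ext _ _),
    ⟨ext0 (snd _ _) _ _, fun g x t => ext0 t _ _⟩⟩

/-- Gluing on two basic opens. -/
theorem desc_glue [LocallyOfFinitePresentation G.hom] {W : Type u} [CommRing W] [Algebra R W]
    (s : spO R W ⟶ PP X) (hW : Groth.L25.Covers.Cov (toUnit (spO R W)))
    {K : Type u} [CommRing K] [Algebra R K] {r t : R} (rK tK : K) (hco : IsCoprime rK tK)
    (A A' B : Type u) [CommRing A] [CommRing A'] [CommRing B] [Algebra R A]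
    [Algebra R A'] [Algebra R B] [Algebra K A] [Algebra K A'] [Algebra K B] [IsScalarTower R K A]
    [IsScalarTower R K A'] [IsScalarTower R K B] [IsLocalization.Away rK A]
    [IsLocalization.Away tK A'] [IsLocalization.Away (rK * tK) B]
    (hr : Desc X (Localization.Away r)) (ht : Desc X (Localization.Away t))
    (er : algebraMap R K r = rK) (et : algebraMap R K t = tK) : Desc X K := by
  have uB := IsLocalization.Away.algebraMap_isUnit (S := B) (rK * tK)
  rw [map_mul] at uB
  let iA : A →+* B := IsLocalization.Away.lift rK (isUnit_of_mul_isUnit_left uB)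
  let iA' : A' →+* B := IsLocalization.Away.lift tK (isUnit_of_mul_isUnit_right uB)
  letI : Algebra A B := iA.toAlgebra
  letI : Algebra A' B := iA'.toAlgebra
  haveI : IsScalarTower K A B := .of_algebraMap_eq fun x =>
    (IsLocalization.Away.lift_eq rK _ x).symm
  haveI : IsScalarTower K A' B := .of_algebraMap_eq fun x =>
    (IsLocalization.Away.lift_eq tK _ x).symm
  haveI : IsScalarTower R A B := .of_algebraMap_eq fun x => by
    rw [IsScalarTower.algebraMap_apply R K B, IsScalarTower.algebraMap_apply R K A,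
      ← IsScalarTower.algebraMap_apply K A B]
  haveI : IsScalarTower R A' B := .of_algebraMap_eq fun x => by
    rw [IsScalarTower.algebraMap_apply R K B, IsScalarTower.algebraMap_apply R K A',
      ← IsScalarTower.algebraMap_apply K A' B]
  have dA : Desc X A := by
    have hu : IsUnit (algebraMap R A r) := by
      rw [IsScalarTower.algebraMap_apply R K A, er]; exact IsLocalization.Away.algebraMap_isUnit _
    exact Desc.map X { IsLocalization.Away.lift r (g := algebraMap R A) hu with
      commutes' := fun x => IsLocalization.Away.lift_eq r hu x } hr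
  have dA' : Desc X A' := by
    have hu : IsUnit (algebraMap R A' t) := by
      rw [IsScalarTower.algebraMap_apply R K A', et]; exact IsLocalization.Away.algebraMap_isUnit _
    exact Desc.map X { IsLocalization.Away.lift t (g := algebraMap R A') hu with
      commutes' := fun x => IsLocalization.Away.lift_eq t hu x } ht
  obtain ⟨φA, hA, hA0⟩ := exists_normalised X s hW dA
  obtain ⟨φA', hA', hA'0⟩ := exists_normalised X s hW dA'
  exact exists_glue (B := B) rK tK A A' hco (relP X) s hW (relV X) (iota X) hA hA0 hA' hA'0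

/-- The elements over whose localisation the torsor descends form an ideal. -/
theorem exists_ideal [LocallyOfFinitePresentation G.hom] :
    ∃ I : Ideal R, ∀ r : R, r ∈ I ↔ Desc X (Localization.Away r) := by
  have lt : IsLocallyTrivialFor Scheme.fppfPrecoverage (PP X) := by
    obtain ⟨Rv, hR, hs⟩ := (isTorsor_bcR (zSec R n).left (Over.w (zSec R n)) X.isTorsor).2
    refine ⟨Rv, hR, fun S' f hf => ?_⟩
    obtain ⟨s, hs'⟩ := hs f hf
    exact ⟨s, by
      show s ≫ (Red.bc (zSec R n).left X.X).hom ≫ 𝟙 _ = f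
      rw [Category.comp_id, hs']⟩
  obtain ⟨W, _, _, s, hW⟩ := exists_affine_cover lt
  have hmul : ∀ {r : R}, Desc X (Localization.Away r) → ∀ a : R,
      Desc X (Localization.Away (a * r)) := by
    intro r h a
    have hu : IsUnit (algebraMap R (Localization.Away (a * r)) r) := by
      have := IsLocalization.Away.algebraMap_isUnit (S := Localization.Away (a * r)) (a * r)
      rw [map_mul] at this
      exact isUnit_of_mul_isUnit_right this
    exact h.map X
      { IsLocalization.Away.lift r (g := algebraMap R (Localization.Away (a * r))) hu with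
        commutes' := fun x => IsLocalization.Away.lift_eq r hu x }
  refine ⟨{ carrier := {r | Desc X (Localization.Away r)}
            add_mem' := ?_
            zero_mem' := ?_
            smul_mem' := fun a r h => hmul h a }, fun r => Iff.rfl⟩
  · intro r t hr ht
    let K := Localization.Away (r + t)
    let rK : K := algebraMap R K r
    let tK : K := algebraMap R K t
    obtain ⟨w, hw⟩ : IsUnit (rK + tK) := by
      rw [← map_add]; exact IsLocalization.Away.algebraMap_isUnit _
    have hco : IsCoprime rK tK :=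
      ⟨(w⁻¹ : Kˣ), (w⁻¹ : Kˣ), by rw [← mul_add, ← hw, Units.inv_mul]⟩
    exact desc_glue X s hW rK tK hco (Localization.Away rK) (Localization.Away tK)
      (Localization.Away (rK * tK)) hr ht rfl rfl
  · haveI : Subsingleton (Localization.Away (0 : R)) :=
      IsLocalization.subsingleton (M := Submonoid.powers (0 : R)) (Submonoid.mem_powers _)
    exact desc_of_subsingleton X _

end Groth.L09.Quillen
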