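import Groth.Agent.L09.PatchStage

/-!
# Quillen's factorisation for a functor of groups with lifting
-/

universe u

open Polynomial Groth.L09.Patch

namespace Groth.L09.Quillen

variable {R : Type u} [CommRing R]

/-- A functor from `R`-algebras to groups. -/
structure PtFun (R : Type u) [CommRing R] where
  /-- the values -/
  obj : ∀ (C : Type u) [CommRing C] [Algebra R C], Type u
  /-- the group structures -/
  grp : ∀ (C : Type u) [CommRing C] [Algebra R C], Group (obj C)
  /-- functoriality -/
  map : ∀ {C D : Type u} [CommRing C] [CommRing D] [Algebra R C] [Algebra R D],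
    (C →ₐ[R] D) → obj C → obj D
  map_mul : ∀ {C D : Type u} [CommRing C] [CommRing D] [Algebra R C] [Algebra R D]
    (f : C →ₐ[R] D) (x y : obj C), map f (x * y) = map f x * map f y
  map_id : ∀ {C : Type u} [CommRing C] [Algebra R C] (x : obj C), map (AlgHom.id R C) x = x
  map_comp : ∀ {C D E : Type u} [CommRing C] [CommRing D] [CommRing E] [Algebra R C] [Algebra R D]
    [Algebra R E] (f : C →ₐ[R] D) (g : D →ₐ[R] E) (x : obj C), map (g.comp f) x = map g (map f x)

attribute [instance] PtFun.grp

namespace PtFun

variable (F : PtFun R) {C D E : Type u} [CommRing C] [CommRing D] [CommRing E] [Algebra R C]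
  [Algebra R D] [Algebra R E]

/-- Functoriality as a group homomorphism. -/
def mapHom (f : C →ₐ[R] D) : F.obj C →* F.obj D := MonoidHom.mk' (F.map f) (F.map_mul f)

lemma map_one (f : C →ₐ[R] D) : F.map f 1 = 1 := (F.mapHom f).map_one

lemma map_inv (f : C →ₐ[R] D) (x : F.obj C) : F.map f x⁻¹ = (F.map f x)⁻¹ :=
  (F.mapHom f).map_inv x

/-- Elements over `D[X]`, `D = C[1/s]`, trivial at `X = 0` lift after `X ↦ sᴺ X`. -/
def HasLift (F : PtFun R) : Prop :=
  ∀ (C D : Type u) [CommRing C] [CommRing D] [Algebra R C] [Algebra R D] [Algebra C D]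
    [IsScalarTower R C D] (s : C) [IsLocalization.Away s D] (h : F.obj D[X]),
    F.map (evalA (R := R) D) h = 1 →
    ∃ (N : ℕ) (g : F.obj C[X]),
      F.map (mapA (R := R) (C := C) (D := D)) g =
        F.map (scaleA (R := R) (algebraMap C D s ^ N)) h

end PtFun

lemma away_mul {K : Type u} [CommRing K] (r r' : K) (A' B : Type u) [CommRing A'] [CommRing B]
    [Algebra K A'] [Algebra K B] [Algebra A' B] [IsScalarTower K A' B] [IsLocalization.Away r' A']
    [IsLocalization.Away (r * r') B] : IsLocalization.Away (algebraMap K A' r) B := by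
  have hrr : IsUnit (algebraMap K B (r * r')) := IsLocalization.Away.algebraMap_isUnit _
  rw [map_mul] at hrr
  have hr : IsUnit (algebraMap K B r) := isUnit_of_mul_isUnit_left hrr
  refine IsLocalization.Away.mk _ ?_ ?_ ?_
  · rw [← IsScalarTower.algebraMap_apply]; exact hr
  · intro b
    obtain ⟨n, x, hx⟩ := IsLocalization.Away.surj (r * r') b
    obtain ⟨v, hv⟩ := ((IsLocalization.Away.algebraMap_isUnit r' : IsUnit (algebraMap K A' r')).pow n)
    refine ⟨n, algebraMap K A' x * (v⁻¹ : A'ˣ), ?_⟩
    apply ((v.isUnit.map (algebraMap A' B)).mul_left_inj).mp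
    rw [← map_mul (algebraMap A' B) (algebraMap K A' x * _), Units.inv_mul_cancel_right,
      ← IsScalarTower.algebraMap_apply K A' B r, ← IsScalarTower.algebraMap_apply K A' B x, ← hx,
      hv, map_pow, ← IsScalarTower.algebraMap_apply, mul_assoc, ← mul_pow, ← map_mul]
  · intro a b hab
    obtain ⟨n, x, hx⟩ := IsLocalization.Away.surj r' (a - b)
    have hx0 : algebraMap K B x = 0 := by
      rw [IsScalarTower.algebraMap_apply K A' B, ← hx, map_mul, map_sub, hab, sub_self, zero_mul]
    obtain ⟨⟨_, m, rfl⟩, hm⟩ :=
      (IsLocalization.map_eq_zero_iff (Submonoid.powers (r * r')) B _).mp hx0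
    refine ⟨m, ?_⟩
    have hu : IsUnit (algebraMap K A' r' ^ (m + n)) :=
      (IsLocalization.Away.algebraMap_isUnit r').pow _
    rw [← sub_eq_zero, ← mul_sub, ← hu.mul_left_eq_zero]
    calc algebraMap K A' r ^ m * (a - b) * algebraMap K A' r' ^ (m + n)
        = algebraMap K A' ((r * r') ^ m) * ((a - b) * algebraMap K A' r' ^ n) := by
          rw [map_pow, map_mul, mul_pow, pow_add]; ring
      _ = 0 := by rw [hx, ← map_mul, hm, map_zero]

/-- Substitution into a polynomial algebra. -/
noncomputable def sub {C E : Type u} [CommRing C] [CommRing E] [Algebra R C] [Algebra R E]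
    (f : C →ₐ[R] E) (x : E) : C[X] →ₐ[R] E :=
  { eval₂RingHom f.toRingHom x with
    commutes' := fun r => by
      show eval₂ f.toRingHom x (algebraMap R C[X] r) = algebraMap R E r
      rw [Polynomial.algebraMap_apply, eval₂_C]
      exact f.commutes r }

@[simp] lemma sub_C {C E : Type u} [CommRing C] [CommRing E] [Algebra R C] [Algebra R E]
    (f : C →ₐ[R] E) (x : E) (c : C) : sub f x (Polynomial.C c) = f c := eval₂_C _ _

@[simp] lemma sub_X {C E : Type u} [CommRing C] [CommRing E] [Algebra R C] [Algebra R E]
    (f : C →ₐ[R] E) (x : E) : sub f x X = x := eval₂_X _ _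

/-- The constants. -/
noncomputable abbrev constA (C : Type u) [CommRing C] [Algebra R C] : C →ₐ[R] C[X] :=
  IsScalarTower.toAlgHom R C C[X]

lemma alg_ext {C E : Type u} [CommRing C] [CommRing E] [Algebra R C] [Algebra R E]
    {φ ψ : C[X] →ₐ[R] E} (hC : ∀ c, φ (Polynomial.C c) = ψ (Polynomial.C c))
    (hX : φ X = ψ X) : φ = ψ :=
  AlgHom.coe_ringHom_injective (Polynomial.ringHom_ext hC hX)

variable (F : PtFun R)

/-- Normalise an element at `X = 0`. -/
noncomputable def normalise {A : Type u} [CommRing A] [Algebra R A] (x : F.obj A[X]) :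
    F.obj A[X] :=
  x * (F.map (constA A) (F.map (evalA (R := R) A) x))⁻¹

lemma eval_normalise {A : Type u} [CommRing A] [Algebra R A] (x : F.obj A[X]) :
    F.map (evalA (R := R) A) (normalise F x) = 1 := by
  have h : (evalA (R := R) A).comp (constA A) = AlgHom.id R A := AlgHom.ext fun a => by simp
  rw [normalise, F.map_mul, F.map_inv, ← F.map_comp, h, F.map_id, mul_inv_cancel]

lemma map_normalise {A B : Type u} [CommRing A] [CommRing B] [Algebra R A] [Algebra R B]
    [Algebra A B] [IsScalarTower R A B] (x : F.obj A[X])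
    (h : F.map (evalA (R := R) B) (F.map (mapA (R := R) (C := A) (D := B)) x) = 1) :
    F.map (mapA (R := R) (C := A) (D := B)) (normalise F x) =
      F.map (mapA (R := R) (C := A) (D := B)) x := by
  have e : (mapA (R := R) (C := A) (D := B)).comp ((constA (R := R) A).comp (evalA (R := R) A)) =
      (constA (R := R) B).comp
        ((evalA (R := R) B).comp (mapA (R := R) (C := A) (D := B))) :=
    alg_ext (fun c => by simp) (by simp)
  rw [normalise, F.map_mul, F.map_inv, ← F.map_comp, ← F.map_comp, AlgHom.comp_assoc, e,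
    F.map_comp, F.map_comp, h, F.map_one, inv_one, mul_one]

/-- **Quillen's factorisation.** -/
theorem exists_factor (hF : F.HasLift) {K : Type u} [CommRing K] [Algebra R K] (r r' : K)
    (hrr : IsCoprime r r')
    (A A' B : Type u) [CommRing A] [CommRing A'] [CommRing B] [Algebra R A] [Algebra R A']
    [Algebra R B] [Algebra K A] [Algebra K A'] [Algebra K B] [IsScalarTower R K A]
    [IsScalarTower R K A'] [IsScalarTower R K B] [IsLocalization.Away r A]
    [IsLocalization.Away r' A'] [IsLocalization.Away (r * r') B]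
    [Algebra A B] [Algebra A' B] [IsScalarTower K A B] [IsScalarTower K A' B]
    [IsScalarTower R A B] [IsScalarTower R A' B]
    (g : F.obj B[X]) (hg : F.map (evalA (R := R) B) g = 1) :
    ∃ (g₁ : F.obj A[X]) (g₂ : F.obj A'[X]),
      F.map (evalA (R := R) A) g₁ = 1 ∧ F.map (evalA (R := R) A') g₂ = 1 ∧
        g = F.map (mapA (R := R) (C := A) (D := B)) g₁ *
          F.map (mapA (R := R) (C := A') (D := B)) g₂ := by
  haveI hB' : IsLocalization.Away (algebraMap K A' r) B := away_mul r r' A' B
  haveI hB : IsLocalization.Away (algebraMap K A r') B := by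
    haveI : IsLocalization.Away (r' * r) B := by rw [mul_comm]; infer_instance
    exact away_mul r' r A B
  obtain ⟨N, h', hh'⟩ := hF A' B (algebraMap K A' r) g hg
  letI : Algebra A[X] B[X] := Polynomial.algebra A B
  haveI : IsLocalization.Away (Polynomial.C (algebraMap K A r')) B[X] := by
    have h := Polynomial.isLocalization (Submonoid.powers (algebraMap K A r')) B
    rw [Submonoid.map_powers] at h
    exact h
  haveI : IsScalarTower R A[X] B[X] := .of_algebraMap_eq fun x => by
    show algebraMap R B[X] x = (algebraMap R A[X] x).map (algebraMap A B)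
    rw [Polynomial.algebraMap_apply, Polynomial.algebraMap_apply, map_C,
      ← IsScalarTower.algebraMap_apply]
  let cB := IsScalarTower.toAlgHom R B B[X]
  let s1 : B[X] →ₐ[R] B[X][X] := sub ((IsScalarTower.toAlgHom R B[X] B[X][X]).comp cB)
    (Polynomial.C X + X)
  let s2 : B[X] →ₐ[R] B[X][X] := IsScalarTower.toAlgHom R B[X] B[X][X]
  let f : F.obj B[X][X] := F.map s1 g * (F.map s2 g)⁻¹
  have hf : F.map (evalA (R := R) B[X]) f = 1 := by
    have e1 : (evalA (R := R) B[X]).comp s1 = AlgHom.id R B[X] :=
      alg_ext (fun c => by simp [s1, cB]) (by simp [s1, cB])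
    have e2 : (evalA (R := R) B[X]).comp s2 = AlgHom.id R B[X] :=
      AlgHom.ext fun c => by simp [s2]
    rw [F.map_mul, F.map_inv, ← F.map_comp, ← F.map_comp, e1, e2, F.map_id, mul_inv_cancel]
  obtain ⟨M, G, hG⟩ := hF A[X] B[X] (Polynomial.C (algebraMap K A r')) f hf
  obtain ⟨a, b, hab⟩ : ∃ a b, a * r ^ N + b * r' ^ M = 1 := hrr.pow (m := N) (n := M)
  let kA : A[X][X] →ₐ[R] A[X] :=
    sub (sub (constA A) (Polynomial.C (algebraMap K A (a * r ^ N)) * X))
      (Polynomial.C (algebraMap K A b) * X)
  let kB : B[X][X] →ₐ[R] B[X] :=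
    sub (sub (constA B) (Polynomial.C (algebraMap K B (a * r ^ N)) * X))
      (Polynomial.C (algebraMap K B b) * X)
  let k' : A'[X] →ₐ[R] A'[X] := scaleA (algebraMap K A' a)
  let q : B[X] →ₐ[R] B[X] := scaleA (algebraMap K B (a * r ^ N))
  have hx2 : F.map (mapA (R := R) (C := A') (D := B)) (F.map k' h') = F.map q g := by
    have e : (mapA (R := R) (C := A') (D := B)).comp k' =
        (scaleA (R := R) (algebraMap K B a)).comp (mapA (R := R) (C := A') (D := B)) := by
      refine alg_ext (fun c => ?_) ?_ <;>
        simp [k', scaleA, IsScalarTower.algebraMap_apply K A' B]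
    rw [← F.map_comp, e, F.map_comp, hh', ← F.map_comp]
    congr 2
    refine alg_ext (fun c => ?_) ?_
    · simp [q, scaleA]
    · simp [q, scaleA, ← IsScalarTower.algebraMap_apply K A' B]; ring
  have hx1 : F.map (mapA (R := R) (C := A) (D := B)) (F.map kA G) = g * (F.map q g)⁻¹ := by
    have e : (mapA (R := R) (C := A) (D := B)).comp kA =
        kB.comp (mapA (R := R) (C := A[X]) (D := B[X])) := by
      refine alg_ext (fun c => ?_) ?_
      · induction c using Polynomial.induction_on' with
        | add p q hp hq => simp only [map_add, hp, hq]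
        | monomial n a =>
          simp [kA, kB, mapA, ← Polynomial.C_mul_X_pow_eq_monomial,
            IsScalarTower.algebraMap_apply K A B]
      · simp [kA, kB, mapA, IsScalarTower.algebraMap_apply K A B]
    have hr' : algebraMap A[X] B[X] (Polynomial.C (algebraMap K A r')) =
        Polynomial.C (algebraMap K B r') := by
      show (Polynomial.C (algebraMap K A r')).map (algebraMap A B) = _
      rw [map_C, ← IsScalarTower.algebraMap_apply]
    have e1 : kB.comp ((scaleA (algebraMap A[X] B[X] (Polynomial.C (algebraMap K A r')) ^ M)).comp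
        s1) = AlgHom.id R B[X] := by
      refine alg_ext (fun c => ?_) ?_
      · simp [kB, s1, cB, scaleA]
      · simp only [hr', AlgHom.comp_apply, s1, sub_X, map_add, AlgHom.id_apply]
        simp [kB, scaleA, ← map_pow]
        rw [← mul_assoc, ← add_mul]
        simp only [← map_mul, ← map_add]
        rw [mul_comm (r' ^ M), hab]
        simp
    have e2 : kB.comp ((scaleA (algebraMap A[X] B[X] (Polynomial.C (algebraMap K A r')) ^ M)).comp
        s2) = q := by
      refine alg_ext (fun c => ?_) ?_
      · simp [kB, s2, scaleA, q]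
      · simp [kB, s2, scaleA, q]
    rw [← F.map_comp, e, F.map_comp, hG]
    simp only [f, F.map_mul, F.map_inv, ← F.map_comp, e1, e2, F.map_id]
  have hq : F.map (evalA (R := R) B) (F.map q g) = 1 := by
    have : (evalA (R := R) B).comp q = evalA (R := R) B :=
      alg_ext (fun c => by simp [q, scaleA]) (by simp [q, scaleA])
    rw [← F.map_comp, this, hg]
  refine ⟨normalise F (F.map kA G), normalise F (F.map k' h'), eval_normalise F _,
    eval_normalise F _, ?_⟩
  rw [map_normalise F _ (by rw [hx1, F.map_mul, F.map_inv, hg, hq, inv_one, mul_one]),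
    map_normalise F _ (by rw [hx2, hq]), hx1, hx2, inv_mul_cancel_right]

end Groth.L09.Quillen
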