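import Groth.Agent.L09.PatchEq
import Groth.Agent.L09.QuillenFun
import Mathlib.AlgebraicGeometry.Pullbacks
import Mathlib.RingTheory.Localization.BaseChange

/-!
# Lifting with an auxiliary affine factor
-/

universe u

open CategoryTheory CategoryTheory.Limits MonoidalCategory CartesianMonoidalCategory
  AlgebraicGeometry Polynomial Opposite MonObj TensorProduct

namespace Groth.L09.Quillen

open Groth.L09.Patch

set_option backward.isDefEq.respectTransparency.types false

variable {R : Type u} [CommRing R]
variable {C D K : Type u} [CommRing C] [CommRing D] [CommRing K] [Algebra R C] [Algebra R D]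
  [Algebra R K]

/-- `Spec (C ⊗ K) ⟶ Spec C ×_R Spec K`. -/
noncomputable def specTensor (C K : Type u) [CommRing C] [CommRing K] [Algebra R C] [Algebra R K] :
    spO R (C ⊗[R] K) ⟶ spO R C ⊗ spO R K :=
  lift (pm Algebra.TensorProduct.includeLeft) (pm Algebra.TensorProduct.includeRight)

instance isIso_specTensor : IsIso (specTensor (R := R) C K) := by
  have e : (specTensor (R := R) C K).left = (pullbackSpecIso R C K).inv := by
    have h : IsPullback (fst (spO R C) (spO R K)).left (snd (spO R C) (spO R K)).left
        (spO R C).hom (spO R K).hom := by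
      simp only [Over.fst_left, Over.snd_left]
      exact .of_hasPullback _ _
    apply pullback.hom_ext
    · have := congrArg (fun k => CommaMorphism.left k)
        (lift_fst (pm (R := R) (Algebra.TensorProduct.includeLeft (R := R) (A := C) (B := K)))
          (pm (R := R) (Algebra.TensorProduct.includeRight (R := R) (A := C) (B := K))))
      simp only [Over.comp_left, pm_left] at this
      exact this.trans (pullbackSpecIso_inv_fst R C K).symm
    · have := congrArg (fun k => CommaMorphism.left k)
        (lift_snd (pm (R := R) (Algebra.TensorProduct.includeLeft (R := R) (A := C) (B := K)))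
          (pm (R := R) (Algebra.TensorProduct.includeRight (R := R) (A := C) (B := K))))
      simp only [Over.comp_left, pm_left] at this
      exact this.trans (pullbackSpecIso_inv_snd R C K).symm
  haveI : IsIso ((Over.forget _).map (specTensor (R := R) C K)) := by
    show IsIso (specTensor (R := R) C K).left
    rw [e]; infer_instance
  exact isIso_of_reflects_iso _ (Over.forget _)

variable (C K) in
/-- `C[X] ⊗ K → (C ⊗ K)[X]`. -/
noncomputable def polyHom : C[X] ⊗[R] K →ₐ[R] (C ⊗[R] K)[X] :=
  Algebra.TensorProduct.lift (Polynomial.mapAlgHom Algebra.TensorProduct.includeLeft)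
    ((constA (C ⊗[R] K)).comp Algebra.TensorProduct.includeRight) (fun _ _ => .all _ _)

lemma polyHom_bijective : Function.Bijective (polyHom (R := R) C K) := by
  let inv : (C ⊗[R] K)[X] →ₐ[R] C[X] ⊗[R] K :=
    sub (Algebra.TensorProduct.map (constA C) (AlgHom.id R K)) (X ⊗ₜ 1)
  have h1 : (polyHom (R := R) C K).comp inv = AlgHom.id R _ := by
    refine alg_ext (fun c => ?_) ?_
    · induction c using TensorProduct.induction_on with
      | zero => simp
      | add x y hx hy => simp only [map_add, hx, hy]
      | tmul c k => simp [inv, polyHom, ← Polynomial.C_mul]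
    · simp [inv, polyHom, ← Algebra.TensorProduct.one_def]
  have h2 : inv.comp (polyHom (R := R) C K) = AlgHom.id R _ := by
    refine Algebra.TensorProduct.ext ?_ ?_
    · refine alg_ext (fun c => ?_) ?_
      · simp [inv, polyHom]
      · simp [inv, polyHom]
    · ext k; simp [inv, polyHom]
  exact ⟨Function.LeftInverse.injective (g := inv) fun x => AlgHom.congr_fun h2 x,
    Function.RightInverse.surjective (g := inv) fun x => AlgHom.congr_fun h1 x⟩

variable (C K) in
/-- `Spec (C ⊗ K)[X] ⟶ Spec C[X] ×_R Spec K`. -/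
noncomputable def polyIso : spO R (C ⊗[R] K)[X] ⟶ spO R C[X] ⊗ spO R K :=
  lift (pm (Polynomial.mapAlgHom Algebra.TensorProduct.includeLeft))
    (pm ((constA (C ⊗[R] K)).comp Algebra.TensorProduct.includeRight))

instance isIso_polyIso : IsIso (polyIso (R := R) C K) := by
  let e := AlgEquiv.ofBijective (polyHom (R := R) C K) polyHom_bijective
  haveI : IsIso (pm (polyHom (R := R) C K)) := by
    refine ⟨pm e.symm.toAlgHom, ?_, ?_⟩ <;> rw [pm_comp, ← pm_id] <;> congr 1
    · exact AlgHom.ext fun x => e.apply_symm_apply x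
    · exact AlgHom.ext fun x => e.symm_apply_apply x
  have : polyIso (R := R) C K = pm (polyHom (R := R) C K) ≫ specTensor C[X] K := by
    simp only [specTensor, comp_lift, pm_comp, polyIso, polyHom,
      Algebra.TensorProduct.lift_comp_includeLeft, Algebra.TensorProduct.lift_comp_includeRight]
    congr 2 <;> exact AlgHom.ext fun k => by simp
  rw [this]; infer_instance

/-- The map of tensor products. -/
noncomputable abbrev tmap (f : C →ₐ[R] D) : C ⊗[R] K →ₐ[R] D ⊗[R] K :=
  Algebra.TensorProduct.map f (AlgHom.id R K)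

lemma specTensor_natural (f : C →ₐ[R] D) :
    pm (tmap (K := K) f) ≫ specTensor C K = specTensor D K ≫ (pm f ▷ spO R K) := by
  refine CartesianMonoidalCategory.hom_ext _ _ ?_ ?_ <;>
    simp [specTensor, pm_comp]

lemma polyIso_map (f : C →ₐ[R] D) :
    pm (Polynomial.mapAlgHom (tmap (K := K) f)) ≫ polyIso C K =
      polyIso D K ≫ (pm (Polynomial.mapAlgHom f) ▷ spO R K) := by
  refine CartesianMonoidalCategory.hom_ext _ _ ?_ ?_
  · simp only [polyIso, Category.assoc, lift_fst, whiskerRight_fst, lift_fst_assoc, pm_comp]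
    congr 1
    exact alg_ext (fun c => by simp) (by simp)
  · simp only [polyIso, Category.assoc, lift_snd, whiskerRight_snd, pm_comp]
    congr 1
    exact AlgHom.ext fun k => by simp

lemma polyIso_scale (a : C) :
    pm (scaleA (R := R) (a ⊗ₜ[R] (1 : K))) ≫ polyIso C K =
      polyIso C K ≫ (pm (scaleA (R := R) a) ▷ spO R K) := by
  refine CartesianMonoidalCategory.hom_ext _ _ ?_ ?_
  · simp only [polyIso, Category.assoc, lift_fst, whiskerRight_fst, lift_fst_assoc, pm_comp]
    congr 1
    exact alg_ext (fun c => by simp [scaleA]) (by simp [scaleA])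
  · simp only [polyIso, Category.assoc, lift_snd, whiskerRight_snd, pm_comp]
    congr 1
    exact AlgHom.ext fun k => by simp [scaleA]

lemma polyIso_eval :
    pm (evalA (R := R) (C ⊗[R] K)) ≫ polyIso C K =
      specTensor C K ≫ (pm (evalA (R := R) C) ▷ spO R K) := by
  refine CartesianMonoidalCategory.hom_ext _ _ ?_ ?_
  · simp only [polyIso, specTensor, Category.assoc, lift_fst, whiskerRight_fst, lift_fst_assoc,
      pm_comp]
    congr 1
    exact alg_ext (fun c => by simp) (by simp)
  · simp only [polyIso, specTensor, Category.assoc, lift_snd, whiskerRight_snd, pm_comp]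
    congr 1
    exact AlgHom.ext fun k => by simp

variable [Algebra C D] [IsScalarTower R C D] (s : C) [IsLocalization.Away s D]

include s in
lemma away_tensor :
    letI := (tmap (K := K) (IsScalarTower.toAlgHom R C D)).toRingHom.toAlgebra
    IsLocalization.Away (s ⊗ₜ[R] (1 : K)) (D ⊗[R] K) := by
  letI := (tmap (K := K) (IsScalarTower.toAlgHom R C D)).toRingHom.toAlgebra
  letI : Algebra C (D ⊗[R] K) := Algebra.TensorProduct.leftAlgebra
  haveI : IsScalarTower C (C ⊗[R] K) (D ⊗[R] K) := .of_algebraMap_eq fun c => by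
    show algebraMap C D c ⊗ₜ[R] (1 : K) = tmap (IsScalarTower.toAlgHom R C D) (c ⊗ₜ 1)
    simp
  haveI h : IsLocalization (Algebra.algebraMapSubmonoid (C ⊗[R] K) (Submonoid.powers s))
      (D ⊗[R] K) := by
    refine isLocalizedModule_iff_isLocalization.mp ?_
    rw [isLocalizedModule_iff_isBaseChange (Submonoid.powers s) D]
    refine IsBaseChange.of_equiv
      (TensorProduct.AlgebraTensorModule.cancelBaseChange R C D D K) ?_
    intro x
    induction x using TensorProduct.induction_on with
    | zero => simp
    | add x y hx hy => simp only [TensorProduct.tmul_add, map_add, hx, hy]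
    | tmul c k =>
      simp only [IsScalarTower.coe_toAlgHom', RingHom.algebraMap_toAlgebra, AlgHom.toLinearMap_apply]
      simp [Algebra.smul_def, TensorProduct.smul_tmul']
  rw [Algebra.algebraMapSubmonoid, Submonoid.map_powers] at h
  exact h

variable (G : Over (Spec (CommRingCat.of R))) [GrpObj G] [LocallyOfFinitePresentation G.hom]

/-- Lifting with an auxiliary affine factor. -/
theorem exists_lift_tensor (h : spO R D[X] ⊗ spO R K ⟶ G)
    (h0 : (pm (evalA (R := R) D) ▷ spO R K) ≫ h = 1) :
    ∃ (N : ℕ) (g : spO R C[X] ⊗ spO R K ⟶ G),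
      (pm (mapA (R := R) (C := C) (D := D)) ▷ spO R K) ≫ g =
        (pm (scaleA (R := R) (algebraMap C D s ^ N)) ▷ spO R K) ≫ h := by
  letI := (tmap (K := K) (IsScalarTower.toAlgHom R C D)).toRingHom.toAlgebra
  haveI : IsScalarTower R (C ⊗[R] K) (D ⊗[R] K) := .of_algebraMap_eq fun x =>
    ((tmap (K := K) (IsScalarTower.toAlgHom R C D)).commutes x).symm
  haveI := away_tensor (R := R) (D := D) (K := K) s
  have hm : (mapA (R := R) (C := C ⊗[R] K) (D := D ⊗[R] K)) =
      Polynomial.mapAlgHom (tmap (K := K) (IsScalarTower.toAlgHom R C D)) :=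
    alg_ext (fun c => by simp [RingHom.algebraMap_toAlgebra]) (by simp)
  obtain ⟨N, g, hg⟩ := exists_lift (s ⊗ₜ[R] (1 : K)) G (polyIso D K ≫ h)
    (by rw [← Category.assoc, polyIso_eval, Category.assoc, h0, MonObj.comp_one])
  refine ⟨N, inv (polyIso C K) ≫ g, ?_⟩
  rw [← cancel_epi (polyIso D K), ← Category.assoc, ← polyIso_map, ← hm, Category.assoc,
    IsIso.hom_inv_id_assoc, hg, ← Category.assoc, ← Category.assoc]
  congr 1
  rw [← polyIso_scale]
  congr 3
  simp [RingHom.algebraMap_toAlgebra, Algebra.TensorProduct.tmul_pow]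

include s in
omit [GrpObj G] in
/-- Uniqueness with an auxiliary affine factor. -/
theorem exists_eq_scale_tensor (h h' : spO R C[X] ⊗ spO R K ⟶ G)
    (hD : (pm (mapA (R := R) (C := C) (D := D)) ▷ spO R K) ≫ h =
      (pm (mapA (R := R) (C := C) (D := D)) ▷ spO R K) ≫ h')
    (h0 : (pm (evalA (R := R) C) ▷ spO R K) ≫ h = (pm (evalA (R := R) C) ▷ spO R K) ≫ h') :
    ∃ M : ℕ, (pm (scaleA (R := R) (s ^ M)) ▷ spO R K) ≫ h =
      (pm (scaleA (R := R) (s ^ M)) ▷ spO R K) ≫ h' := by
  letI := (tmap (K := K) (IsScalarTower.toAlgHom R C D)).toRingHom.toAlgebra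
  haveI : IsScalarTower R (C ⊗[R] K) (D ⊗[R] K) := .of_algebraMap_eq fun x =>
    ((tmap (K := K) (IsScalarTower.toAlgHom R C D)).commutes x).symm
  haveI := away_tensor (R := R) (D := D) (K := K) s
  have hm : (mapA (R := R) (C := C ⊗[R] K) (D := D ⊗[R] K)) =
      Polynomial.mapAlgHom (tmap (K := K) (IsScalarTower.toAlgHom R C D)) :=
    alg_ext (fun c => by simp [RingHom.algebraMap_toAlgebra]) (by simp)
  obtain ⟨M, hM⟩ := exists_eq_scale (D := D ⊗[R] K) (s ⊗ₜ[R] (1 : K)) (polyIso C K ≫ h)
    (polyIso C K ≫ h')
    (by rw [hm, ← Category.assoc, ← Category.assoc, polyIso_map, Category.assoc, Category.assoc,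
      hD])
    (by rw [← Category.assoc, ← Category.assoc, polyIso_eval, Category.assoc, Category.assoc, h0])
  refine ⟨M, ?_⟩
  rw [Algebra.TensorProduct.tmul_pow, _root_.one_pow, ← Category.assoc, ← Category.assoc,
    polyIso_scale, Category.assoc, Category.assoc, cancel_epi] at hM
  exact hM

end Groth.L09.Quillen
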