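import Groth.Agent.L09.QuillenTensor
import Groth.Agent.L09.TorsorPts

/-!
# Lifting for automorphisms of torsors
-/

universe u

open CategoryTheory CategoryTheory.Limits MonoidalCategory CartesianMonoidalCategory
  AlgebraicGeometry Polynomial MonObj TensorProduct

namespace Groth.L09.Quillen

open Groth.L09.Patch Groth.L09.TorsorPts

set_option backward.isDefEq.respectTransparency.types false

variable {R : Type u} [CommRing R] {K : Type u} [CommRing K] [Algebra R K]
variable {G P : Over (Spec (CommRingCat.of R))} [GrpObj G]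

/-- Automorphisms of the torsor, as a functor of algebras. -/
noncomputable def autFun (aP : AlgGrp.Action G P) (s : spO R K ⟶ P) : PtFun R where
  obj C _ _ := ↥(H aP s (spO R C))
  grp C _ _ := inferInstance
  map f d := ⟨(pm f ▷ spO R K) ≫ d.1, comp_mem_H aP s (pm f) d.2⟩
  map_mul f x y := Subtype.ext (MonObj.comp_mul _ _ _)
  map_id x := Subtype.ext (by
    show (pm (AlgHom.id R _) ▷ spO R K) ≫ x.1 = x.1
    rw [pm_id, id_whiskerRight, Category.id_comp])
  map_comp f g x := Subtype.ext (by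
    show (pm (g.comp f) ▷ spO R K) ≫ x.1 = (pm g ▷ spO R K) ≫ (pm f ▷ spO R K) ≫ x.1
    rw [← Category.assoc, ← comp_whiskerRight, pm_comp])

lemma autFun_map {aP : AlgGrp.Action G P} {s : spO R K ⟶ P} {C D : Type u} [CommRing C]
    [CommRing D] [Algebra R C] [Algebra R D] (f : C →ₐ[R] D) (d : (autFun aP s).obj C) :
    ((autFun aP s).map f d).1 = (pm f ▷ spO R K) ≫ d.1 := rfl

/-- Automorphisms of torsors lift. -/
theorem hasLift_autFun [LocallyOfFinitePresentation G.hom] (aP : AlgGrp.Action G P)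
    (hP : RelPseudo aP (toUnit P)) (s : spO R K ⟶ P) : (autFun aP s).HasLift := by
  intro C D _ _ _ _ _ _ σ _ h hh
  let W := spO R K
  have hh0 : (pm (evalA (R := R) D) ▷ W) ≫ h.1 = 1 := congrArg Subtype.val hh
  obtain ⟨N, g, hg⟩ := exists_lift_tensor σ G h.1 hh0
  let hN : spO R D[X] ⊗ W ⟶ G := (pm (scaleA (R := R) (algebraMap C D σ ^ N)) ▷ W) ≫ h.1
  have hN0 : (pm (evalA (R := R) D) ▷ W) ≫ hN = 1 := by
    have : pm (evalA (R := R) D) ≫ pm (scaleA (R := R) (algebraMap C D σ ^ N)) =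
        pm (evalA (R := R) D) := by
      rw [pm_comp]
      congr 1
      exact alg_ext (fun c => by simp [scaleA]) (by simp [scaleA])
    simp only [hN]
    rw [← Category.assoc, ← comp_whiskerRight, this, hh0]
  let g' : spO R C[X] ⊗ W ⟶ G :=
    g * ((pm (constA (R := R) C) ▷ W) ≫ (pm (evalA (R := R) C) ▷ W) ≫ g)⁻¹
  have hg'D : (pm (mapA (R := R) (C := C) (D := D)) ▷ W) ≫ g' = hN := by
    have e : pm (mapA (R := R) (C := C) (D := D)) ≫ pm (constA (R := R) C) ≫
        pm (evalA (R := R) C) = pm (constA (R := R) D) ≫ pm (evalA (R := R) D) ≫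
          pm (mapA (R := R) (C := C) (D := D)) := by
      simp only [pm_comp]
      congr 1
      exact alg_ext (fun c => by simp) (by simp)
    simp only [g', MonObj.comp_mul, GrpObj.comp_inv]
    rw [hg]
    simp only [← Category.assoc, ← comp_whiskerRight]
    rw [Category.assoc, e]
    simp only [comp_whiskerRight, Category.assoc]
    rw [hg, show (pm (scaleA (R := R) (algebraMap C D σ ^ N)) ▷ W) ≫ h.1 = hN from rfl, hN0,
      MonObj.comp_one, inv_one, _root_.mul_one]
  have hg'0 : (pm (evalA (R := R) C) ▷ W) ≫ g' = 1 := by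
    have e : pm (evalA (R := R) C) ≫ pm (constA (R := R) C) = 𝟙 _ := by
      rw [pm_comp, ← pm_id]
      congr 1
      exact AlgHom.ext fun c => by simp
    simp only [g', MonObj.comp_mul, GrpObj.comp_inv]
    rw [← Category.assoc (pm (evalA (R := R) C) ▷ W), ← comp_whiskerRight, e, id_whiskerRight,
      Category.id_comp, mul_inv_cancel]
  let U := spO R (K ⊗[R] K)
  let p₁ : U ⟶ W := specTensor K K ≫ fst _ _
  let p₂ : U ⟶ W := specTensor K K ≫ snd _ _
  let cU : U ⟶ G := hP.div (p₂ ≫ s) (p₁ ≫ s) (toUnit_unique _ _)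
  let Lh := (lift (fst (spO R C[X]) U) (snd _ U ≫ p₂) ≫ g') * (snd _ U ≫ cU)
  let Rh := (snd _ U ≫ cU) * (lift (fst (spO R C[X]) U) (snd _ U ≫ p₁) ≫ g')
  have hcU : ∀ {Z : Over (Spec (CommRingCat.of R))} (k : Z ⟶ U),
      sm aP (k ≫ cU) ((k ≫ p₁) ≫ s) = (k ≫ p₂) ≫ s := fun k => by
    have := congrArg (k ≫ ·) (hP.sm_div (p₂ ≫ s) (p₁ ≫ s) (toUnit_unique _ _))
    rw [comp_sm, ← Category.assoc, ← Category.assoc] at this
    exact this
  have hD : (pm (mapA (R := R) (C := C) (D := D)) ▷ U) ≫ Lh =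
      (pm (mapA (R := R) (C := C) (D := D)) ▷ U) ≫ Rh := by
    have hw : ∀ q : U ⟶ W, (pm (mapA (R := R) (C := C) (D := D)) ▷ U) ≫
        lift (fst (spO R C[X]) U) (snd _ U ≫ q) ≫ g' =
          lift (fst (spO R D[X]) U) (snd _ U ≫ q) ≫ hN := by
      intro q
      rw [← hg'D, comp_lift_assoc, lift_whiskerRight_assoc, whiskerRight_fst,
        whiskerRight_snd_assoc]
    simp only [Lh, Rh, MonObj.comp_mul, hw, whiskerRight_snd_assoc]
    exact comp_mem_H aP s (pm (scaleA (R := R) (algebraMap C D σ ^ N))) h.2 _ _ _ _ _ (hcU _)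
  have h0 : (pm (evalA (R := R) C) ▷ U) ≫ Lh = (pm (evalA (R := R) C) ▷ U) ≫ Rh := by
    have hw : ∀ q : U ⟶ W, (pm (evalA (R := R) C) ▷ U) ≫
        lift (fst (spO R C[X]) U) (snd _ U ≫ q) ≫ g' = 1 := by
      intro q
      rw [comp_lift_assoc, whiskerRight_fst, whiskerRight_snd_assoc, ← lift_whiskerRight_assoc,
        hg'0, MonObj.comp_one]
    simp only [Lh, Rh, MonObj.comp_mul, hw, _root_.mul_one, _root_.one_mul]
  obtain ⟨M, hM⟩ := exists_eq_scale_tensor (D := D) σ G Lh Rh hD h0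
  refine ⟨N + M, ⟨(pm (scaleA (R := R) (σ ^ M)) ▷ W) ≫ g', ?_⟩, Subtype.ext ?_⟩
  · intro Z t w₁ w₂ c hc
    let k₂ : Z ⟶ U := lift w₁ w₂ ≫ inv (specTensor K K)
    have e₁ : k₂ ≫ p₁ = w₁ := by
      simp only [k₂, p₁, Category.assoc, IsIso.inv_hom_id_assoc]; exact lift_fst _ _
    have e₂ : k₂ ≫ p₂ = w₂ := by
      simp only [k₂, p₂, Category.assoc, IsIso.inv_hom_id_assoc]; exact lift_snd _ _
    have ec : k₂ ≫ cU = c := by
      apply hP.cancel (y := w₁ ≫ s)
      rw [hc]
      have := hcU k₂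
      rwa [e₁, e₂] at this
    let t' := t ≫ pm (scaleA (R := R) (σ ^ M))
    have hk : lift t k₂ ≫ (pm (scaleA (R := R) (σ ^ M)) ▷ U) = lift t' k₂ := lift_whiskerRight _ _ _
    have := congrArg (lift t k₂ ≫ ·) hM
    replace this : lift t' k₂ ≫ Lh = lift t' k₂ ≫ Rh := by
      rw [← hk, Category.assoc, Category.assoc]; exact this
    have a : ∀ (q : U ⟶ W), lift t' k₂ ≫ lift (fst (spO R C[X]) U) (snd _ U ≫ q) ≫ g' =
        lift t' (k₂ ≫ q) ≫ g' := fun q => by
      rw [comp_lift_assoc, lift_fst, lift_snd_assoc]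
    simp only [Lh, Rh, MonObj.comp_mul, a, e₁, e₂, lift_snd_assoc, ec] at this
    have hwk : ∀ w : Z ⟶ W, lift t w ≫ (pm (scaleA (R := R) (σ ^ M)) ▷ W) ≫ g' = lift t' w ≫ g' :=
      fun w => by rw [← Category.assoc]; exact congrArg (· ≫ g') (lift_whiskerRight _ _ _)
    rw [hwk, hwk]; exact this
  · show (pm (mapA (R := R) (C := C) (D := D)) ▷ W) ≫ (pm (scaleA (R := R) (σ ^ M)) ▷ W) ≫ g' =
      (pm (scaleA (R := R) (algebraMap C D σ ^ (N + M))) ▷ W) ≫ h.1
    have e : pm (mapA (R := R) (C := C) (D := D)) ≫ pm (scaleA (R := R) (σ ^ M)) =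
        pm (scaleA (R := R) (algebraMap C D σ ^ M)) ≫ pm (mapA (R := R) (C := C) (D := D)) := by
      simp only [pm_comp]
      congr 1
      exact alg_ext (fun c => by simp [scaleA]) (by simp [scaleA])
    rw [← Category.assoc, ← comp_whiskerRight, e, comp_whiskerRight, Category.assoc, hg'D]
    simp only [hN]
    rw [← Category.assoc, ← comp_whiskerRight, pm_comp]
    congr 3
    exact alg_ext (fun c => by simp [scaleA]) (by simp [scaleA, pow_add]; ring)

end Groth.L09.Quillen
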