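import Groth.Prelude.Def_W4c2azumayainvolQEt
import Mathlib.RingTheory.Jacobson.Ideal
import Mathlib.RingTheory.IntegralClosure.IsIntegralClosure.Basic
import Mathlib.RingTheory.Ideal.GoingUp
import Mathlib.RingTheory.Polynomial.Basic
import Mathlib.RingTheory.LocalRing.MaximalIdeal.Basic

/-!
Commutative rings with involution over a local fixed ring.
-/

set_option autoImplicit false
universe u v

open Polynomial

namespace Groth.L09.RInvBasic

variable {B : Type u} {A : Type v} [CommRing B] [CommRing A] [Algebra B A] {lam : A ≃+* A}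
  (hlam : Function.Involutive lam) (hB : RInv.IsFixedRing B A lam)

include hB in
lemma lam_algebraMap (b : B) : lam (algebraMap B A b) = algebraMap B A b :=
  (hB.2 _).2 ⟨b, rfl⟩

include hlam hB in
lemma exists_norm (a : A) : ∃ b : B, algebraMap B A b = a * lam a :=
  (hB.2 _).1 (by rw [map_mul, hlam a, mul_comm])

include hlam hB in
lemma exists_trace (a : A) : ∃ b : B, algebraMap B A b = a + lam a :=
  (hB.2 _).1 (by rw [map_add, hlam a, add_comm])

include hlam hB in
lemma isIntegral : Algebra.IsIntegral B A := by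
  refine ⟨fun a => ?_⟩
  obtain ⟨s, hs⟩ := exists_trace hlam hB a
  obtain ⟨t, ht⟩ := exists_norm hlam hB a
  refine ⟨X ^ 2 - C s * X + C t, by monicity!, ?_⟩
  simp only [eval₂_add, eval₂_sub, eval₂_mul, eval₂_X_pow, eval₂_C, eval₂_X, hs, ht]
  ring

include hB in
lemma isUnit_of_map {b : B} (h : IsUnit (algebraMap B A b)) : IsUnit b := by
  obtain ⟨u, hu⟩ := h
  have hfix : lam ↑u⁻¹ = (↑u⁻¹ : A) := by
    have h1 : (↑u : A) * lam ↑u⁻¹ = 1 := by
      have h2 := congrArg lam u.mul_inv
      rw [map_mul, map_one, hu, lam_algebraMap hB] at h2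
      rw [hu]; exact h2
    exact (Units.eq_inv_of_mul_eq_one_left h1 : _)
  obtain ⟨c, hc⟩ := (hB.2 _).1 hfix
  exact IsUnit.of_mul_eq_one c (hB.1 (by rw [map_mul, hc, map_one, ← hu, u.mul_inv]))

/-- the conjugate of a maximal ideal. -/
abbrev conj (lam : A ≃+* A) (M : Ideal A) : Ideal A := M.comap (lam : A →+* A)

lemma mem_conj {M : Ideal A} {a : A} : a ∈ conj lam M ↔ lam a ∈ M := Iff.rfl

instance conj_isMaximal (M : Ideal A) [M.IsMaximal] : (conj lam M).IsMaximal :=
  Ideal.comap_isMaximal_of_surjective _ lam.surjective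

include hlam in
lemma conj_conj (M : Ideal A) : conj lam (conj lam M) = M := by
  ext a
  simp [mem_conj, hlam a]

include hlam hB in
lemma comap_eq [IsLocalRing B] (M : Ideal A) [M.IsMaximal] :
    M.comap (algebraMap B A) = IsLocalRing.maximalIdeal B := by
  haveI := isIntegral hlam hB
  exact IsLocalRing.eq_maximalIdeal (Ideal.isMaximal_comap_of_isIntegral_of_isMaximal M)

include hlam hB in
lemma algebraMap_mem_iff [IsLocalRing B] (M : Ideal A) [M.IsMaximal] (b : B) :
    algebraMap B A b ∈ M ↔ b ∈ IsLocalRing.maximalIdeal B := by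
  rw [← comap_eq hlam hB M, Ideal.mem_comap]

include hlam hB in
lemma maximal_eq [IsLocalRing B] (M M' : Ideal A) [M.IsMaximal] [M'.IsMaximal] :
    M' = M ∨ M' = conj lam M := by
  by_contra h
  push Not at h
  have hsub : ¬ (M' : Set A) ⊆ (M : Set A) ∪ (conj lam M : Set A) := fun hs => by
    rcases (Ideal.subset_union).1 hs with h1 | h1
    · exact h.1 (Ideal.IsMaximal.eq_of_le inferInstance (Ideal.IsMaximal.ne_top inferInstance) h1)
    · exact h.2 (Ideal.IsMaximal.eq_of_le inferInstance (Ideal.IsMaximal.ne_top inferInstance) h1)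
  obtain ⟨x, hx, hx'⟩ := Set.not_subset.1 hsub
  simp only [Set.mem_union, SetLike.mem_coe, not_or] at hx'
  obtain ⟨b, hb⟩ := exists_norm hlam hB x
  have h1 : algebraMap B A b ∈ M' := hb ▸ M'.mul_mem_right _ hx
  rw [algebraMap_mem_iff hlam hB M' b, ← algebraMap_mem_iff hlam hB M b, hb] at h1
  rcases (Ideal.IsMaximal.isPrime (I := M) inferInstance).mem_or_mem h1 with h2 | h2
  · exact hx'.1 h2
  · exact hx'.2 h2

include hlam hB in
lemma isUnit_iff [IsLocalRing B] (M : Ideal A) [M.IsMaximal] (a : A) :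
    IsUnit a ↔ a ∉ M ∧ lam a ∉ M := by
  constructor
  · intro h
    exact ⟨fun ha => Ideal.IsMaximal.ne_top inferInstance (Ideal.eq_top_of_isUnit_mem M ha h),
      fun ha => Ideal.IsMaximal.ne_top inferInstance (Ideal.eq_top_of_isUnit_mem M ha (h.map lam))⟩
  · intro h
    by_contra hu
    obtain ⟨M', hM', ha⟩ := exists_max_ideal_of_mem_nonunits hu
    rcases maximal_eq hlam hB M M' with rfl | rfl
    · exact h.1 ha
    · exact h.2 ha

include hlam hB in
lemma mem_jacobson_iff [IsLocalRing B] (M : Ideal A) [M.IsMaximal] (a : A) :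
    a ∈ Ring.jacobson A ↔ a ∈ M ∧ lam a ∈ M := by
  rw [← Ideal.jacobson_bot, Ideal.jacobson, Ideal.mem_sInf]
  constructor
  · intro h
    exact ⟨h ⟨bot_le, inferInstance⟩, h (I := conj lam M) ⟨bot_le, inferInstance⟩⟩
  · rintro h I ⟨-, hI⟩
    rcases maximal_eq hlam hB M I with rfl | rfl
    · exact h.1
    · exact h.2

lemma exists_maximal_not_mem {a : A} (h : a ∉ Ring.jacobson A) :
    ∃ M : Ideal A, M.IsMaximal ∧ a ∉ M := by
  by_contra h'
  push Not at h'
  rw [← Ideal.jacobson_bot, Ideal.jacobson, Ideal.mem_sInf] at h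
  exact h fun {I} hI => h' I hI.2

include hlam in
lemma lam_mem_jacobson {a : A} (h : a ∈ Ring.jacobson A) : lam a ∈ Ring.jacobson A := by
  rw [← Ideal.jacobson_bot, Ideal.jacobson, Ideal.mem_sInf] at h ⊢
  intro I hI
  haveI := hI.2
  exact h (I := conj lam I) ⟨bot_le, inferInstance⟩

end Groth.L09.RInvBasic
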