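import Groth.Agent.L09.RInvEtale
import Mathlib.RingTheory.Flat.Basic
import Mathlib.RingTheory.Flat.Localization
import Mathlib.RingTheory.Localization.AtPrime.Basic
import Mathlib.RingTheory.Spectrum.Prime.Topology
import Mathlib.RingTheory.TensorProduct.Maps

/-!
Fixed rings after base change; the branch locus of an involution.
-/

set_option autoImplicit false
universe u v w

open TensorProduct

namespace Groth.L09.RInvBranch
open Groth.L09.RInvBasic

section BC
variable {S : Type u} {R : Type v} [CommRing S] [CommRing R] [Algebra S R]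
  (S' : Type w) [CommRing S'] [Algebra S S']

/-- base change of the involution. -/
noncomputable abbrev lamT (lam : R ≃ₐ[S] R) : (S' ⊗[S] R) ≃+* (S' ⊗[S] R) :=
  (Algebra.TensorProduct.congr (AlgEquiv.refl : S' ≃ₐ[S'] S') lam).toRingEquiv

lemma lamT_tmul (lam : R ≃ₐ[S] R) (s : S') (r : R) : lamT S' lam (s ⊗ₜ r) = s ⊗ₜ lam r := by
  simp [lamT]

variable {lam : R ≃ₐ[S] R} (hlam : Function.Involutive lam) (hS : RInv.IsFixedRing S R lam.toRingEquiv)

include hlam in
lemma lamT_involutive : Function.Involutive (lamT S' lam) := by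
  intro z
  induction z using TensorProduct.induction_on with
  | zero => simp
  | tmul s r => rw [lamT_tmul, lamT_tmul, hlam r]
  | add x y hx hy => rw [map_add, map_add, hx, hy]

include hlam hS in
lemma isFixedRing_baseChange (h : Module.Flat S S' ∨ IsUnit (2 : S)) :
    RInv.IsFixedRing S' (S' ⊗[S] R) (lamT S' lam) := by
  have halg : ∀ a : S', algebraMap S' (S' ⊗[S] R) a = (Algebra.linearMap S R).lTensor S' (a ⊗ₜ (1 : S)) := fun a => by
    simp [Algebra.TensorProduct.algebraMap_apply]
  have hfix : ∀ a : S', lamT S' lam (algebraMap S' (S' ⊗[S] R) a) = algebraMap S' (S' ⊗[S] R) a := fun a => by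
    simp [Algebra.TensorProduct.algebraMap_apply, lamT_tmul]
  have hrid : Function.Injective (fun a : S' => a ⊗ₜ[S] (1 : S)) :=
    (TensorProduct.rid S S').symm.injective
  let d : R →ₗ[S] R := lam.toLinearMap - LinearMap.id
  have hd : ∀ z, d.lTensor S' z = lamT S' lam z - z := fun z => by
    induction z using TensorProduct.induction_on with
    | zero => simp
    | tmul s r => simp [d, lamT_tmul, TensorProduct.tmul_sub]
    | add x y hx hy => rw [map_add, map_add, hx, hy]; abel
  rcases h with hflat | h2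
  · refine ⟨fun a b hab => hrid ?_, fun z => ⟨fun hz => ?_, ?_⟩⟩
    · rw [halg, halg] at hab
      exact Module.Flat.lTensor_preserves_injective_linearMap (Algebra.linearMap S R) hS.1 hab
    · have hex : Function.Exact (Algebra.linearMap S R) d := fun r => by
        simp only [d, LinearMap.sub_apply, LinearMap.id_apply, sub_eq_zero]
        exact hS.2 r
      obtain ⟨w, hw⟩ := (Module.Flat.lTensor_exact S' hex z).1 (by rw [hd, hz, sub_self])
      obtain ⟨a, rfl⟩ := (TensorProduct.rid S S').symm.surjective w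
      exact ⟨a, by rw [halg]; exact hw⟩
    · rintro ⟨a, rfl⟩; exact hfix a
  · obtain ⟨u, hu⟩ := h2
    let inv2 : R →ₗ[S] R := (↑u⁻¹ : S) • (lam.toLinearMap + LinearMap.id)
    have hmem : ∀ r, inv2 r ∈ LinearMap.range (Algebra.linearMap S R) := fun r => by
      refine (hS.2 _).1 ?_
      show lam (inv2 r) = inv2 r
      simp [inv2, hlam r, add_comm]
    let eS : S ≃ₗ[S] LinearMap.range (Algebra.linearMap S R) := LinearEquiv.ofInjective _ hS.1
    let proj : R →ₗ[S] S := eS.symm.toLinearMap ∘ₗ inv2.codRestrict _ hmem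
    have hproj : ∀ r, algebraMap S R (proj r) = inv2 r := fun r => by
      have := congrArg Subtype.val (eS.apply_symm_apply ⟨inv2 r, hmem r⟩)
      exact this
    have h2R : ∀ r : R, (↑u⁻¹ : S) • (r + r) = r := fun r => by
      rw [← two_smul S r, smul_smul, ← hu, Units.inv_mul, one_smul]
    have hret : proj ∘ₗ Algebra.linearMap S R = LinearMap.id := by
      ext
      apply hS.1
      simp only [LinearMap.comp_apply, hproj, LinearMap.id_apply]
      simp only [inv2, Algebra.linearMap_apply, map_one, LinearMap.smul_apply, LinearMap.add_apply,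
        AlgEquiv.toLinearMap_apply, LinearMap.id_apply]
      exact h2R 1
    have hinv2 : ∀ z, ((Algebra.linearMap S R) ∘ₗ proj).lTensor S' z = (↑u⁻¹ : S) • (lamT S' lam z + z) := fun z => by
      induction z using TensorProduct.induction_on with
      | zero => simp
      | tmul s r =>
        rw [LinearMap.lTensor_tmul, LinearMap.comp_apply, Algebra.linearMap_apply, hproj, lamT_tmul]
        simp [inv2, TensorProduct.tmul_add, TensorProduct.tmul_smul]
      | add x y hx hy => rw [map_add, map_add, hx, hy]; simp only [smul_add]; abel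
    refine ⟨fun a b hab => hrid ?_, fun z => ⟨fun hz => ?_, ?_⟩⟩
    · have h3 := congrArg (proj.lTensor S') hab
      rwa [halg, halg, ← LinearMap.lTensor_comp_apply, ← LinearMap.lTensor_comp_apply, hret,
        LinearMap.lTensor_id, LinearMap.id_apply, LinearMap.id_apply] at h3
    · obtain ⟨a, ha⟩ := (TensorProduct.rid S S').symm.surjective (proj.lTensor S' z)
      refine ⟨a, ?_⟩
      have h3 := hinv2 z
      rw [LinearMap.lTensor_comp_apply, hz, ← two_smul S z, smul_smul, ← hu, Units.inv_mul, one_smul, ← ha] at h3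
      rw [halg]
      exact h3
    · rintro ⟨a, rfl⟩; exact hfix a

end BC

section Branch
variable {S : Type u} {R : Type v} [CommRing S] [CommRing R] [Algebra S R] {lam : R ≃+* R}
  (hlam : Function.Involutive lam) (hS : RInv.IsFixedRing S R lam)

/-- the involution as an algebra automorphism. -/
def lamA : R ≃ₐ[S] R := AlgEquiv.ofRingEquiv (f := lam) (lam_algebraMap hS)

lemma lamA_apply (r : R) : lamA hS r = lam r := rfl

include hlam hS in
lemma fixed_bc (S' : Type w) [CommRing S'] [Algebra S S'] [Module.Flat S S'] :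
    Function.Involutive (lamT S' (lamA hS)) ∧ RInv.IsFixedRing S' (S' ⊗[S] R) (lamT S' (lamA hS)) :=
  ⟨lamT_involutive S' (lam := lamA hS) hlam,
    isFixedRing_baseChange S' (lam := lamA hS) hlam hS (Or.inl inferInstance)⟩

include hlam hS in
lemma exists_discr (r : R) : ∃ a : S, algebraMap S R a = (r - lam r) * (r - lam r) :=
  (hS.2 _).1 (by simp only [map_mul, map_sub, hlam r]; ring)

include hlam hS in
lemma isQuadEtale_localization_iff (p : PrimeSpectrum S) :
    RInv.IsQuadEtale (Localization.AtPrime p.asIdeal) (Localization.AtPrime p.asIdeal ⊗[S] R) ↔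
      ∃ (r : R) (a : S), algebraMap S R a = (r - lam r) * (r - lam r) ∧ a ∉ p.asIdeal := by
  obtain ⟨hl', hS'⟩ := fixed_bc hlam hS (Localization.AtPrime p.asIdeal)
  have hmap : ∀ a : S, algebraMap (Localization.AtPrime p.asIdeal) (Localization.AtPrime p.asIdeal ⊗[S] R)
      (algebraMap S _ a) = 1 ⊗ₜ algebraMap S R a := fun a => by
    rw [Algebra.TensorProduct.algebraMap_apply, Algebra.algebraMap_eq_smul_one (A := Localization.AtPrime p.asIdeal) a,
      Algebra.algebraMap_eq_smul_one (A := R) a, ← TensorProduct.smul_tmul]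
    rfl
  constructor
  · intro hq
    obtain ⟨x, hx⟩ := Groth.L09.RInvEtale.exists_isUnit_sub_of_isQuadEtale hl' hS' hq
    -- clear denominators
    have hrep : ∀ z : Localization.AtPrime p.asIdeal ⊗[S] R, ∃ (s : p.asIdeal.primeCompl) (r : R),
        (s : S) • z = 1 ⊗ₜ r := fun z => by
      induction z using TensorProduct.induction_on with
      | zero => exact ⟨1, 0, by simp⟩
      | tmul c r =>
        obtain ⟨a, s, rfl⟩ := IsLocalization.exists_mk'_eq p.asIdeal.primeCompl c
        refine ⟨s, a • r, ?_⟩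
        rw [TensorProduct.smul_tmul', Algebra.smul_def, mul_comm, IsLocalization.mk'_spec,
          ← TensorProduct.smul_tmul, ← Algebra.algebraMap_eq_smul_one]
      | add z z' hz hz' =>
        obtain ⟨s, r, h⟩ := hz
        obtain ⟨s', r', h'⟩ := hz'
        refine ⟨s * s', (s' : S) • r + (s : S) • r', ?_⟩
        rw [Submonoid.coe_mul, smul_add, mul_comm, mul_smul, h, mul_comm, mul_smul, h',
          TensorProduct.tmul_add, TensorProduct.tmul_smul, TensorProduct.tmul_smul]
    obtain ⟨s, r, hr⟩ := hrep x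
    obtain ⟨a, ha⟩ := exists_discr hlam hS r
    refine ⟨r, a, ha, ?_⟩
    have hsu : IsUnit (algebraMap S (Localization.AtPrime p.asIdeal) (s : S)) := IsLocalization.map_units _ s
    have h1 : IsUnit ((1 : Localization.AtPrime p.asIdeal) ⊗ₜ[S] (r - lam r)) := by
      have e : (1 : Localization.AtPrime p.asIdeal) ⊗ₜ[S] (r - lam r) =
          algebraMap (Localization.AtPrime p.asIdeal) (Localization.AtPrime p.asIdeal ⊗[S] R)
            (algebraMap S _ (s : S)) * (x - lamT _ (lamA hS) x) := by
        rw [TensorProduct.tmul_sub, mul_sub, ← Algebra.smul_def, algebraMap_smul, hr]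
        have e2 := congrArg (lamT _ (lamA hS)) hr
        rw [← algebraMap_smul (Localization.AtPrime p.asIdeal) (s : S) x, Algebra.smul_def, map_mul,
          lam_algebraMap hS', lamT_tmul, lamA_apply] at e2
        rw [← e2]
      rw [e]
      exact (hsu.map _).mul hx
    intro hap
    have h2 := isUnit_of_map hS' (show IsUnit (algebraMap (Localization.AtPrime p.asIdeal)
      (Localization.AtPrime p.asIdeal ⊗[S] R) (algebraMap S _ a)) by
        rw [hmap, ha, show (1 : Localization.AtPrime p.asIdeal) ⊗ₜ[S] ((r - lam r) * (r - lam r)) =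
          ((1 : Localization.AtPrime p.asIdeal) ⊗ₜ[S] (r - lam r)) * (1 ⊗ₜ (r - lam r)) by simp]
        exact h1.mul h1)
    exact (IsLocalization.AtPrime.isUnit_to_map_iff _ p.asIdeal a).1 h2 hap
  · rintro ⟨r, a, ha, hap⟩
    refine Groth.L09.RInvEtale.isQuadEtale_of_isUnit hl' hS' (r := 1 ⊗ₜ r) ?_
    rw [lamT_tmul, lamA_apply, ← TensorProduct.tmul_sub]
    refine isUnit_of_mul_isUnit_left (y := 1 ⊗ₜ (r - lam r)) ?_
    rw [Algebra.TensorProduct.tmul_mul_tmul, one_mul, ← ha, ← hmap]
    exact ((IsLocalization.AtPrime.isUnit_to_map_iff _ p.asIdeal a).2 hap).map _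

include hlam hS in
lemma exists_away (p : PrimeSpectrum S)
    (hp : RInv.IsQuadEtale (Localization.AtPrime p.asIdeal) (Localization.AtPrime p.asIdeal ⊗[S] R)) :
    ∃ s : S, s ∉ p.asIdeal ∧ RInv.IsQuadEtale (Localization.Away s) (Localization.Away s ⊗[S] R) := by
  obtain ⟨r, a, ha, hap⟩ := (isQuadEtale_localization_iff hlam hS p).1 hp
  refine ⟨a, hap, ?_⟩
  haveI : Module.Flat S (Localization.Away a) := IsLocalization.flat (Localization.Away a) (Submonoid.powers a)
  obtain ⟨hl', hS'⟩ := fixed_bc hlam hS (Localization.Away a)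
  refine Groth.L09.RInvEtale.isQuadEtale_of_isUnit hl' hS' (r := 1 ⊗ₜ r) ?_
  rw [lamT_tmul, lamA_apply, ← TensorProduct.tmul_sub]
  refine isUnit_of_mul_isUnit_left (y := 1 ⊗ₜ (r - lam r)) ?_
  rw [Algebra.TensorProduct.tmul_mul_tmul, one_mul, ← ha, Algebra.algebraMap_eq_smul_one,
    ← TensorProduct.smul_tmul, ← Algebra.algebraMap_eq_smul_one]
  exact (IsLocalization.Away.algebraMap_isUnit a).map
    (algebraMap (Localization.Away a) (Localization.Away a ⊗[S] R))

include hlam hS in
lemma eq_of_forall_mem {q q' : Ideal R} [q.IsPrime] [q'.IsPrime]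
    (h : q.comap (algebraMap S R) = q'.comap (algebraMap S R))
    (hq : ∀ r, lam r - r ∈ q) (hq' : ∀ r, lam r - r ∈ q') : q = q' := by
  have key : ∀ {P P' : Ideal R} [P'.IsPrime], P.comap (algebraMap S R) = P'.comap (algebraMap S R) →
      (∀ r, lam r - r ∈ P') → P ≤ P' := by
    intro P P' _ hPP hP' x hx
    obtain ⟨n, hn⟩ := exists_norm hlam hS x
    have h1 : n ∈ P'.comap (algebraMap S R) := by
      rw [← hPP, Ideal.mem_comap, hn]; exact P.mul_mem_right _ hx
    rw [Ideal.mem_comap, hn] at h1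
    exact (Ideal.IsPrime.mem_or_mem ‹_› h1).elim id fun h2 => by simpa using P'.sub_mem h2 (hP' x)
  exact le_antisymm (key h hq') (key h.symm hq)

include hlam hS in
lemma not_isQuadEtale_iff (p : PrimeSpectrum S) :
    ¬ RInv.IsQuadEtale (Localization.AtPrime p.asIdeal) (Localization.AtPrime p.asIdeal ⊗[S] R) ↔
      ∃ q : PrimeSpectrum R, q.asIdeal.comap (algebraMap S R) = p.asIdeal ∧
        (∀ q' : PrimeSpectrum R, q'.asIdeal.comap (algebraMap S R) = p.asIdeal → q' = q) ∧
        ∀ r : R, lam r - r ∈ q.asIdeal := by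
  rw [isQuadEtale_localization_iff hlam hS p]
  constructor
  · intro h
    push Not at h
    have hall : ∀ q : PrimeSpectrum R, q.asIdeal.comap (algebraMap S R) = p.asIdeal →
        ∀ r, lam r - r ∈ q.asIdeal := fun q hq r => by
      obtain ⟨a, ha⟩ := exists_discr hlam hS r
      have h1 : a ∈ q.asIdeal.comap (algebraMap S R) := hq ▸ h r a ha
      rw [Ideal.mem_comap, ha] at h1
      rw [← neg_mem_iff, neg_sub]
      exact (q.isPrime.mem_or_mem h1).elim id id
    haveI := isIntegral hlam hS
    obtain ⟨Q, -, hQ, hQp⟩ := Ideal.exists_ideal_over_prime_of_isIntegral p.asIdeal (⊥ : Ideal R)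
      (by rw [← RingHom.ker_eq_comap_bot, (RingHom.injective_iff_ker_eq_bot _).1 hS.1]; exact bot_le)
    refine ⟨⟨Q, hQ⟩, hQp, fun q' hq' => ?_, hall ⟨Q, hQ⟩ hQp⟩
    exact PrimeSpectrum.ext (eq_of_forall_mem hlam hS (hq'.trans hQp.symm) (hall q' hq') (hall ⟨Q, hQ⟩ hQp))
  · rintro ⟨q, hqp, -, hq⟩ ⟨r, a, ha, hap⟩
    refine hap ?_
    rw [← hqp, Ideal.mem_comap, ha]
    exact q.asIdeal.mul_mem_left _ (by rw [← neg_mem_iff, neg_sub]; exact hq r)

include hlam hS in
lemma sub_mem_radical (W : Set (PrimeSpectrum S))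
    (hW : W = {p : PrimeSpectrum S | ¬ RInv.IsQuadEtale (Localization.AtPrime p.asIdeal) (Localization.AtPrime p.asIdeal ⊗[S] R)})
    (r : R) : lam r - r ∈ ((PrimeSpectrum.vanishingIdeal W).map (algebraMap S R)).radical := by
  obtain ⟨a, ha⟩ := exists_discr hlam hS r
  refine ⟨2, ?_⟩
  rw [pow_two, show (lam r - r) * (lam r - r) = algebraMap S R a by rw [ha]; ring]
  refine Ideal.mem_map_of_mem _ ?_
  rw [PrimeSpectrum.mem_vanishingIdeal]
  intro p hp
  rw [hW, Set.mem_setOf_eq, isQuadEtale_localization_iff hlam hS p] at hp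
  by_contra hap
  exact hp ⟨r, a, ha, hap⟩

include hlam hS in
lemma homeomorph_and_bijective (W : Set (PrimeSpectrum S))
    (hW : W = {p : PrimeSpectrum S | ¬ RInv.IsQuadEtale (Localization.AtPrime p.asIdeal) (Localization.AtPrime p.asIdeal ⊗[S] R)})
    (J : Ideal R) (hJ : J = ((PrimeSpectrum.vanishingIdeal W).map (algebraMap S R)).radical)
    (hIJ : PrimeSpectrum.vanishingIdeal W ≤ J.comap (algebraMap S R)) :
    IsHomeomorph (PrimeSpectrum.comap (Ideal.quotientMap J (algebraMap S R) hIJ)) ∧
      (IsUnit (2 : S) → Function.Bijective (Ideal.quotientMap J (algebraMap S R) hIJ)) := by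
  haveI := isIntegral hlam hS
  have hsub : ∀ r, lam r - r ∈ J := hJ ▸ sub_mem_radical hlam hS W hW
  have hprime : ∀ P : Ideal S, P.IsPrime → PrimeSpectrum.vanishingIdeal W ≤ P →
      ∃ Q : Ideal R, Q.IsPrime ∧ J ≤ Q ∧ Q.comap (algebraMap S R) = P := by
    intro P hP hle
    haveI := hP
    obtain ⟨Q₀, -, hQ₀, hQ₀P⟩ := Ideal.exists_ideal_over_prime_of_isIntegral P (⊥ : Ideal R)
      (by rw [← RingHom.ker_eq_comap_bot, (RingHom.injective_iff_ker_eq_bot _).1 hS.1]; exact bot_le)
    refine ⟨Q₀, hQ₀, ?_, hQ₀P⟩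
    rw [hJ, hQ₀.radical_le_iff, Ideal.map_le_iff_le_comap, hQ₀P]
    exact hle
  have hcomap : J.comap (algebraMap S R) = PrimeSpectrum.vanishingIdeal W := by
    refine le_antisymm (fun s hs => ?_) hIJ
    rw [PrimeSpectrum.mem_vanishingIdeal]
    intro p hp
    obtain ⟨Q, -, hJQ, hQ⟩ := hprime p.asIdeal inferInstance
      (fun t ht => (PrimeSpectrum.mem_vanishingIdeal W t).1 ht p hp)
    rw [← hQ]
    exact hJQ hs
  set f := Ideal.quotientMap J (algebraMap S R) hIJ
  have hinj : Function.Injective f := Ideal.quotientMap_injective' hcomap.le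
  have hint : f.IsIntegral := by
    intro x
    obtain ⟨r, rfl⟩ := Ideal.Quotient.mk_surjective x
    obtain ⟨P, hPm, hP⟩ := Algebra.IsIntegral.isIntegral (R := S) r
    refine ⟨P.map (Ideal.Quotient.mk _), hPm.map _, ?_⟩
    rw [Polynomial.eval₂_map, Ideal.quotientMap_comp_mk, ← Polynomial.hom_eval₂, hP, map_zero]
  refine ⟨isHomeomorph_iff_continuous_isClosedMap_bijective.2 ⟨PrimeSpectrum.continuous_comap f,
    PrimeSpectrum.isClosedMap_comap_of_isIntegral f hint, ?_, ?_⟩, fun h2 => ⟨hinj, ?_⟩⟩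
  · intro q q' hqq
    have key : ∀ q : PrimeSpectrum (R ⧸ J), ∀ r, lam r - r ∈ q.asIdeal.comap (Ideal.Quotient.mk J) := fun q r => by
      rw [Ideal.mem_comap, Ideal.Quotient.eq_zero_iff_mem.2 (hsub r)]
      exact q.asIdeal.zero_mem
    have h1 : (q.asIdeal.comap (Ideal.Quotient.mk J)).comap (algebraMap S R) =
        (q'.asIdeal.comap (Ideal.Quotient.mk J)).comap (algebraMap S R) := by
      have h0 : q.asIdeal.comap f = q'.asIdeal.comap f := congrArg PrimeSpectrum.asIdeal hqq
      have h := congrArg (Ideal.comap (Ideal.Quotient.mk (PrimeSpectrum.vanishingIdeal W))) h0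
      rwa [Ideal.comap_comap, Ideal.comap_comap, Ideal.quotientMap_comp_mk, ← Ideal.comap_comap,
        ← Ideal.comap_comap] at h
    exact PrimeSpectrum.ext (Ideal.comap_injective_of_surjective _ Ideal.Quotient.mk_surjective
      (eq_of_forall_mem hlam hS h1 (key q) (key q')))
  · intro P
    obtain ⟨Q, hQ, hJQ, hQP⟩ := hprime (P.asIdeal.comap (Ideal.Quotient.mk _)) inferInstance
      (fun s hs => by rw [Ideal.mem_comap, Ideal.Quotient.eq_zero_iff_mem.2 hs]; exact P.asIdeal.zero_mem)
    haveI := hQ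
    have hQQ : (Q.map (Ideal.Quotient.mk J)).comap (Ideal.Quotient.mk J) = Q :=
      Ideal.comap_map_quotientMk J Q ▸ sup_eq_right.2 hJQ
    haveI : (Q.map (Ideal.Quotient.mk J)).IsPrime :=
      Ideal.map_isPrime_of_surjective Ideal.Quotient.mk_surjective (by rw [Ideal.mk_ker]; exact hJQ)
    refine ⟨⟨Q.map (Ideal.Quotient.mk J), inferInstance⟩, PrimeSpectrum.ext ?_⟩
    apply Ideal.comap_injective_of_surjective (Ideal.Quotient.mk _) Ideal.Quotient.mk_surjective
    rw [PrimeSpectrum.comap_asIdeal, Ideal.comap_comap, Ideal.quotientMap_comp_mk, ← Ideal.comap_comap]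
    rw [hQQ, hQP]
  · intro x
    obtain ⟨r, rfl⟩ := Ideal.Quotient.mk_surjective x
    obtain ⟨t, ht⟩ := exists_trace hlam hS r
    obtain ⟨u, hu⟩ := h2
    refine ⟨Ideal.Quotient.mk _ (↑u⁻¹ * t), ?_⟩
    rw [Ideal.quotientMap_mk, map_mul, ht, Ideal.Quotient.eq]
    have hc : algebraMap S R (↑u⁻¹ : S) * 2 = 1 := by
      rw [← map_ofNat (algebraMap S R) 2, ← map_mul, ← hu, Units.inv_mul, map_one]
    rw [show algebraMap S R (↑u⁻¹ : S) * (r + lam r) - r = algebraMap S R (↑u⁻¹ : S) * (lam r - r) by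
      linear_combination r * hc]
    exact J.mul_mem_left _ (hsub r)

end Branch

end Groth.L09.RInvBranch
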