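import Groth.Agent.L09.RInvBasic
import Mathlib.RingTheory.Unramified.Field
import Mathlib.RingTheory.Kaehler.Basic
import Mathlib.RingTheory.LocalRing.Module
import Mathlib.RingTheory.Spectrum.Prime.FreeLocus
import Mathlib.RingTheory.KrullDimension.Zero
import Mathlib.LinearAlgebra.Dimension.OrzechProperty
import Mathlib.RingTheory.HopkinsLevitzki

/-!
Quadratic etale algebras with involution over a local fixed ring.
-/

set_option autoImplicit false
universe u v

namespace Groth.L09.RInvEtale
open Groth.L09.RInvBasic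

variable {S : Type u} {R : Type v} [CommRing S] [CommRing R] [Algebra S R] {lam : R ≃+* R}
  (hlam : Function.Involutive lam) (hS : RInv.IsFixedRing S R lam)

include hlam hS in
lemma isQuadEtale_of_isUnit {r : R} (h : IsUnit (r - lam r)) : RInv.IsQuadEtale S R := by
  obtain ⟨w, hw⟩ := h
  have hneg : lam (r - lam r) = -(r - lam r) := by rw [map_sub, hlam r]; ring
  have hspan : ∀ x : R, ∃ a b : S, x = algebraMap S R a + algebraMap S R b * r := fun x => by
    let β : R := (x - lam x) * ↑w⁻¹
    have hβw : β * (r - lam r) = x - lam x := by rw [← hw]; simp [β, mul_assoc]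
    have hβ : lam β = β := by
      have h1 := congrArg lam hβw
      rw [map_mul, hneg, map_sub, hlam x] at h1
      have h2 : lam β * (↑w : R) = β * ↑w := by rw [hw]; linear_combination -h1 - hβw
      exact w.isUnit.mul_right_cancel h2
    obtain ⟨b, hb⟩ := (hS.2 β).1 hβ
    obtain ⟨a, ha⟩ := (hS.2 (x - β * r)).1 (by rw [map_sub, map_mul, hβ]; linear_combination hβw)
    exact ⟨a, b, by rw [ha, hb]; ring⟩
  have hind : ∀ a b : S, algebraMap S R a + algebraMap S R b * r = 0 → a = 0 ∧ b = 0 := fun a b h => by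
    have h1 := congrArg lam h
    rw [map_add, map_mul, lam_algebraMap hS, lam_algebraMap hS, map_zero] at h1
    have h2 : algebraMap S R b * ↑w = 0 := by rw [hw]; linear_combination h - h1
    rw [w.mul_left_eq_zero] at h2
    rw [h2, zero_mul, add_zero] at h
    exact ⟨hS.1 (h.trans (map_zero _).symm), hS.1 (h2.trans (map_zero _).symm)⟩
  let bas : Module.Basis (Fin 2) S R := Module.Basis.mk (v := ![1, r])
    (by
      rw [LinearIndependent.pair_iff]
      intro a b h
      exact hind a b (by simpa [Algebra.smul_def] using h))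
    (by
      intro x _
      obtain ⟨a, b, rfl⟩ := hspan x
      rw [Matrix.range_cons, Matrix.range_cons, Matrix.range_empty, Set.union_empty, Set.singleton_union,
        Submodule.mem_span_pair]
      exact ⟨a, b, by simp [Algebra.smul_def]⟩)
  haveI := Module.Finite.of_basis bas
  haveI := Module.Free.of_basis bas
  refine ⟨inferInstance, inferInstance, ⟨?_⟩, fun p => ?_⟩
  · refine ⟨fun x y => ?_⟩
    have hd : KaehlerDifferential.D S R r = 0 := by
      obtain ⟨t, ht⟩ := exists_trace hlam hS r
      obtain ⟨n, hn⟩ := exists_norm hlam hS r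
      have h0 : KaehlerDifferential.D S R (r * r) = KaehlerDifferential.D S R (algebraMap S R t * r - algebraMap S R n) := by
        rw [ht, hn]; congr 1; ring
      simp only [Derivation.leibniz, map_sub, Derivation.map_algebraMap, smul_zero, sub_zero, add_zero] at h0
      rw [← add_smul, ht] at h0
      have h1 : (r - lam r) • KaehlerDifferential.D S R r = 0 := by
        rw [show r - lam r = (r + r) - (r + lam r) by ring, sub_smul, h0, sub_self]
      rwa [← hw, w.isUnit.smul_eq_zero] at h1
    have hz : ∀ z : Ω[R⁄S], z = 0 := fun z => by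
      have hz : z ∈ Submodule.span R (Set.range (KaehlerDifferential.D S R)) := by
        rw [KaehlerDifferential.span_range_derivation]; trivial
      induction hz using Submodule.span_induction with
      | mem z hz =>
        obtain ⟨x, rfl⟩ := hz
        obtain ⟨a, b, rfl⟩ := hspan x
        simp [hd]
      | zero => rfl
      | add _ _ _ _ h1 h2 => rw [h1, h2, add_zero]
      | smul c _ _ h1 => rw [h1, smul_zero]
    rw [hz x, hz y]
  · haveI : Nontrivial S := p.nontrivial
    rw [Module.rankAtStalk_eq_finrank_of_free, Pi.natCast_def]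
    simp [Module.finrank_eq_card_basis bas]

include hlam hS in
lemma exists_isUnit_sub [IsLocalRing S] (h : ∃ r : R, lam r - r ∉ Ring.jacobson R) :
    ∃ r : R, IsUnit (r - lam r) := by
  obtain ⟨a, ha⟩ := h
  obtain ⟨M, hM, haM⟩ := exists_maximal_not_mem ha
  haveI := hM
  by_cases hc : conj lam M = M
  · refine ⟨a, (isUnit_iff hlam hS M _).2 ⟨fun h' => haM ?_, fun h' => haM ?_⟩⟩
    · rw [← neg_mem_iff, neg_sub]; exact h'
    · rw [← hc, mem_conj, ← neg_mem_iff, ← map_neg, neg_sub]; exact h'
  · have hne : ¬ conj lam M ≤ M := fun hle => hc (Ideal.IsMaximal.eq_of_le inferInstance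
      (Ideal.IsMaximal.ne_top inferInstance) hle)
    obtain ⟨e, he, he'⟩ := SetLike.not_le_iff_exists.1 hne
    refine ⟨e, (isUnit_iff hlam hS M _).2 ⟨fun h' => he' ?_, fun h' => he' ?_⟩⟩
    · simpa using M.add_mem h' (show lam e ∈ M from he)
    · rw [map_sub, hlam e] at h'
      simpa using M.sub_mem (show lam e ∈ M from he) h'

lemma exists_basis_one [IsLocalRing S] (hq : RInv.IsQuadEtale S R) :
    ∃ bas : Module.Basis (Fin 2) S R, bas 0 = 1 := by
  obtain ⟨hfin, hproj, -, hrank⟩ := hq
  haveI := hfin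
  haveI := hproj
  haveI : Module.Free S R := Module.free_of_flat_of_isLocalRing
  have h2 : Module.finrank S R = 2 := by
    have := hrank ⟨IsLocalRing.maximalIdeal S, inferInstance⟩
    rwa [Module.rankAtStalk_eq_finrank_of_free] at this
  haveI : Nontrivial R := Module.nontrivial_of_finrank_eq_succ h2
  let b := Module.finBasisOfFinrankEq S R h2
  have hsum := b.sum_repr (1 : R)
  rw [Fin.sum_univ_two] at hsum
  set c0 := b.repr 1 0
  set c1 := b.repr 1 1
  have mk : ∀ (x : R) (c d : S) (y : R), IsUnit c → c • x + d • y = 1 →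
      (∀ z : R, z ∈ Submodule.span S {x, y}) → ∀ z : R, z ∈ Submodule.span S (Set.range ![(1 : R), y]) := by
    intro x c d y hc h1 hall z
    rw [Matrix.range_cons, Matrix.range_cons, Matrix.range_empty, Set.union_empty, Set.singleton_union]
    refine Submodule.span_le.2 ?_ (hall z)
    rintro w (rfl | rfl)
    · rw [SetLike.mem_coe, Submodule.mem_span_pair]
      obtain ⟨u, rfl⟩ := hc
      refine ⟨(↑u⁻¹ : S), -((↑u⁻¹ : S) * d), ?_⟩
      rw [← h1, smul_add, smul_smul, smul_smul, Units.inv_mul, one_smul, neg_smul, add_neg_cancel_right]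
    · exact Submodule.subset_span (Or.inr rfl)
  have hall : ∀ z : R, z ∈ Submodule.span S {b 0, b 1} := fun z => by
    rw [Submodule.mem_span_pair]
    exact ⟨b.repr z 0, b.repr z 1, by have := b.sum_repr z; rwa [Fin.sum_univ_two] at this⟩
  have key : ∃ y : R, ∀ z : R, z ∈ Submodule.span S (Set.range ![(1 : R), y]) := by
    by_cases h0 : IsUnit c0
    · exact ⟨b 1, mk _ _ c1 _ h0 hsum hall⟩
    by_cases h1 : IsUnit c1
    · exact ⟨b 0, mk _ _ c0 _ h1 (by rw [add_comm]; exact hsum) (fun z => by rw [Set.pair_comm]; exact hall z)⟩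
    exfalso
    haveI : Algebra.IsIntegral S R := Algebra.IsIntegral.of_finite S R
    obtain ⟨M, hM⟩ := Ideal.exists_maximal R
    haveI := hM
    have hm := IsLocalRing.eq_maximalIdeal (Ideal.isMaximal_comap_of_isIntegral_of_isMaximal (R := S) M)
    have hmem : ∀ c : S, ¬ IsUnit c → ∀ x : R, c • x ∈ M := fun c hc x => by
      rw [Algebra.smul_def]
      refine M.mul_mem_right _ ?_
      rw [← Ideal.mem_comap, hm]
      exact hc
    refine hM.ne_top (M.eq_top_iff_one.2 ?_)
    rw [← hsum]
    exact M.add_mem (hmem _ h0 _) (hmem _ h1 _)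
  obtain ⟨y, hy⟩ := key
  let v : Fin 2 → R := ![1, y]
  refine ⟨Module.Basis.mk (v := v) (linearIndependent_of_top_le_span_of_card_eq_finrank (fun z _ => hy z)
    (by simp [h2])) (fun z _ => hy z), by simp [v]⟩

include hlam hS in
lemma exists_isUnit_sub_of_isQuadEtale [IsLocalRing S] (hq : RInv.IsQuadEtale S R) :
    ∃ r : R, IsUnit (r - lam r) := by
  refine exists_isUnit_sub hlam hS ?_
  by_contra hid
  push Not at hid
  obtain ⟨bas, hb0⟩ := exists_basis_one hq
  haveI := hq.2.2.1
  haveI : Nontrivial R := ⟨⟨algebraMap S R 0, algebraMap S R 1, fun h => zero_ne_one (hS.1 h)⟩⟩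
  obtain ⟨M, hM⟩ := Ideal.exists_maximal R
  haveI := hM
  set r := bas 1 with hr
  have hdec : ∀ x : R, x = algebraMap S R (bas.repr x 0) + algebraMap S R (bas.repr x 1) * r := fun x => by
    have h1 := bas.sum_repr x
    rw [Fin.sum_univ_two, hb0, Algebra.smul_def, mul_one, Algebra.smul_def] at h1
    exact h1.symm
  let q := Ideal.Quotient.mk M
  let π : R →ₗ[S] (R ⧸ M) := (Algebra.linearMap S (R ⧸ M)).comp (bas.coord 1)
  have hπ : ∀ a b : S, π (algebraMap S R a + algebraMap S R b * r) = algebraMap S (R ⧸ M) b := fun a b => by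
    have e : algebraMap S R a + algebraMap S R b * r = a • bas 0 + b • bas 1 := by
      rw [hb0, Algebra.smul_def, mul_one, Algebra.smul_def]
    rw [e]
    simp [π]
  obtain ⟨t, ht⟩ := exists_trace hlam hS r
  obtain ⟨n, hn⟩ := exists_norm hlam hS r
  have htq : algebraMap S (R ⧸ M) t = q r + q r := by
    rw [IsScalarTower.algebraMap_apply S R (R ⧸ M), Ideal.Quotient.algebraMap_eq, ht, map_add]
    congr 1
    exact (Ideal.Quotient.eq.2 ((mem_jacobson_iff hlam hS M _).1 (hid r)).1)
  have hqa : ∀ a : S, q (algebraMap S R a) = algebraMap S (R ⧸ M) a := fun a => rfl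
  let D : Derivation S R (R ⧸ M) := Derivation.mk' π fun x y => by
    have hxy : x * y = algebraMap S R (bas.repr x 0 * bas.repr y 0 - bas.repr x 1 * bas.repr y 1 * n) +
        algebraMap S R (bas.repr x 0 * bas.repr y 1 + bas.repr x 1 * bas.repr y 0 + bas.repr x 1 * bas.repr y 1 * t) * r := by
      conv_lhs => rw [hdec x, hdec y]
      simp only [map_add, map_sub, map_mul, ht, hn]
      ring
    rw [hxy, hπ]
    conv_rhs => rw [hdec x, hdec y, hπ, hπ]
    rw [Algebra.smul_def, Algebra.smul_def, Ideal.Quotient.algebraMap_eq]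
    simp only [map_add, map_mul, htq]
    show _ = (q _ + q _ * q r) * _ + (q _ + q _ * q r) * _
    simp only [hqa]
    ring
  have h0 : D r = 0 := by
    rw [← Derivation.liftKaehlerDifferential_comp_D D r, Subsingleton.elim (KaehlerDifferential.D S R r) 0, map_zero]
  have h1 : D r = 1 := by
    show π r = 1
    have := hπ 0 1
    simpa using this
  exact one_ne_zero (h1.symm.trans h0)

include hlam hS in
lemma isLocalRing_of_id [IsLocalRing S] (h : ∀ r : R, lam r - r ∈ Ring.jacobson R) : IsLocalRing R := by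
  haveI : Nontrivial R := ⟨⟨algebraMap S R 0, algebraMap S R 1, fun h => zero_ne_one (hS.1 h)⟩⟩
  obtain ⟨M, hM⟩ := Ideal.exists_maximal R
  haveI := hM
  refine IsLocalRing.of_unique_max_ideal ⟨M, hM, fun M' hM' => ?_⟩
  haveI := hM'
  rcases maximal_eq hlam hS M M' with h' | h'
  · exact h'
  · rw [h']
    ext x
    have hx := ((mem_jacobson_iff hlam hS M _).1 (h x)).1
    rw [mem_conj]
    exact ⟨fun h1 => by simpa using M.sub_mem h1 hx, fun h1 => by simpa using M.add_mem hx h1⟩

lemma jacobson_eq_map [IsLocalRing S] (hq : RInv.IsQuadEtale S R) :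
    Ring.jacobson R = (IsLocalRing.maximalIdeal S).map (algebraMap S R) := by
  haveI := hq.1
  haveI := hq.2.2.1
  haveI : Algebra.IsIntegral S R := Algebra.IsIntegral.of_finite S R
  rw [← Ideal.jacobson_bot]
  refine le_antisymm ?_ (Ideal.map_le_iff_le_comap.2 fun s hs => ?_)
  · set I := (IsLocalRing.maximalIdeal S).map (algebraMap S R)
    intro x hx
    haveI : Algebra.FormallyUnramified (S ⧸ IsLocalRing.maximalIdeal S) (R ⧸ I) :=
      Algebra.FormallyUnramified.of_restrictScalars S _ _
    haveI : Module.Finite (S ⧸ IsLocalRing.maximalIdeal S) (R ⧸ I) := Module.Finite.of_restrictScalars_finite S _ _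
    letI : Field (S ⧸ IsLocalRing.maximalIdeal S) := Ideal.Quotient.field _
    haveI : IsReduced (R ⧸ I) := Algebra.FormallyUnramified.isReduced_of_field (S ⧸ IsLocalRing.maximalIdeal S) _
    haveI : IsArtinianRing (R ⧸ I) := IsArtinianRing.of_finite (S ⧸ IsLocalRing.maximalIdeal S) _
    have h1 : Ideal.Quotient.mk I x ∈ Ideal.jacobson (⊥ : Ideal (R ⧸ I)) := by
      rw [Ideal.jacobson, Ideal.mem_sInf] at hx ⊢
      rintro J ⟨-, hJ⟩
      haveI := hJ
      exact hx (I := J.comap (Ideal.Quotient.mk I)) ⟨bot_le, Ideal.comap_isMaximal_of_surjective _ Ideal.Quotient.mk_surjective⟩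
    rw [Ideal.jacobson_bot, Ring.jacobson_eq_nilradical_of_krullDimLE_zero, nilradical_eq_zero,
      Submodule.zero_eq_bot, Ideal.mem_bot] at h1
    exact Ideal.Quotient.eq_zero_iff_mem.1 h1
  · rw [Ideal.mem_comap, Ideal.jacobson, Ideal.mem_sInf]
    rintro M ⟨-, hM⟩
    haveI := hM
    rw [← Ideal.mem_comap, IsLocalRing.eq_maximalIdeal (Ideal.isMaximal_comap_of_isIntegral_of_isMaximal (R := S) M)]
    exact hs

include hlam hS in
lemma hilbert90 [IsLocalRing S] (hq : RInv.IsQuadEtale S R) (r : Rˣ) (hr : lam r * r = 1) :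
    ∃ a : Rˣ, (r : R) = (a⁻¹ : Rˣ) * lam a := by
  haveI : Nontrivial R := ⟨⟨algebraMap S R 0, algebraMap S R 1, fun h => zero_ne_one (hS.1 h)⟩⟩
  obtain ⟨x, hx⟩ := exists_isUnit_sub_of_isQuadEtale hlam hS hq
  obtain ⟨M, hM⟩ := Ideal.exists_maximal R
  haveI := hM
  let g : R → R := fun y => y + lam y * lam r
  have hg : ∀ y, lam (g y) = r * g y := fun y => by
    simp only [g, map_add, map_mul, hlam y, hlam (r : R)]
    linear_combination -lam y * hr
  have key : ∃ y, IsUnit (g y) := by
    by_contra hno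
    push Not at hno
    have hmem : ∀ y, g y ∈ M := fun y => by
      by_contra hy
      refine hno y ((isUnit_iff hlam hS M _).2 ⟨hy, fun h => hy ?_⟩)
      rw [hg] at h
      exact (Ideal.unit_mul_mem_iff_mem M r.isUnit).1 h
    have h1 := hmem 1
    simp only [g, map_one, one_mul] at h1
    have h2 := M.sub_mem (hmem x) (M.mul_mem_left (lam x) h1)
    refine ((isUnit_iff hlam hS M _).1 hx).1 ?_
    convert h2 using 1
    simp only [g]; ring
  obtain ⟨y, a, ha⟩ := key
  refine ⟨a, ?_⟩
  rw [ha, hg, ← ha, mul_comm (r : R), Units.inv_mul_cancel_left]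

include hlam hS in
lemma jacobson_sq_le [IsLocalRing S] (h2 : IsUnit (2 : S)) :
    (Ring.jacobson R) ^ 2 ≤ (IsLocalRing.maximalIdeal S).map (algebraMap S R) := by
  haveI : Nontrivial R := ⟨⟨algebraMap S R 0, algebraMap S R 1, fun h => zero_ne_one (hS.1 h)⟩⟩
  obtain ⟨M, hM⟩ := Ideal.exists_maximal R
  haveI := hM
  obtain ⟨w, hw⟩ := h2
  set I := (IsLocalRing.maximalIdeal S).map (algebraMap S R)
  set c := algebraMap S R (↑w⁻¹ : S)
  have hc : c * 2 = 1 := by rw [← map_ofNat (algebraMap S R) 2, ← map_mul, ← hw, Units.inv_mul, map_one]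
  have hsym : ∀ x, x ∈ Ring.jacobson R → lam x = x → x ∈ I := fun x hx hfix => by
    obtain ⟨s, rfl⟩ := (hS.2 x).1 hfix
    exact Ideal.mem_map_of_mem _ ((algebraMap_mem_iff hlam hS M s).1 ((mem_jacobson_iff hlam hS M _).1 hx).1)
  rw [pow_two, Ideal.mul_le]
  intro x hx y hy
  have hxl := lam_mem_jacobson hlam hx
  have hyl := lam_mem_jacobson hlam hy
  have e : x * y = c * (x + lam x) * y + c * (x - lam x) * (c * (y + lam y)) + c * c * ((x - lam x) * (y - lam y)) := by
    linear_combination (-x * y - c * (x - lam x) * y) * hc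
  rw [e]
  refine I.add_mem (I.add_mem ?_ ?_) (I.mul_mem_left _ ?_)
  · exact I.mul_mem_right _ (I.mul_mem_left _ (hsym _ (Ideal.add_mem _ hx hxl) (by rw [map_add, hlam x, add_comm])))
  · exact I.mul_mem_left _ (I.mul_mem_left _ (hsym _ (Ideal.add_mem _ hy hyl) (by rw [map_add, hlam y, add_comm])))
  · exact hsym _ (Ideal.mul_mem_right _ _ (Ideal.sub_mem _ hx hxl)) (by simp only [map_mul, map_sub, hlam x, hlam y]; ring)

end Groth.L09.RInvEtale
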