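import Groth.Agent.L09.RInvBasic
import Mathlib.RingTheory.Localization.BaseChange
import Mathlib.RingTheory.Localization.Ideal
import Mathlib.RingTheory.Localization.Away.Basic
import Mathlib.RingTheory.Localization.AtPrime.Basic
import Mathlib.RingTheory.TensorProduct.Maps
import Mathlib.LinearAlgebra.Matrix.NonsingularInverse
import Mathlib.RingTheory.MvPolynomial.Basic

/-!
Spreading out congruences of hermitian matrices from a prime.
-/

set_option autoImplicit false
universe u v

open TensorProduct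

namespace Groth.L09.RInvSpread

variable {B : Type u} {A : Type v} [CommRing B] [CommRing A] [Algebra B A]

/-- congruence after base change to `C`. -/
def Congr (lam : A ≃ₐ[B] A) {n : ℕ} (h h' : Matrix (Fin n) (Fin n) A) (C : Type u) [CommRing C] [Algebra B C] :
    Prop :=
  ∃ v : Matrix (Fin n) (Fin n) (C ⊗[B] A), IsUnit v ∧
    (v.map (Algebra.TensorProduct.congr (AlgEquiv.refl : C ≃ₐ[C] C) lam)).transpose *
      h.map (Algebra.TensorProduct.includeRight : A →ₐ[B] C ⊗[B] A) * v =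
      h'.map (Algebra.TensorProduct.includeRight : A →ₐ[B] C ⊗[B] A)

variable (lam : A ≃ₐ[B] A) {n : ℕ} {h h' : Matrix (Fin n) (Fin n) A}

/-- the extended involution. -/
noncomputable abbrev L (C : Type u) [CommRing C] [Algebra B C] : C ⊗[B] A →+* C ⊗[B] A :=
  (Algebra.TensorProduct.congr (AlgEquiv.refl : C ≃ₐ[C] C) lam).toRingEquiv.toRingHom

lemma L_tmul {C : Type u} [CommRing C] [Algebra B C] (c : C) (a : A) : L lam C (c ⊗ₜ a) = c ⊗ₜ lam a := by
  simp [L]

lemma L_natural {C C' : Type u} [CommRing C] [Algebra B C] [CommRing C'] [Algebra B C'] (φ : C →ₐ[B] C')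
    (z : C ⊗[B] A) :
    L lam C' (Algebra.TensorProduct.map φ (AlgHom.id B A) z) = Algebra.TensorProduct.map φ (AlgHom.id B A) (L lam C z) := by
  induction z using TensorProduct.induction_on with
  | zero => simp
  | tmul c a => rw [Algebra.TensorProduct.map_tmul, L_tmul, L_tmul, Algebra.TensorProduct.map_tmul]; rfl
  | add x y hx hy => rw [map_add, map_add, map_add, map_add, hx, hy]

lemma inc_natural {C C' : Type u} [CommRing C] [Algebra B C] [CommRing C'] [Algebra B C'] (φ : C →ₐ[B] C')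
    (m : Matrix (Fin n) (Fin n) A) :
    (m.map (Algebra.TensorProduct.includeRight : A →ₐ[B] C ⊗[B] A)).map (Algebra.TensorProduct.map φ (AlgHom.id B A)) =
      m.map (Algebra.TensorProduct.includeRight : A →ₐ[B] C' ⊗[B] A) := by
  ext i j
  simp

lemma eqn_natural {C C' : Type u} [CommRing C] [Algebra B C] [CommRing C'] [Algebra B C'] (φ : C →ₐ[B] C')
    (v : Matrix (Fin n) (Fin n) (C ⊗[B] A)) :
    ((v.map (Algebra.TensorProduct.map φ (AlgHom.id B A))).map (L lam C')).transpose =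
      ((v.map (L lam C)).transpose).map (Algebra.TensorProduct.map φ (AlgHom.id B A)) := by
  ext i j
  exact L_natural lam φ (v j i)

lemma Congr.map {C C' : Type u} [CommRing C] [Algebra B C] [CommRing C'] [Algebra B C'] (φ : C →ₐ[B] C')
    (hC : Congr lam h h' C) : Congr lam h h' C' := by
  obtain ⟨v, hv, hvv⟩ := hC
  set π : C ⊗[B] A →ₐ[B] C' ⊗[B] A := Algebra.TensorProduct.map φ (AlgHom.id B A)
  refine ⟨v.map π, hv.map (π : C ⊗[B] A →+* C' ⊗[B] A).mapMatrix, ?_⟩
  show ((v.map π).map (L lam C')).transpose * _ * _ = _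
  rw [eqn_natural lam φ, ← inc_natural φ h, ← inc_natural φ h', ← Matrix.map_mul, ← Matrix.map_mul]
  exact congrArg (fun m => m.map π) hvv

lemma exists_common_denominator {P : Type*} [AddCommMonoid P] [Module B P] {N : Type*} [AddCommMonoid N] [Module B N]
    (S : Submonoid B) (g : N →ₗ[B] P) [IsLocalizedModule S g] {ι : Type*} [Finite ι] (z : ι → P) :
    ∃ (c : S) (z₀ : ι → N), ∀ i, (c : B) • z i = g (z₀ i) := by
  classical
  haveI := Fintype.ofFinite ι
  choose x hx using fun i => IsLocalizedModule.surj S g (z i)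
  refine ⟨∏ i, (x i).2, fun i => (∏ j ∈ Finset.univ.erase i, ((x j).2 : B)) • (x i).1, fun i => ?_⟩
  rw [map_smul, ← hx i, Submonoid.smul_def, smul_smul, Submonoid.coe_finsetProd,
    Finset.prod_erase_mul _ _ (Finset.mem_univ i)]

/-- a congruence over a localisation at `S` descends after inverting one element of `S`. -/
theorem spread (S : Submonoid B) {C₀ P : Type u} [CommRing C₀] [Algebra B C₀] [CommRing P] [Algebra B P]
    [Algebra C₀ P] [IsScalarTower B C₀ P] [IsLocalization (Algebra.algebraMapSubmonoid C₀ S) P]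
    (hP : Congr lam h h' P) :
    ∃ c ∈ S, ∀ (C : Type u) [CommRing C] [Algebra B C] (_ : C₀ →ₐ[B] C),
      IsUnit (algebraMap B C c) → Congr lam h h' C := by
  classical
  obtain ⟨v, hv, hvv⟩ := hP
  obtain ⟨w, hw⟩ := hv.exists_right_inv
  let φ := IsScalarTower.toAlgHom B C₀ P
  set π : C₀ ⊗[B] A →ₐ[B] P ⊗[B] A := Algebra.TensorProduct.map φ (AlgHom.id B A)
  haveI : IsLocalizedModule S π.toLinearMap := by
    have h1 : IsLocalizedModule S (AlgebraTensorModule.rTensor B A φ.toLinearMap) :=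
      inferInstance
    have h2 : π.toLinearMap = AlgebraTensorModule.rTensor B A φ.toLinearMap := by
      ext c a; simp [π]
    rw [h2]
    exact h1
  obtain ⟨c₁, v₀, hv₀⟩ := exists_common_denominator S π.toLinearMap (fun p : Fin n × Fin n => v p.1 p.2)
  obtain ⟨c₂, w₀, hw₀⟩ := exists_common_denominator S π.toLinearMap (fun p : Fin n × Fin n => w p.1 p.2)
  let V : Matrix (Fin n) (Fin n) (C₀ ⊗[B] A) := Matrix.of fun i j => v₀ (i, j)
  let W : Matrix (Fin n) (Fin n) (C₀ ⊗[B] A) := Matrix.of fun i j => w₀ (i, j)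
  have hV : V.map π = (c₁ : B) • v := by ext i j; exact (hv₀ (i, j)).symm
  have hW : W.map π = (c₂ : B) • w := by ext i j; exact (hw₀ (i, j)).symm
  let hi : Matrix (Fin n) (Fin n) (C₀ ⊗[B] A) := h.map (Algebra.TensorProduct.includeRight : A →ₐ[B] C₀ ⊗[B] A)
  let hi' : Matrix (Fin n) (Fin n) (C₀ ⊗[B] A) := h'.map (Algebra.TensorProduct.includeRight : A →ₐ[B] C₀ ⊗[B] A)
  have hLs : ∀ (C : Type u) [CommRing C] [Algebra B C] (r : B) (z : C ⊗[B] A), L lam C (r • z) = r • L lam C z :=
    fun C _ _ r z => by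
      induction z using TensorProduct.induction_on with
      | zero => simp
      | tmul c a => rw [TensorProduct.smul_tmul', L_tmul, L_tmul, TensorProduct.smul_tmul']
      | add x y hx hy => rw [smul_add, map_add, map_add, smul_add, hx, hy]
  have e1 : (V * W).map π = (((c₁ : B) * c₂) • (1 : Matrix (Fin n) (Fin n) (C₀ ⊗[B] A))).map π := by
    rw [Matrix.map_mul, hV, hW, Matrix.smul_mul, Matrix.mul_smul, hw, smul_smul,
      Matrix.map_smul _ _ (fun a => map_smul π _ a), Matrix.map_one _ (map_zero π) (map_one π)]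
  have e2 : ((V.map (L lam C₀)).transpose * hi * V).map π = (((c₁ : B) * c₁) • hi').map π := by
    rw [Matrix.map_mul, Matrix.map_mul, ← eqn_natural lam φ, inc_natural φ h, hV,
      Matrix.map_smul _ _ (fun a => hLs P _ a), Matrix.transpose_smul, Matrix.smul_mul, Matrix.smul_mul,
      Matrix.mul_smul, smul_smul, Matrix.map_smul _ _ (fun a => map_smul π _ a), inc_natural φ h']
    exact congrArg _ hvv
  have hker : ∀ (X Y : Matrix (Fin n) (Fin n) (C₀ ⊗[B] A)), X.map π = Y.map π → ∃ c : S, (c : B) • X = (c : B) • Y := by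
    intro X Y hXY
    choose c hc using fun p : Fin n × Fin n =>
      IsLocalizedModule.exists_of_eq (S := S) (f := π.toLinearMap) (congrFun (congrFun hXY p.1) p.2)
    refine ⟨∏ p, c p, ?_⟩
    ext i j
    have h1 := hc (i, j)
    simp only [Submonoid.smul_def] at h1
    rw [Matrix.smul_apply, Matrix.smul_apply, Submonoid.coe_finsetProd, ← Finset.prod_erase_mul _ _ (Finset.mem_univ (i, j)),
      mul_smul, mul_smul]
    exact congrArg _ h1
  obtain ⟨c₃, h3⟩ := hker _ _ e1
  obtain ⟨c₄, h4⟩ := hker _ _ e2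
  refine ⟨(c₁ : B) * c₂ * c₃ * c₄, mul_mem (mul_mem (mul_mem c₁.2 c₂.2) c₃.2) c₄.2, fun C _ _ χ hu => ?_⟩
  rw [map_mul, map_mul, map_mul, IsUnit.mul_iff, IsUnit.mul_iff, IsUnit.mul_iff] at hu
  obtain ⟨⟨⟨hu₁, hu₂⟩, hu₃⟩, hu₄⟩ := hu
  set τ : C₀ ⊗[B] A →ₐ[B] C ⊗[B] A := Algebra.TensorProduct.map χ (AlgHom.id B A)
  have hcancel : ∀ (r : B), IsUnit (algebraMap B C r) → ∀ X Y : Matrix (Fin n) (Fin n) (C ⊗[B] A),
      r • X = r • Y → X = Y := fun r hr X Y hXY => by
    ext i j
    have h1 := congrFun (congrFun hXY i) j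
    rw [Matrix.smul_apply, Matrix.smul_apply, Algebra.smul_def, Algebra.smul_def,
      IsScalarTower.algebraMap_apply B C (C ⊗[B] A)] at h1
    exact (hr.map _).mul_left_cancel h1
  have f1 := hcancel _ hu₃ _ _ (by
    simpa only [Matrix.map_smul _ _ (fun a => map_smul τ _ a)] using congrArg (fun m => m.map τ) h3)
  have f2 := hcancel _ hu₄ _ _ (by
    simpa only [Matrix.map_smul _ _ (fun a => map_smul τ _ a)] using congrArg (fun m => m.map τ) h4)
  rw [Matrix.map_mul, Matrix.map_one _ (map_zero τ) (map_one τ)] at f1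
  rw [Matrix.map_mul, Matrix.map_mul, ← eqn_natural lam χ, inc_natural χ h, inc_natural χ h'] at f2
  obtain ⟨u, hu'⟩ := hu₁
  refine ⟨(↑u⁻¹ : C) • V.map τ, ?_, ?_⟩
  · have hr : IsUnit (algebraMap B C ((c₁ : B) * c₂)) := by rw [map_mul, ← hu']; exact u.isUnit.mul hu₂
    obtain ⟨u₂, hu₂'⟩ := hu₂
    refine IsUnit.of_mul_eq_one ((↑u₂⁻¹ : C) • W.map τ) ?_
    rw [Matrix.smul_mul, Matrix.mul_smul, f1, smul_smul, ← IsScalarTower.algebraMap_smul C ((c₁ : B) * c₂), smul_smul,
      map_mul, ← hu', ← hu₂', show (↑u⁻¹ : C) * ↑u₂⁻¹ * (↑u * ↑u₂) = (↑u⁻¹ * ↑u) * (↑u₂⁻¹ * ↑u₂) by ring,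
      Units.inv_mul, Units.inv_mul, one_mul, one_smul]
  · have hLC : ∀ (r : C) (z : C ⊗[B] A), L lam C (r • z) = r • L lam C z := fun r z => by
      induction z using TensorProduct.induction_on with
      | zero => simp
      | tmul c a => rw [TensorProduct.smul_tmul', L_tmul, L_tmul, TensorProduct.smul_tmul']
      | add x y hx hy => rw [smul_add, map_add, map_add, smul_add, hx, hy]
    show (((↑u⁻¹ : C) • V.map τ).map (L lam C)).transpose * _ * _ = _
    rw [Matrix.map_smul _ _ (fun a => hLC _ a), Matrix.transpose_smul, Matrix.smul_mul, Matrix.smul_mul,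
      Matrix.mul_smul, smul_smul, f2, ← IsScalarTower.algebraMap_smul C ((c₁ : B) * c₁), smul_smul, map_mul, ← hu',
      show (↑u⁻¹ : C) * ↑u⁻¹ * (↑u * ↑u) = (↑u⁻¹ * ↑u) * (↑u⁻¹ * ↑u) by ring, Units.inv_mul, one_mul, one_smul]

end Groth.L09.RInvSpread
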