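import Groth.Agent.L09.StkTower
import Groth.Agent.L09.FibRep
import Groth.Agent.L09.FibFp

/-!
A category with a faithful functor to a stack, all of whose base changes to slices are stacks, is a stack.
-/

set_option autoImplicit false
universe v u

open CategoryTheory Category Functor

namespace Groth.L09.StkFaithful

open Groth.L09.StkBase Groth.L09.StkTower

variable {C : Type u} [Category.{v} C]

theorem over_eq_restricted (J : GrothendieckTopology C) (U : C) :
    J.over U = (Over.forget U).restrictedTopology J := by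
  ext Y S
  exact ((GrothendieckTopology.mem_over_iff J S).trans
    (Stk.mem_restrictedTopology_iff (p := Over.forget U) (Fib.isFibGrpd_overCat U) J S).symm)

theorem isStack (J : GrothendieckTopology C) {𝒮 𝒯 : BasedCategory.{v, max u v} C}
    (h𝒮 : FibCat.IsFibGrpd 𝒮.p) (h𝒯 : Stk.IsStack J 𝒯) (F : 𝒮 ⥤ᵇ 𝒯) [F.toFunctor.Faithful]
    (h3 : ∀ (U : C) (y : FibCat.overCat U ⥤ᵇ 𝒯),
      Stk.IsStack (J.over U) (BasedCategory.ofFunctor ((FibCat.fpFst y F).toFunctor : (FibCat.fp y F).obj ⥤ Over U))) :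
    Stk.IsStack J 𝒮 := by
  refine ⟨h𝒮, fun U R hR => ?_⟩
  have hT : (Stk.resSieve R 𝒯).IsEquivalence := h𝒯.2 R hR
  let ι := Stk.sieveIncl R
  let 𝒳 := FibCat.overCat U
  let K : 𝒳 ⥤ᵇ 𝒳 := BasedFunctor.id 𝒳
  let 𝒲 : (y : 𝒳 ⥤ᵇ 𝒯) → BasedCategory 𝒳.obj := fun y =>
    BasedCategory.ofFunctor (FibCat.fpFst y F).toFunctor
  have hW : ∀ y, (Stk.restr (mapK ι K) (𝒲 y)).IsEquivalence := fun y => by
    have h := h3 U y
    rw [over_eq_restricted] at h
    exact restr_mapK_sieve (𝒳 := 𝒳) J (Fib.isFibGrpd_overCat U) (𝒲 := 𝒲 y) h R hR K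
  have hfaith : (Stk.resSieve R 𝒮).Faithful := ⟨fun {A B} α β h => by
    have e : BasedCategory.whiskerRight α F = BasedCategory.whiskerRight β F :=
      (Stk.resSieve R 𝒯).map_injective (BasedNatTrans.homCategory.ext _ _ (by
        ext a; exact congrArg F.map (app_congr h a)))
    refine BasedNatTrans.homCategory.ext _ _ ?_
    ext a
    exact F.toFunctor.map_injective (app_congr e a)⟩
  have hfull : (Stk.resSieve R 𝒮).Full := ⟨fun {A B} γ => by
    let δ := (Stk.resSieve R 𝒯).preimage (X := BasedFunctor.comp A F) (Y := BasedFunctor.comp B F)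
      (BasedCategory.whiskerRight γ F)
    have hδ : ∀ a, δ.toNatTrans.app (ι.obj a) = F.map (γ.toNatTrans.app a) := fun a =>
      app_congr ((Stk.resSieve R 𝒯).map_preimage _) a
    have := StkTower.isIso_hom h𝒯.1 δ
    let y := BasedFunctor.comp B F
    have := hW y
    let sA : ofK K ⥤ᵇ 𝒲 y :=
      { toFunctor := (FibCat.fpLift (F := y) (G := F) (BasedFunctor.id 𝒳) A (asIso δ).symm).toFunctor
        w := rfl }
    let sB : ofK K ⥤ᵇ 𝒲 y :=
      { toFunctor := (FibCat.fpLift (F := y) (G := F) (BasedFunctor.id 𝒳) B (Iso.refl _)).toFunctor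
        w := rfl }
    let Rs := Stk.restr (mapK ι K) (𝒲 y)
    let app : ∀ a, (Rs.obj sA).obj a ⟶ (Rs.obj sB).obj a := fun a => ObjectProperty.homMk
      { fst := 𝟙 (ι.obj a)
        snd := γ.toNatTrans.app a
        w := by
          show y.map (𝟙 (ι.obj a)) ≫ 𝟙 (y.obj (ι.obj a)) =
            (asIso δ).inv.toNatTrans.app (ι.obj a) ≫ F.map (γ.toNatTrans.app a)
          exact ((comp_id _).trans ((y.toFunctor.map_id _).trans
            (app_congr (asIso δ).inv_hom_id (ι.obj a)).symm)).trans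
            (congrArg ((asIso δ).inv.toNatTrans.app (ι.obj a) ≫ ·) (hδ a)) }
    let γ' : Rs.obj sA ⟶ Rs.obj sB :=
      { toNatTrans :=
          { app := app
            naturality := fun a b f => by
              apply ObjectProperty.hom_ext
              apply Limits.CategoricalPullback.hom_ext
              · exact (comp_id _).trans (id_comp _).symm
              · exact γ.toNatTrans.naturality f }
        isHomLift' := fun a => IsHomLift.of_fac' (𝒲 y).p _ _ rfl rfl
          ((id_comp _).trans (comp_id _)).symm }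
    obtain ⟨φ, hφ⟩ := Rs.map_surjective γ'
    have happ : ∀ a, φ.toNatTrans.app (ι.obj a) = app a := fun a =>
      congrArg (fun t => NatTrans.app t a) (congrArg (fun t : Rs.obj sA ⟶ Rs.obj sB => t.toNatTrans) hφ)
    let φ₂ := BasedCategory.whiskerRight (StkTower.totKHom φ) (FibCat.fpSnd y F)
    let α : A ⟶ B :=
      { toNatTrans :=
          { app := fun a => φ₂.toNatTrans.app a
            naturality := fun a b f => φ₂.toNatTrans.naturality f }
        isHomLift' := φ₂.isHomLift' }
    refine ⟨α, ?_⟩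
    apply BasedNatTrans.homCategory.ext
    ext a
    exact congrArg (fun t => t.hom.snd) (happ a)⟩
  refine @Functor.IsEquivalence.mk _ _ _ _ _ hfaith hfull ⟨fun L => ?_⟩
  let y := (Stk.resSieve R 𝒯).objPreimage (BasedFunctor.comp L F)
  let i : (Stk.resSieve R 𝒯).obj y ≅ BasedFunctor.comp L F := (Stk.resSieve R 𝒯).objObjPreimageIso _
  have := hW y
  let Lh : ofK (BasedFunctor.comp ι K) ⥤ᵇ 𝒲 y :=
    { toFunctor := (FibCat.fpLift (F := y) (G := F) ι L i).toFunctor
      w := rfl }
  let Rs := Stk.restr (mapK ι K) (𝒲 y)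
  let G := Rs.objPreimage Lh
  let j : Rs.obj G ≅ Lh := Rs.objObjPreimageIso Lh
  refine ⟨BasedFunctor.comp (totK G) (FibCat.fpSnd y F), ⟨?_⟩⟩
  let j' : totK (Rs.obj G) ≅ totK Lh :=
    { hom := totKHom j.hom
      inv := totKHom j.inv
      hom_inv_id := BasedNatTrans.homCategory.ext _ _ (congrArg (fun t : Rs.obj G ⟶ _ => BasedNatTrans.toNatTrans t) j.hom_inv_id :)
      inv_hom_id := BasedNatTrans.homCategory.ext _ _ (congrArg (fun t : Lh ⟶ Lh => BasedNatTrans.toNatTrans t) j.inv_hom_id :) }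
  exact Stk.compRightIso j' (FibCat.fpSnd y F) ≪≫ eqToIso (based_ext rfl)

end Groth.L09.StkFaithful
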