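import Mathlib.AlgebraicTopology.SimplicialSet.Skeleton
import Mathlib.AlgebraicTopology.SimplicialSet.Dimension
import Mathlib.AlgebraicTopology.SimplicialSet.Degenerate
import Mathlib.CategoryTheory.Limits.Shapes.FiniteLimits
import Mathlib.Data.Finite.Sigma
import Mathlib.Data.Finite.Prod

/-!
Skeleta of simplicial sets: the counit of the skeleton adjunction; maps detected on non-degenerate
simplices; pointwise Kan extensions along the truncation.
-/

set_option autoImplicit false
universe v u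

open CategoryTheory CategoryTheory.Limits Opposite
open scoped Simplicial

namespace Groth.L09.SSetSkel

section Kan

variable {C : Type u} [Category.{v} C]

lemma finite_truncated (k : ℕ) : Finite (SimplexCategory.Truncated k) :=
  Finite.of_injective (fun a => (⟨a.obj.len, Nat.lt_succ_iff.2 a.property⟩ : Fin (k + 1)))
    (fun a b h => by
      have h1 : a.obj.len = b.obj.len := congrArg Fin.val h
      exact ObjectProperty.FullSubcategory.ext (SimplexCategory.ext h1))

lemma finite_hom_truncated (k : ℕ) (a b : (SimplexCategory.Truncated k)ᵒᵖ) : Finite (a ⟶ b) :=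
  Finite.of_injective (fun φ => φ.unop.hom.toOrderHom.toFun) (fun φ ψ h =>
    Quiver.Hom.unop_inj (ObjectProperty.hom_ext _ (SimplexCategory.Hom.ext _ _ (OrderHom.ext _ _ h))))

lemma finite_hom_op (a b : SimplexCategoryᵒᵖ) : Finite (a ⟶ b) :=
  Finite.of_injective (fun φ => φ.unop.toOrderHom.toFun) (fun φ ψ h =>
    Quiver.Hom.unop_inj (SimplexCategory.Hom.ext _ _ (OrderHom.ext _ _ h)))

theorem pointwiseLeft [HasFiniteColimits C] (k : ℕ) (F : (SimplexCategory.Truncated k)ᵒᵖ ⥤ C) :
    (SimplexCategory.Truncated.inclusion k).op.HasPointwiseLeftKanExtension F := fun Y => by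
  let L := (SimplexCategory.Truncated.inclusion k).op
  haveI := finite_truncated k
  haveI := finite_hom_op
  haveI : Finite (SimplexCategory.Truncated k)ᵒᵖ := Finite.of_equiv _ equivToOpposite
  haveI : Finite (CostructuredArrow L Y) := Finite.of_injective
    (fun f => (⟨f.left, f.hom⟩ : Σ a, (L.obj a ⟶ Y)))
    (fun f g h => by
      obtain ⟨fl, ⟨⟨⟩⟩, fh⟩ := f
      obtain ⟨gl, ⟨⟨⟩⟩, gh⟩ := g
      obtain ⟨h1, h2⟩ := Sigma.mk.inj h
      subst h1
      cases h2
      rfl)
  haveI := finite_hom_truncated k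
  haveI : ∀ f g : CostructuredArrow L Y, Finite (f ⟶ g) := fun f g =>
    Finite.of_injective (fun φ => φ.left) (fun φ ψ h => CostructuredArrow.hom_ext _ _ h)
  haveI : FinCategory (CostructuredArrow L Y) :=
    { fintypeObj := Fintype.ofFinite _, fintypeHom := fun _ _ => Fintype.ofFinite _ }
  show HasColimit _
  infer_instance

theorem pointwiseRight [HasFiniteLimits C] (k : ℕ) (F : (SimplexCategory.Truncated k)ᵒᵖ ⥤ C) :
    (SimplexCategory.Truncated.inclusion k).op.HasPointwiseRightKanExtension F := fun Y => by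
  let L := (SimplexCategory.Truncated.inclusion k).op
  haveI := finite_truncated k
  haveI := finite_hom_op
  haveI : Finite (SimplexCategory.Truncated k)ᵒᵖ := Finite.of_equiv _ equivToOpposite
  haveI : Finite (StructuredArrow Y L) := Finite.of_injective
    (fun f => (⟨f.right, f.hom⟩ : Σ a, (Y ⟶ L.obj a)))
    (fun f g h => by
      obtain ⟨⟨⟨⟩⟩, fl, fh⟩ := f
      obtain ⟨⟨⟨⟩⟩, gl, gh⟩ := g
      obtain ⟨h1, h2⟩ := Sigma.mk.inj h
      subst h1
      cases h2
      rfl)
  haveI := finite_hom_truncated k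
  haveI : ∀ f g : StructuredArrow Y L, Finite (f ⟶ g) := fun f g =>
    Finite.of_injective (fun φ => φ.right) (fun φ ψ h => StructuredArrow.hom_ext _ _ h)
  haveI : FinCategory (StructuredArrow Y L) :=
    { fintypeObj := Fintype.ofFinite _, fintypeHom := fun _ _ => Fintype.ofFinite _ }
  show HasLimit _
  infer_instance

end Kan

variable {U V : SSet.{u}} (f : U ⟶ V)

theorem injective_of_nonDegenerate
    (ha : ∀ (n : ℕ) (x : U _⦋n⦌), x ∈ U.nonDegenerate n → f.app (op ⦋n⦌) x ∈ V.nonDegenerate n)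
    (hb : ∀ n : ℕ, Set.InjOn (f.app (op ⦋n⦌)) (U.nonDegenerate n)) (n : ℕ) :
    Function.Injective (f.app (op ⦋n⦌)) := by
  intro x x' h
  obtain ⟨m, σ, _, ⟨a, haa⟩, rfl⟩ := U.exists_nonDegenerate x
  obtain ⟨m', σ', _, ⟨a', haa'⟩, rfl⟩ := U.exists_nonDegenerate x'
  have h' : V.map σ.op (f.app _ a) = V.map σ'.op (f.app _ a') :=
    (NatTrans.naturality_apply f σ.op a).symm.trans (h.trans (NatTrans.naturality_apply f σ'.op a'))
  obtain rfl := V.unique_nonDegenerate_dim _ σ ⟨_, ha m a haa⟩ rfl σ' ⟨_, ha m' a' haa'⟩ h'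
  have h1 := congrArg Subtype.val (V.unique_nonDegenerate_simplex _ σ ⟨_, ha m a haa⟩ rfl σ' ⟨_, ha m a' haa'⟩ h')
  have h2 := V.unique_nonDegenerate_map _ σ ⟨_, ha m a haa⟩ rfl σ' ⟨_, ha m a' haa'⟩ h'
  subst h2
  exact congrArg (U.map σ.op) (hb m haa haa' h1)

theorem surjective_of_nonDegenerate
    (hb : ∀ n : ℕ, Set.SurjOn (f.app (op ⦋n⦌)) (U.nonDegenerate n) (V.nonDegenerate n)) (n : ℕ) :
    Function.Surjective (f.app (op ⦋n⦌)) := by
  intro y
  obtain ⟨m, σ, _, ⟨b, hbb⟩, rfl⟩ := V.exists_nonDegenerate y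
  obtain ⟨a, -, rfl⟩ := hb m hbb
  exact ⟨U.map σ.op a, NatTrans.naturality_apply f σ.op a⟩

/-- a map out of a skeleton factors through the skeleton subcomplex. -/
lemma exists_lift (n : ℕ) {W : SSet.Truncated.{u} n} {X : SSet.{u}} (g : (SSet.Truncated.sk n).obj W ⟶ X) :
    ∃ s, s ≫ (X.skeleton (n + 1)).ι = g := by
  haveI : IsIso ((SSet.truncation n).map (X.skeleton (n + 1)).ι) := by
    haveI : ∀ k, IsIso (((SSet.truncation n).map (X.skeleton (n + 1)).ι).app k) := fun k => by
      rw [isIso_iff_bijective]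
      exact ⟨fun a b h => Subtype.ext h, fun x => ⟨⟨x, X.mem_skeleton (i := k.unop.obj.len) x
        (Nat.lt_succ_of_le k.unop.property)⟩, rfl⟩⟩
    exact NatIso.isIso_of_isIso_app _
  let adj := SSet.skAdj.{u} n
  refine ⟨(adj.homEquiv W _).symm (adj.homEquiv W X g ≫ inv ((SSet.truncation n).map (X.skeleton (n + 1)).ι)), ?_⟩
  apply (adj.homEquiv W X).injective
  rw [Adjunction.homEquiv_naturality_right, Equiv.apply_symm_apply, Category.assoc, IsIso.inv_hom_id,
    Category.comp_id]

theorem hasDimensionLT_sk (n : ℕ) (W : SSet.Truncated.{u} n) :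
    ((SSet.Truncated.sk n).obj W).HasDimensionLT (n + 1) := by
  obtain ⟨s, hs⟩ := exists_lift n (𝟙 ((SSet.Truncated.sk n).obj W))
  refine ⟨fun k hk => Set.eq_univ_of_forall fun x => ?_⟩
  by_contra hx
  have hx' : x ∈ ((SSet.Truncated.sk n).obj W).nonDegenerate k := hx
  have hmem : x ∈ (((SSet.Truncated.sk n).obj W).skeleton (n + 1)).obj _ := by
    have h := congrArg (fun q => q x) (NatTrans.congr_app hs (op ⦋k⦌))
    exact Eq.subst (motive := fun z => z ∈ (((SSet.Truncated.sk n).obj W).skeleton (n + 1)).obj _) h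
      (s.app (op ⦋k⦌) x).2
  have := (SSet.mem_skeleton_obj_iff_of_nonDegenerate _ ⟨x, hx'⟩ (n + 1)).1 hmem
  omega

theorem skAdj_counit_mono_and_range (X : SSet.{u}) (n : ℕ) :
    Mono ((SSet.skAdj n).counit.app X) ∧
      SSet.Subcomplex.range ((SSet.skAdj n).counit.app X) = X.skeleton (n + 1) := by
  let adj := SSet.skAdj.{u} n
  let ε := adj.counit.app X
  have hεiso : IsIso ((SSet.truncation n).map ε) :=
    IsIso.of_isIso_fac_left (h := 𝟙 _) (adj.right_triangle_components X)
  have hiso : ∀ i, i ≤ n → Function.Bijective (ε.app (op ⦋i⦌)) := fun i hi =>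
    (isIso_iff_bijective _).1
      (inferInstanceAs (IsIso (((SSet.truncation n).map ε).app (op ⟨⦋i⦌, hi⟩))))
  have hdim := hasDimensionLT_sk n ((SSet.truncation n).obj X)
  refine ⟨?_, le_antisymm ?_ ?_⟩
  · have hle : ∀ k x, x ∈ ((SSet.Truncated.sk n).obj ((SSet.truncation n).obj X)).nonDegenerate k → k ≤ n :=
      fun k x hx => by
        by_contra hk
        exact hx (((hdim.degenerate_eq_top k (by omega))).symm ▸ Set.mem_univ x)
    have hinj := injective_of_nonDegenerate (U := (SSet.Truncated.sk n).obj ((SSet.truncation n).obj X)) ε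
      (fun k x hx hdeg => by
        have hk := hle k x hx
        obtain ⟨j, hjk, σ, hσ, y, hy⟩ := (SSet.mem_degenerate_iff _ _).1 hdeg
        obtain ⟨y', rfl⟩ := (hiso j (by omega)).2 y
        refine hx ((SSet.mem_degenerate_iff _ _).2 ⟨j, hjk, σ, hσ, y', ?_⟩)
        exact (hiso k hk).1 ((NatTrans.naturality_apply ε σ.op y').trans hy))
      (fun k x hx z _ h => (hiso k (hle k x hx)).1 h)
    haveI : ∀ k, Mono (ε.app k) := fun k => (mono_iff_injective _).2 (hinj k.unop.len)
    exact NatTrans.mono_of_mono_app ε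
  · obtain ⟨s, hs⟩ := exists_lift n ε
    rintro k _ ⟨x, rfl⟩
    exact Eq.subst (motive := fun z => z ∈ (X.skeleton (n + 1)).obj k)
      (congrArg (fun q => q x) (NatTrans.congr_app hs k)) (s.app k x).2
  · rw [SSet.skeleton]
    refine iSup_le fun i => iSup_le fun a => ?_
    rw [SSet.Subcomplex.ofSimplex_le_iff]
    exact (hiso _ (by omega)).2 _

end Groth.L09.SSetSkel
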