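import Groth.Agent.L09.StkBase
import Groth.Prelude.Def_W4c2modmodulilectNerve
import Mathlib.CategoryTheory.Category.ULift
import Mathlib.CategoryTheory.Comma.StructuredArrow.Basic
import Mathlib.CategoryTheory.Groupoid

/-!
Sections of categories fibred in groupoids extend along functors with simply connected comma categories.
-/

set_option autoImplicit false
universe w v₄ u₄ v₃ u₃ v₂ u₂ v₁ u₁

open CategoryTheory Category Functor

namespace Groth.L09.SectionExt

/-- connected and simply connected, as seen by a groupoid `T`. -/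
def Trivial (A : Type u₁) [Category.{v₁} A] (T : Type u₄) [Category.{v₄} T] : Prop :=
  (∀ (x y : T) (f : A → (x ⟶ y)), (∀ {a b : A} (_ : a ⟶ b), f a = f b) → ∀ a b, f a = f b) ∧
  (∀ Φ : A ⥤ T, ∃ x : T, Nonempty ((Functor.const A).obj x ≅ Φ))

theorem trivial_of_hasContractibleNerve {A : Type u₁} [Category.{v₁} A] {T : Type u₄} [Category.{v₄} T]
    [IsGroupoid T]
    (h : W4c2modmodulilect.HasContractibleNerve.{max w u₄ v₄, max w u₄ v₄} A) : Trivial A T := by
  have hd : (AsSmall.down : AsSmall.{w} T ⥤ T).IsEquivalence := (AsSmall.equiv (C := T)).isEquivalence_inverse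
  have hu : (AsSmall.up : T ⥤ AsSmall.{w} T).IsEquivalence := (AsSmall.equiv (C := T)).isEquivalence_functor
  have : IsGroupoid (AsSmall.{w} T) := IsGroupoid.mk fun {x y} f => by
    have : IsIso ((AsSmall.down : AsSmall.{w} T ⥤ T).map f) := IsGroupoid.all_isIso _
    exact isIso_of_reflects_iso f (AsSmall.down : AsSmall.{w} T ⥤ T)
  let : Groupoid.{max w u₄ v₄} (AsSmall.{w} T) := Groupoid.ofIsIso fun f => IsGroupoid.all_isIso f
  have hE := h.2 (AsSmall.{w} T)
  refine ⟨fun x y f hf a b => ?_, fun Φ => ?_⟩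
  · let U : T ⥤ AsSmall.{w} T := AsSmall.up
    let τ : (Functor.const A).obj (U.obj x) ⟶ (Functor.const A).obj (U.obj y) :=
      { app := fun a => U.map (f a)
        naturality := fun a b m => (id_comp _).trans ((congrArg U.map (hf m).symm).trans (comp_id _).symm) }
    obtain ⟨g, hg⟩ := Functor.map_surjective (Functor.const A) τ
    have e : ∀ a, g = U.map (f a) := fun a => congrArg (fun t => NatTrans.app t a) hg
    exact U.map_injective ((e a).symm.trans (e b))
  · let x := (Functor.const A).objPreimage (Φ ⋙ (AsSmall.up : T ⥤ AsSmall.{w} T))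
    let i : (Functor.const A).obj x ≅ Φ ⋙ (AsSmall.up : T ⥤ AsSmall.{w} T) := (Functor.const A).objObjPreimageIso _
    exact ⟨AsSmall.down.obj x, ⟨NatIso.ofComponents (fun a => AsSmall.down.mapIso (i.app a))
      (fun {a b} m => by
        have := congrArg AsSmall.down.map (i.hom.naturality m)
        simp only [Functor.map_comp] at this
        exact this)⟩⟩

section

variable {C : Type u₁} [Category.{v₁} C] {D : Type u₂} [Category.{v₂} D] {F : Type u₃} [Category.{v₃} F]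
  (φ : C ⥤ D) (p : F ⥤ D)

/-- The restriction functor on sections. -/
abbrev res := Stk.restr (FibCat.toSelf (BasedCategory.ofFunctor φ)) (BasedCategory.ofFunctor p)

variable {φ p}

lemma section_lift (A : FibCat.selfOver D ⥤ᵇ BasedCategory.ofFunctor p) {Y Z : D} (j : Y ⟶ Z) :
    p.IsHomLift j (A.map j) := by
  have : (FibCat.selfOver D).p.IsHomLift j j := IsHomLift.map (𝟭 D) j
  exact BasedFunctor.preserves_isHomLift A j j

theorem restr_faithful (hp : FibCat.IsFibGrpd p) (hne : ∀ Y : D, Nonempty (StructuredArrow Y φ)) :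
    (res φ p).Faithful := ⟨fun {A B} α β e => BasedNatTrans.homCategory.ext _ _ (by
  ext Y
  obtain ⟨a⟩ := hne Y
  let αY : A.obj Y ⟶ B.obj Y := α.toNatTrans.app Y
  let βY : A.obj Y ⟶ B.obj Y := β.toNatTrans.app Y
  have : p.IsHomLift (𝟙 Y) αY := α.isHomLift' Y
  have : p.IsHomLift (𝟙 Y) βY := β.isHomLift' Y
  have := section_lift B a.hom
  have := Fib.stronglyCartesian_of_isFibGrpd p hp a.hom (B.map a.hom)
  show αY = βY
  apply IsStronglyCartesian.ext p a.hom (B.map a.hom) (𝟙 Y)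
  have h1 : α.toNatTrans.app (φ.obj a.right) = β.toNatTrans.app (φ.obj a.right) :=
    congrArg (fun t => NatTrans.app t a.right) (congrArg
      (fun t : (res φ p).obj A ⟶ (res φ p).obj B => t.toNatTrans) e)
  exact ((α.toNatTrans.naturality a.hom).symm.trans (congrArg (A.map a.hom ≫ ·) h1)).trans
    (β.toNatTrans.naturality a.hom))⟩

theorem full_aux (hp : FibCat.IsFibGrpd p) (hne : ∀ Y : D, Nonempty (StructuredArrow Y φ))
    (htriv : ∀ Y Z : D, Trivial (StructuredArrow Y φ) (p.Fiber Z)) (A B : D ⥤ F)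
    (hA : ∀ {Y Z : D} (j : Y ⟶ Z), p.IsHomLift j (A.map j))
    (hB : ∀ {Y Z : D} (j : Y ⟶ Z), p.IsHomLift j (B.map j))
    (γ₀ : φ ⋙ A ⟶ φ ⋙ B) (hlift : ∀ c : C, p.IsHomLift (𝟙 (φ.obj c)) (γ₀.app c)) :
    ∃ α : A ⟶ B, (∀ Y, p.IsHomLift (𝟙 Y) (α.app Y)) ∧ ∀ c, α.app (φ.obj c) = γ₀.app c := by
  have key : ∀ Y : D, ∃ (f : A.obj Y ⟶ B.obj Y), p.IsHomLift (𝟙 Y) f ∧
      ∀ (a : StructuredArrow Y φ), f ≫ B.map a.hom = A.map a.hom ≫ γ₀.app a.right := by
    intro Y
    have hx : p.obj (A.obj Y) = Y := @IsHomLift.domain_eq _ _ _ _ p _ _ _ _ _ _ (hA (𝟙 Y))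
    have hy : p.obj (B.obj Y) = Y := @IsHomLift.domain_eq _ _ _ _ p _ _ _ _ _ _ (hB (𝟙 Y))
    have hex : ∀ a : StructuredArrow Y φ, ∃ f : A.obj Y ⟶ B.obj Y, p.IsHomLift (𝟙 Y) f ∧
        f ≫ B.map a.hom = A.map a.hom ≫ γ₀.app a.right := by
      intro a
      have := hA a.hom
      have := hB a.hom
      have := Fib.stronglyCartesian_of_isFibGrpd p hp a.hom (B.map a.hom)
      let g₀ : A.obj (φ.obj a.right) ⟶ B.obj (φ.obj a.right) := γ₀.app a.right
      have : p.IsHomLift (𝟙 (φ.obj a.right)) g₀ := hlift a.right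
      exact ⟨IsCartesian.map p a.hom (B.map a.hom) (A.map a.hom ≫ g₀),
        IsCartesian.map_isHomLift p a.hom (B.map a.hom) (A.map a.hom ≫ g₀),
        IsCartesian.fac p a.hom (B.map a.hom) (A.map a.hom ≫ g₀)⟩
    choose f hfl hf using hex
    let x : p.Fiber Y := ⟨A.obj Y, hx⟩
    let y : p.Fiber Y := ⟨B.obj Y, hy⟩
    let g : StructuredArrow Y φ → (x ⟶ y) := fun a => ⟨f a, hfl a⟩
    have hg : ∀ {a b : StructuredArrow Y φ} (_ : a ⟶ b), g a = g b := by
      intro a b m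
      refine Subtype.ext ?_
      show f a = f b
      have := hB b.hom
      have := Fib.stronglyCartesian_of_isFibGrpd p hp b.hom (B.map b.hom)
      have := hfl a
      have := hfl b
      apply IsStronglyCartesian.ext p b.hom (B.map b.hom) (𝟙 Y)
      rw [hf b, ← StructuredArrow.w m, Functor.map_comp, Functor.map_comp, ← assoc, hf a, assoc, assoc]
      exact congrArg (A.map a.hom ≫ ·) (γ₀.naturality m.right).symm
    obtain ⟨a₀⟩ := hne Y
    refine ⟨f a₀, hfl a₀, fun a => ?_⟩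
    have e : f a₀ = f a := congrArg Subtype.val ((htriv Y Y).1 x y g hg a₀ a)
    rw [e]; exact hf a
  choose f hfl hf using key
  refine ⟨{ app := f, naturality := fun Y Z j => ?_ }, hfl, fun c => ?_⟩
  · obtain ⟨a⟩ := hne Z
    have := hA j
    have := hB j
    have := hB a.hom
    have := Fib.stronglyCartesian_of_isFibGrpd p hp a.hom (B.map a.hom)
    have := hfl Y
    have := hfl Z
    apply IsStronglyCartesian.ext p a.hom (B.map a.hom) j
    have h2 : f Y ≫ B.map (j ≫ a.hom) = A.map (j ≫ a.hom) ≫ γ₀.app a.right :=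
      hf Y (StructuredArrow.mk (j ≫ a.hom))
    rw [B.map_comp, A.map_comp, assoc] at h2
    rw [assoc, assoc, hf Z a, h2]
  · have h : f (φ.obj c) ≫ B.map (𝟙 (φ.obj c)) = A.map (𝟙 (φ.obj c)) ≫ γ₀.app c :=
      hf (φ.obj c) (StructuredArrow.mk (𝟙 (φ.obj c)))
    rw [A.map_id, B.map_id] at h
    exact ((comp_id _).symm.trans h).trans (id_comp _)

theorem restr_full (hp : FibCat.IsFibGrpd p) (hne : ∀ Y : D, Nonempty (StructuredArrow Y φ))
    (htriv : ∀ Y Z : D, Trivial (StructuredArrow Y φ) (p.Fiber Z)) : (res φ p).Full := by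
  refine ⟨fun {A B} γ => ?_⟩
  obtain ⟨α, hl, hα⟩ := full_aux hp hne htriv A.toFunctor B.toFunctor (fun j => section_lift A j)
    (fun j => section_lift B j) γ.toNatTrans (fun c => γ.isHomLift' c)
  refine ⟨{ toNatTrans := α, isHomLift' := hl }, BasedNatTrans.homCategory.ext _ _ ?_⟩
  ext c
  exact hα c

theorem exists_cone (hp : FibCat.IsFibGrpd p) {Y : D} (htriv : Trivial (StructuredArrow Y φ) (p.Fiber Y))
    (M : C ⥤ F) (hM : M ⋙ p = φ) :
    ∃ (x : p.Fiber Y) (ψ : ∀ a : StructuredArrow Y φ, x.1 ⟶ M.obj a.right),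
      (∀ a, p.IsHomLift a.hom (ψ a)) ∧ ∀ {a b : StructuredArrow Y φ} (m : a ⟶ b), ψ a ≫ M.map m.right = ψ b := by
  have := Fib.isFibered_of_isFibGrpd p hp
  have hobj : ∀ c, p.obj (M.obj c) = φ.obj c := Functor.congr_obj hM
  let z : ∀ a : StructuredArrow Y φ, F := fun a => IsPreFibered.pullbackObj (p := p) (hobj a.right) a.hom
  let π : ∀ a : StructuredArrow Y φ, z a ⟶ M.obj a.right :=
    fun a => IsPreFibered.pullbackMap (p := p) (hobj a.right) a.hom
  have hπ : ∀ a, p.IsStronglyCartesian a.hom (π a) := fun a =>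
    Fib.stronglyCartesian_of_isFibGrpd p hp a.hom (π a)
  have hl : ∀ {a b : StructuredArrow Y φ} (m : a ⟶ b), p.IsHomLift b.hom (π a ≫ M.map m.right) := by
    intro a b m
    have h1 : p.IsHomLift (φ.map m.right) (M.map m.right) := by
      refine IsHomLift.of_fac' p _ _ (hobj _) (hobj _) ?_
      exact Functor.congr_hom hM m.right
    rw [← StructuredArrow.w m]
    have := hπ a
    infer_instance
  let k : ∀ {a b : StructuredArrow Y φ} (_ : a ⟶ b), z a ⟶ z b := fun {a b} m =>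
    have := hπ b; have := hl m
    IsCartesian.map p b.hom (π b) (π a ≫ M.map m.right)
  have hk : ∀ {a b : StructuredArrow Y φ} (m : a ⟶ b), k m ≫ π b = π a ≫ M.map m.right := fun {a b} m =>
    have := hπ b; have := hl m
    IsCartesian.fac p b.hom (π b) (π a ≫ M.map m.right)
  have hkl : ∀ {a b : StructuredArrow Y φ} (m : a ⟶ b), p.IsHomLift (𝟙 Y) (k m) := fun {a b} m =>
    have := hπ b; have := hl m
    IsCartesian.map_isHomLift p b.hom (π b) (π a ≫ M.map m.right)
  have hext : ∀ {a b : StructuredArrow Y φ} (f g : z a ⟶ z b), p.IsHomLift (𝟙 Y) f → p.IsHomLift (𝟙 Y) g →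
      f ≫ π b = g ≫ π b → f = g := fun {a b} f g _ _ e =>
    have := hπ b
    IsStronglyCartesian.ext p b.hom (π b) (𝟙 Y) e
  have hz : ∀ a, p.obj (z a) = Y := fun a => IsPreFibered.pullbackObj_proj (hobj a.right) a.hom
  let Φ : StructuredArrow Y φ ⥤ p.Fiber Y :=
    { obj := fun a => ⟨z a, hz a⟩
      map := fun m => ⟨k m, hkl m⟩
      map_id := fun a => Subtype.ext (hext _ _ (hkl _) (IsHomLift.id (hz a)) (by
        show k (𝟙 a) ≫ π a = 𝟙 (z a) ≫ π a
        rw [hk, show (𝟙 a : a ⟶ a).right = 𝟙 a.right from rfl, M.map_id, comp_id, id_comp]))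
      map_comp := fun {a b c} m n => Subtype.ext (hext _ _ (hkl _)
        (by have := hkl m; have := hkl n; show p.IsHomLift (𝟙 Y) (k m ≫ k n); infer_instance) (by
        show k (m ≫ n) ≫ π c = (k m ≫ k n) ≫ π c
        rw [hk, assoc, hk, reassoc_of% (hk m),
          show (m ≫ n).right = m.right ≫ n.right from rfl, M.map_comp])) }
  obtain ⟨x, ⟨i⟩⟩ := htriv.2 Φ
  refine ⟨x, fun a => (i.hom.app a).1 ≫ π a, fun a => ?_, fun {a b} m => ?_⟩
  · have : p.IsHomLift (𝟙 Y) (i.hom.app a).1 := (i.hom.app a).2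
    have := hπ a
    exact IsHomLift.comp_lift_id_left' p Y (i.hom.app a).1 a.hom (π a)
  · have h1 : (i.hom.app a).1 ≫ k m = (i.hom.app b).1 :=
      (congrArg Subtype.val (i.hom.naturality m)).symm.trans (id_comp _)
    show ((i.hom.app a).1 ≫ π a) ≫ M.map m.right = (i.hom.app b).1 ≫ π b
    rw [← h1, assoc, assoc, hk]

theorem restr_essSurj (hp : FibCat.IsFibGrpd p) (hne : ∀ Y : D, Nonempty (StructuredArrow Y φ))
    (htriv : ∀ Y Z : D, Trivial (StructuredArrow Y φ) (p.Fiber Z)) : (res φ p).EssSurj := by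
  refine ⟨fun M => ?_⟩
  have hM : (M.toFunctor : C ⥤ F) ⋙ p = φ := M.w
  let M₀ : C ⥤ F := M.toFunctor
  have := Fib.isFibered_of_isFibGrpd p hp
  choose x ψ hψl hψ using fun Y : D => exists_cone hp (htriv Y Y) M₀ hM
  have key : ∀ {Y Z : D} (j : Y ⟶ Z), ∃ f : (x Y).1 ⟶ (x Z).1, p.IsHomLift j f ∧
      ∀ a : StructuredArrow Z φ, f ≫ ψ Z a = ψ Y (StructuredArrow.mk (j ≫ a.hom)) := by
    intro Y Z j
    let π := IsPreFibered.pullbackMap (p := p) (x Z).2 j
    let z := IsPreFibered.pullbackObj (p := p) (x Z).2 j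
    have hz : p.obj z = Y := IsPreFibered.pullbackObj_proj (x Z).2 j
    have hex : ∀ a : StructuredArrow Z φ, ∃ g : (x Y).1 ⟶ z, p.IsHomLift (𝟙 Y) g ∧
        g ≫ π ≫ ψ Z a = ψ Y (StructuredArrow.mk (j ≫ a.hom)) := by
      intro a
      have := hψl Z a
      have : p.IsHomLift (j ≫ a.hom) (π ≫ ψ Z a) := inferInstance
      have := Fib.stronglyCartesian_of_isFibGrpd p hp (j ≫ a.hom) (π ≫ ψ Z a)
      have : p.IsHomLift (j ≫ a.hom) (ψ Y (StructuredArrow.mk (j ≫ a.hom))) :=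
        hψl Y (StructuredArrow.mk (j ≫ a.hom))
      exact ⟨IsCartesian.map p (j ≫ a.hom) (π ≫ ψ Z a) (ψ Y (StructuredArrow.mk (j ≫ a.hom))),
        IsCartesian.map_isHomLift _ _ _ _, IsCartesian.fac _ _ _ _⟩
    choose g hgl hg using hex
    let sa : StructuredArrow Z φ → StructuredArrow Y φ := fun a => StructuredArrow.mk (j ≫ a.hom)
    have hg2 : ∀ {a b : StructuredArrow Z φ} (_ : a ⟶ b), g a = g b := by
      intro a b m
      have := hψl Z b
      have : p.IsHomLift (j ≫ b.hom) (π ≫ ψ Z b) := inferInstance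
      have := Fib.stronglyCartesian_of_isFibGrpd p hp (j ≫ b.hom) (π ≫ ψ Z b)
      have := hgl a
      have := hgl b
      apply IsStronglyCartesian.ext p (j ≫ b.hom) (π ≫ ψ Z b) (𝟙 Y)
      let m' : sa a ⟶ sa b := StructuredArrow.homMk m.right (by
        show (j ≫ a.hom) ≫ φ.map m.right = j ≫ b.hom
        rw [assoc, StructuredArrow.w m])
      rw [hg b]
      refine Eq.trans ?_ (hψ Y m')
      show g a ≫ π ≫ ψ Z b = ψ Y (sa a) ≫ M₀.map m.right
      rw [← hψ Z m, ← hg a]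
      simp
    obtain ⟨a₀⟩ := hne Z
    have heq : ∀ a, g a = g a₀ := fun a => congrArg Subtype.val
      ((htriv Z Y).1 ⟨(x Y).1, (x Y).2⟩ ⟨z, hz⟩ (fun a => ⟨g a, hgl a⟩) (fun m => Subtype.ext (hg2 m)) a a₀)
    refine ⟨g a₀ ≫ π, ?_, fun a => ?_⟩
    · have := hgl a₀
      exact IsHomLift.comp_lift_id_left' p Y (g a₀) j π
    · rw [assoc, ← heq a, hg a]
  choose fm hfml hfm using @key
  have hext : ∀ {Y Z : D} (j : Y ⟶ Z) (f₁ f₂ : (x Y).1 ⟶ (x Z).1), p.IsHomLift j f₁ → p.IsHomLift j f₂ →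
      (∀ a : StructuredArrow Z φ, f₁ ≫ ψ Z a = f₂ ≫ ψ Z a) → f₁ = f₂ := by
    intro Y Z j f₁ f₂ l₁ l₂ e
    obtain ⟨a⟩ := hne Z
    have := hψl Z a
    have := Fib.stronglyCartesian_of_isFibGrpd p hp a.hom (ψ Z a)
    exact IsStronglyCartesian.ext p a.hom (ψ Z a) j (e a)
  have hcongr : ∀ {Y : D} {c : C} (h h' : Y ⟶ φ.obj c), h = h' →
      ψ Y (StructuredArrow.mk h) = ψ Y (StructuredArrow.mk h') := by
    rintro Y c h _ rfl; rfl
  let G₀ : D ⥤ F :=
    { obj := fun Y => (x Y).1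
      map := fun {Y Z} j => fm j
      map_id := fun Y => hext (𝟙 Y) _ _ (hfml _) (IsHomLift.id (x Y).2)
        (fun a => ((hfm (𝟙 Y) a).trans ((hcongr _ _ (id_comp _)).trans rfl)).trans (id_comp _).symm)
      map_comp := fun {Y Z W} j k => hext (j ≫ k) _ _ (hfml _)
        (by have := hfml j; have := hfml k; infer_instance)
        (fun a => (hfm (j ≫ k) a).trans ((hcongr _ _ (assoc _ _ _)).trans
          ((hfm j (StructuredArrow.mk (k ≫ a.hom))).symm.trans
            ((congrArg (fm j ≫ ·) (hfm k a).symm).trans (assoc _ _ _).symm)))) }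
  let G : FibCat.selfOver D ⥤ᵇ BasedCategory.ofFunctor p :=
    { toFunctor := G₀
      w := CategoryTheory.Functor.ext (fun Y => (x Y).2) (fun Y Z j => by
        have := hfml j
        exact IsHomLift.fac' p j (fm j)) }
  let app : ∀ c : C, (x (φ.obj c)).1 ⟶ M₀.obj c := fun c => ψ (φ.obj c) (StructuredArrow.mk (𝟙 (φ.obj c)))
  have hl : ∀ c : C, p.IsHomLift (𝟙 (φ.obj c)) (app c) := fun c => hψl (φ.obj c) (StructuredArrow.mk (𝟙 (φ.obj c)))
  have hiso : ∀ c, IsIso (app c) := fun c =>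
    have := hl c
    Fib.isIso_of_isFibGrpd p hp (𝟙 (φ.obj c)) (app c)
  refine ⟨G, ⟨BasedNatIso.mkNatIso (NatIso.ofComponents (fun c => @asIso _ _ _ _ (app c) (hiso c)) ?_) hl⟩⟩
  intro a b m
  show fm (φ.map m) ≫ app b = app a ≫ M₀.map m
  rw [hfm]
  refine Eq.trans ?_ (hψ (φ.obj a) (StructuredArrow.homMk m (by simp) :
    StructuredArrow.mk (𝟙 (φ.obj a)) ⟶ StructuredArrow.mk (φ.map m ≫ 𝟙 (φ.obj b)))).symm
  rfl

theorem restr_isEquivalence (hp : FibCat.IsFibGrpd p) (hne : ∀ Y : D, Nonempty (StructuredArrow Y φ))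
    (htriv : ∀ Y Z : D, Trivial (StructuredArrow Y φ) (p.Fiber Z)) : (res φ p).IsEquivalence :=
  @Functor.IsEquivalence.mk _ _ _ _ _ (restr_faithful hp hne) (restr_full hp hne htriv)
    (restr_essSurj hp hne htriv)

theorem trivial_structuredArrow [φ.IsFibered] {Y : D} {T : Type u₄} [Category.{v₄} T] [IsGroupoid T]
    (hne : Nonempty (φ.Fiber Y)) (h : Trivial (φ.Fiber Y) T) :
    Nonempty (StructuredArrow Y φ) ∧ Trivial (StructuredArrow Y φ) T := by
  let i : φ.Fiber Y ⥤ StructuredArrow Y φ :=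
    { obj := fun a => StructuredArrow.mk (Y := a.1) (eqToHom a.2.symm)
      map := fun {a b} f => StructuredArrow.homMk f.1 (by
        have := f.2
        show eqToHom a.2.symm ≫ φ.map f.1 = eqToHom b.2.symm
        rw [IsHomLift.fac' φ (𝟙 Y) f.1]
        simp) }
  refine ⟨⟨i.obj hne.some⟩, ?_⟩
  let r : StructuredArrow Y φ → φ.Fiber Y := fun a =>
    ⟨IsPreFibered.pullbackObj (p := φ) rfl a.hom, IsPreFibered.pullbackObj_proj rfl a.hom⟩
  let c : ∀ a, i.obj (r a) ⟶ a := fun a => StructuredArrow.homMk (IsPreFibered.pullbackMap (p := φ) rfl a.hom) (by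
    show eqToHom (r a).2.symm ≫ φ.map (IsPreFibered.pullbackMap (p := φ) (rfl : φ.obj a.right = _) a.hom) = a.hom
    rw [IsHomLift.fac' φ a.hom (IsPreFibered.pullbackMap (p := φ) (rfl : φ.obj a.right = _) a.hom)]
    simp)
  have hc : ∀ {a b} (m : a ⟶ b), ∃ k : r a ⟶ r b, i.map k ≫ c b = c a ≫ m := by
    intro a b m
    let π := IsPreFibered.pullbackMap (p := φ) (rfl : φ.obj b.right = _) b.hom
    have hl : φ.IsHomLift b.hom ((c a).right ≫ m.right) := by
      have h0 := StructuredArrow.w (c a ≫ m)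
      refine IsHomLift.of_fac φ _ _ (r a).2 rfl ?_
      simp
      exact h0.symm.trans (congrArg (eqToHom (r a).2.symm ≫ ·) (φ.map_comp _ _))
    let k := IsCartesian.map φ b.hom π ((c a).right ≫ m.right)
    have hk : k ≫ π = (c a).right ≫ m.right := IsCartesian.fac _ _ _ _
    exact ⟨⟨k, IsCartesian.map_isHomLift _ _ _ _⟩, StructuredArrow.hom_ext _ _ hk⟩
  refine ⟨fun x y f hf a b => ?_, fun Φ => ?_⟩
  · rw [← hf (c a), ← hf (c b)]
    exact h.1 x y (fun z => f (i.obj z)) (fun {z z'} k => hf (i.map k)) (r a) (r b)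
  · obtain ⟨x, ⟨θ⟩⟩ := h.2 (i ⋙ Φ)
    refine ⟨x, ⟨NatIso.ofComponents (fun a => θ.app (r a) ≪≫ asIso (Φ.map (c a))) ?_⟩⟩
    intro a b m
    obtain ⟨k, hk⟩ := hc m
    have h1 : θ.hom.app (r a) ≫ Φ.map (i.map k) = θ.hom.app (r b) :=
      (θ.hom.naturality k).symm.trans (id_comp _)
    show 𝟙 x ≫ θ.hom.app (r b) ≫ Φ.map (c b) = (θ.hom.app (r a) ≫ Φ.map (c a)) ≫ Φ.map m
    rw [id_comp, ← h1, assoc, assoc, ← Φ.map_comp, ← Φ.map_comp, hk]

end

end Groth.L09.SectionExt
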