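import Mathlib.CategoryTheory.Sites.Coverage
import Mathlib.CategoryTheory.Sites.Canonical

/-!
Topology generated by two precoverages, one stable, the other living on a class of objects.
-/

set_option autoImplicit false
universe w v u

open CategoryTheory

namespace Groth.L09.ShfGenTop

variable {C : Type u} [Category.{v} C]

lemma bind_mem (P : Precoverage C) [P.IsStableUnderComposition] {X : C} {R : Presieve X}
    (hR : R ∈ P X) (R' : ∀ ⦃Y : C⦄ ⦃f : Y ⟶ X⦄, R f → Presieve Y)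
    (hR' : ∀ ⦃Y : C⦄ ⦃f : Y ⟶ X⦄ (hf : R f), R' hf ∈ P Y) : R.bind R' ∈ P X := by
  let ι := Σ Y : C, {f : Y ⟶ X // R f}
  let σ : ι → Type (max u v) := fun i => Σ Z : C, {g : Z ⟶ i.1 // R' i.2.2 g}
  have h1 : Presieve.ofArrows (fun i : ι => i.1) (fun i => i.2.1) = R := by
    refine le_antisymm ?_ ?_
    · rintro Y f ⟨i⟩
      exact i.2.2
    · intro Y f hf
      exact Presieve.ofArrows.mk (f := fun i : ι => i.2.1) ⟨Y, f, hf⟩
  have h2 : ∀ i : ι, Presieve.ofArrows (fun j : σ i => j.1) (fun j => j.2.1) = R' i.2.2 := fun i => by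
    refine le_antisymm ?_ ?_
    · rintro Y f ⟨j⟩
      exact j.2.2
    · intro Y f hf
      exact Presieve.ofArrows.mk (f := fun j : σ i => j.2.1) ⟨Y, f, hf⟩
  have h3 := Precoverage.comp_mem_coverings (J := P) (fun i : ι => i.2.1) (by rw [h1]; exact hR)
    (σ := σ) (fun i j => j.2.1) (fun i => by rw [h2]; exact hR' i.2.2)
  have h4 : Presieve.ofArrows (fun p : Σ i, σ i => p.2.1) (fun p => p.2.2.1 ≫ p.1.2.1) = R.bind R' := by
    refine le_antisymm ?_ ?_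
    · rintro Y f ⟨p⟩
      exact Presieve.bind_comp _ p.1.2.2 p.2.2.2
    · rintro Z h ⟨Y, g, f, hf, hg, rfl⟩
      exact Presieve.ofArrows.mk (f := fun p : Σ i, σ i => p.2.2.1 ≫ p.1.2.1) ⟨⟨Y, f, hf⟩, ⟨Z, g, hg⟩⟩
  rw [← h4]
  exact h3

variable (C' : C → Prop) (P P' : Precoverage C)

/-- A sieve contains a composite `P' ∘ P` family with middle objects in `C'`. -/
def Cov (X : C) (S' : Sieve X) : Prop :=
  ∃ (R : Presieve X) (_ : R ∈ P X) (_ : ∀ ⦃Y : C⦄ ⦃f : Y ⟶ X⦄, R f → C' Y)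
    (R' : ∀ ⦃Y : C⦄ ⦃f : Y ⟶ X⦄, R f → Presieve Y),
    (∀ ⦃Y : C⦄ ⦃f : Y ⟶ X⦄ (hf : R f), R' hf ∈ P' Y) ∧
    ∀ ⦃Y : C⦄ ⦃f : Y ⟶ X⦄ (hf : R f) ⦃Z : C⦄ ⦃g : Z ⟶ Y⦄, R' hf g → S' (g ≫ f)

variable {C' P P'}

lemma cov_mem {X : C} {S' : Sieve X} (h : Cov C' P P' X S') :
    S' ∈ (P ⊔ P').toGrothendieck X := by
  obtain ⟨R, hR, -, R', hR', hS⟩ := h
  refine (P ⊔ P').toGrothendieck.transitive
    (Precoverage.generate_mem_toGrothendieck (J := P ⊔ P') (R := R) (Or.inl hR)) S' ?_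
  rintro Z q ⟨Y, u, f, hf, rfl⟩
  rw [Sieve.pullback_comp]
  refine (P ⊔ P').toGrothendieck.pullback_stable _ ?_
  refine (P ⊔ P').toGrothendieck.superset_covering ?_
    (Precoverage.generate_mem_toGrothendieck (J := P ⊔ P') (R := R' hf) (Or.inr (hR' hf)))
  rintro V q ⟨W, a, g, hg, rfl⟩
  show S' ((a ≫ g) ≫ f)
  rw [Category.assoc]
  exact S'.downward_closed (hS hf hg) a

variable [P.HasPullbacks] [P.IsStableUnderBaseChange] [P.IsStableUnderComposition]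
  (hP'C : ∀ ⦃X : C⦄ ⦃R : Presieve X⦄, R ∈ P' X → C' X ∧ ∀ ⦃Y : C⦄ ⦃f : Y ⟶ X⦄, R f → C' Y)
  (hP'id : ∀ ⦃X : C⦄, C' X → Presieve.singleton (𝟙 X) ∈ P' X)
  (ha : ∀ ⦃X : C⦄ ⦃R : Presieve X⦄, R ∈ P' X → ∀ ⦃T : C⦄ (g : T ⟶ X), C' T →
      ∃ _ : R.HasPullbacks g, Presieve.pullbackArrows g R ∈ P' T)
  (hb : ∀ X : C, ∃ R ∈ P X, ∀ ⦃Y : C⦄ ⦃f : Y ⟶ X⦄, R f → C' Y)

include hb in
lemma exists_refine {X : C} {R : Presieve X} (hR : R ∈ P X) :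
    ∃ R₂ ∈ P X, (∀ ⦃Y : C⦄ ⦃f : Y ⟶ X⦄, R₂ f → C' Y) ∧
      ∀ ⦃Y : C⦄ ⦃f : Y ⟶ X⦄, R₂ f → ∃ (Z : C) (u : Y ⟶ Z) (r : Z ⟶ X), R r ∧ u ≫ r = f := by
  refine ⟨R.bind fun Y _ _ => (hb Y).choose, bind_mem P hR _ fun Y _ _ => (hb Y).choose_spec.1, ?_, ?_⟩
  · rintro Y f ⟨Z, u, r, hr, hu, rfl⟩
    exact (hb Z).choose_spec.2 hu
  · rintro Y f ⟨Z, u, r, hr, hu, rfl⟩
    exact ⟨Z, u, r, hr, rfl⟩

include hP'id hb in
lemma cov_top (X : C) : Cov C' P P' X ⊤ := by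
  obtain ⟨R, hR, hC⟩ := hb X
  exact ⟨R, hR, hC, fun Y _ _ => Presieve.singleton (𝟙 Y), fun Y f hf => hP'id (hC hf),
    fun _ _ _ _ _ _ => trivial⟩

include ha hb in
lemma cov_pullback {X Y : C} {S' : Sieve X} (g : Y ⟶ X) (h : Cov C' P P' X S') :
    Cov C' P P' Y (S'.pullback g) := by
  obtain ⟨R, hR, -, R', hR', hS⟩ := h
  haveI := P.hasPullbacks_of_mem g hR
  obtain ⟨R₂, hR₂, hC, hfac⟩ := exists_refine hb (Precoverage.pullbackArrows_mem g hR)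
  have hu : ∀ ⦃W : C⦄ ⦃q : W ⟶ Y⦄, R₂ q →
      ∃ (Y' : C) (f : Y' ⟶ X) (hf : R f) (u : W ⟶ Y'), u ≫ f = q ≫ g := by
    intro W q hq
    obtain ⟨Z, u, r, ⟨Y', f, hf⟩, rfl⟩ := hfac hq
    haveI := R.hasPullback g hf
    exact ⟨Y', f, hf, u ≫ Limits.pullback.fst f g, by simp [Limits.pullback.condition]⟩
  choose Y' f hf u hu using hu
  have hp : ∀ ⦃W : C⦄ ⦃q : W ⟶ Y⦄ (hq : R₂ q), ∃ _ : (R' (hf hq)).HasPullbacks (u hq),
      Presieve.pullbackArrows (u hq) (R' (hf hq)) ∈ P' W := fun W q hq => ha (hR' (hf hq)) (u hq) (hC hq)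
  refine ⟨R₂, hR₂, hC, fun W q hq =>
    haveI := (hp hq).choose
    Presieve.pullbackArrows (u hq) (R' (hf hq)), fun W q hq => (hp hq).choose_spec, ?_⟩
  intro W q hq Z v hv
  haveI := (hp hq).choose
  obtain ⟨V, k, hk⟩ := hv
  haveI := (R' (hf hq)).hasPullback (u hq) hk
  show S' ((Limits.pullback.snd k (u hq) ≫ q) ≫ g)
  rw [Category.assoc, ← hu hq, ← Category.assoc, ← Limits.pullback.condition, Category.assoc]
  exact S'.downward_closed (hS (hf hq) hk) _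

variable (hc : ∀ ⦃S : C⦄ ⦃R₁ : Presieve S⦄, R₁ ∈ P' S →
      ∀ (R₂ : ∀ ⦃Y : C⦄ ⦃f : Y ⟶ S⦄, R₁ f → Presieve Y),
        (∀ ⦃Y : C⦄ ⦃f : Y ⟶ S⦄ (hf : R₁ f), R₂ hf ∈ P Y ∧ ∀ ⦃Z : C⦄ ⦃g : Z ⟶ Y⦄, R₂ hf g → C' Z) →
      ∀ (R₃ : ∀ ⦃Y : C⦄ ⦃f : Y ⟶ S⦄ (hf : R₁ f) ⦃Z : C⦄ ⦃g : Z ⟶ Y⦄, R₂ hf g → Presieve Z),
        (∀ ⦃Y : C⦄ ⦃f : Y ⟶ S⦄ (hf : R₁ f) ⦃Z : C⦄ ⦃g : Z ⟶ Y⦄ (hg : R₂ hf g), R₃ hf hg ∈ P' Z) →
      ∃ T ∈ P' S, ∀ ⦃W : C⦄ ⦃q : W ⟶ S⦄, T q →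
        ∃ (Y Z V : C) (f : Y ⟶ S) (hf : R₁ f) (g : Z ⟶ Y) (hg : R₂ hf g) (h : V ⟶ Z) (_ : R₃ hf hg h)
          (r : W ⟶ V), r ≫ h ≫ g ≫ f = q)

include hc in
lemma cov_trans {X : C} {S' : Sieve X} (h : Cov C' P P' X S') (R₀ : Sieve X)
    (H : ∀ ⦃Y : C⦄ ⦃q : Y ⟶ X⦄, S' q → Cov C' P P' Y (R₀.pullback q)) : Cov C' P P' X R₀ := by
  obtain ⟨R, hR, hC, R', hR', hS⟩ := h
  have hT : ∀ ⦃Y : C⦄ ⦃f : Y ⟶ X⦄, R f → ∃ T ∈ P' Y, ∀ ⦃W : C⦄ ⦃q : W ⟶ Y⦄, T q → R₀ (q ≫ f) := by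
    intro Y f hf
    choose A hA hAC B hB hAB using fun Z (g : Z ⟶ Y) (hg : R' hf g) => H (hS hf hg)
    obtain ⟨T, hT, hT'⟩ := hc (hR' hf) (fun Z g hg => A Z g hg) (fun Z g hg => ⟨hA Z g hg, hAC Z g hg⟩)
      (fun Z g hg V k hk => B Z g hg hk) (fun Z g hg V k hk => hB Z g hg hk)
    refine ⟨T, hT, fun W q hq => ?_⟩
    obtain ⟨Z, V, U, g, hg, k, hk, h, hh, r, rfl⟩ := hT' hq
    have h5 := R₀.downward_closed (hAB Z g hg hk hh : R₀ ((h ≫ k) ≫ g ≫ f)) r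
    simpa using h5
  choose T hT hT' using hT
  exact ⟨R, hR, hC, T, hT, fun Y f hf Z g hg => hT' hf hg⟩

include hP'C hP'id ha hb hc in
lemma mem_iff (X : C) (S' : Sieve X) : S' ∈ (P ⊔ P').toGrothendieck X ↔ Cov C' P P' X S' := by
  refine ⟨fun h => ?_, cov_mem⟩
  induction h with
  | of X R hR =>
    rcases hR with hR | hR
    · obtain ⟨R₂, hR₂, hC, hfac⟩ := exists_refine hb hR
      refine ⟨R₂, hR₂, hC, fun Y _ _ => Presieve.singleton (𝟙 Y), fun Y f hf => hP'id (hC hf), ?_⟩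
      intro Y f hf Z g _
      obtain ⟨W, u, r, hr, rfl⟩ := hfac hf
      exact ⟨W, g ≫ u, r, hr, Category.assoc _ _ _⟩
    · obtain ⟨R₂, hR₂, hC⟩ := hb X
      have hp := fun Y (f : Y ⟶ X) (hf : R₂ f) => ha hR f (hC hf)
      refine ⟨R₂, hR₂, hC, fun Y f hf =>
        haveI := (hp Y f hf).choose
        Presieve.pullbackArrows f R, fun Y f hf => (hp Y f hf).choose_spec, ?_⟩
      intro Y f hf Z g hg
      haveI := (hp Y f hf).choose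
      obtain ⟨V, k, hk⟩ := hg
      haveI := R.hasPullback f hk
      exact ⟨V, Limits.pullback.fst k f, k, hk, Limits.pullback.condition⟩
  | top X => exact cov_top hP'id hb X
  | pullback X S _ Y f ih => exact cov_pullback ha hb f ih
  | transitive X S R _ _ ih1 ih2 => exact cov_trans hc ih1 R ih2

include ha hb in
lemma separated_pullback (F : Cᵒᵖ ⥤ Type w)
    (hF : ∀ ⦃X : C⦄ ⦃R : Presieve X⦄, R ∈ P X → Presieve.IsSheafFor F R)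
    (hF' : ∀ ⦃X : C⦄ ⦃R : Presieve X⦄, R ∈ P' X → Presieve.IsSheafFor F R)
    {X W : C} {R : Presieve X} (hR : R ∈ P' X) (g : W ⟶ X) :
    Presieve.IsSeparatedFor F ((Sieve.generate R).pullback g).arrows := by
  intro x t₁ t₂ ht₁ ht₂
  obtain ⟨R₂, hR₂, hC⟩ := hb W
  refine (hF hR₂).isSeparatedFor.ext fun Z q hq => ?_
  obtain ⟨h1, h2⟩ := ha hR (q ≫ g) (hC hq)
  haveI := h1
  refine (hF' h2).isSeparatedFor.ext fun V v hv => ?_
  have hv' : ((Sieve.generate R).pullback g) (v ≫ q) := by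
    have : Sieve.generate (Presieve.pullbackArrows (q ≫ g) R) v := Sieve.le_generate _ _ _ hv
    rw [Sieve.pullbackArrows_comm, Sieve.pullback_comp] at this
    exact this
  have e := (ht₁ _ hv').trans (ht₂ _ hv').symm
  simpa using e

include ha hb in
lemma sheafFor_pullback (F : Cᵒᵖ ⥤ Type w)
    (hF : ∀ ⦃X : C⦄ ⦃R : Presieve X⦄, R ∈ P X → Presieve.IsSheafFor F R)
    (hF' : ∀ ⦃X : C⦄ ⦃R : Presieve X⦄, R ∈ P' X → Presieve.IsSheafFor F R)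
    {X Y : C} {R : Presieve X} (hR : R ∈ P' X) (g : Y ⟶ X) :
    Presieve.IsSheafFor F ((Sieve.generate R).pullback g).arrows := by
  obtain ⟨R₂, hR₂, hC⟩ := hb Y
  set U := (Sieve.generate R).pullback g with hU
  rw [← Presieve.isSeparatedFor_and_exists_isAmalgamation_iff_isSheafFor]
  refine ⟨separated_pullback ha hb F hF hF' hR g, fun x hx => ?_⟩
  have hsh : ∀ ⦃Z : C⦄ ⦃q : Z ⟶ Y⦄, R₂ q → Presieve.IsSheafFor F (U.pullback q).arrows := fun Z q hq => by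
    obtain ⟨h1, h2⟩ := ha hR (q ≫ g) (hC hq)
    haveI := h1
    rw [hU, ← Sieve.pullback_comp, ← Sieve.pullbackArrows_comm, ← Presieve.isSheafFor_iff_generate]
    exact hF' h2
  have hsep : ∀ ⦃W : C⦄ (k : W ⟶ Y), Presieve.IsSeparatedFor F (U.pullback k).arrows := fun W k => by
    rw [hU, ← Sieve.pullback_comp]
    exact separated_pullback ha hb F hF hF' hR _
  let xq : ∀ ⦃Z : C⦄ (q : Z ⟶ Y), Presieve.FamilyOfElements F (U.pullback q).arrows :=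
    fun Z q V v hv => x (v ≫ q) hv
  have hxq : ∀ ⦃Z : C⦄ (q : Z ⟶ Y), (xq q).Compatible := fun Z q Y₁ Y₂ W g₁ g₂ f₁ f₂ h₁ h₂ he =>
    hx g₁ g₂ h₁ h₂ (by rw [reassoc_of% he])
  let z : Presieve.FamilyOfElements F R₂ := fun Z q hq => (hsh hq).amalgamate (xq q) (hxq q)
  have hz : ∀ ⦃Z : C⦄ ⦃q : Z ⟶ Y⦄ (hq : R₂ q) ⦃V : C⦄ (v : V ⟶ Z) (hv : U (v ≫ q)),
      F.map v.op (z q hq) = x (v ≫ q) hv := fun Z q hq V v hv => (hsh hq).valid_glue (hxq q) v hv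
  have hzc : z.Compatible := by
    intro Z₁ Z₂ W u₁ u₂ q₁ q₂ h₁ h₂ he
    refine (hsep (u₁ ≫ q₁)).ext fun V v hv => ?_
    have hv₁ : U ((v ≫ u₁) ≫ q₁) := by simpa using hv
    have hv₂ : U ((v ≫ u₂) ≫ q₂) := by rw [Category.assoc, ← he]; exact hv
    have e₁ := hz h₁ (v ≫ u₁) hv₁
    have e₂ := hz h₂ (v ≫ u₂) hv₂
    have e₃ : x ((v ≫ u₁) ≫ q₁) hv₁ = x ((v ≫ u₂) ≫ q₂) hv₂ := by
      congr 1
      simp [he]
    simpa using e₁.trans (e₃.trans e₂.symm)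
  obtain ⟨y, hy, -⟩ := hF hR₂ z hzc
  refine ⟨y, fun W h hh => ?_⟩
  haveI := P.hasPullbacks_of_mem h hR₂
  refine (hF (Precoverage.pullbackArrows_mem h hR₂)).isSeparatedFor.ext fun V k hk => ?_
  obtain ⟨Z, q, hq⟩ := hk
  haveI := R₂.hasPullback h hq
  have hv : U (Limits.pullback.fst q h ≫ q) := by
    rw [Limits.pullback.condition]
    exact U.downward_closed hh _
  have e₁ := hz hq (Limits.pullback.fst q h) hv
  rw [← hy q hq, ← ConcreteCategory.comp_apply, ← Functor.map_comp, ← op_comp] at e₁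
  rw [← ConcreteCategory.comp_apply, ← Functor.map_comp, ← op_comp, ← Limits.pullback.condition, e₁]
  simpa using (hx (Limits.pullback.snd q h) (𝟙 _) hh hv (by simp [Limits.pullback.condition])).symm

include ha hb in
lemma isSheaf_iff (F : Cᵒᵖ ⥤ Type w) :
    Presieve.IsSheaf (P ⊔ P').toGrothendieck F ↔
      (∀ ⦃X : C⦄ ⦃R : Presieve X⦄, R ∈ P X → Presieve.IsSheafFor F R) ∧
      (∀ ⦃X : C⦄ ⦃R : Presieve X⦄, R ∈ P' X → Presieve.IsSheafFor F R) := by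
  constructor
  · intro h
    exact ⟨fun X R hR => (Presieve.isSheafFor_iff_generate R).2
        (h _ (Precoverage.generate_mem_toGrothendieck (J := P ⊔ P') (R := R) (Or.inl hR))),
      fun X R hR => (Presieve.isSheafFor_iff_generate R).2
        (h _ (Precoverage.generate_mem_toGrothendieck (J := P ⊔ P') (R := R) (Or.inr hR)))⟩
  · rintro ⟨hF, hF'⟩
    rw [Precoverage.isSheaf_toGrothendieck_iff]
    intro X Y f R hR
    rcases hR with hR | hR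
    · haveI := P.hasPullbacks_of_mem f hR
      rw [← Sieve.pullbackArrows_comm, ← Presieve.isSheafFor_iff_generate]
      exact hF (Precoverage.pullbackArrows_mem f hR)
    · exact sheafFor_pullback ha hb F hF hF' hR f

end Groth.L09.ShfGenTop
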