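import Groth.Agent.L09.GiraudRep
import Groth.Agent.S3081
import Groth.Agent.S3082
import Mathlib.CategoryTheory.Sites.LeftExact
import Mathlib.CategoryTheory.Sites.Limits
import Mathlib.CategoryTheory.Sites.EpiMono
import Mathlib.CategoryTheory.Adjunction.PartialAdjoint
import Mathlib.CategoryTheory.ObjectProperty.Small

/-!
A topos of sheaves satisfies the hypotheses of Giraud's theorem; epimorphic families are covering.
-/

set_option autoImplicit false
universe u

open CategoryTheory Category Limits Opposite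

namespace Groth.L09.Giraud

variable {C : Type u} [SmallCategory C] (J : GrothendieckTopology C)

lemma shf_setup : ∃ (C₀ : Type u) (_ : SmallCategory C₀) (w : C₀ ⥤ Sheaf J (Type u)), Setup w := by
  obtain ⟨hb, hc⟩ := Groth.Agent.S3081.result J
  exact exists_setup hb hc _ (Groth.Agent.S3082.result J Set.univ fun X =>
    ⟨PUnit.{u+1}, fun _ => X, fun _ => 𝟙 X,
      J.superset_covering (fun Y f _ => ⟨X, f, 𝟙 X, Presieve.ofArrows.mk PUnit.unit, comp_id f⟩) (J.top_mem X),
      fun _ => trivial⟩)

variable {J}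

lemma shf_cover_of_isEpiFamily {X : Sheaf J (Type u)} {ι : Type u} {G : ι → Sheaf J (Type u)}
    {g : ∀ i, G i ⟶ X} (hg : SGA4.IsEpiFamily g) : Cover g := by
  intro I m hm hl
  have : Epi m := ⟨fun {Z} a b e => hg Z a b fun i => by
    obtain ⟨l, hl⟩ := hl i
    rw [← hl, assoc, assoc, e]⟩
  exact isIso_of_mono_of_epi m

lemma isLeftAdjoint_of_hasGlue {D : Type u} [SmallCategory D] {K : GrothendieckTopology D}
    (f : Sheaf J (Type u) ⥤ Sheaf K (Type u))
    (hf : ∀ Y, HasGlue (f.op ⋙ yoneda.obj Y)) : f.IsLeftAdjoint := by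
  obtain ⟨C₀, _, w, hw⟩ := shf_setup J
  refine Functor.isLeftAdjoint_of_rightAdjointObjIsDefined_eq_top ?_
  ext Y
  simp only [Pi.top_apply, Prop.top_eq_true, iff_true, Functor.rightAdjointObjIsDefined_iff]
  exact exists_repr hw _ (hf Y)

end Groth.L09.Giraud
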