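import Mathlib.AlgebraicTopology.DoldKan.HomotopyEquivalence
import Mathlib.AlgebraicTopology.SimplicialObject.Homotopy
import Mathlib.Algebra.Category.Grp.Abelian
import Mathlib.Algebra.Category.Grp.EpiMono
import Mathlib.Algebra.Homology.ShortComplex.Ab
import Mathlib.Algebra.Homology.QuasiIso

/-!
Homology of simplicial abelian groups by normalised elements: criterion for quasi-isomorphisms,
effect of a (non-additive) simplicial homotopy on normalised cycles.
-/

set_option autoImplicit false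
universe u

open CategoryTheory Opposite AlgebraicTopology AlgebraicTopology.DoldKan
open scoped Simplicial DoldKan

namespace Groth.L09.SimpAbHom

variable {X Y : SimplicialObject AddCommGrpCat.{u}}

/-- faces of positive index vanish. -/
def Norm (X : SimplicialObject AddCommGrpCat.{u}) : ∀ n : ℕ, (X _⦋n⦌ : AddCommGrpCat.{u}) → Prop
  | 0, _ => True
  | n + 1, x => ∀ i : Fin (n + 1), X.δ i.succ x = 0

/-- all faces vanish. -/
def Cyc (X : SimplicialObject AddCommGrpCat.{u}) : ∀ n : ℕ, (X _⦋n⦌ : AddCommGrpCat.{u}) → Prop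
  | 0, _ => True
  | n + 1, x => ∀ i : Fin (n + 2), X.δ i x = 0

/-- boundary of a normalised chain. -/
def Bd (n : ℕ) (x : (X _⦋n⦌ : AddCommGrpCat.{u})) : Prop :=
  ∃ w, Norm X (n + 1) w ∧ X.δ 0 w = x

lemma Cyc.norm {n : ℕ} {x : (X _⦋n⦌ : AddCommGrpCat.{u})} (h : Cyc X n x) : Norm X n x := by
  cases n with
  | zero => trivial
  | succ n => exact fun i => h i.succ

lemma natδ (f : X ⟶ Y) {m : ℕ} (j : Fin (m + 2)) (x : (X _⦋m + 1⦌ : AddCommGrpCat.{u})) :
    f.app _ (X.δ j x) = Y.δ j (f.app _ x) :=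
  ConcreteCategory.congr_hom (f.naturality _) x

lemma d_apply (n : ℕ) (x : (X _⦋n + 1⦌ : AddCommGrpCat.{u})) :
    (K[X]).d (n + 1) n x = ∑ i : Fin (n + 2), ((-1 : ℤ) ^ (i : ℕ)) • X.δ i x := by
  let ev : (X _⦋n + 1⦌ ⟶ X _⦋n⦌) →+ (X _⦋n⦌ : AddCommGrpCat.{u}) :=
    { toFun := fun φ => φ x, map_zero' := rfl, map_add' := fun _ _ => rfl }
  show ev _ = _
  rw [AlternatingFaceMapComplex.obj_d_eq, map_sum]
  exact Finset.sum_congr rfl fun i _ => map_zsmul ev _ _

lemma d_of_norm (n : ℕ) {x : (X _⦋n + 1⦌ : AddCommGrpCat.{u})} (h : Norm X (n + 1) x) :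
    (K[X]).d (n + 1) n x = X.δ 0 x := by
  rw [d_apply, Fin.sum_univ_succ, Finset.sum_eq_zero fun i _ => by rw [h i, smul_zero]]
  simp

lemma PInfty_of_norm {n : ℕ} {x : (X _⦋n⦌ : AddCommGrpCat.{u})} (h : Norm X n x) :
    (PInfty : K[X] ⟶ K[X]).f n x = x := by
  cases n with
  | zero => rw [PInfty_f_0]; rfl
  | succ n =>
    let N : AddSubgroup (X _⦋n + 1⦌ : AddCommGrpCat.{u}) :=
      { carrier := {z | Norm X (n + 1) z}
        add_mem' := fun ha hb i => by rw [map_add, ha i, hb i, add_zero]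
        zero_mem' := fun i => map_zero _
        neg_mem' := fun ha i => by rw [map_neg, ha i, neg_zero] }
    let φ : AddCommGrpCat.of N ⟶ X _⦋n + 1⦌ := AddCommGrpCat.ofHom N.subtype
    have hv : HigherFacesVanish (n + 1) φ := fun j _ => by
      ext z
      exact z.2 j
    exact ConcreteCategory.congr_hom hv.comp_P_eq_self (⟨x, h⟩ : N)

lemma norm_PInfty (n : ℕ) (x : (X _⦋n⦌ : AddCommGrpCat.{u})) :
    Norm X n ((PInfty : K[X] ⟶ K[X]).f n x) := by
  cases n with
  | zero => trivial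
  | succ n =>
    intro i
    have h := (HigherFacesVanish.of_P (X := X) (n + 1) n) i le_add_self
    exact (ConcreteCategory.congr_hom h x : _)

lemma cyc_of_norm {n : ℕ} {x : (X _⦋n⦌ : AddCommGrpCat.{u})} (h : Norm X n x)
    (hd : ∀ m, n = m + 1 → (K[X]).d n m x = 0) : Cyc X n x := by
  cases n with
  | zero => trivial
  | succ n =>
    intro i
    induction i using Fin.cases with
    | zero => rw [← d_of_norm n h]; exact hd n rfl
    | succ i => exact h i

lemma d_cyc {n : ℕ} {x : (X _⦋n⦌ : AddCommGrpCat.{u})} (h : Cyc X n x) (m : ℕ) :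
    (K[X]).d n m x = 0 := by
  rcases eq_or_ne n (m + 1) with rfl | hne
  · rw [d_of_norm m h.norm]
    exact h 0
  · rw [(K[X]).shape _ _ (fun hr => hne hr.symm)]
    rfl

lemma bd_of_mem_range {n : ℕ} {x : (X _⦋n⦌ : AddCommGrpCat.{u})} (h : Norm X n x)
    {w : (X _⦋n + 1⦌ : AddCommGrpCat.{u})} (hw : (K[X]).d (n + 1) n w = x) : Bd n x := by
  refine ⟨(PInfty : K[X] ⟶ K[X]).f (n + 1) w, norm_PInfty _ _, ?_⟩
  rw [← d_of_norm n (norm_PInfty _ _)]
  exact (ConcreteCategory.congr_hom ((PInfty : K[X] ⟶ K[X]).comm (n + 1) n) w).trans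
    ((congrArg ((PInfty : K[X] ⟶ K[X]).f n) hw).trans (PInfty_of_norm h))

lemma exists_cycle (n : ℕ) (x : (K[X]).X n) (hx : ∀ m, n = m + 1 → (K[X]).d n m x = 0) :
    ∃ y : (K[X]).X n, Cyc X n y ∧ ∃ w, (K[X]).d (n + 1) n w = y - x := by
  refine ⟨(PInfty : K[X] ⟶ K[X]).f n x, cyc_of_norm (norm_PInfty _ _) (fun m hm => ?_), ?_⟩
  · exact (ConcreteCategory.congr_hom ((PInfty : K[X] ⟶ K[X]).comm n m) x).trans
      ((congrArg ((PInfty : K[X] ⟶ K[X]).f m) (hx m hm)).trans (map_zero _))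
  · let H := homotopyPInftyToId X
    refine ⟨H.hom n (n + 1) x, ?_⟩
    have h1 := ConcreteCategory.congr_hom (H.comm n) x
    change (PInfty : K[X] ⟶ K[X]).f n x = _ at h1
    rw [h1]
    show _ = (dNext n) H.hom x + (prevD n) H.hom x + x - x
    rw [add_sub_cancel_right]
    have h2 : (prevD n) H.hom x = (K[X]).d (n + 1) n (H.hom n (n + 1) x) := by
      rw [prevD_eq H.hom (show (ComplexShape.down ℕ).Rel (n + 1) n from rfl)]
      rfl
    have h3 : (dNext n) H.hom x = 0 := by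
      cases n with
      | zero => rw [dNext_eq_zero H.hom 0 (by simp)]; rfl
      | succ m =>
        rw [dNext_eq H.hom (show (ComplexShape.down ℕ).Rel (m + 1) m from rfl)]
        exact (congrArg (H.hom m (m + 1)) (hx m rfl)).trans (map_zero _)
    rw [h2, h3, zero_add]

section Homology

variable (C : ChainComplex AddCommGrpCat.{u} ℕ)

lemma class_surjective (n : ℕ) (c : C.homology n) :
    ∃ z : C.cycles n, C.homologyπ n z = c :=
  (AddCommGrpCat.epi_iff_surjective (C.homologyπ n)).1 inferInstance c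

lemma cycle_d (n : ℕ) (z : C.cycles n) (m : ℕ) : C.d n m (C.iCycles n z) = 0 :=
  (ConcreteCategory.congr_hom (C.iCycles_d n m) z).trans rfl

lemma exists_cycles (n : ℕ) (x : C.X n) (hx : ∀ m, n = m + 1 → C.d n m x = 0) :
    ∃ z : C.cycles n, C.iCycles n z = x := by
  have hg : (C.sc n).g x = 0 := by
    show C.d n ((ComplexShape.down ℕ).next n) x = 0
    rcases eq_or_ne n ((ComplexShape.down ℕ).next n + 1) with h | h
    · exact hx _ h
    · rw [C.shape _ _ (fun hr => h hr.symm)]; rfl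
  exact ⟨(C.sc n).abCyclesIso.inv ⟨x, hg⟩, ShortComplex.abCyclesIso_inv_apply_iCycles (C.sc n) _⟩

lemma π_eq_zero_iff (n : ℕ) (z : C.cycles n) :
    C.homologyπ n z = 0 ↔ ∃ w, C.d (n + 1) n w = C.iCycles n z := by
  have hp : (ComplexShape.down ℕ).prev n = n + 1 := by simp
  have hex : (ShortComplex.mk (C.toCycles (n + 1) n) (C.homologyπ n) (C.toCycles_comp_homologyπ _ _)).Exact :=
    ShortComplex.exact_of_g_is_cokernel _ (C.homologyIsCokernel (n + 1) n hp)
  have hinj : Function.Injective (C.iCycles n) := (AddCommGrpCat.mono_iff_injective _).1 inferInstance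
  refine ⟨fun h => ?_, fun ⟨w, hw⟩ => ?_⟩
  · obtain ⟨w, hw⟩ := (ShortComplex.ab_exact_iff _).1 hex z h
    exact ⟨w, (ConcreteCategory.congr_hom (C.toCycles_i (n + 1) n) w).symm.trans (congrArg (C.iCycles n) hw)⟩
  · have : C.toCycles (n + 1) n w = z := hinj ((ConcreteCategory.congr_hom (C.toCycles_i (n + 1) n) w).trans hw)
    rw [← this]
    exact ConcreteCategory.congr_hom (C.toCycles_comp_homologyπ (n + 1) n) w

variable {C} {C' : ChainComplex AddCommGrpCat.{u} ℕ} (φ : C ⟶ C')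

lemma map_class (n : ℕ) (z : C.cycles n) :
    HomologicalComplex.homologyMap φ n (C.homologyπ n z) = C'.homologyπ n (HomologicalComplex.cyclesMap φ n z) :=
  ConcreteCategory.congr_hom (HomologicalComplex.homologyπ_naturality φ n) z

lemma map_cycle (n : ℕ) (z : C.cycles n) :
    C'.iCycles n (HomologicalComplex.cyclesMap φ n z) = φ.f n (C.iCycles n z) :=
  ConcreteCategory.congr_hom (HomologicalComplex.cyclesMap_i φ n) z

end Homology

lemma mapK (f : X ⟶ Y) (n : ℕ) :
    ((alternatingFaceMapComplex AddCommGrpCat.{u}).map f).f n = f.app (op ⦋n⦌) :=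
  AlternatingFaceMapComplex.map_f f n

theorem quasiIso_of_elements (f : X ⟶ Y)
    (hinj : ∀ n (x : (X _⦋n⦌ : AddCommGrpCat.{u})), Cyc X n x → Bd n (f.app _ x) → Bd n x)
    (hsurj : ∀ n (y : (Y _⦋n⦌ : AddCommGrpCat.{u})), Cyc Y n y → ∃ x, Cyc X n x ∧ Bd n (f.app _ x - y)) :
    QuasiIso ((alternatingFaceMapComplex AddCommGrpCat.{u}).map f) := by
  let φ : K[X] ⟶ K[Y] := (alternatingFaceMapComplex AddCommGrpCat.{u}).map f
  refine ⟨fun n => ?_⟩
  rw [quasiIsoAt_iff_isIso_homologyMap, ConcreteCategory.isIso_iff_bijective]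
  constructor
  · refine (injective_iff_map_eq_zero _).2 fun c hc => ?_
    obtain ⟨z, rfl⟩ := class_surjective _ n c
    obtain ⟨x, hx, w, hw⟩ := exists_cycle n ((K[X]).iCycles n z) fun m _ => cycle_d _ n z m
    obtain ⟨v, hv⟩ := (π_eq_zero_iff _ n _).1 ((map_class φ n z).symm.trans hc)
    have hb : Bd n (f.app _ x) := by
      refine bd_of_mem_range (w := v + φ.f (n + 1) w) ?_ ?_
      · cases n with
        | zero => trivial
        | succ n => exact fun i => by rw [← natδ, hx, map_zero]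
      · rw [map_add]
        refine (congrArg₂ (· + ·) (hv.trans (map_cycle φ n z))
          ((ConcreteCategory.congr_hom (φ.comm (n + 1) n) w).trans (congrArg (φ.f n) hw))).trans ?_
        rw [← mapK, ← map_add, add_sub_cancel]
    obtain ⟨u, hu, hu'⟩ := hinj n x hx hb
    refine (π_eq_zero_iff _ n z).2 ⟨(show (K[X]).X (n + 1) from u) - w, ?_⟩
    exact (map_sub _ _ _).trans ((congrArg₂ (· - ·) ((d_of_norm n hu).trans hu') hw).trans (sub_sub_cancel _ _))
  · intro c
    obtain ⟨z, rfl⟩ := class_surjective _ n c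
    obtain ⟨y, hy, w, hw⟩ := exists_cycle n ((K[Y]).iCycles n z) fun m _ => cycle_d _ n z m
    obtain ⟨x, hx, u, hu, hu'⟩ := hsurj n y hy
    obtain ⟨z', hz'⟩ := exists_cycles (K[X]) n x fun m _ => d_cyc hx m
    refine ⟨(K[X]).homologyπ n z', sub_eq_zero.1 ?_⟩
    refine ((congrArg (· - _) (map_class φ n z')).trans (map_sub _ _ _).symm).trans ?_
    refine (π_eq_zero_iff _ n _).2 ⟨(show (K[Y]).X (n + 1) from u) + w, ?_⟩
    rw [map_add, hw, map_sub]
    refine (congrArg (· + _) ((d_of_norm n hu).trans hu')).trans ?_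
    rw [sub_add_sub_cancel]
    refine congrArg (· - _) ?_
    rw [← mapK, ← hz']
    exact (map_cycle φ n z').symm

theorem elements_of_quasiIso (f : X ⟶ Y) [hq : QuasiIso ((alternatingFaceMapComplex AddCommGrpCat.{u}).map f)] (n : ℕ) :
    (∀ x : (X _⦋n⦌ : AddCommGrpCat.{u}), Cyc X n x → Bd n (f.app _ x) → Bd n x) ∧
      ∀ y : (Y _⦋n⦌ : AddCommGrpCat.{u}), Cyc Y n y → ∃ x, Cyc X n x ∧ Bd n (f.app _ x - y) := by
  let φ : K[X] ⟶ K[Y] := (alternatingFaceMapComplex AddCommGrpCat.{u}).map f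
  have hb : Function.Bijective (HomologicalComplex.homologyMap φ n) :=
    (ConcreteCategory.isIso_iff_bijective _).1 ((quasiIsoAt_iff_isIso_homologyMap φ n).1 inferInstance)
  constructor
  · rintro x hx ⟨u, hu, hu'⟩
    obtain ⟨z, hz⟩ := exists_cycles (K[X]) n x fun m _ => d_cyc hx m
    have h0 : (K[X]).homologyπ n z = 0 := hb.1 <| by
      rw [map_zero, map_class]
      refine (π_eq_zero_iff _ n _).2 ⟨u, ?_⟩
      rw [map_cycle, hz, mapK]
      exact (d_of_norm n hu).trans hu'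
    obtain ⟨w, hw⟩ := (π_eq_zero_iff _ n z).1 h0
    exact bd_of_mem_range hx.norm (hw.trans hz)
  · intro y hy
    obtain ⟨z, hz⟩ := exists_cycles (K[Y]) n y fun m _ => d_cyc hy m
    obtain ⟨c, hc⟩ := hb.2 ((K[Y]).homologyπ n z)
    obtain ⟨z', rfl⟩ := class_surjective _ n c
    obtain ⟨x, hx, w, hw⟩ := exists_cycle n ((K[X]).iCycles n z') fun m _ => cycle_d _ n z' m
    refine ⟨x, hx, ?_⟩
    have h0 : (K[Y]).homologyπ n (HomologicalComplex.cyclesMap φ n z' - z) = 0 := by
      rw [map_sub, ← map_class, hc, sub_self]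
    obtain ⟨v, hv⟩ := (π_eq_zero_iff _ n _).1 h0
    refine bd_of_mem_range (w := v + φ.f (n + 1) w) ?_ ?_
    · cases n with
      | zero => trivial
      | succ n => exact fun i => by rw [map_sub, ← natδ, hx, map_zero, hy.norm i, sub_zero]
    · rw [map_add]
      refine (congrArg₂ (· + ·) (hv.trans ((map_sub _ _ _).trans (congrArg₂ (· - ·) (map_cycle φ n z') hz)))
        ((ConcreteCategory.congr_hom (φ.comm (n + 1) n) w).trans (congrArg (φ.f n) hw))).trans ?_
      show _ = (φ.f n x : (K[Y]).X n) - (show (K[Y]).X n from y)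
      rw [map_sub]
      exact sub_add_sub_cancel' _ _ _

variable {a b : (X ⋙ forget AddCommGrpCat.{u}) ⟶ (Y ⋙ forget AddCommGrpCat.{u})}

/-- typed evaluation of a set-level map. -/
def ap (a : (X ⋙ forget AddCommGrpCat.{u}) ⟶ (Y ⋙ forget AddCommGrpCat.{u})) (n : ℕ)
    (x : (X _⦋n⦌ : AddCommGrpCat.{u})) : (Y _⦋n⦌ : AddCommGrpCat.{u}) := a.app _ x

/-- typed evaluation of a set-level homotopy. -/
def hh (H : SimplicialObject.Homotopy a b) {n : ℕ} (i : Fin (n + 1))
    (x : (X _⦋n⦌ : AddCommGrpCat.{u})) : (Y _⦋n + 1⦌ : AddCommGrpCat.{u}) := H.h i x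

lemma setδ (a : (X ⋙ forget AddCommGrpCat.{u}) ⟶ (Y ⋙ forget AddCommGrpCat.{u})) {m : ℕ} (j : Fin (m + 2))
    (x : (X _⦋m + 1⦌ : AddCommGrpCat.{u})) : ap a m (X.δ j x) = Y.δ j (ap a (m + 1) x) :=
  ConcreteCategory.congr_hom (a.naturality _) x

lemma hh_zero (H : SimplicialObject.Homotopy a b) {n : ℕ} (x : (X _⦋n⦌ : AddCommGrpCat.{u})) :
    Y.δ 0 (hh H 0 x) = ap b n x := ConcreteCategory.congr_hom (H.h_zero_comp_δ_zero n) x

lemma hh_last (H : SimplicialObject.Homotopy a b) {n : ℕ} (x : (X _⦋n⦌ : AddCommGrpCat.{u})) :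
    Y.δ (Fin.last (n + 1)) (hh H (Fin.last n) x) = ap a n x :=
  ConcreteCategory.congr_hom (H.h_last_comp_δ_last n) x

lemma hh_low (H : SimplicialObject.Homotopy a b) {n : ℕ} {i : Fin (n + 2)} {j : Fin (n + 1)} (hij : i ≤ j.castSucc)
    (x : (X _⦋n + 1⦌ : AddCommGrpCat.{u})) : Y.δ i.castSucc (hh H j.succ x) = hh H j (X.δ i x) :=
  ConcreteCategory.congr_hom (H.h_succ_comp_δ_castSucc_of_lt i j hij) x

lemma hh_mid (H : SimplicialObject.Homotopy a b) {n : ℕ} (j : Fin (n + 1))
    (x : (X _⦋n + 1⦌ : AddCommGrpCat.{u})) : Y.δ j.castSucc.succ (hh H j.succ x) = Y.δ j.castSucc.succ (hh H j.castSucc x) :=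
  ConcreteCategory.congr_hom (H.h_succ_comp_δ_castSucc_succ j) x

lemma hh_high (H : SimplicialObject.Homotopy a b) {n : ℕ} {i : Fin (n + 2)} {j : Fin (n + 1)} (hji : j.castSucc < i)
    (x : (X _⦋n + 1⦌ : AddCommGrpCat.{u})) : Y.δ i.succ (hh H j.castSucc x) = hh H j (X.δ i x) :=
  ConcreteCategory.congr_hom (H.h_castSucc_comp_δ_succ_of_lt i j hji) x

/-- homotopic set-level maps differ by boundaries on cycles, up to their values at zero. -/
theorem homotopy_cycle (H : SimplicialObject.Homotopy a b) (n : ℕ)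
    (x : (X _⦋n⦌ : AddCommGrpCat.{u})) (hx : Cyc X n x) :
    Bd (X := Y) n ((ap b n x - ap b n 0) - (ap a n x - ap a n 0)) := by
  let η : Fin (n + 1) → (Y _⦋n + 1⦌ : AddCommGrpCat.{u}) := fun i => hh H i x - hh H i 0
  let p : Fin (n + 1) → (Y _⦋n⦌ : AddCommGrpCat.{u}) := fun i => Y.δ i.castSucc (η i)
  let q : Fin (n + 1) → (Y _⦋n⦌ : AddCommGrpCat.{u}) := fun i => Y.δ i.succ (η i)
  have hvan : ∀ (i : Fin (n + 1)) (j : Fin (n + 2)), j ≠ i.castSucc → j ≠ i.succ → Y.δ j (η i) = 0 := by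
    intro i j h1 h2
    cases n with
    | zero =>
      exfalso
      simp only [ne_eq, Fin.ext_iff, Fin.val_castSucc, Fin.val_succ] at h1 h2
      have := j.isLt
      have := i.isLt
      omega
    | succ m =>
      simp only [η, map_sub]
      rcases lt_or_gt_of_ne h1 with h | h
      · obtain ⟨i', rfl⟩ := i.eq_succ_of_ne_zero (fun e => by subst e; simp at h)
        obtain ⟨j', rfl⟩ := j.eq_castSucc_of_ne_last (fun e => by
          subst e
          simp only [Fin.lt_def, Fin.val_castSucc, Fin.val_succ, Fin.val_last] at h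
          omega)
        have hle : j' ≤ i'.castSucc := by
          simp only [Fin.lt_def, Fin.le_def, Fin.val_castSucc, Fin.val_succ] at h ⊢; omega
        rw [hh_low H hle, hh_low H hle, hx j', map_zero, sub_self]
      · obtain ⟨j', rfl⟩ := j.eq_succ_of_ne_zero (fun e => by subst e; simp at h)
        obtain ⟨i', rfl⟩ := i.eq_castSucc_of_ne_last (fun e => by
          subst e
          simp only [gt_iff_lt, Fin.lt_def, Fin.ext_iff, Fin.val_castSucc, Fin.val_succ, Fin.val_last, ne_eq] at h h2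
          have := j'.isLt
          omega)
        have hlt : i'.castSucc < j' := by
          simp only [gt_iff_lt, Fin.lt_def, Fin.ext_iff, Fin.val_castSucc, Fin.val_succ, ne_eq] at h h2 ⊢; omega
        rw [hh_high H hlt, hh_high H hlt, hx j', map_zero, sub_self]
  have hd : (K[Y]).d (n + 1) n (∑ i : Fin (n + 1), ((-1 : ℤ) ^ (i : ℕ)) • η i) = ∑ i, (p i - q i) := by
    rw [map_sum]
    refine Finset.sum_congr rfl fun i _ => ?_
    rw [map_zsmul]
    refine (congrArg (((-1 : ℤ) ^ (i : ℕ)) • ·) (d_apply n (η i))).trans ?_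
    rw [Fintype.sum_eq_add i.castSucc i.succ (Fin.castSucc_lt_succ).ne
      (fun j hj => by rw [hvan i j hj.1 hj.2, smul_zero])]
    simp only [Fin.val_castSucc, Fin.val_succ, pow_succ, smul_add, smul_smul, p, q]
    rw [← mul_assoc, ← pow_add, Even.neg_one_pow (Even.add_self _), one_mul, one_smul, neg_smul, one_smul,
      sub_eq_add_neg]
  have htel : ∀ (m : ℕ) (P Q : Fin (m + 1) → (Y _⦋n⦌ : AddCommGrpCat.{u})),
      (∀ j : Fin m, P j.succ = Q j.castSucc) → ∑ i, (P i - Q i) = P 0 - Q (Fin.last m) := by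
    intro m P Q h
    rw [Finset.sum_sub_distrib, Fin.sum_univ_succ, Fin.sum_univ_castSucc Q]
    simp only [h]
    abel
  rw [htel n p q (fun j => by
    cases n with
    | zero => exact j.elim0
    | succ m =>
      simp only [p, q, η, map_sub]
      rw [Fin.castSucc_succ j]
      simp only [hh_mid])] at hd
  have h0 : p 0 = ap b n x - ap b n 0 := by
    simp only [p, η, Fin.castSucc_zero, map_sub, hh_zero]
  have h1 : q (Fin.last n) = ap a n x - ap a n 0 := by
    simp only [q, η, Fin.succ_last, map_sub, hh_last]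
  rw [h0, h1] at hd
  refine bd_of_mem_range ?_ hd
  cases n with
  | zero => trivial
  | succ m =>
    intro i
    rw [map_sub, map_sub, map_sub, ← setδ, ← setδ, ← setδ, ← setδ, hx i.succ, map_zero]
    simp

end Groth.L09.SimpAbHom
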