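import Mathlib.AlgebraicTopology.DoldKan.Equivalence
import Mathlib.AlgebraicTopology.DoldKan.Degeneracies
import Mathlib.AlgebraicTopology.DoldKan.Normalized
import Mathlib.AlgebraicTopology.SimplicialObject.Basic
import Mathlib.CategoryTheory.Subobject.Lattice
import Mathlib.CategoryTheory.Subobject.Limits
import Mathlib.Data.Finite.Sigma
import Mathlib.Data.Finite.Prod
import Mathlib.CategoryTheory.Abelian.FunctorCategory

/-!
Skeleta of simplicial objects in abelian categories: the subobject generated in dimensions `≤ n`,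
its normalised part, and the counit of the skeleton adjunction.
-/

set_option autoImplicit false
universe v u

open CategoryTheory CategoryTheory.Limits Opposite AlgebraicTopology AlgebraicTopology.DoldKan
open scoped Simplicial DoldKan

namespace Groth.L09.SkelAb

variable {A : Type u} [Category.{v} A] [Abelian A]

/-- `U'` is the family of subobjects generated in dimensions `≤ n`. -/
def Gen (U : SimplicialObject A) (n : ℕ) (U' : ∀ m : ℕ, Subobject (U.obj (op (SimplexCategory.mk m)))) : Prop :=
  ∀ m : ℕ, IsLUB (Set.range (fun φ : Σ i : Fin (n + 1), (SimplexCategory.mk m ⟶ SimplexCategory.mk i) =>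
    imageSubobject (U.map φ.2.op))) (U' m)

lemma exists_gen (U : SimplicialObject A) (n : ℕ) : ∃ U', Gen U n U' := by
  classical
  haveI : ∀ m, Fintype (Σ i : Fin (n + 1), (SimplexCategory.mk m ⟶ SimplexCategory.mk i)) :=
    fun m =>
      haveI : ∀ i : Fin (n + 1), Finite (SimplexCategory.mk m ⟶ SimplexCategory.mk i) := fun i =>
        Finite.of_injective (fun φ => φ.toOrderHom.toFun) (fun a b h => SimplexCategory.Hom.ext _ _ (OrderHom.ext _ _ h))
      Fintype.ofFinite _
  exact ⟨fun m => Finset.univ.sup fun φ : Σ i : Fin (n + 1), (SimplexCategory.mk m ⟶ SimplexCategory.mk i) =>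
    imageSubobject (U.map φ.2.op), fun m => ⟨fun x hx => by
      obtain ⟨φ, rfl⟩ := hx
      exact Finset.le_sup (f := fun φ : Σ i : Fin (n + 1), (SimplexCategory.mk m ⟶ SimplexCategory.mk i) =>
        imageSubobject (U.map φ.2.op)) (Finset.mem_univ φ),
      fun x hx => Finset.sup_le fun φ _ => hx ⟨φ, rfl⟩⟩⟩

variable {U : SimplicialObject A} {n : ℕ} {U' : ∀ m : ℕ, Subobject (U.obj (op (SimplexCategory.mk m)))}

/-- a map out of the generated subobject is controlled by the generators. -/
lemma Gen.arrow_comp_factors (hU' : Gen U n U') {m : ℕ} {Z : A} (f : U.obj (op (SimplexCategory.mk m)) ⟶ Z)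
    (W : Subobject Z)
    (h : ∀ (i : ℕ), i ≤ n → ∀ φ : SimplexCategory.mk m ⟶ SimplexCategory.mk i, W.Factors (U.map φ.op ≫ f)) :
    W.Factors ((U' m).arrow ≫ f) := by
  have hle : U' m ≤ (Subobject.pullback f).obj W := by
    refine (hU' m).2 ?_
    rintro x ⟨⟨i, φ⟩, rfl⟩
    exact imageSubobject_le _ (((Subobject.pullback f).obj W).factorThru _
      ((pullback_factors_iff f W _).2 (h i (Nat.lt_succ_iff.1 i.2) φ)))
      (Subobject.factorThru_arrow _ _ _)
  exact (pullback_factors_iff f W _).1 (Subobject.factors_of_le _ hle (Subobject.factors_self _))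

lemma Gen.factors_map (hU' : Gen U n U') {m i : ℕ} (hi : i ≤ n) (φ : SimplexCategory.mk m ⟶ SimplexCategory.mk i) :
    (U' m).Factors (U.map φ.op) :=
  Subobject.factors_of_le _ ((hU' m).1 ⟨⟨⟨i, Nat.lt_succ_iff.2 hi⟩, φ⟩, rfl⟩)
    ((Subobject.factors_iff _ _).2 ⟨factorThruImageSubobject _, imageSubobject_arrow_comp _⟩)

lemma Gen.closed (hU' : Gen U n U') {m m' : ℕ} (ψ : SimplexCategory.mk m' ⟶ SimplexCategory.mk m) :
    (U' m').Factors ((U' m).arrow ≫ U.map ψ.op) :=
  hU'.arrow_comp_factors _ _ fun i hi φ => by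
    rw [← U.map_comp, ← op_comp]
    exact hU'.factors_map hi _

lemma Gen.image_le (hU' : Gen U n U') (m m' : ℕ) (ψ : SimplexCategory.mk m' ⟶ SimplexCategory.mk m) :
    imageSubobject ((U' m).arrow ≫ U.map ψ.op) ≤ U' m' :=
  imageSubobject_le _ ((U' m').factorThru _ (hU'.closed ψ)) (Subobject.factorThru_arrow _ _ _)

lemma Gen.eq_top (hU' : Gen U n U') (i : ℕ) (hi : i ≤ n) : U' i = ⊤ := by
  refine top_unique (Subobject.le_of_comm ((⊤ : Subobject _).arrow ≫ (U' i).factorThru (U.map (𝟙 (SimplexCategory.mk i)).op)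
    (hU'.factors_map hi _)) ?_)
  rw [Category.assoc, Subobject.factorThru_arrow, op_id, U.map_id, Category.comp_id]

lemma Gen.arrow_comp_PInfty (hU' : Gen U n U') (m : ℕ) (hm : n < m) :
    (U' m).arrow ≫ (PInfty : K[U] ⟶ K[U]).f m = 0 := by
  have hle : U' m ≤ kernelSubobject ((PInfty : K[U] ⟶ K[U]).f m) := by
    refine (hU' m).2 ?_
    rintro x ⟨⟨i, φ⟩, rfl⟩
    have h0 : U.map φ.op ≫ (PInfty : K[U] ⟶ K[U]).f m = 0 := degeneracy_comp_PInfty U m φ (fun hφ => by
      have h1 := SimplexCategory.len_le_of_mono φ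
      simp only [SimplexCategory.len_mk] at h1
      omega)
    exact imageSubobject_le _ ((kernelSubobject _).factorThru _ (kernelSubobject_factors _ _ h0))
      (Subobject.factorThru_arrow _ _ _)
  rw [← Subobject.ofLE_arrow hle, Category.assoc]
  refine (congrArg (_ ≫ ·) (kernelSubobject_arrow_comp _)).trans ?_
  simp

lemma Gen.inf_eq_bot (hU' : Gen U n U') (m : ℕ) (hm : n < m) :
    U' m ⊓ NormalizedMooreComplex.objX U m = ⊥ := by
  have hl : U' m ⊓ NormalizedMooreComplex.objX U m ≤ U' m := inf_le_left
  have hr : U' m ⊓ NormalizedMooreComplex.objX U m ≤ NormalizedMooreComplex.objX U m := inf_le_right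
  have h1 : (U' m ⊓ NormalizedMooreComplex.objX U m).arrow ≫ (PInfty : K[U] ⟶ K[U]).f m = 0 := by
    rw [← Subobject.ofLE_arrow hl, Category.assoc]
    refine (congrArg (_ ≫ ·) (hU'.arrow_comp_PInfty m hm)).trans ?_
    simp
  have h2 := HomologicalComplex.congr_hom (inclusionOfMooreComplexMap_comp_PInfty U) m
  simp only [HomologicalComplex.comp_f, inclusionOfMooreComplexMap_f] at h2
  have h3 : (U' m ⊓ NormalizedMooreComplex.objX U m).arrow = 0 := by
    rw [← Subobject.ofLE_arrow hr] at h1 ⊢
    rw [Category.assoc] at h1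
    exact (congrArg (_ ≫ ·) h2).symm.trans h1
  exact eq_bot_iff.2 (Subobject.le_of_comm 0 (by rw [h3, zero_comp]))

/-- the simplicial object of a generated family. -/
noncomputable def Gen.obj (hU' : Gen U n U') : SimplicialObject A where
  obj k := (U' k.unop.len : A)
  map {k k'} f := (U' k'.unop.len).factorThru ((U' k.unop.len).arrow ≫ U.map f)
    (hU'.closed (m := k.unop.len) (m' := k'.unop.len) f.unop)
  map_id k := by
    rw [← cancel_mono (U' k.unop.len).arrow, Subobject.factorThru_arrow, Category.id_comp]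
    exact (congrArg ((U' k.unop.len).arrow ≫ ·) (U.map_id k)).trans (Category.comp_id _)
  map_comp {k k' k''} f g := by
    rw [← cancel_mono (U' k''.unop.len).arrow, Subobject.factorThru_arrow, Category.assoc,
      Subobject.factorThru_arrow]
    exact (congrArg ((U' k.unop.len).arrow ≫ ·) (U.map_comp f g)).trans
      ((Category.assoc _ _ _).symm.trans ((congrArg (· ≫ U.map g)
        (Subobject.factorThru_arrow _ _ (hU'.closed (m := k.unop.len) (m' := k'.unop.len) f.unop)).symm).trans
        (Category.assoc _ _ _)))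

/-- the inclusion of the generated simplicial subobject. -/
noncomputable def Gen.ι (hU' : Gen U n U') : hU'.obj ⟶ U where
  app k := (U' k.unop.len).arrow
  naturality {k k'} f := Subobject.factorThru_arrow _ _ (hU'.closed (m := k.unop.len) (m' := k'.unop.len) f.unop)

instance (k : ℕ) : Finite (SimplexCategory.Truncated k) :=
  Finite.of_injective (fun a => (⟨a.obj.len, Nat.lt_succ_iff.2 a.property⟩ : Fin (k + 1)))
    (fun a b h => by
      have h1 : a.obj.len = b.obj.len := congrArg Fin.val h
      exact ObjectProperty.FullSubcategory.ext (SimplexCategory.ext h1))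

instance (k : ℕ) (a b : (SimplexCategory.Truncated k)ᵒᵖ) : Finite (a ⟶ b) :=
  Finite.of_injective (fun φ => φ.unop.hom.toOrderHom.toFun) (fun φ ψ h =>
    Quiver.Hom.unop_inj (ObjectProperty.hom_ext _ (SimplexCategory.Hom.ext _ _ (OrderHom.ext _ _ h))))

instance (a b : SimplexCategoryᵒᵖ) : Finite (a ⟶ b) :=
  Finite.of_injective (fun φ => φ.unop.toOrderHom.toFun) (fun φ ψ h =>
    Quiver.Hom.unop_inj (SimplexCategory.Hom.ext _ _ (OrderHom.ext _ _ h)))

instance (k : ℕ) (F : (SimplexCategory.Truncated k)ᵒᵖ ⥤ A) :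
    (SimplexCategory.Truncated.inclusion k).op.HasPointwiseLeftKanExtension F := fun Y => by
  let L := (SimplexCategory.Truncated.inclusion k).op
  haveI : Finite (SimplexCategory.Truncated k)ᵒᵖ := Finite.of_equiv _ equivToOpposite
  haveI : Finite (CostructuredArrow L Y) := Finite.of_injective
    (fun f => (⟨f.left, f.hom⟩ : Σ a, (L.obj a ⟶ Y)))
    (fun f g h => by
      obtain ⟨fl, ⟨⟨⟩⟩, fh⟩ := f
      obtain ⟨gl, ⟨⟨⟩⟩, gh⟩ := g
      obtain ⟨h1, h2⟩ := Sigma.mk.inj h
      subst h1
      cases h2
      rfl)
  haveI : ∀ f g : CostructuredArrow L Y, Finite (f ⟶ g) := fun f g =>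
    Finite.of_injective (fun φ => φ.left) (fun φ ψ h => CostructuredArrow.hom_ext _ _ h)
  haveI : FinCategory (CostructuredArrow L Y) :=
    { fintypeObj := Fintype.ofFinite _, fintypeHom := fun _ _ => Fintype.ofFinite _ }
  show HasColimit _
  infer_instance

variable [∀ F : (SimplexCategory.Truncated n)ᵒᵖ ⥤ A,
  (SimplexCategory.Truncated.inclusion n).op.HasLeftKanExtension F]

/-- a map out of a skeleton into `U` factors through the generated subobject. -/
lemma Gen.exists_lift (hU' : Gen U n U') {V : SimplicialObject.Truncated A n}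
    (g : (SimplicialObject.Truncated.sk n).obj V ⟶ U) : ∃ s, s ≫ hU'.ι = g := by
  haveI : IsIso ((SimplicialObject.truncation n).map hU'.ι) := by
    haveI : ∀ k, IsIso (((SimplicialObject.truncation n).map hU'.ι).app k) := fun k => by
      show IsIso (hU'.ι.app (op k.unop.obj))
      show IsIso (U' k.unop.obj.len).arrow
      rw [hU'.eq_top _ k.unop.property]
      infer_instance
    exact NatIso.isIso_of_isIso_app _
  let adj := SimplicialObject.skAdj (C := A) n
  refine ⟨(adj.homEquiv V hU'.obj).symm (adj.homEquiv V U g ≫ inv ((SimplicialObject.truncation n).map hU'.ι)), ?_⟩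
  apply (adj.homEquiv V U).injective
  rw [Adjunction.homEquiv_naturality_right, Equiv.apply_symm_apply, Category.assoc, IsIso.inv_hom_id,
    Category.comp_id]

variable (n) in
lemma gen_sk_eq_top (V : SimplicialObject.Truncated A n)
    {S' : ∀ m : ℕ, Subobject (((SimplicialObject.Truncated.sk n).obj V).obj (op (SimplexCategory.mk m)))}
    (hS' : Gen ((SimplicialObject.Truncated.sk n).obj V) n S') (m : ℕ) : S' m = ⊤ := by
  obtain ⟨s, hs⟩ := hS'.exists_lift (𝟙 _)
  refine top_unique (Subobject.le_of_comm ((⊤ : Subobject _).arrow ≫ s.app (op (SimplexCategory.mk m))) ?_)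
  rw [Category.assoc]
  have hm : s.app (op (SimplexCategory.mk m)) ≫ hS'.ι.app (op (SimplexCategory.mk m)) = 𝟙 _ :=
    (NatTrans.comp_app _ _ _).symm.trans ((NatTrans.congr_app hs (op (SimplexCategory.mk m))).trans (NatTrans.id_app _ _))
  exact (congrArg (_ ≫ ·) hm).trans (Category.comp_id _)

variable (n) in
lemma objX_sk_eq_bot (V : SimplicialObject.Truncated A n) (m : ℕ) (hm : n < m) :
    NormalizedMooreComplex.objX ((SimplicialObject.Truncated.sk n).obj V) m = ⊥ := by
  obtain ⟨S', hS'⟩ := exists_gen ((SimplicialObject.Truncated.sk n).obj V) n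
  have h := hS'.inf_eq_bot m hm
  rwa [gen_sk_eq_top n V hS' m, top_inf_eq] at h

/-- a simplicial object whose normalised complex vanishes is zero. -/
lemma isZero_of_objX (K : SimplicialObject A) (h : ∀ m, NormalizedMooreComplex.objX K m = ⊥) : IsZero K := by
  rw [IsZero.iff_id_eq_zero]
  apply (CategoryTheory.Abelian.DoldKan.equivalence (A := A)).functor.map_injective
  apply HomologicalComplex.hom_ext
  intro m
  have hz : IsZero ((NormalizedMooreComplex.objX K m : Subobject _) : A) := by
    rw [h m]
    exact IsZero.of_iso (isZero_zero A) Subobject.botCoeIsoZero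
  exact hz.eq_of_src _ _

theorem counit_mono_and_image (hU' : Gen U n U') (m : ℕ) :
    Mono (((SimplicialObject.skAdj n).counit.app U).app (op (SimplexCategory.mk m))) ∧
      imageSubobject (((SimplicialObject.skAdj n).counit.app U).app (op (SimplexCategory.mk m))) = U' m := by
  let adj := SimplicialObject.skAdj (C := A) n
  let ε := adj.counit.app U
  have hεiso : IsIso ((SimplicialObject.truncation n).map ε) := by
    have : IsIso adj.unit := SimplicialObject.Truncated.sk_coreflective n
    have : IsIso (adj.unit.app ((SimplicialObject.truncation n).obj U)) := inferInstance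
    have h := adj.right_triangle_components U
    exact IsIso.of_isIso_fac_left (h := 𝟙 _) h
  have hiso : ∀ i, i ≤ n → IsIso (ε.app (op (SimplexCategory.mk i))) := fun i hi =>
    inferInstanceAs (IsIso (((SimplicialObject.truncation n).map ε).app (op ⟨SimplexCategory.mk i, hi⟩)))
  refine ⟨?_, le_antisymm ?_ ((hU' m).2 ?_)⟩
  · have hK : IsZero (kernel ε) := isZero_of_objX _ fun k => by
      have hι : Mono ((kernel.ι ε).app (op (SimplexCategory.mk k))) := inferInstance
      have h0 : (kernel.ι ε).app (op (SimplexCategory.mk k)) ≫ ε.app (op (SimplexCategory.mk k)) = 0 := by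
        rw [← NatTrans.comp_app, kernel.condition]
        rfl
      refine eq_bot_iff.2 (Subobject.le_of_comm 0 ?_)
      rw [zero_comp, eq_comm, ← cancel_mono ((kernel.ι ε).app (op (SimplexCategory.mk k))), zero_comp]
      rcases le_or_gt k n with hk | hk
      · haveI := hiso k hk
        rw [← cancel_mono (ε.app (op (SimplexCategory.mk k))), Category.assoc, h0, comp_zero, zero_comp]
      · have hb := objX_sk_eq_bot n ((SimplicialObject.truncation n).obj U) k hk
        have he : ((normalizedMooreComplex A).map (kernel.ι ε)).f k ≫ (NormalizedMooreComplex.objX _ k).arrow =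
            (NormalizedMooreComplex.objX (kernel ε) k).arrow ≫ (kernel.ι ε).app (op (SimplexCategory.mk k)) :=
          HomologicalComplex.congr_hom ((inclusionOfMooreComplex A).naturality (kernel.ι ε)) k
        have hz : ∀ P : Subobject (((SimplicialObject.Truncated.sk n).obj
            ((SimplicialObject.truncation n).obj U)).obj (op (SimplexCategory.mk k))), P = ⊥ → P.arrow = 0 := by
          rintro P rfl
          exact Subobject.bot_arrow
        refine he.symm.trans ?_
        exact (congrArg (_ ≫ ·) (hz _ hb)).trans comp_zero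
    haveI : Mono ε := Preadditive.mono_of_kernel_zero (hK.eq_of_src _ _)
    exact inferInstanceAs (Mono (ε.app _))
  · obtain ⟨s, hs⟩ := hU'.exists_lift ε
    exact imageSubobject_le _ (s.app (op (SimplexCategory.mk m))) (NatTrans.congr_app hs (op (SimplexCategory.mk m)))
  · rintro x ⟨⟨i, φ⟩, rfl⟩
    haveI := hiso i (Nat.lt_succ_iff.1 i.2)
    refine imageSubobject_le _ (inv (ε.app _) ≫ (((SimplicialObject.Truncated.sk n).obj _).map φ.op) ≫
      factorThruImageSubobject (ε.app (op (SimplexCategory.mk m)))) ?_
    rw [Category.assoc, Category.assoc, imageSubobject_arrow_comp]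
    exact (congrArg (_ ≫ ·) (ε.naturality φ.op)).trans (IsIso.inv_hom_id_assoc _ _)

end Groth.L09.SkelAb
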