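import Groth.Agent.L09.Contraction
import Groth.Agent.L09.MateUnit
import Groth.Agent.L09.DerivedDescent
import Mathlib.CategoryTheory.Adjunction.Triple
import Mathlib.CategoryTheory.Sites.Pullback

/-!
An augmented family of spaces with a contraction is of cohomological descent.
-/

set_option autoImplicit false
set_option linter.unusedSectionVars false
set_option backward.isDefEq.respectTransparency false
set_option backward.isDefEq.respectTransparency.types false
universe u v u'
open CategoryTheory CategoryTheory.Limits Opposite Pseudofunctor.CoGrothendieck TopologicalSpace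
open Groth.L09.SpaceSite

namespace Groth.L09

namespace Precomp

variable {C C' : Type u} [SmallCategory C] [SmallCategory C'] {J : GrothendieckTopology C}
  {J' : GrothendieckTopology C'} (G : C ⥤ C') [G.IsContinuous J J']

instance additive : (G.sheafPushforwardContinuous AddCommGrpCat.{u} J J').Additive where

instance preservesFiniteLimits : PreservesFiniteLimits (G.sheafPushforwardContinuous AddCommGrpCat.{u} J J') :=
  have : PreservesLimitsOfSize.{0, 0} (G.sheafPushforwardContinuous AddCommGrpCat.{u} J J') :=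
    (Adjunction.ofIsRightAdjoint _).rightAdjoint_preservesLimits
  PreservesLimitsOfSize.preservesFiniteLimits _

lemma preservesFiniteColimits [G.IsCocontinuous J J'] :
    PreservesFiniteColimits (G.sheafPushforwardContinuous AddCommGrpCat.{u} J J') :=
  have : PreservesColimitsOfSize.{0, 0} (G.sheafPushforwardContinuous AddCommGrpCat.{u} J J') :=
    (G.sheafAdjunctionCocontinuous AddCommGrpCat.{u} J J').leftAdjoint_preservesColimits
  PreservesColimitsOfSize.preservesFiniteColimits _

instance preservesFiniteColimits_pullback : PreservesFiniteColimits (G.sheafPullback AddCommGrpCat.{u} J J') :=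
  have : PreservesColimitsOfSize.{0, 0} (G.sheafPullback AddCommGrpCat.{u} J J') :=
    (G.sheafAdjunctionContinuous AddCommGrpCat.{u} J J').leftAdjoint_preservesColimits
  PreservesColimitsOfSize.preservesFiniteColimits _

attribute [local instance] preservesBinaryBiproducts_of_preservesBinaryCoproducts in
instance additive_pullback : (G.sheafPullback AddCommGrpCat.{u} J J').Additive :=
  have : (G.sheafPullback AddCommGrpCat.{u} J J').IsLeftAdjoint :=
    (G.sheafAdjunctionContinuous AddCommGrpCat.{u} J J').isLeftAdjoint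
  have : (G.sheafPullback AddCommGrpCat.{u} J J').PreservesZeroMorphisms :=
    Functor.preservesZeroMorphisms_of_preserves_initial_object
  have : PreservesColimitsOfSize.{0, 0} (G.sheafPullback AddCommGrpCat.{u} J J') :=
    (G.sheafAdjunctionContinuous AddCommGrpCat.{u} J J').leftAdjoint_preservesColimits
  Functor.additive_of_preservesBinaryBiproducts _

attribute [local instance] reflectsLimits_of_reflectsIsomorphisms in
lemma preservesFiniteLimits_pullback [RepresentablyFlat G] :
    PreservesFiniteLimits (G.sheafPullback AddCommGrpCat.{u} J J') :=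
  have : PreservesFiniteLimits (G.op.lan : (Cᵒᵖ ⥤ AddCommGrpCat.{u}) ⥤ C'ᵒᵖ ⥤ AddCommGrpCat.{u}) :=
    lan_preservesFiniteLimits_of_flat AddCommGrpCat.{u} G
  Functor.sheafPullbackConstruction.preservesFiniteLimits G AddCommGrpCat.{u} J J'

end Precomp

variable {D : Type} [Category.{0} D] {Y : (WithInitial D)ᵒᵖ ⥤ TopCat.{u}}

namespace Contraction

variable (c : Contraction Y)

/-- Sheaves on the total category. -/
abbrev Sh (Y : (WithInitial D)ᵒᵖ ⥤ TopCat.{u}) : Type (u + 1) := Sheaf (JA Y) AddCommGrpCat.{u}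

/-- Sheaves on the part. -/
abbrev ShP (Y : (WithInitial D)ᵒᵖ ⥤ TopCat.{u}) : Type (u + 1) := Sheaf (JP Y) AddCommGrpCat.{u}

/-- Restriction to the part. -/
noncomputable abbrev I (Y : (WithInitial D)ᵒᵖ ⥤ TopCat.{u}) : Sh Y ⥤ ShP Y :=
  (FibDesc.incl (FibDesc.topAug Y)).sheafPushforwardContinuous AddCommGrpCat.{u} (JP Y) (JA Y)

/-- Restriction along the shift. -/
noncomputable abbrev Γ₀ : ShP Y ⥤ Sh c.Y' := c.ψ.sheafPushforwardContinuous AddCommGrpCat.{u} (JA c.Y') (JP Y)

/-- Restriction along the faces. -/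
noncomputable abbrev Dδ : Sh c.Y' ⥤ Sh Y := c.δ.sheafPushforwardContinuous AddCommGrpCat.{u} (JA Y) (JA c.Y')

/-- The decalage. -/
noncomputable abbrev Dec : ShP Y ⥤ Sh Y := c.Γ₀ ⋙ c.α.sheafPullback AddCommGrpCat.{u} (JA c.Y') (JA Y)

/-- Comparison along the faces. -/
noncomputable def t : 𝟭 (Sh Y) ⟶ (I Y ⋙ c.Γ₀) ⋙ c.Dδ where
  app E := ⟨Functor.whiskerRight (NatTrans.op c.τ) E.obj⟩
  naturality E E' φ := Sheaf.hom_ext (by
    ext x : 2
    exact (φ.hom.naturality (c.τ.app x.unop).op).symm)

/-- Comparison along the faces, on the part. -/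
noncomputable def t₀ : 𝟭 (ShP Y) ⟶ c.Γ₀ ⋙ c.Dδ ⋙ I Y where
  app E := ⟨Functor.whiskerRight (NatTrans.op c.τ₀) E.obj⟩
  naturality E E' φ := Sheaf.hom_ext (by
    ext x : 2
    exact (φ.hom.naturality (c.τ₀.app x.unop).op).symm)

/-- `α` is left inverse to `δ`. -/
noncomputable def κ : c.α.sheafPushforwardContinuous AddCommGrpCat.{u} (JA c.Y') (JA Y) ⋙ c.Dδ ⟶ 𝟭 (Sh Y) where
  app E := ⟨Functor.whiskerRight (NatTrans.op c.ν) E.obj⟩
  naturality E E' φ := Sheaf.hom_ext (by
    ext x : 2
    exact (φ.hom.naturality (c.ν.app x.unop).op).symm)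

lemma t₀_I (E : Sh Y) : c.t₀.app ((I Y).obj E) = (I Y).map (c.t.app E) := Sheaf.hom_ext (by
  ext x : 2
  exact congrArg (fun k => E.obj.map k.op) (c.τ₀_incl x.unop))

instance isIso_ν (X : A Y) : IsIso (c.ν.app X) := by
  have h : ob ((c.δ ⋙ c.α).obj X) ≤ ob X := fun x hx => by
    have h := ConcreteCategory.congr_hom (c.fac X.base) x
    simp at h
    rw [← h]
    exact hx
  refine ⟨hom (X := (c.δ ⋙ c.α).obj X) (Z := X) (𝟙 X.base) (fun x hx => ?_), hom_ext ?_, hom_ext ?_⟩
  · show Y.map (𝟙 X.base) x ∈ ob X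
    rw [Y.map_id]
    exact h hx
  · exact Category.id_comp _
  · exact Category.id_comp _

/-- The universal arrow at a point of the base space. -/
noncomputable abbrev g₀ (U : Opens (Y.obj (FibDesc.bot D))) :
    StructuredArrow (op ((FibDesc.eps (FibDesc.topAug Y)).obj U)) c.γ.op :=
  StructuredArrow.mk (Y := op (c.δ.obj ((FibDesc.eps (FibDesc.topAug Y)).obj U)))
    (c.τ.app ((FibDesc.eps (FibDesc.topAug Y)).obj U)).op

/-- It is initial. -/
noncomputable def g₀Initial (U : Opens (Y.obj (FibDesc.bot D))) : IsInitial (c.g₀ U) := by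
  let x := (FibDesc.eps (FibDesc.topAug Y)).obj U
  let p : ∀ i : (WithInitial D)ᵒᵖ, i ⟶ FibDesc.bot D := fun i => (WithInitial.starInitial (C := D)).op.from i
  let k : ∀ g : StructuredArrow (op x) c.γ.op, g.right.unop ⟶ c.δ.obj x := fun g =>
    hom (X := g.right.unop) (Z := c.δ.obj x) (p g.right.unop.base) fun z hz => by
      show Y.map (c.d.app (FibDesc.bot D)) (c.Y'.map (p g.right.unop.base) z) ∈ U
      have h := hom_le g.hom.unop hz
      rw [d_nat]
      have e : Y.map (p g.right.unop.base) (Y.map (c.d.app g.right.unop.base) z) = Y.map g.hom.unop.base z :=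
        (ConcreteCategory.congr_hom (Y.map_comp (c.d.app g.right.unop.base) (p g.right.unop.base)) z).symm.trans
          (congrArg (fun k => Y.map k z) ((subsingleton_toBot _).elim _ _))
      rw [e]
      exact h
  refine IsInitial.ofUniqueHom (fun g => StructuredArrow.homMk (k g).op ?_) (fun g m => ?_)
  · exact Quiver.Hom.unop_inj (hom_ext ((subsingleton_toBot _).elim _ _))
  · exact StructuredArrow.ext _ _ (Quiver.Hom.unop_inj (hom_ext ((subsingleton_toBot _).elim _ _)))

/-- The adjunction of restriction and right Kan extension along `γ`. -/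
noncomputable abbrev ag : I Y ⋙ c.Γ₀ ⊣ c.γ.sheafPushforwardCocontinuous AddCommGrpCat.{u} (JA c.Y') (JA Y) :=
  c.γ.sheafAdjunctionCocontinuous AddCommGrpCat.{u} (JA c.Y') (JA Y)

lemma isIso_restr_μ (Z : Sh Y) :
    IsIso ((FibSite.restr (FibDesc.topAug Y) (FibDesc.topAugTop Y) AddCommGrpCat.{u} (FibDesc.bot D)).map
      (MateUnit.μ c.ag c.t c.κ Z)) := by
  have : IsIso ((sheafToPresheaf _ _).map ((FibSite.restr (FibDesc.topAug Y) (FibDesc.topAugTop Y) AddCommGrpCat.{u}
      (FibDesc.bot D)).map (MateUnit.μ c.ag c.t c.κ Z))) := by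
    refine @NatIso.isIso_of_isIso_app _ _ _ _ _ _ _ fun W => ?_
    let x := (FibDesc.eps (FibDesc.topAug Y)).obj W.unop
    let P := c.α.op ⋙ Z.obj
    have hi := IsLimit.isIso_π_app_of_isInitial (c.γ.op.isPointwiseRightKanExtensionRanCounit P (op x))
      (c.g₀ W.unop) (c.g₀Initial W.unop)
    have e := NatTrans.congr_app (c.γ.sheafAdjunctionCocontinuous_counit_app_hom AddCommGrpCat.{u} (JA c.Y') (JA Y)
      ((c.α.sheafPushforwardContinuous AddCommGrpCat.{u} (JA c.Y') (JA Y)).obj Z)) (op (c.δ.obj x))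
    rw [Functor.ranAdjunction_counit] at e
    show IsIso ((((c.γ.sheafPushforwardCocontinuous AddCommGrpCat.{u} (JA c.Y') (JA Y)).obj
        ((c.α.sheafPushforwardContinuous AddCommGrpCat.{u} (JA c.Y') (JA Y)).obj Z)).obj.map (c.τ.app x).op) ≫
      (c.ag.counit.app ((c.α.sheafPushforwardContinuous AddCommGrpCat.{u} (JA c.Y') (JA Y)).obj Z)).hom.app (op (c.δ.obj x)) ≫
      Z.obj.map (c.ν.app x).op)
    rw [e, ← Category.assoc]
    exact @IsIso.comp_isIso _ _ _ _ _ _ _ hi inferInstance
  exact isIso_of_fully_faithful (sheafToPresheaf _ _) _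

end Contraction

lemma isIso_extend_unit (Y : (WithInitial D)ᵒᵖ ⥤ TopCat.{u}) :
    IsIso ((FibDesc.eps (FibDesc.topAug Y)).sheafAdjunctionContinuous AddCommGrpCat.{u}
      (FibDesc.topAugTop Y (FibDesc.bot D)) (JA Y)).unit := by
  let E := FibDesc.eps (FibDesc.topAug Y)
  have : IsIso (E.op.ranAdjunction AddCommGrpCat.{u}).counit := inferInstance
  let hr : E.op.ran.FullyFaithful (C := (_ ⥤ AddCommGrpCat.{u})) :=
    (E.op.ranAdjunction AddCommGrpCat.{u}).fullyFaithfulROfIsIsoCounit
  let hc : (E.sheafPushforwardCocontinuous AddCommGrpCat.{u} (FibDesc.topAugTop Y (FibDesc.bot D)) (JA Y)).FullyFaithful :=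
    Functor.FullyFaithful.ofCompFaithful (G := sheafToPresheaf _ _)
      (show (E.sheafPushforwardCocontinuous AddCommGrpCat.{u} (FibDesc.topAugTop Y (FibDesc.bot D)) (JA Y) ⋙ sheafToPresheaf _ _).FullyFaithful from
        (fullyFaithfulSheafToPresheaf _ _).comp hr)
  let t : Adjunction.Triple (E.sheafPullback AddCommGrpCat.{u} (FibDesc.topAugTop Y (FibDesc.bot D)) (JA Y))
      (E.sheafPushforwardContinuous AddCommGrpCat.{u} (FibDesc.topAugTop Y (FibDesc.bot D)) (JA Y))
      (E.sheafPushforwardCocontinuous AddCommGrpCat.{u} (FibDesc.topAugTop Y (FibDesc.bot D)) (JA Y)) :=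
    ⟨E.sheafAdjunctionContinuous AddCommGrpCat.{u} _ _, E.sheafAdjunctionCocontinuous AddCommGrpCat.{u} _ _⟩
  have h := t.fullyFaithfulEquiv.symm hc
  have := h.full
  have := h.faithful
  exact Adjunction.unit_isIso_of_L_fully_faithful _

attribute [local instance] HasDerivedCategory.standard

/-- An augmented family of spaces with a contraction is of cohomological descent. -/
theorem Contraction.isCohDescentTop (c : Contraction Y) : FibDesc.IsCohDescentTop Y := by
  let E := FibDesc.eps (FibDesc.topAug Y)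
  let ext := FibSite.extend (FibDesc.topAug Y) (FibDesc.topAugTop Y) AddCommGrpCat.{u} (FibDesc.bot D)
  let res := FibSite.restr (FibDesc.topAug Y) (FibDesc.topAugTop Y) AddCommGrpCat.{u} (FibDesc.bot D)
  let ae : ext ⊣ res := E.sheafAdjunctionContinuous AddCommGrpCat.{u} (FibDesc.topAugTop Y (FibDesc.bot D)) (JA Y)
  have : IsIso ae.unit := isIso_extend_unit Y
  have hI : PreservesFiniteColimits (Contraction.I Y) := Precomp.preservesFiniteColimits _
  have : PreservesFiniteColimits c.Γ₀ := Precomp.preservesFiniteColimits c.ψ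
  have : PreservesFiniteColimits res := Precomp.preservesFiniteColimits E
  have : PreservesFiniteLimits (E.sheafPullback AddCommGrpCat.{u} (FibDesc.topAugTop Y (FibDesc.bot D)) (JA Y)) :=
    Precomp.preservesFiniteLimits_pullback E
  have : PreservesFiniteLimits (c.α.sheafPullback AddCommGrpCat.{u} (JA c.Y') (JA Y)) :=
    Precomp.preservesFiniteLimits_pullback c.α
  have hpull : PreservesFiniteLimits (FibDesc.pull (FibDesc.topAug Y) (FibDesc.topAugTop Y) AddCommGrpCat.{u}) :=
    comp_preservesFiniteLimits ext (Contraction.I Y)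
  have : PreservesFiniteColimits c.Dec := comp_preservesFiniteColimits _ _
  have : PreservesFiniteLimits c.Dec := comp_preservesFiniteLimits _ _
  refine ⟨inferInstance, inferInstance, inferInstance, inferInstance, fun _ => inferInstance, hpull, fun K L => ?_⟩
  let aa := c.α.sheafAdjunctionContinuous AddCommGrpCat.{u} (JA c.Y') (JA Y)
  let a : 𝟭 (Contraction.ShP Y) ⟶ c.Dec ⋙ Contraction.I Y := MateUnit.η₀ (Γ₀ := c.Γ₀) aa c.κ c.t₀
  let p : 𝟭 (Contraction.Sh Y) ⟶ Contraction.I Y ⋙ c.Dec := MateUnit.η (Γ := Contraction.I Y ⋙ c.Γ₀) aa c.t c.κ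
  have hc : ∀ X, a.app ((Contraction.I Y).obj X) = (Contraction.I Y).map (p.app X) :=
    MateUnit.η₀_app aa c.κ c.t₀ c.t c.t₀_I
  have hp : ∀ X, IsIso (p.app (ext.obj X)) := MateUnit.isIso_η c.ag aa c.t c.κ ae c.isIso_restr_μ
  exact DerivedDescent.bijective_map ae (Contraction.I Y) c.Dec a p hc hp K.obj L.obj

end Groth.L09
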