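import Groth.Prelude.Def_FibDesc
import Groth.Agent.L09.FibSiteTop

/-!
The total sites of families of spaces: morphisms are thin over the base; functors between them.
-/

set_option autoImplicit false
set_option linter.unusedSectionVars false
set_option backward.isDefEq.respectTransparency false
set_option backward.isDefEq.respectTransparency.types false
universe u v₁ u₁ v₂ u₂ v₁' u₁'
open CategoryTheory CategoryTheory.Limits Opposite Pseudofunctor.CoGrothendieck TopologicalSpace

namespace Groth.L09.SpaceSite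

/-- A functor of total categories which is continuous on each fibre is continuous. -/
lemma isContinuous_of_fibres {K : Type u₁} [Category.{v₁} K] {K' : Type u₁'} [Category.{v₁'} K']
    {F : Pseudofunctor (LocallyDiscrete Kᵒᵖ) Cat.{v₂, u₂}} {J : FibSite.Topologies F} (hF : FibSite.IsPreFibSite F J)
    {G : Pseudofunctor (LocallyDiscrete K'ᵒᵖ) Cat.{v₂, u₂}} {J' : FibSite.Topologies G} (hG : FibSite.IsPreFibSite G J')
    (m : ∫ᶜ F ⥤ ∫ᶜ G)
    (h : ∀ i : K, ∃ (j : K') (H : F.obj ⟨op i⟩ ⥤ G.obj ⟨op j⟩),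
      H.IsContinuous (J i) (J' j) ∧ Nonempty (ι F i ⋙ m ≅ H ⋙ ι G j)) :
    m.IsContinuous (FibSite.totalTopology F J) (FibSite.totalTopology G J') := by
  refine ⟨fun P => (FibSiteTop.isSheaf_iff_restr hF _).2 fun i => ?_⟩
  obtain ⟨j, H, hH, ⟨e⟩⟩ := h i
  have := FibSiteTop.isContinuous_ι hG j
  have := Functor.isContinuous_comp H (ι G j) (J i) (J' j) (FibSite.totalTopology G J')
  have := Functor.isContinuous_of_iso e.symm (J i) (FibSite.totalTopology G J')
  exact (ι F i ⋙ m).op_comp_isSheaf_of_isSheaf_type (J i) ((isSheaf_iff_isSheaf_of_type _ _).1 P.property)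

lemma le_of {Z : TopCat.{u}} {U V : Opens Z} (h : U ⟶ V) : U ≤ V := h.le

/-- The morphism of an inequality. -/
def le_hom {Z : TopCat.{u}} {U V : Opens Z} (h : U ≤ V) : U ⟶ V := homOfLE h

variable {D : Type} [Category.{0} D] {Y : (WithInitial D)ᵒᵖ ⥤ TopCat.{u}}

/-- The open set of an object of the total category. -/
abbrev ob (X : ∫ᶜ (FibDesc.topAug Y)) : Opens (Y.obj X.base) := X.fiber

/-- An object of the total category. -/
noncomputable abbrev mk (i : (WithInitial D)ᵒᵖ) (U : Opens (Y.obj i)) : ∫ᶜ (FibDesc.topAug Y) := ⟨i, U⟩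

lemma hom_ext {X Z : ∫ᶜ (FibDesc.topAug Y)} {f g : X ⟶ Z} (h : f.base = g.base) : f = g :=
  Hom.ext f g h
    (@Subsingleton.elim _ (inferInstanceAs (Subsingleton (ob X ⟶ (Opens.map (Y.map f.base)).obj (ob Z)))) _ _)

/-- A morphism of the total category. -/
noncomputable def hom {X Z : ∫ᶜ (FibDesc.topAug Y)} (f : X.base ⟶ Z.base)
    (h : ob X ≤ (Opens.map (Y.map f)).obj (ob Z)) : X ⟶ Z :=
  ⟨f, le_hom h⟩

lemma hom_le {X Z : ∫ᶜ (FibDesc.topAug Y)} (f : X ⟶ Z) : ob X ≤ (Opens.map (Y.map f.base)).obj (ob Z) :=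
  le_of (U := ob X) (V := (Opens.map (Y.map f.base)).obj (ob Z)) f.fiber

/-- An object of the total category of the part. -/
noncomputable abbrev mkP (i : Dᵒᵖ) (U : Opens (Y.obj ((FibDesc.toAug D).obj i))) :
    ∫ᶜ (FibDesc.part (FibDesc.topAug Y)) := ⟨i, U⟩

/-- The open set of an object of the total category of the part. -/
abbrev obP (X : ∫ᶜ (FibDesc.part (FibDesc.topAug Y))) : Opens (Y.obj ((FibDesc.toAug D).obj X.base)) := X.fiber

lemma homP_ext {X Z : ∫ᶜ (FibDesc.part (FibDesc.topAug Y))} {f g : X ⟶ Z} (h : f.base = g.base) : f = g :=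
  Hom.ext f g h
    (@Subsingleton.elim _ (inferInstanceAs (Subsingleton
      (obP X ⟶ (Opens.map (Y.map ((FibDesc.toAug D).map f.base))).obj (obP Z)))) _ _)

/-- A morphism of the total category of the part. -/
noncomputable def homP {X Z : ∫ᶜ (FibDesc.part (FibDesc.topAug Y))} (f : X.base ⟶ Z.base)
    (h : obP X ≤ (Opens.map (Y.map ((FibDesc.toAug D).map f))).obj (obP Z)) : X ⟶ Z :=
  ⟨f, le_hom h⟩

lemma homP_le {X Z : ∫ᶜ (FibDesc.part (FibDesc.topAug Y))} (f : X ⟶ Z) :
    obP X ≤ (Opens.map (Y.map ((FibDesc.toAug D).map f.base))).obj (obP Z) :=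
  le_of (U := obP X) (V := (Opens.map (Y.map ((FibDesc.toAug D).map f.base))).obj (obP Z)) f.fiber

variable (Y)

lemma isPreFibSite : FibSite.IsPreFibSite (FibDesc.topAug Y) (FibDesc.topAugTop Y) := fun _ _ f => by
  show (Opens.map (Y.map f)).IsContinuous _ _
  infer_instance

lemma isPreFibSite_part : FibSite.IsPreFibSite (FibDesc.part (FibDesc.topAug Y))
    (FibDesc.partTop (FibDesc.topAug Y) (FibDesc.topAugTop Y)) := fun _ _ f =>
  isPreFibSite Y ((FibDesc.toAug D).map f)

/-- The total topology. -/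
noncomputable abbrev JA : GrothendieckTopology (∫ᶜ (FibDesc.topAug Y)) :=
  FibDesc.totAug (FibDesc.topAug Y) (FibDesc.topAugTop Y)

/-- The total topology of the part. -/
noncomputable abbrev JP : GrothendieckTopology (∫ᶜ (FibDesc.part (FibDesc.topAug Y))) :=
  FibDesc.totPart (FibDesc.topAug Y) (FibDesc.topAugTop Y)

instance eps_isContinuous :
    (FibDesc.eps (FibDesc.topAug Y)).IsContinuous (FibDesc.topAugTop Y (FibDesc.bot D)) (JA Y) :=
  FibSiteTop.isContinuous_ι (isPreFibSite Y) _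

instance eps_isCocontinuous :
    (FibDesc.eps (FibDesc.topAug Y)).IsCocontinuous (FibDesc.topAugTop Y (FibDesc.bot D)) (JA Y) :=
  FibSiteTop.isCocontinuous_ι (isPreFibSite Y) _

/-- Morphisms to the base point are unique. -/
instance subsingleton_toBot (i : (WithInitial D)ᵒᵖ) : Subsingleton (i ⟶ FibDesc.bot D) :=
  ⟨fun _ _ => (WithInitial.starInitial (C := D)).op.hom_ext _ _⟩

instance eps_full : (FibDesc.eps (FibDesc.topAug Y)).Full :=
  ⟨fun h => FibSiteTop.exists_ι_map h ((subsingleton_toBot _).elim _ _)⟩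

instance eps_faithful : (FibDesc.eps (FibDesc.topAug Y)).Faithful :=
  ⟨fun h => FibSiteTop.ι_map_injective h⟩

/-- The fibre inclusions of the part and of the family agree. -/
noncomputable def inclIso (i : Dᵒᵖ) :
    ι (FibDesc.part (FibDesc.topAug Y)) i ⋙ FibDesc.incl (FibDesc.topAug Y) ≅
      𝟭 (Opens (Y.obj ((FibDesc.toAug D).obj i))) ⋙ ι (FibDesc.topAug Y) ((FibDesc.toAug D).obj i) :=
  NatIso.ofComponents (fun U => Iso.refl _) fun a => hom_ext (by
    show (FibDesc.toAug D).map (𝟙 i) ≫ 𝟙 _ = 𝟙 _ ≫ 𝟙 _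
    simp)

instance incl_isContinuous : (FibDesc.incl (FibDesc.topAug Y)).IsContinuous (JP Y) (JA Y) :=
  isContinuous_of_fibres (isPreFibSite_part Y) (isPreFibSite Y) _ fun i =>
    ⟨(FibDesc.toAug D).obj i, 𝟭 _, Functor.isContinuous_id _, ⟨inclIso Y i⟩⟩

instance incl_isCocontinuous : (FibDesc.incl (FibDesc.topAug Y)).IsCocontinuous (JP Y) (JA Y) where
  cover_lift {X S} hS := by
    refine (FibSiteTop.mem_total_iff (isPreFibSite_part Y) _ _).2 ?_
    have h := (FibSiteTop.mem_total_iff (isPreFibSite Y) _ _).1 hS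
    refine GrothendieckTopology.superset_covering _ ?_ h
    intro W a ha
    have e : (FibDesc.incl (FibDesc.topAug Y)).map
        ((ι (FibDesc.part (FibDesc.topAug Y)) X.base).map a) =
          (ι (FibDesc.topAug Y) ((FibDesc.toAug D).obj X.base)).map a :=
      hom_ext ((FibDesc.toAug D).map_id _)
    show S.arrows ((FibDesc.incl (FibDesc.topAug Y)).map ((ι (FibDesc.part (FibDesc.topAug Y)) X.base).map a))
    rw [e]
    exact ha

instance eps_flat : RepresentablyFlat (FibDesc.eps (FibDesc.topAug Y)) := by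
  refine ⟨fun X => ?_⟩
  let E := FibDesc.eps (FibDesc.topAug Y)
  let mkE : ∀ (V : Opens (Y.obj (FibDesc.bot D))) (f : X.base ⟶ FibDesc.bot D),
      ob X ≤ (Opens.map (Y.map f)).obj V → StructuredArrow X E := fun V f h =>
    StructuredArrow.mk (Y := V) (hom (Z := mk (FibDesc.bot D) V) f h : X ⟶ E.obj V)
  let p : X.base ⟶ FibDesc.bot D := (WithInitial.starInitial (C := D)).op.from X.base
  let le' : ∀ g : StructuredArrow X E, ob X ≤ (Opens.map (Y.map p)).obj g.right := fun g => by
    rw [(subsingleton_toBot X.base).elim p g.hom.base]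
    exact hom_le g.hom
  refine { nonempty := ⟨mkE ⊤ p fun x _ => trivial⟩, cone_objs := fun g g' => ?_, cone_maps := fun g g' a b => ?_ }
  · let U : Opens (Y.obj (FibDesc.bot D)) := g.right
    let U' : Opens (Y.obj (FibDesc.bot D)) := g'.right
    refine ⟨mkE (U ⊓ U') p fun x hx => ⟨le' g hx, le' g' hx⟩,
      StructuredArrow.homMk (le_hom (U := U ⊓ U') (V := U) inf_le_left) (hom_ext ((subsingleton_toBot X.base).elim _ _)),
      StructuredArrow.homMk (le_hom (U := U ⊓ U') (V := U') inf_le_right) (hom_ext ((subsingleton_toBot X.base).elim _ _)), trivial⟩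
  · exact ⟨g, 𝟙 g, congrArg (𝟙 g ≫ ·) (StructuredArrow.ext _ _
      (@Subsingleton.elim _ (inferInstanceAs (Subsingleton ((g.right : Opens (Y.obj (FibDesc.bot D))) ⟶ g'.right))) _ _))⟩

end Groth.L09.SpaceSite
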