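import Groth.Agent.L09.FibClvLemmas
import Mathlib.CategoryTheory.FiberedCategory.Grothendieck
import Mathlib.CategoryTheory.Bicategory.Functor.LocallyDiscrete

/-!
A category with a splitting is isomorphic to the Grothendieck construction of a strict functor.
-/

set_option autoImplicit false
universe v₁ v₂ u₁ u₂

open CategoryTheory Category Functor Opposite

namespace Groth.L09.SplitClv

variable {𝒮 : Type u₁} [Category.{v₁} 𝒮] {𝒳 : Type u₂} [Category.{v₂} 𝒳] {p : 𝒳 ⥤ 𝒮}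
  (K : FibCat.Cleavage p) (hK : K.IsSplitting)

lemma incl_eqToHom {U : 𝒮} {a b : p.Fiber U} (h : a = b) :
    (Fiber.fiberInclusion : p.Fiber U ⥤ 𝒳).map (eqToHom h) = eqToHom (congrArg Subtype.val h) := by
  subst h
  exact (Fiber.fiberInclusion : p.Fiber U ⥤ 𝒳).map_id _

lemma cancel_eqToHom {w x y z : 𝒳} (r : w = x) (r' : x = w) (f : w ⟶ y) (g : y ⟶ z) :
    f ≫ g = eqToHom r ≫ (eqToHom r' ≫ f) ≫ g := by
  subst r; simp

lemma fiber_obj_ext {U : 𝒮} {a b : p.Fiber U} (h : a.1 = b.1) : a = b := Subtype.ext h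

omit hK in
lemma lift_comp {R S : 𝒮} (f : R ⟶ S) (a : p.Fiber S) {b : p.Fiber R} (u : b ⟶ (K.inverseImage f).obj a) :
    p.IsHomLift f (Fiber.fiberInclusion.map u ≫ K.lift a.2 f) := by
  have h1 : p.IsHomLift (𝟙 R) (Fiber.fiberInclusion.map u) := u.2
  have h2 : p.IsHomLift f (K.lift a.2 f) := (K.isCartesian a.2 f).toIsHomLift
  exact @IsHomLift.comp_lift_id_left' _ _ _ _ p _ _ _ R (Fiber.fiberInclusion.map u) h1 _ _ f (K.lift a.2 f) h2

omit hK in
lemma exists_fib {R S : 𝒮} (f : R ⟶ S) (a : p.Fiber S) (b : p.Fiber R) (ψ : b.1 ⟶ a.1) (h : p.IsHomLift f ψ) :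
    ∃ u : b ⟶ (K.inverseImage f).obj a, Fiber.fiberInclusion.map u ≫ K.lift a.2 f = ψ :=
  ⟨⟨@IsCartesian.map _ _ _ _ p _ _ _ _ f (K.lift a.2 f) (K.isCartesian a.2 f) _ ψ h,
    @IsCartesian.map_isHomLift _ _ _ _ p _ _ _ _ f (K.lift a.2 f) (K.isCartesian a.2 f) _ ψ h⟩,
    @IsCartesian.fac _ _ _ _ p _ _ _ _ f (K.lift a.2 f) (K.isCartesian a.2 f) _ ψ h⟩

include hK

lemma inv_id (U : 𝒮) : K.inverseImage (𝟙 U) = 𝟭 (p.Fiber U) := by
  refine CategoryTheory.Functor.ext (fun a => Subtype.ext (hK.1 a.2).1) (fun a b φ => ?_)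
  apply Fiber.hom_ext
  obtain ⟨ha, hla⟩ := hK.1 a.2
  obtain ⟨hb, hlb⟩ := hK.1 b.2
  have h := Clv.map_fac K (𝟙 U) φ
  rw [hla, hlb] at h
  rw [Functor.map_comp, Functor.map_comp, incl_eqToHom, incl_eqToHom, Functor.id_map]
  have h2 := congrArg (· ≫ eqToHom hb.symm) h
  simp only [assoc, eqToHom_trans, eqToHom_refl] at h2
  refine Eq.trans ?_ (h2.trans (assoc _ _ _))
  exact (comp_id _).symm.trans (congrArg (Fiber.fiberInclusion.map ((K.inverseImage (𝟙 U)).map φ) ≫ ·)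
    ((eqToHom_trans hb hb.symm).trans (eqToHom_refl _ _)).symm)

lemma obj_comp {R S T : 𝒮} (f : T ⟶ S) (g : R ⟶ T) (a : p.Fiber S) :
    (K.inverseImage f ⋙ K.inverseImage g).obj a = (K.inverseImage (g ≫ f)).obj a :=
  Subtype.ext (hK.2 f g a.2).1

lemma inv_comp {R S T : 𝒮} (f : T ⟶ S) (g : R ⟶ T) :
    K.inverseImage (g ≫ f) = K.inverseImage f ⋙ K.inverseImage g := by
  refine CategoryTheory.Functor.ext (fun a => (obj_comp K hK f g a).symm) (fun a b φ => ?_)
  apply Clv.fiber_ext K (g ≫ f) (a := b)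
  obtain ⟨ha, hla⟩ := hK.2 f g a.2
  obtain ⟨hb, hlb⟩ := hK.2 f g b.2
  rw [Clv.map_fac, Functor.map_comp, Functor.map_comp, incl_eqToHom, incl_eqToHom, assoc, assoc]
  have h1 := Clv.map_fac K g ((K.inverseImage f).map φ)
  have h2 := Clv.map_fac K f φ
  have hb' : eqToHom (congrArg Subtype.val (obj_comp K hK f g b)) ≫ K.lift b.2 (g ≫ f) =
      K.lift (K.obj_proj b.2 f) g ≫ K.lift b.2 f := hlb.symm
  refine Eq.trans ?_ (congrArg (fun t => eqToHom _ ≫ Fiber.fiberInclusion.map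
    ((K.inverseImage g).map ((K.inverseImage f).map φ)) ≫ t) hb').symm
  refine Eq.trans ?_ (congrArg (eqToHom _ ≫ ·) (((assoc _ _ _).symm.trans
    ((congrArg (· ≫ K.lift b.2 f) h1).trans ((assoc _ _ _).trans
      ((congrArg (K.lift (K.obj_proj a.2 f) g ≫ ·) h2).trans (assoc _ _ _).symm)))))).symm
  refine Eq.trans ?_ (congrArg (fun t => eqToHom _ ≫ t ≫ Fiber.fiberInclusion.map φ) hla).symm
  exact cancel_eqToHom _ _ _ _

/-- the strict functor of a splitting. -/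
noncomputable def F : 𝒮ᵒᵖ ⥤ Cat.{v₂, u₂} where
  obj U := Cat.of (p.Fiber U.unop)
  map f := (K.inverseImage f.unop).toCatHom
  map_id U := Cat.Hom.ext (inv_id K hK U.unop)
  map_comp f g := Cat.Hom.ext (inv_comp K hK f.unop g.unop)

/-- the Grothendieck construction of the strict functor. -/
abbrev G := Pseudofunctor.CoGrothendieck (F K hK).toPseudofunctor'

lemma obj_id (A : G K hK) : (((F K hK).map (𝟙 (op A.base))).toFunctor.obj A.fiber) = A.fiber :=
  congrArg (fun k : (F K hK).obj (op A.base) ⟶ (F K hK).obj (op A.base) => k.toFunctor.obj A.fiber)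
    ((F K hK).map_id _)

omit hK in
lemma cat_eqToHom_app {X Y : Cat.{v₂, u₂}} {P Q : X ⟶ Y} (h : P = Q) (a : X) :
    (eqToHom h : P ⟶ Q).toNatTrans.app a = eqToHom (congrArg (fun k : X ⟶ Y => k.toFunctor.obj a) h) := by
  subst h; rfl

/-- the underlying object of the fibre category. -/
def fo (A : G K hK) : p.Fiber A.base := A.fiber

/-- the underlying morphism in the fibre category. -/
def fib {A B : G K hK} (m : A ⟶ B) :
    (fo K hK A) ⟶ (K.inverseImage m.base).obj (fo K hK B) := m.fiber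

/-- the underlying morphism of `𝒳`. -/
noncomputable def val {A B : G K hK} (m : A ⟶ B) : (fo K hK A).1 ⟶ (fo K hK B).1 :=
  Fiber.fiberInclusion.map (fib K hK m) ≫ K.lift (fo K hK B).2 m.base

lemma val_id (A : G K hK) : val K hK (𝟙 A) = 𝟙 _ := by
  obtain ⟨h, hl⟩ := hK.1 (fo K hK A).2
  have hf : fib K hK (𝟙 A) = eqToHom (fiber_obj_ext (show (fo K hK A).1 = ((K.inverseImage (𝟙 A.base)).obj (fo K hK A)).1 from h.symm)) :=
    cat_eqToHom_app ((F K hK).map_id (op A.base)).symm A.fiber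
  show Fiber.fiberInclusion.map (fib K hK (𝟙 A)) ≫ K.lift (fo K hK A).2 (𝟙 A.base) = _
  rw [hf, incl_eqToHom, hl]
  exact (eqToHom_trans _ _).trans (eqToHom_refl _ _)

lemma val_comp {A B D : G K hK} (m : A ⟶ B) (n : B ⟶ D) :
    val K hK (m ≫ n) = val K hK m ≫ val K hK n := by
  obtain ⟨h, hl⟩ := hK.2 n.base m.base (fo K hK D).2
  have hf : fib K hK (m ≫ n) = fib K hK m ≫ (K.inverseImage m.base).map (fib K hK n) ≫
      eqToHom (fiber_obj_ext (show ((K.inverseImage m.base).obj ((K.inverseImage n.base).obj (fo K hK D))).1 = ((K.inverseImage (m.base ≫ n.base)).obj (fo K hK D)).1 from h)) :=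
    congrArg (fun k => fib K hK m ≫ (K.inverseImage m.base).map (fib K hK n) ≫ k)
      (cat_eqToHom_app ((F K hK).map_comp n.base.op m.base.op).symm D.fiber)
  show Fiber.fiberInclusion.map (fib K hK (m ≫ n)) ≫ K.lift (fo K hK D).2 (m.base ≫ n.base) = _
  rw [hf, Functor.map_comp, Functor.map_comp, incl_eqToHom, assoc, assoc]
  have h1 := Clv.map_fac K m.base (fib K hK n)
  refine Eq.trans (congrArg (fun t => Fiber.fiberInclusion.map (fib K hK m) ≫
    Fiber.fiberInclusion.map ((K.inverseImage m.base).map (fib K hK n)) ≫ t) hl.symm) ?_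
  refine Eq.trans (congrArg (Fiber.fiberInclusion.map (fib K hK m) ≫ ·)
    ((assoc _ _ _).symm.trans ((congrArg (· ≫ K.lift (fo K hK D).2 n.base) h1).trans (assoc _ _ _)))) ?_
  exact (assoc _ _ _).symm

/-- the comparison functor. -/
noncomputable def Ψ : G K hK ⥤ 𝒳 where
  obj A := (fo K hK A).1
  map m := val K hK m
  map_id A := val_id K hK A
  map_comp m n := val_comp K hK m n

lemma p_val {A B : G K hK} (m : A ⟶ B) : p.IsHomLift m.base (val K hK m) :=
  lift_comp K m.base (fo K hK B) (fib K hK m)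

lemma base_eq {A B : G K hK} (m : A ⟶ B) : m.base =
    eqToHom (fo K hK A).2.symm ≫ p.map (val K hK m) ≫ eqToHom (fo K hK B).2 :=
  @IsHomLift.fac _ _ _ _ p _ _ _ _ m.base (val K hK m) (p_val K hK m)

instance : (Ψ K hK).Faithful where
  map_injective {A B} m m' h := by
    have hb : m.base = m'.base := (base_eq K hK m).trans
      ((congrArg (fun t => eqToHom (fo K hK A).2.symm ≫ p.map t ≫
        eqToHom (fo K hK B).2) h).trans (base_eq K hK m').symm)
    obtain ⟨f, φ⟩ := m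
    obtain ⟨f', φ'⟩ := m'
    dsimp only at hb
    subst hb
    suffices φ = φ' by rw [this]
    exact Clv.fiber_ext K f (a := (fo K hK B)) h

instance : (Ψ K hK).Full where
  map_surjective {A B} ψ := by
    let ψ' : (fo K hK A).1 ⟶ (fo K hK B).1 := ψ
    let f : A.base ⟶ B.base :=
      eqToHom (fo K hK A).2.symm ≫ p.map ψ' ≫ eqToHom (fo K hK B).2
    obtain ⟨u, hu⟩ := exists_fib K f (fo K hK B) (fo K hK A) ψ'
      (IsHomLift.of_fac p f ψ' (fo K hK A).2 (fo K hK B).2 rfl)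
    exact ⟨⟨f, u⟩, hu⟩

/-- the inverse functor on objects. -/
def mk (x : 𝒳) : G K hK := ⟨p.obj x, (⟨x, rfl⟩ : p.Fiber (p.obj x))⟩

lemma preimage_map {x y : 𝒳} (φ : x ⟶ y) :
    (Ψ K hK).map ((Ψ K hK).preimage (X := mk K hK x) (Y := mk K hK y) φ) = φ :=
  (Ψ K hK).map_preimage (X := mk K hK x) (Y := mk K hK y) φ

lemma Ψ_map_id (x : 𝒳) : (Ψ K hK).map (𝟙 (mk K hK x)) = 𝟙 x := (Ψ K hK).map_id (mk K hK x)

/-- the inverse functor. -/
noncomputable def Φ : 𝒳 ⥤ G K hK where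
  obj x := mk K hK x
  map {x y} φ := (Ψ K hK).preimage (X := mk K hK x) (Y := mk K hK y) φ
  map_id x := (Ψ K hK).map_injective ((preimage_map K hK (𝟙 x)).trans (Ψ_map_id K hK x).symm)
  map_comp {x y z} φ ψ := (Ψ K hK).map_injective ((preimage_map K hK (φ ≫ ψ)).trans
    (((Ψ K hK).map_comp ((Ψ K hK).preimage (X := mk K hK x) (Y := mk K hK y) φ)
      ((Ψ K hK).preimage (X := mk K hK y) (Y := mk K hK z) ψ)).trans
      (congrArg₂ (fun (a : x ⟶ y) (b : y ⟶ z) => a ≫ b) (preimage_map K hK φ) (preimage_map K hK ψ))).symm)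

lemma Φ_Ψ : Φ K hK ⋙ Ψ K hK = 𝟭 𝒳 :=
  CategoryTheory.Functor.ext (fun _ => rfl) (fun x y φ => by
    show (Ψ K hK).map ((Ψ K hK).preimage (X := mk K hK x) (Y := mk K hK y) φ) = 𝟙 x ≫ φ ≫ 𝟙 y
    rw [preimage_map, id_comp, comp_id])

lemma obj_eq (A : G K hK) : (Φ K hK).obj ((Ψ K hK).obj A) = A := by
  obtain ⟨U, a⟩ := A
  have key : ∀ (x : 𝒳) (V : 𝒮) (h : p.obj x = V), mk K hK x = ⟨V, (⟨x, h⟩ : p.Fiber V)⟩ := by
    rintro x V rfl; rfl
  exact key (a : p.Fiber U).1 U (a : p.Fiber U).2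


lemma Ψ_Φ : Ψ K hK ⋙ Φ K hK = 𝟭 (G K hK) :=
  CategoryTheory.Functor.ext (obj_eq K hK) (fun A B m => (Ψ K hK).map_injective (by
    show (Ψ K hK).map ((Φ K hK).map ((Ψ K hK).map m)) = _
    refine (preimage_map K hK ((Ψ K hK).map m)).trans ?_
    rw [Functor.map_comp, Functor.map_comp, eqToHom_map, eqToHom_map]
    exact ((id_comp _).symm.trans (congrArg (𝟙 _ ≫ ·) (comp_id _).symm)) ))

lemma Φ_forget : Φ K hK ⋙ Pseudofunctor.CoGrothendieck.forget (F K hK).toPseudofunctor' = p :=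
  CategoryTheory.Functor.ext (fun _ => rfl) (fun x y φ => by
    have h : val K hK ((Φ K hK).map φ) = φ := preimage_map K hK φ
    refine (base_eq K hK ((Φ K hK).map φ)).trans ?_
    rw [h]
    rfl)

end Groth.L09.SplitClv
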