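import Groth.Agent.L09.FibBasic
import Mathlib.CategoryTheory.Sites.InducedTopology
import Mathlib.CategoryTheory.Sites.Over

/-!
The topology induced on a category fibred in groupoids.
-/

set_option autoImplicit false
universe w v₃ u₃ v₂ u₂ v u

open CategoryTheory Category Functor Opposite

namespace Groth.L09.Stk

variable {C : Type u} [Category.{v} C] {𝒳 : Type u₂} [Category.{v₂} 𝒳] {p : 𝒳 ⥤ C} (hp : FibCat.IsFibGrpd p)

include hp

lemma exists_map_lift {x : 𝒳} {V : C} (g : V ⟶ p.obj x) :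
    ∃ (z : 𝒳) (ψ : z ⟶ x), p.IsHomLift g ψ :=
  hp.exists_lift g

lemma pushforward_iff {x : 𝒳} (S : Sieve x) {V : C} (g : V ⟶ p.obj x) {z : 𝒳} (ψ : z ⟶ x)
    [p.IsHomLift g ψ] : S.functorPushforward p g ↔ S ψ := by
  constructor
  · rintro ⟨W, s, h, hs, hg⟩
    obtain ⟨z', χ, hχ⟩ := exists_map_lift hp h
    have : p.IsHomLift g (χ ≫ s) := by rw [hg]; infer_instance
    have := Groth.L09.Fib.stronglyCartesian_of_isFibGrpd p hp g (χ ≫ s)
    rw [← IsCartesian.fac p g (χ ≫ s) ψ, ← assoc]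
    exact S.downward_closed hs _
  · intro hψ
    refine ⟨z, ψ, eqToHom (IsHomLift.domain_eq p g ψ).symm, hψ, ?_⟩
    rw [IsHomLift.fac' p g ψ]
    simp

lemma pushforward_pullback {x y : 𝒳} (f : y ⟶ x) (S : Sieve x) :
    (S.pullback f).functorPushforward p = (S.functorPushforward p).pullback (p.map f) := by
  ext V g
  obtain ⟨z, ψ, hψ⟩ := exists_map_lift hp g
  show Sieve.functorPushforward p (S.pullback f) g ↔ Sieve.functorPushforward p S (g ≫ p.map f)
  rw [pushforward_iff hp _ g ψ, pushforward_iff hp _ (g ≫ p.map f) (ψ ≫ f)]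
  rfl

lemma pushforward_top (x : 𝒳) : (⊤ : Sieve x).functorPushforward p = ⊤ := by
  ext V g
  obtain ⟨z, ψ, hψ⟩ := exists_map_lift hp g
  simp only [pushforward_iff hp _ g ψ, Sieve.top_apply]

/-- The sieves whose image is covering form a topology. -/
def imgTop (J : GrothendieckTopology C) : GrothendieckTopology 𝒳 where
  sieves x := {S | S.functorPushforward p ∈ J (p.obj x)}
  top_mem' x := by
    show (⊤ : Sieve x).functorPushforward p ∈ J (p.obj x)
    rw [pushforward_top hp]; exact J.top_mem _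
  pullback_stable' x y S f hS := by
    show (S.pullback f).functorPushforward p ∈ J (p.obj y)
    rw [pushforward_pullback hp]; exact J.pullback_stable _ hS
  transitive' x S hS R hR := by
    refine J.transitive hS _ fun V g hg => ?_
    obtain ⟨W, s, h, hs, rfl⟩ := hg
    rw [Sieve.pullback_comp, ← pushforward_pullback hp]
    exact J.pullback_stable _ (hR hs)

lemma mem_restrictedTopology_iff (J : GrothendieckTopology C) {x : 𝒳} (S : Sieve x) :
    S ∈ p.restrictedTopology J x ↔ S.functorPushforward p ∈ J (p.obj x) := by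
  refine ⟨fun h => ?_, Functor.mem_restrictedTopology_of_functorPushforward_mem⟩
  have hle : p.restrictedTopology J ≤ imgTop hp J := by
    rw [Functor.restrictedTopology, Precoverage.toGrothendieck_le_iff_le_toPrecoverage]
    intro y R hR
    rw [GrothendieckTopology.mem_toPrecoverage_iff]
    show (Sieve.generate R).functorPushforward p ∈ J (p.obj y)
    rw [← Sieve.generate_map_eq_functorPushforward]
    exact hR
  exact hle x h

/-- A functor over the base between categories fibred in groupoids is compatible preserving. -/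
lemma compatiblePreserving {𝒴 : Type u₃} [Category.{v₃} 𝒴] {q : 𝒴 ⥤ C} (hq : FibCat.IsFibGrpd q)
    (F : 𝒳 ⥤ 𝒴) (hF : F ⋙ q = p) (K : GrothendieckTopology 𝒴) : CompatiblePreserving.{w} K F := by
  subst hF
  refine ⟨fun ℱ {Z T x} hx {Y₁ Y₂ W} f₁ f₂ {g₁ g₂} hg₁ hg₂ e => ?_⟩
  obtain ⟨z, ψ, hψ⟩ := exists_map_lift (p := F ⋙ q) hp (q.map f₁)
  have h1 : q.IsHomLift (q.map f₁) (F.map ψ) := by
    refine IsHomLift.of_fac q _ _ (IsHomLift.domain_eq (F ⋙ q) (q.map f₁) ψ) rfl ?_
    exact (IsHomLift.fac (F ⋙ q) (q.map f₁) ψ).trans (by simp)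
  have := Groth.L09.Fib.stronglyCartesian_of_isFibGrpd q hq (q.map f₁) (F.map ψ)
  let c := IsCartesian.map q (q.map f₁) (F.map ψ) f₁
  have hc : c ≫ F.map ψ = f₁ := IsCartesian.fac _ _ _ _
  have hb : q.map f₂ ≫ (F ⋙ q).map g₂ = q.map f₁ ≫ (F ⋙ q).map g₁ := by
    rw [Functor.comp_map, Functor.comp_map, ← q.map_comp, ← q.map_comp, e]
  have := Groth.L09.Fib.stronglyCartesian_of_isFibGrpd (F ⋙ q) hp ((F ⋙ q).map g₂) g₂
  have hlift : (F ⋙ q).IsHomLift (q.map f₂ ≫ (F ⋙ q).map g₂) (ψ ≫ g₁) := by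
    rw [hb]; infer_instance
  let k := IsStronglyCartesian.map (F ⋙ q) ((F ⋙ q).map g₂) g₂ (g := q.map f₂) rfl (ψ ≫ g₁)
  have hk : k ≫ g₂ = ψ ≫ g₁ := IsStronglyCartesian.fac _ _ _ _ _
  have hkl : (F ⋙ q).IsHomLift (q.map f₂) k := IsStronglyCartesian.map_isHomLift _ _ _ _ _
  have hc2 : c ≫ F.map k = f₂ := by
    have := Groth.L09.Fib.stronglyCartesian_of_isFibGrpd q hq (q.map (F.map g₂)) (F.map g₂)
    have hcl : q.IsHomLift (𝟙 (q.obj W)) c := IsCartesian.map_isHomLift _ _ _ _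
    have hkq : q.IsHomLift (q.map f₂) (F.map k) := by
      refine IsHomLift.of_fac q _ _ (IsHomLift.domain_eq (F ⋙ q) (q.map f₂) k) rfl ?_
      exact (IsHomLift.fac (F ⋙ q) (q.map f₂) k).trans (by simp)
    apply IsStronglyCartesian.ext q (q.map (F.map g₂)) (F.map g₂) (q.map f₂)
    rw [assoc, ← F.map_comp, hk, F.map_comp, reassoc_of% hc, e]
  rw [← hc, ← hc2]
  have := congrArg (ℱ.obj.map c.op) (hx ψ k hg₁ hg₂ hk.symm)
  simpa [← Functor.map_comp_apply, ← op_comp] using this

end Groth.L09.Stk
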