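import Groth.Agent.L09.StkLift
import Groth.Agent.L09.StkTop
import Groth.Agent.L09.FibEquiv

/-!
Change of base for restriction functors: strictification of functors into categories fibred in
groupoids, precomposition with equivalences, and the comparison between restriction over `𝒳` and
over `C` for a tower `𝒲 → 𝒳 → C`.
-/

set_option autoImplicit false
universe w₂ w₁ v₄ u₄ v₃ u₃ v₂ u₂ v u

open CategoryTheory Category Functor

namespace Groth.L09.StkBase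

section

variable {B : Type u} [Category.{v} B] {𝒴 : BasedCategory.{v₂, u₂} B} {𝒜 : BasedCategory.{v₃, u₃} B}
  {ℬ : BasedCategory.{v₄, u₄} B}

theorem based_ext {F G : 𝒜 ⥤ᵇ 𝒴} (h : F.toFunctor = G.toFunctor) : F = G := by
  cases F; cases G; cases h; rfl

theorem based_eqToHom_app {F G : 𝒜 ⥤ᵇ 𝒴} (h : F = G) (a : 𝒜.obj) :
    (eqToHom h).toNatTrans.app a = eqToHom (by rw [h]) := by
  subst h; rfl

theorem map_inv_comp_lift {D : Type u₂} [Category.{v₂} D] (p : D ⥤ B) {x y : D} (e : x ≅ y) {S : B}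
    (f : p.obj x ⟶ S) (h : p.IsHomLift f e.hom) :
    p.map e.inv ≫ f = eqToHom (IsHomLift.codomain_eq p f e.hom) := by
  refine (congrArg (p.map e.inv ≫ ·) (IsHomLift.fac p f e.hom)).trans ?_
  simp [← assoc, ← Functor.map_comp]

theorem map_inv_comp {D : Type u₂} [Category.{v₂} D] (p : D ⥤ B) {x y z : D} (e : x ≅ y) {S : B}
    (f : p.obj x ⟶ S) (h : p.IsHomLift f e.hom) (m : x ⟶ z) {hS : S = p.obj z}
    (hm : p.map m = f ≫ eqToHom hS) : p.map (e.inv ≫ m) = eqToHom ((IsHomLift.codomain_eq p f e.hom).trans hS) := by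
  rw [p.map_comp, hm, ← assoc, map_inv_comp_lift p e f h, eqToHom_trans]

theorem eqToHom_sandwich {a b c d a' d' : B} (r : a = b) (m : b ⟶ c) (s : c = d) (p : a = a') (q : a' = b)
    (t : c = d') (u : d' = d) :
    eqToHom r ≫ m ≫ eqToHom s = eqToHom p ≫ (eqToHom q ≫ m ≫ eqToHom t) ≫ eqToHom u := by
  subst r s p t; simp

/-- strictification of a functor commuting up to isomorphism with the structure functors. -/
theorem strictify (h : FibCat.IsFibGrpd 𝒴.p) (A₀ : ℬ.obj ⥤ 𝒴.obj) (j : A₀ ⋙ 𝒴.p ≅ ℬ.p) :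
    ∃ (A : ℬ ⥤ᵇ 𝒴) (e : A₀ ≅ A.toFunctor), ∀ b, 𝒴.p.IsHomLift (j.hom.app b) (e.hom.app b) := by
  have := Fib.isFibered_of_isFibGrpd _ h
  choose y e he using fun b => Fib.exists_iso_lift 𝒴.p (j.app b) (A₀.obj b) rfl
  let A₁ : ℬ.obj ⥤ 𝒴.obj :=
    { obj := y
      map := fun {a b} f => (e a).inv ≫ A₀.map f ≫ (e b).hom
      map_id := fun a => by simp
      map_comp := fun f g => by simp }
  have hA : ∀ {a b} (f : a ⟶ b), 𝒴.p.IsHomLift (ℬ.p.map f) (A₁.map f) := fun {a b} f => by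
    have := he a
    have := he b
    have : 𝒴.p.IsHomLift (j.app a).inv (e a).inv := inferInstance
    have h1 : 𝒴.p.IsHomLift ((j.app a).inv ≫ 𝒴.p.map (A₀.map f) ≫ (j.app b).hom) (A₁.map f) := by
      have : 𝒴.p.IsHomLift (𝒴.p.map (A₀.map f)) (A₀.map f) := IsHomLift.map _ _
      show 𝒴.p.IsHomLift _ ((e a).inv ≫ A₀.map f ≫ (e b).hom)
      infer_instance
    have h2 : (j.app a).inv ≫ 𝒴.p.map (A₀.map f) ≫ (j.app b).hom = ℬ.p.map f :=
      NatIso.naturality_1 j f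
    rwa [h2] at h1
  refine ⟨⟨A₁, CategoryTheory.Functor.ext
    (fun b => IsHomLift.codomain_eq 𝒴.p (f := (j.app b).hom) (φ := (e b).hom))
    (fun a b f => ?_)⟩, NatIso.ofComponents e (fun {a b} f => by simp [A₁]), he⟩
  have := hA f
  exact IsHomLift.fac' 𝒴.p (ℬ.p.map f) (A₁.map f)

/-- precomposition with an equivalence of total categories is an equivalence. -/
theorem restr_isEquivalence (h : FibCat.IsFibGrpd 𝒴.p) (E : 𝒜 ⥤ᵇ ℬ) [E.toFunctor.IsEquivalence] :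
    (Stk.restr E 𝒴).IsEquivalence := by
  let W := (Functor.whiskeringLeft _ _ 𝒴.obj).obj E.toFunctor
  have hff : W.Full ∧ W.Faithful := ⟨inferInstance, inferInstance⟩
  have hfaith : (Stk.restr E 𝒴).Faithful := ⟨fun {A A'} α β he =>
    BasedNatTrans.homCategory.ext _ _ (W.map_injective (congrArg BasedNatTrans.toNatTrans he))⟩
  have hfull : (Stk.restr E 𝒴).Full := ⟨fun {A A'} γ => by
    let α : A.toFunctor ⟶ A'.toFunctor := W.preimage γ.toNatTrans
    have hα : ∀ a, α.app (E.obj a) = γ.toNatTrans.app a := fun a =>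
      congrArg (fun t => NatTrans.app t a) (W.map_preimage γ.toNatTrans)
    refine ⟨⟨α, fun b => ?_⟩, BasedNatTrans.homCategory.ext _ _ (W.map_preimage γ.toNatTrans)⟩
    let a := E.toFunctor.objPreimage b
    let v := E.toFunctor.objObjPreimageIso b
    have hb : α.app b = A.map v.inv ≫ α.app (E.obj a) ≫ A'.map v.hom := by
      rw [← α.naturality]
      exact ((congrArg (· ≫ α.app b) ((A.toFunctor.mapIso v).inv_hom_id)).trans (id_comp _)).symm.trans
        (assoc _ _ _)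
    rw [hb]
    have h1 : 𝒴.p.IsHomLift (ℬ.p.map v.inv) (A.map v.inv) :=
      have : ℬ.p.IsHomLift (ℬ.p.map v.inv) v.inv := IsHomLift.map _ _
      inferInstance
    have h2 : 𝒴.p.IsHomLift (ℬ.p.map v.hom) (A'.map v.hom) :=
      have : ℬ.p.IsHomLift (ℬ.p.map v.hom) v.hom := IsHomLift.map _ _
      inferInstance
    have h3 : 𝒴.p.IsHomLift (𝟙 (ℬ.p.obj (E.obj a))) (α.app (E.obj a)) := by
      rw [hα a]; exact BasedNatTrans.isHomLift γ (E.w_obj a).symm
    have h4 : 𝒴.p.IsHomLift (ℬ.p.map v.inv ≫ 𝟙 _ ≫ ℬ.p.map v.hom)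
        (A.map v.inv ≫ α.app (E.obj a) ≫ A'.map v.hom) := inferInstance
    have h5 : ℬ.p.map v.inv ≫ 𝟙 _ ≫ ℬ.p.map v.hom = 𝟙 (ℬ.p.obj b) := by
      rw [id_comp, ← Functor.map_comp, v.inv_hom_id, ℬ.p.map_id]
    rwa [h5] at h4⟩
  refine @Functor.IsEquivalence.mk _ _ _ _ _ hfaith hfull ⟨fun M => ?_⟩
  let T := E.toFunctor.asEquivalence
  obtain ⟨A, e, he⟩ := strictify (ℬ := ℬ) h (T.inverse ⋙ M.toFunctor)
    (Functor.associator _ _ _ ≪≫ Functor.isoWhiskerLeft T.inverse (eqToIso M.w) ≪≫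
      Functor.isoWhiskerLeft T.inverse (eqToIso E.w.symm) ≪≫ (Functor.associator _ _ _).symm ≪≫
      Functor.isoWhiskerRight T.counitIso ℬ.p ≪≫ Functor.leftUnitor _)
  let app : ∀ a, A.obj (E.obj a) ≅ M.obj a := fun a =>
    (e.app (E.obj a)).symm ≪≫ M.toFunctor.mapIso (T.unitIso.app a).symm
  refine ⟨A, ⟨BasedNatIso.mkNatIso (NatIso.ofComponents app (fun {a a'} f => ?_)) (fun a => ?_)⟩⟩
  · show A.map (E.map f) ≫ e.inv.app _ ≫ M.map (T.unitIso.inv.app a') =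
      (e.inv.app _ ≫ M.map (T.unitIso.inv.app a)) ≫ M.map f
    rw [e.inv.naturality_assoc, assoc, ← M.toFunctor.map_comp, Functor.comp_map]
    exact congrArg (e.inv.app _ ≫ ·)
      ((M.toFunctor.map_comp _ _).symm.trans (congrArg M.map (T.unitIso.inv.naturality f)))
  · show 𝒴.p.IsHomLift (𝟙 _) (e.inv.app (E.obj a) ≫ M.map (T.unitIso.inv.app a))
    have hh := he (E.obj a)
    have : IsIso (e.hom.app (E.obj a)) := inferInstance
    refine IsHomLift.of_fac' 𝒴.p _ _ ((A.w_obj _).trans (E.w_obj a)) (M.w_obj a) ?_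
    refine (map_inv_comp 𝒴.p (e.app (E.obj a)) _ hh (M.map (T.unitIso.inv.app a))
      (hS := (E.w_obj a).trans (M.w_obj a).symm) ?_).trans (by simp)
    have eM := CategoryTheory.Functor.congr_hom M.w (T.unitIso.inv.app a)
    have eE := CategoryTheory.Functor.congr_hom E.w (T.unitIso.inv.app a)
    simp only [Functor.comp_map] at eM eE
    have tri : T.counitIso.hom.app (E.obj a) = E.map (T.unitIso.inv.app a) :=
      T.counit_app_functor a
    have key : ∀ c, c = E.map (T.unitIso.inv.app a) →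
        𝒴.p.map (M.map (T.unitIso.inv.app a)) =
          (eqToHom (M.w_obj (T.inverse.obj (E.obj a))) ≫ eqToHom (E.w_obj (T.inverse.obj (E.obj a))).symm ≫ ℬ.p.map c) ≫
            eqToHom ((E.w_obj a).trans (M.w_obj a).symm) := fun c hc => by
      subst hc
      refine eM.trans (Eq.trans ?_ (congrArg (fun t => (eqToHom (M.w_obj (T.inverse.obj (E.obj a))) ≫
        eqToHom (E.w_obj (T.inverse.obj (E.obj a))).symm ≫ t) ≫
        eqToHom ((E.w_obj a).trans (M.w_obj a).symm)) eE.symm))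
      simp
      exact eqToHom_sandwich _ _ _ _ _ _ _
    refine (key _ tri).trans ?_
    simp
    rfl

/-- transfer of the equivalence property along a commutative square -/
theorem restr_square {𝒜' : BasedCategory.{w₁, w₂} B} {ℬ' : BasedCategory.{w₁, w₂} B}
    (ι : 𝒜 ⥤ᵇ ℬ) (ι' : 𝒜' ⥤ᵇ ℬ') (E : ℬ ⥤ᵇ ℬ') (E' : 𝒜 ⥤ᵇ 𝒜')
    (hsq : BasedFunctor.comp ι E = BasedFunctor.comp E' ι')
    [(Stk.restr E 𝒴).IsEquivalence] [(Stk.restr E' 𝒴).IsEquivalence]
    [(Stk.restr ι' 𝒴).IsEquivalence] : (Stk.restr ι 𝒴).IsEquivalence := by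
  have e : Stk.restr E 𝒴 ⋙ Stk.restr ι 𝒴 ≅ Stk.restr ι' 𝒴 ⋙ Stk.restr E' 𝒴 := by
    have h0 : Stk.restr (BasedFunctor.comp ι E) 𝒴 ≅ Stk.restr (BasedFunctor.comp E' ι') 𝒴 :=
      eqToIso (by rw [hsq])
    exact h0
  have : (Stk.restr E 𝒴 ⋙ Stk.restr ι 𝒴).IsEquivalence := Functor.isEquivalence_of_iso e.symm
  exact Functor.isEquivalence_of_comp_left (Stk.restr E 𝒴) _

end

section Tower

variable {C : Type u} [Category.{v} C] {𝒳 : BasedCategory.{v₂, u₂} C}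

/-- the total category over `C` of a category over `𝒳`. -/
abbrev tot (𝒲 : BasedCategory.{v₃, u₃} 𝒳.obj) : BasedCategory.{v₃, u₃} C :=
  BasedCategory.ofFunctor (𝒲.p ⋙ 𝒳.p)

/-- the structure functor, over `C`. -/
abbrev str (𝒲 : BasedCategory.{v₃, u₃} 𝒳.obj) : tot 𝒲 ⥤ᵇ 𝒳 where
  toFunctor := 𝒲.p
  w := rfl

/-- a functor over `𝒳` as a functor over `C`. -/
abbrev totMap {𝒲 : BasedCategory.{v₃, u₃} 𝒳.obj} {𝒲' : BasedCategory.{v₄, u₄} 𝒳.obj} (A : 𝒲 ⥤ᵇ 𝒲') :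
    tot 𝒲 ⥤ᵇ tot 𝒲' where
  toFunctor := A.toFunctor
  w := congrArg (· ⋙ 𝒳.p) A.w

lemma lift_map {D : Type u₄} [Category.{v₄} D] (q : D ⥤ 𝒳.obj) {a b : D} {z z' : 𝒳.obj} (f : z ⟶ z')
    (φ : a ⟶ b) [q.IsHomLift f φ] : (q ⋙ 𝒳.p).IsHomLift (𝒳.p.map f) φ := by
  subst_hom_lift q f φ
  exact IsHomLift.map (q ⋙ 𝒳.p) φ

lemma lift_id {D : Type u₄} [Category.{v₄} D] (q : D ⥤ 𝒳.obj) {a b : D} {z : 𝒳.obj}
    (φ : a ⟶ b) [q.IsHomLift (𝟙 z) φ] : (q ⋙ 𝒳.p).IsHomLift (𝟙 (𝒳.p.obj z)) φ := by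
  have := lift_map q (𝟙 z) φ
  rwa [𝒳.p.map_id] at this

variable {𝒲 : BasedCategory.{v₃, u₃} 𝒳.obj}

/-- a morphism over `𝒳` as a morphism over `C`. -/
def totHom {𝒜 : BasedCategory.{v₄, u₄} 𝒳.obj} {A A' : 𝒜 ⥤ᵇ 𝒲} (α : A ⟶ A') : totMap A ⟶ totMap A' where
  toNatTrans := α.toNatTrans
  isHomLift' a := @lift_id _ _ 𝒳 _ _ 𝒲.p _ _ _ (α.toNatTrans.app a) (α.isHomLift' a)

/-- C1: from restriction over `C` to restriction over `𝒳`. -/
theorem restr_over_of_tot {𝒜 ℬ : BasedCategory.{v₄, u₄} 𝒳.obj} (ι : 𝒜 ⥤ᵇ ℬ)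
    (h𝒲 : FibCat.IsFibGrpd 𝒲.p) [(Stk.restr (totMap ι) (tot 𝒲)).IsEquivalence]
    [(Stk.restr (totMap ι) 𝒳).Full] [(Stk.restr (totMap ι) 𝒳).Faithful] :
    (Stk.restr ι 𝒲).IsEquivalence := by
  have hfaith : (Stk.restr ι 𝒲).Faithful := ⟨fun {A A'} α β h => by
    have : totHom α = totHom β := (Stk.restr (totMap ι) (tot 𝒲)).map_injective (by
      apply BasedNatTrans.homCategory.ext
      exact congrArg (fun t : _ ⟶ _ => BasedNatTrans.toNatTrans t) h)
    exact BasedNatTrans.homCategory.ext _ _ (congrArg BasedNatTrans.toNatTrans this :)⟩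
  have hfull : (Stk.restr ι 𝒲).Full := ⟨fun {A A'} γ => by
    obtain ⟨γ', hγ'⟩ := (Stk.restr (totMap ι) (tot 𝒲)).map_surjective
      (X := totMap A) (Y := totMap A') (totHom γ)
    have happ : ∀ a, γ'.toNatTrans.app (ι.obj a) = γ.toNatTrans.app a := fun a =>
      congrArg (fun t => t.toNatTrans.app a) hγ'
    have hAA : A.toFunctor ⋙ 𝒲.p = A'.toFunctor ⋙ 𝒲.p := A.w.trans A'.w.symm
    let d₁ : BasedFunctor.comp (totMap A) (str 𝒲) ⟶ BasedFunctor.comp (totMap A') (str 𝒲) :=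
      BasedCategory.whiskerRight γ' (str 𝒲)
    let d₂ : BasedFunctor.comp (totMap A) (str 𝒲) ⟶ BasedFunctor.comp (totMap A') (str 𝒲) :=
      { toNatTrans := eqToHom hAA
        isHomLift' := fun b => by
          show 𝒳.p.IsHomLift (𝟙 _) ((eqToHom hAA).app b)
          rw [eqToHom_app]
          refine IsHomLift.of_fac' 𝒳.p _ _ (congrArg 𝒳.p.obj (A.w_obj b)) (congrArg 𝒳.p.obj (A'.w_obj b)) ?_
          rw [eqToHom_map, id_comp, eqToHom_trans] }
    have hd : d₁ = d₂ := (Stk.restr (totMap ι) 𝒳).map_injective (by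
      apply BasedNatTrans.homCategory.ext
      ext a
      show 𝒲.p.map (γ'.toNatTrans.app (ι.obj a)) = (eqToHom hAA).app (ι.obj a)
      have := γ.isHomLift' a
      refine (congrArg 𝒲.p.map (happ a)).trans
        ((IsHomLift.fac' 𝒲.p (𝟙 (𝒜.p.obj a)) (γ.toNatTrans.app a)).trans ?_)
      simp only [eqToHom_app, id_comp, eqToHom_trans]
      rfl)
    refine ⟨⟨γ'.toNatTrans, fun b => ?_⟩, BasedNatTrans.homCategory.ext _ _ (congrArg BasedNatTrans.toNatTrans hγ' :)⟩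
    refine IsHomLift.of_fac' 𝒲.p _ _ (A.w_obj b) (A'.w_obj b) ?_
    have := congrArg (fun t => t.toNatTrans.app b) hd
    refine this.trans ?_
    show (eqToHom hAA).app b = _
    rw [eqToHom_app]
    simp⟩
  refine @Functor.IsEquivalence.mk _ _ _ _ _ hfaith hfull ⟨fun L => ?_⟩
  let R := Stk.restr (totMap ι) (tot 𝒲)
  let G' := R.objPreimage (totMap L)
  let e' : R.obj G' ≅ totMap L := R.objObjPreimageIso (totMap L)
  let S := Stk.restr (totMap ι) 𝒳
  have hL : BasedFunctor.comp (totMap L) (str 𝒲) = BasedFunctor.comp (totMap ι) (str ℬ) :=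
    based_ext (L.w.trans ι.w.symm)
  let i : S.obj (BasedFunctor.comp G' (str 𝒲)) ≅ S.obj (str ℬ) :=
    Groth.L09.Stk.compRightIso e' (str 𝒲) ≪≫ eqToIso hL
  let j := S.preimageIso i
  obtain ⟨A, e, he⟩ := strictify (ℬ := ℬ) h𝒲 G'.toFunctor ((BasedNatTrans.forgetful _ _).mapIso j)
  let f' := (BasedNatTrans.forgetful _ _).mapIso e'
  refine ⟨A, ⟨BasedNatIso.mkNatIso (Functor.isoWhiskerLeft ι.toFunctor e.symm ≪≫ f') (fun a => ?_)⟩⟩
  show 𝒲.p.IsHomLift (𝟙 (𝒜.p.obj a)) (e.inv.app (ι.obj a) ≫ e'.hom.toNatTrans.app a)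
  have hh := he (ι.obj a)
  refine IsHomLift.of_fac' 𝒲.p _ _ ((A.w_obj _).trans (ι.w_obj a)) (L.w_obj a) ?_
  have ej : j.hom.toNatTrans.app (ι.obj a) = i.hom.toNatTrans.app a :=
    congrArg (fun t => t.toNatTrans.app a) (S.map_preimage i.hom)
  have ei : i.hom.toNatTrans.app a = 𝒲.p.map (e'.hom.toNatTrans.app a) ≫
      eqToHom ((L.w_obj a).trans (ι.w_obj a).symm) := by
    show _ ≫ (eqToHom hL).toNatTrans.app a = _
    rw [based_eqToHom_app]
    rfl
  refine (map_inv_comp 𝒲.p (e.app (ι.obj a)) _ hh (e'.hom.toNatTrans.app a)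
    (hS := (ι.w_obj a).trans (L.w_obj a).symm) ?_).trans (by simp)
  show _ = j.hom.toNatTrans.app (ι.obj a) ≫ _
  rw [ej, ei]
  refine ((assoc _ _ _).trans ?_).symm
  rw [eqToHom_trans, eqToHom_refl, comp_id]
  rfl

end Tower

end Groth.L09.StkBase
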