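import Groth.Agent.L09.StkBase
import Mathlib.CategoryTheory.Limits.Shapes.Pullback.HasPullback
import Mathlib.CategoryTheory.Limits.Shapes.Pullback.IsPullback.Basic
import Mathlib.CategoryTheory.Limits.Preserves.Shapes.Pullbacks
import Mathlib.CategoryTheory.Limits.Shapes.Pullback.Categorical.Basic
import Mathlib.CategoryTheory.Sites.CoverPreserving

/-!
The inverse image `C ×_D 𝒮` of a stack along a pullback preserving, cover preserving functor.
-/

set_option autoImplicit false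
universe w₂ w₁ v₄ u₄ v₃ u₃ v₂ u₂ v u

open CategoryTheory Category Functor Limits

namespace Groth.L09.StkPullback

open Groth.L09.StkBase

section Initial

variable {D : Type u} [Category.{v} D] {ℬ : BasedCategory.{v₂, u₂} D} {A₀ : Type u₃} [Category.{v₃} A₀]

/-- The three conditions making restriction along a functor an equivalence. -/
structure Good (E : A₀ ⥤ ℬ.obj) : Prop where
  exists_arrow : ∀ g : ℬ.obj, ∃ (a : A₀), Nonempty (g ⟶ E.obj a)
  span : ∀ {g : ℬ.obj} {a b : A₀} (h : g ⟶ E.obj a) (k : g ⟶ E.obj b),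
    ∃ (c : A₀) (l : g ⟶ E.obj c) (m : c ⟶ a) (n : c ⟶ b), l ≫ E.map m = h ∧ l ≫ E.map n = k
  eq : ∀ {g : ℬ.obj} {a b : A₀} (m n : a ⟶ b) (h : g ⟶ E.obj a), h ≫ E.map m = h ≫ E.map n →
    ∃ (c : A₀) (e : c ⟶ a) (l : g ⟶ E.obj c), l ≫ E.map e = h ∧ e ≫ m = e ≫ n

variable {E : A₀ ⥤ ℬ.obj}

/-- the based category on `A₀`. -/
abbrev src (E : A₀ ⥤ ℬ.obj) : BasedCategory.{v₃, u₃} D := BasedCategory.ofFunctor (E ⋙ ℬ.p)

abbrev inc (E : A₀ ⥤ ℬ.obj) : src E ⥤ᵇ ℬ where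
  toFunctor := E
  w := rfl

lemma common (hE : Good E) {g : ℬ.obj} {a a' c c' : A₀} {h : g ⟶ E.obj a} {h' : g ⟶ E.obj a'}
    (l : g ⟶ E.obj c) (m : c ⟶ a) (n : c ⟶ a') (l' : g ⟶ E.obj c') (m' : c' ⟶ a) (n' : c' ⟶ a')
    (hm : l ≫ E.map m = h) (hn : l ≫ E.map n = h') (hm' : l' ≫ E.map m' = h) (hn' : l' ≫ E.map n' = h') :
    ∃ (d : A₀) (r : d ⟶ c) (r' : d ⟶ c') (k : g ⟶ E.obj d),
      k ≫ E.map r = l ∧ k ≫ E.map r' = l' ∧ r ≫ m = r' ≫ m' ∧ r ≫ n = r' ≫ n' := by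
  obtain ⟨d₀, k₀, r₀, r₀', hr₀, hr₀'⟩ := hE.span l l'
  obtain ⟨d₁, e₁, k₁, hk₁, he₁⟩ := hE.eq (r₀ ≫ m) (r₀' ≫ m') k₀
    (by rw [E.map_comp, E.map_comp, reassoc_of% hr₀, reassoc_of% hr₀', hm, hm'])
  obtain ⟨d₂, e₂, k₂, hk₂, he₂⟩ := hE.eq (e₁ ≫ r₀ ≫ n) (e₁ ≫ r₀' ≫ n') k₁
    (by simp only [E.map_comp]; rw [reassoc_of% hk₁, reassoc_of% hk₁, reassoc_of% hr₀, reassoc_of% hr₀', hn, hn'])
  refine ⟨d₂, e₂ ≫ e₁ ≫ r₀, e₂ ≫ e₁ ≫ r₀', k₂, ?_, ?_, ?_, ?_⟩
  · simp only [E.map_comp]; rw [reassoc_of% hk₂, reassoc_of% hk₁, hr₀]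
  · simp only [E.map_comp]; rw [reassoc_of% hk₂, reassoc_of% hk₁, hr₀']
  · simp only [assoc]; rw [he₁]
  · simp only [assoc]; exact he₂

variable {𝒮 : BasedCategory.{v₄, u₄} D}

lemma sc (h𝒮 : FibCat.IsFibGrpd 𝒮.p) (M : A₀ ⥤ 𝒮.obj) (hM : M ⋙ 𝒮.p = E ⋙ ℬ.p) {a b : A₀} (m : a ⟶ b) :
    𝒮.p.IsStronglyCartesian (ℬ.p.map (E.map m)) (M.map m) := by
  have h0 : (src E).p.IsHomLift (ℬ.p.map (E.map m)) m := IsHomLift.map (src E).p m
  let M' : src E ⥤ᵇ 𝒮 := { toFunctor := M, w := hM }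
  have : 𝒮.p.IsHomLift (ℬ.p.map (E.map m)) (M.map m) :=
    BasedFunctor.preserves_isHomLift M' (ℬ.p.map (E.map m)) m
  exact Fib.stronglyCartesian_of_isFibGrpd 𝒮.p h𝒮 _ _

lemma lift_of_map {G : ℬ ⥤ᵇ 𝒮} {g g' : ℬ.obj} (j : g ⟶ g') : 𝒮.p.IsHomLift (ℬ.p.map j) (G.map j) := by
  have := IsHomLift.map ℬ.p j
  infer_instance

theorem restr_faithful (hE : Good E) (h𝒮 : FibCat.IsFibGrpd 𝒮.p) : (Stk.restr (inc E) 𝒮).Faithful :=
  ⟨fun {B B'} α β e => BasedNatTrans.homCategory.ext _ _ (by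
    ext g
    obtain ⟨a, ⟨h⟩⟩ := hE.exists_arrow g
    have := lift_of_map (G := B') h
    have := Fib.stronglyCartesian_of_isFibGrpd 𝒮.p h𝒮 (ℬ.p.map h) (B'.map h)
    have h1 : α.toNatTrans.app (E.obj a) = β.toNatTrans.app (E.obj a) :=
      congrArg (fun t => NatTrans.app t a) (congrArg
        (fun t : (Stk.restr (inc E) 𝒮).obj B ⟶ (Stk.restr (inc E) 𝒮).obj B' => t.toNatTrans) e)
    have := α.isHomLift' g
    have := β.isHomLift' g
    apply IsStronglyCartesian.ext 𝒮.p (ℬ.p.map h) (B'.map h) (𝟙 (ℬ.p.obj g))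
    rw [← α.toNatTrans.naturality, ← β.toNatTrans.naturality, h1])⟩

theorem restr_full (hE : Good E) (h𝒮 : FibCat.IsFibGrpd 𝒮.p) : (Stk.restr (inc E) 𝒮).Full := by
  refine ⟨fun {B B'} γ => ?_⟩
  obtain ⟨γ₀, hγ₀⟩ : ∃ γ₀ : ∀ a : A₀, B.obj (E.obj a) ⟶ B'.obj (E.obj a), γ₀ = fun a => γ.toNatTrans.app a :=
    ⟨_, rfl⟩
  have hlift : ∀ a : A₀, 𝒮.p.IsHomLift (𝟙 (ℬ.p.obj (E.obj a))) (γ₀ a) := by
    subst hγ₀; exact fun a => γ.isHomLift' a
  have hnat : ∀ {a b : A₀} (m : a ⟶ b), B.map (E.map m) ≫ γ₀ b = γ₀ a ≫ B'.map (E.map m) := by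
    subst hγ₀; exact fun m => γ.toNatTrans.naturality m
  have key : ∀ g : ℬ.obj, ∃ (f : B.obj g ⟶ B'.obj g), 𝒮.p.IsHomLift (𝟙 (ℬ.p.obj g)) f ∧
      ∀ (a : A₀) (h : g ⟶ E.obj a), B.map h ≫ γ₀ a = f ≫ B'.map h := by
    intro g
    obtain ⟨a₀, ⟨h₀⟩⟩ := hE.exists_arrow g
    have := lift_of_map (G := B) h₀
    have := lift_of_map (G := B') h₀
    have := Fib.stronglyCartesian_of_isFibGrpd 𝒮.p h𝒮 (ℬ.p.map h₀) (B'.map h₀)
    have := hlift a₀
    have hl : 𝒮.p.IsHomLift (ℬ.p.map h₀) (B.map h₀ ≫ γ₀ a₀) := inferInstance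
    let f := IsCartesian.map 𝒮.p (ℬ.p.map h₀) (B'.map h₀) (B.map h₀ ≫ γ₀ a₀)
    have hf : f ≫ B'.map h₀ = B.map h₀ ≫ γ₀ a₀ := IsCartesian.fac _ _ _ _
    have hfl : 𝒮.p.IsHomLift (𝟙 (ℬ.p.obj g)) f := IsCartesian.map_isHomLift _ _ _ _
    refine ⟨f, hfl, fun a h => ?_⟩
    obtain ⟨c, l, m, n, hm, hn⟩ := hE.span h₀ h
    have hc : B.map l ≫ γ₀ c = f ≫ B'.map l := by
      have := lift_of_map (G := B) l
      have := lift_of_map (G := B') l
      have := lift_of_map (G := B') (E.map m)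
      have := Fib.stronglyCartesian_of_isFibGrpd 𝒮.p h𝒮 (ℬ.p.map (E.map m)) (B'.map (E.map m))
      have := hlift c
      have h1 : 𝒮.p.IsHomLift (ℬ.p.map l) (B.map l ≫ γ₀ c) := inferInstance
      have h2 : 𝒮.p.IsHomLift (ℬ.p.map l) (f ≫ B'.map l) := inferInstance
      apply IsStronglyCartesian.ext 𝒮.p (ℬ.p.map (E.map m)) (B'.map (E.map m)) (ℬ.p.map l)
      rw [assoc, assoc, ← hnat m, ← Functor.map_comp_assoc, hm, ← hf, ← Functor.map_comp, hm]
    rw [← hn, Functor.map_comp, Functor.map_comp, assoc, hnat n, reassoc_of% hc]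
  choose f hfl hf using key
  refine ⟨{ toNatTrans := { app := f, naturality := fun g g' j => ?_ }, isHomLift' := hfl }, ?_⟩
  · obtain ⟨a, ⟨h⟩⟩ := hE.exists_arrow g'
    have := lift_of_map (G := B) j
    have := lift_of_map (G := B') j
    have := lift_of_map (G := B') h
    have := Fib.stronglyCartesian_of_isFibGrpd 𝒮.p h𝒮 (ℬ.p.map h) (B'.map h)
    have := hfl g'
    have := hfl g
    apply IsStronglyCartesian.ext 𝒮.p (ℬ.p.map h) (B'.map h) (ℬ.p.map j)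
    rw [assoc, assoc, ← hf g' a h, ← Functor.map_comp_assoc, ← Functor.map_comp, hf g a (j ≫ h)]
  · apply BasedNatTrans.homCategory.ext
    ext a
    show f (E.obj a) = γ.toNatTrans.app a
    have := hf (E.obj a) a (𝟙 _)
    subst hγ₀
    rw [B.toFunctor.map_id, B'.toFunctor.map_id] at this
    exact ((comp_id _).symm.trans this.symm).trans (id_comp _)

theorem exists_cone (hE : Good E) (h𝒮 : FibCat.IsFibGrpd 𝒮.p) (M : A₀ ⥤ 𝒮.obj) (hM : M ⋙ 𝒮.p = E ⋙ ℬ.p) (g : ℬ.obj) :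
    ∃ (x : 𝒮.obj) (ψ : ∀ (a : A₀), (g ⟶ E.obj a) → (x ⟶ M.obj a)),
      (∀ a h, 𝒮.p.IsHomLift (ℬ.p.map h) (ψ a h)) ∧
      (∀ {a b : A₀} (m : a ⟶ b) (h : g ⟶ E.obj a), ψ a h ≫ M.map m = ψ b (h ≫ E.map m)) := by
  have := Fib.isFibered_of_isFibGrpd _ h𝒮
  obtain ⟨a₀, ⟨h₀⟩⟩ := hE.exists_arrow g
  have ha₀ : 𝒮.p.obj (M.obj a₀) = ℬ.p.obj (E.obj a₀) := Functor.congr_obj hM a₀
  let π := IsPreFibered.pullbackMap (p := 𝒮.p) ha₀ (ℬ.p.map h₀)
  let x := IsPreFibered.pullbackObj (p := 𝒮.p) ha₀ (ℬ.p.map h₀)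
  have hπ : 𝒮.p.IsHomLift (ℬ.p.map h₀) π := inferInstance
  have hex : ∀ (a : A₀) (h : g ⟶ E.obj a), ∃ f : x ⟶ M.obj a, ∃ (c : A₀) (l : g ⟶ E.obj c) (m : c ⟶ a₀)
      (n : c ⟶ a) (χ : x ⟶ M.obj c), l ≫ E.map m = h₀ ∧ l ≫ E.map n = h ∧
      𝒮.p.IsHomLift (ℬ.p.map l) χ ∧ χ ≫ M.map m = π ∧ f = χ ≫ M.map n := by
    intro a h
    obtain ⟨c, l, m, n, hm, hn⟩ := hE.span h₀ h
    have := sc h𝒮 M hM m
    let χ := IsStronglyCartesian.map 𝒮.p (ℬ.p.map (E.map m)) (M.map m) (g := ℬ.p.map l)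
      (f' := ℬ.p.map h₀) (by rw [← ℬ.p.map_comp, hm]) π
    exact ⟨_, c, l, m, n, χ, hm, hn, IsStronglyCartesian.map_isHomLift _ _ _ _ _,
      IsStronglyCartesian.fac _ _ _ _ _, rfl⟩
  have huniq : ∀ (a : A₀) (h : g ⟶ E.obj a) (c : A₀) (l : g ⟶ E.obj c) (m : c ⟶ a₀)
      (n : c ⟶ a) (χ : x ⟶ M.obj c), l ≫ E.map m = h₀ → l ≫ E.map n = h →
      𝒮.p.IsHomLift (ℬ.p.map l) χ → χ ≫ M.map m = π → (hex a h).choose = χ ≫ M.map n := by
    intro a h c l m n χ hm hn hχ hχm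
    obtain ⟨c', l', m', n', χ', hm', hn', hχ', hχm', hf⟩ := (hex a h).choose_spec
    obtain ⟨d, r, r', k, hr, hr', hrm, hrn⟩ := common hE l m n l' m' n' hm hn hm' hn'
    have := sc h𝒮 M hM r
    let χd := IsStronglyCartesian.map 𝒮.p (ℬ.p.map (E.map r)) (M.map r) (g := ℬ.p.map k)
      (f' := ℬ.p.map l) (by rw [← ℬ.p.map_comp, hr]) χ
    have hd : χd ≫ M.map r = χ := IsStronglyCartesian.fac _ _ _ _ _
    have hdl : 𝒮.p.IsHomLift (ℬ.p.map k) χd := IsStronglyCartesian.map_isHomLift _ _ _ _ _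
    have hd' : χd ≫ M.map r' = χ' := by
      have := sc h𝒮 M hM m'
      have h1 : 𝒮.p.IsHomLift (ℬ.p.map l') (χd ≫ M.map r') := by
        have := sc h𝒮 M hM r'
        rw [← hr', ℬ.p.map_comp]; infer_instance
      apply IsStronglyCartesian.ext 𝒮.p (ℬ.p.map (E.map m')) (M.map m') (ℬ.p.map l')
      rw [assoc, ← M.map_comp, ← hrm, M.map_comp, reassoc_of% hd, hχm, hχm']
    rw [hf, ← hd', assoc, ← M.map_comp, ← hrn, M.map_comp, reassoc_of% hd]
  refine ⟨x, fun a h => (hex a h).choose, fun a h => ?_, fun {a b} m₀ h => ?_⟩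
  · obtain ⟨c, l, m, n, χ, hm, hn, hχ, -, hf⟩ := (hex a h).choose_spec
    have := sc h𝒮 M hM n
    show 𝒮.p.IsHomLift (ℬ.p.map h) (hex a h).choose
    rw [hf, ← hn, ℬ.p.map_comp]
    infer_instance
  · obtain ⟨c, l, m, n, χ, hm, hn, hχ, hχm, hf⟩ := (hex a h).choose_spec
    show (hex a h).choose ≫ M.map m₀ = (hex b (h ≫ E.map m₀)).choose
    rw [huniq b (h ≫ E.map m₀) c l m (n ≫ m₀) χ hm (by rw [E.map_comp, reassoc_of% hn]) hχ hχm, hf,
      assoc, M.map_comp]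

theorem restr_essSurj (hE : Good E) (h𝒮 : FibCat.IsFibGrpd 𝒮.p) : (Stk.restr (inc E) 𝒮).EssSurj := by
  refine ⟨fun M => ?_⟩
  choose x ψ hψl hψ using fun g => exists_cone hE h𝒮 M.toFunctor M.w g
  have key : ∀ {g g' : ℬ.obj} (j : g ⟶ g'), ∃ f : x g ⟶ x g', 𝒮.p.IsHomLift (ℬ.p.map j) f ∧
      ∀ (a : A₀) (h : g' ⟶ E.obj a), f ≫ ψ g' a h = ψ g a (j ≫ h) := by
    intro g g' j
    obtain ⟨a₀, ⟨h₀⟩⟩ := hE.exists_arrow g'
    have := hψl g' a₀ h₀
    have := Fib.stronglyCartesian_of_isFibGrpd 𝒮.p h𝒮 (ℬ.p.map h₀) (ψ g' a₀ h₀)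
    have := hψl g a₀ (j ≫ h₀)
    let f := IsStronglyCartesian.map 𝒮.p (ℬ.p.map h₀) (ψ g' a₀ h₀) (g := ℬ.p.map j)
      (f' := ℬ.p.map (j ≫ h₀)) (ℬ.p.map_comp _ _) (ψ g a₀ (j ≫ h₀))
    have hf : f ≫ ψ g' a₀ h₀ = ψ g a₀ (j ≫ h₀) := IsStronglyCartesian.fac _ _ _ _ _
    have hfl : 𝒮.p.IsHomLift (ℬ.p.map j) f := IsStronglyCartesian.map_isHomLift _ _ _ _ _
    refine ⟨f, hfl, fun a h => ?_⟩
    obtain ⟨c, l, m, n, hm, hn⟩ := hE.span h₀ h
    have hc : f ≫ ψ g' c l = ψ g c (j ≫ l) := by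
      have := sc h𝒮 M.toFunctor M.w m
      have := hψl g' c l
      have := hψl g c (j ≫ l)
      have h1 : 𝒮.p.IsHomLift (ℬ.p.map (j ≫ l)) (f ≫ ψ g' c l) := by
        rw [ℬ.p.map_comp]; infer_instance
      apply IsStronglyCartesian.ext 𝒮.p (ℬ.p.map (E.map m)) (M.map m) (ℬ.p.map (j ≫ l))
      rw [assoc, hψ g' m l, hψ g m (j ≫ l), assoc, hm, hf]
    rw [← hn, ← hψ g' n l, ← assoc, hc, hψ g n (j ≫ l), assoc]
  choose fm hfml hfm using @key
  have hext : ∀ {g g' : ℬ.obj} (j : g ⟶ g') (f₁ f₂ : x g ⟶ x g'),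
      𝒮.p.IsHomLift (ℬ.p.map j) f₁ → 𝒮.p.IsHomLift (ℬ.p.map j) f₂ →
      (∀ (a : A₀) (h : g' ⟶ E.obj a), f₁ ≫ ψ g' a h = f₂ ≫ ψ g' a h) → f₁ = f₂ := by
    intro g g' j f₁ f₂ l₁ l₂ e
    obtain ⟨a, ⟨h⟩⟩ := hE.exists_arrow g'
    have := hψl g' a h
    have := Fib.stronglyCartesian_of_isFibGrpd 𝒮.p h𝒮 (ℬ.p.map h) (ψ g' a h)
    exact IsStronglyCartesian.ext 𝒮.p (ℬ.p.map h) (ψ g' a h) (ℬ.p.map j) (e a h)
  have hx : ∀ g, 𝒮.p.obj (x g) = ℬ.p.obj g := fun g => by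
    obtain ⟨a, ⟨h⟩⟩ := hE.exists_arrow g
    exact @IsHomLift.domain_eq _ _ _ _ 𝒮.p _ _ _ _ (ℬ.p.map h) (ψ g a h) (hψl g a h)
  let G₀ : ℬ.obj ⥤ 𝒮.obj :=
    { obj := x
      map := fun {g g'} j => fm j
      map_id := fun g => hext (𝟙 g) _ _ (hfml _) (by rw [ℬ.p.map_id]; exact IsHomLift.id (hx g))
        (fun a h => by rw [hfm, id_comp, id_comp])
      map_comp := fun {g g' g''} j k => hext (j ≫ k) _ _ (hfml _)
        (by rw [ℬ.p.map_comp]; have := hfml j; have := hfml k; infer_instance)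
        (fun a h => by rw [hfm, assoc, assoc, hfm k, hfm j]) }
  let G : ℬ ⥤ᵇ 𝒮 :=
    { toFunctor := G₀
      w := CategoryTheory.Functor.ext hx (fun g g' j => by
        have := hfml j
        exact IsHomLift.fac' 𝒮.p (ℬ.p.map j) (fm j)) }
  have hl : ∀ a : A₀, 𝒮.p.IsHomLift (𝟙 (ℬ.p.obj (E.obj a))) (ψ (E.obj a) a (𝟙 _)) := fun a => by
    have := hψl (E.obj a) a (𝟙 _); rwa [ℬ.p.map_id] at this
  have hiso : ∀ a : A₀, IsIso (ψ (E.obj a) a (𝟙 _)) := fun a =>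
    have := hl a
    Fib.isIso_of_isFibGrpd 𝒮.p h𝒮 (𝟙 (ℬ.p.obj (E.obj a))) _
  refine ⟨G, ⟨BasedNatIso.mkNatIso (NatIso.ofComponents (fun a => @asIso _ _ _ _ _ (hiso a)) ?_) hl⟩⟩
  intro a b m
  show fm (E.map m) ≫ ψ (E.obj b) b (𝟙 _) = ψ (E.obj a) a (𝟙 _) ≫ M.map m
  rw [hfm, hψ]; simp

theorem restr_isEquivalence (hE : Good E) (h𝒮 : FibCat.IsFibGrpd 𝒮.p) :
    (Stk.restr (inc E) 𝒮).IsEquivalence :=
  @Functor.IsEquivalence.mk _ _ _ _ _ (restr_faithful hE h𝒮) (restr_full hE h𝒮) (restr_essSurj hE h𝒮)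

end Initial

section Pullback

variable {C : Type u} [Category.{v} C] {D : Type u₂} [Category.{v₂} D] (u : C ⥤ D)

lemma span_over [HasPullbacks C] [PreservesLimitsOfShape WalkingCospan u] {U : C} {g : Over (u.obj U)}
    {a b : Over U} (h : g ⟶ (Over.post u).obj a) (k : g ⟶ (Over.post u).obj b) :
    ∃ (c : Over U) (l : g ⟶ (Over.post u).obj c) (m : c ⟶ a) (n : c ⟶ b),
      l ≫ (Over.post u).map m = h ∧ l ≫ (Over.post u).map n = k := by
  have hP : IsPullback (u.map (pullback.fst a.hom b.hom)) (u.map (pullback.snd a.hom b.hom)) (u.map a.hom)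
      (u.map b.hom) := (IsPullback.of_hasPullback a.hom b.hom).map u
  have hh : h.left ≫ u.map a.hom = g.hom := Over.w h
  have hk : k.left ≫ u.map b.hom = g.hom := Over.w k
  refine ⟨Over.mk (pullback.fst a.hom b.hom ≫ a.hom),
    Over.homMk (hP.lift h.left k.left (hh.trans hk.symm)) ?_,
    Over.homMk (pullback.fst a.hom b.hom) rfl,
    Over.homMk (pullback.snd a.hom b.hom) pullback.condition.symm, ?_, ?_⟩
  · show hP.lift _ _ _ ≫ u.map (pullback.fst a.hom b.hom ≫ a.hom) = g.hom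
    rw [u.map_comp, hP.lift_fst_assoc]; exact hh
  · exact Over.OverMorphism.ext (hP.lift_fst _ _ _)
  · exact Over.OverMorphism.ext (hP.lift_snd _ _ _)

lemma eq_over [HasPullbacks C] [PreservesLimitsOfShape WalkingCospan u] {U : C} {g : Over (u.obj U)}
    {a b : Over U} (m n : a ⟶ b) (h : g ⟶ (Over.post u).obj a)
    (e : h ≫ (Over.post u).map m = h ≫ (Over.post u).map n) :
    ∃ (c : Over U) (q : c ⟶ a) (l : g ⟶ (Over.post u).obj c),
      l ≫ (Over.post u).map q = h ∧ q ≫ m = q ≫ n := by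
  let hl : g.left ⟶ u.obj a.left := h.left
  have hm : m.left ≫ b.hom = a.hom := Over.w m
  have hn : n.left ≫ b.hom = a.hom := Over.w n
  let dd : b.left ⟶ pullback b.hom b.hom := pullback.lift (𝟙 _) (𝟙 _) rfl
  let mn : a.left ⟶ pullback b.hom b.hom := pullback.lift m.left n.left (hm.trans hn.symm)
  have he : hl ≫ u.map m.left = hl ≫ u.map n.left := congrArg CommaMorphism.left e
  have hB : IsPullback (u.map (pullback.fst b.hom b.hom)) (u.map (pullback.snd b.hom b.hom)) (u.map b.hom)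
      (u.map b.hom) := (IsPullback.of_hasPullback b.hom b.hom).map u
  have hQ : IsPullback (u.map (pullback.fst mn dd)) (u.map (pullback.snd mn dd)) (u.map mn) (u.map dd) :=
    (IsPullback.of_hasPullback mn dd).map u
  have hw : hl ≫ u.map mn = (hl ≫ u.map m.left) ≫ u.map dd := by
    apply hB.hom_ext
    · have q1 : mn ≫ pullback.fst b.hom b.hom = m.left := pullback.lift_fst _ _ _
      have q2 : dd ≫ pullback.fst b.hom b.hom = 𝟙 b.left := pullback.lift_fst _ _ _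
      rw [assoc, assoc, assoc, ← u.map_comp, ← u.map_comp, q1, q2, u.map_id, comp_id]
    · have q1 : mn ≫ pullback.snd b.hom b.hom = n.left := pullback.lift_snd _ _ _
      have q2 : dd ≫ pullback.snd b.hom b.hom = 𝟙 b.left := pullback.lift_snd _ _ _
      rw [assoc, assoc, assoc, ← u.map_comp, ← u.map_comp, q1, q2, u.map_id, comp_id]; exact he.symm
  refine ⟨Over.mk (pullback.fst mn dd ≫ a.hom), Over.homMk (pullback.fst mn dd) rfl,
    Over.homMk (hQ.lift hl (hl ≫ u.map m.left) hw) ?_, Over.OverMorphism.ext (hQ.lift_fst _ _ _), ?_⟩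
  · show hQ.lift _ _ _ ≫ u.map (pullback.fst mn dd ≫ a.hom) = g.hom
    rw [u.map_comp, hQ.lift_fst_assoc]; exact Over.w h
  · apply Over.OverMorphism.ext
    show pullback.fst mn dd ≫ m.left = pullback.fst mn dd ≫ n.left
    have c1 := congrArg (· ≫ pullback.fst b.hom b.hom) (pullback.condition (f := mn) (g := dd))
    have c2 := congrArg (· ≫ pullback.snd b.hom b.hom) (pullback.condition (f := mn) (g := dd))
    simp only [assoc, mn, dd, pullback.lift_fst, pullback.lift_snd, comp_id] at c1 c2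
    exact c1.trans c2.symm

theorem good_post [HasPullbacks C] [PreservesLimitsOfShape WalkingCospan u] (U : C) :
    Good (ℬ := FibCat.overCat (u.obj U)) (Over.post (X := U) u) where
  exists_arrow g := ⟨Over.mk (𝟙 U), ⟨Over.homMk g.hom (by
    show g.hom ≫ u.map (𝟙 U) = g.hom
    simp)⟩⟩
  span h k := span_over u h k
  eq m n h e := eq_over u m n h e

/-- `Over.post` restricted to a sieve. -/
def sievePost {U : C} (R : Sieve U) :
    (Stk.sieveCat R).obj ⥤ (Stk.sieveCat (R.functorPushforward u)).obj :=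
  ObjectProperty.lift _ (ObjectProperty.ι _ ⋙ Over.post u) (fun a => Sieve.image_mem_functorPushforward u R a.property)

theorem good_sievePost [HasPullbacks C] [PreservesLimitsOfShape WalkingCospan u] {U : C} (R : Sieve U) :
    Good (ℬ := Stk.sieveCat (R.functorPushforward u)) (sievePost u R) where
  exists_arrow g := by
    obtain ⟨V, f, h, hf, e⟩ := g.property
    exact ⟨⟨Over.mk f, hf⟩, ⟨ObjectProperty.homMk (Over.homMk h e.symm)⟩⟩
  span {g a b} h k := by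
    obtain ⟨c, l, m, n, h1, h2⟩ := span_over u h.hom k.hom
    have hc : R c.hom := by rw [← Over.w m]; exact R.downward_closed a.property _
    exact ⟨⟨c, hc⟩, ObjectProperty.homMk l, ObjectProperty.homMk m, ObjectProperty.homMk n,
      ObjectProperty.hom_ext _ h1, ObjectProperty.hom_ext _ h2⟩
  eq {g a b} m n h e := by
    obtain ⟨c, q, l, h1, h2⟩ := eq_over u m.hom n.hom h.hom
      (congrArg (fun t => (ObjectProperty.ι _).map t) e :)
    have hc : R c.hom := by rw [← Over.w q]; exact R.downward_closed a.property _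
    exact ⟨⟨c, hc⟩, ObjectProperty.homMk q, ObjectProperty.homMk l,
      ObjectProperty.hom_ext _ h1, ObjectProperty.hom_ext _ h2⟩

variable {u} {𝒮 : BasedCategory.{v₃, u₃} D}

/-- the 2-fibre product as a category over `C`. -/
abbrev pb (u : C ⥤ D) (𝒮 : BasedCategory.{v₃, u₃} D) : BasedCategory C :=
  BasedCategory.ofFunctor (CategoricalPullback.π₁ u 𝒮.p)

theorem isFibGrpd_pb (h𝒮 : FibCat.IsFibGrpd 𝒮.p) : FibCat.IsFibGrpd (CategoricalPullback.π₁ u 𝒮.p) := by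
  refine ⟨fun {x V} f => ?_, fun {y x} φ => ?_⟩
  · obtain ⟨z, ψ, hψ⟩ := h𝒮.exists_lift (u.map f ≫ x.iso.hom)
    let hz : 𝒮.p.obj z = u.obj V := IsHomLift.domain_eq 𝒮.p (u.map f ≫ x.iso.hom) ψ
    let y : CategoricalPullback u 𝒮.p := { fst := V, snd := z, iso := eqToIso hz.symm }
    let φ : y ⟶ x :=
      { fst := f
        snd := ψ
        w := by
          show u.map f ≫ x.iso.hom = eqToHom hz.symm ≫ 𝒮.p.map ψ
          rw [IsHomLift.fac' 𝒮.p (u.map f ≫ x.iso.hom) ψ]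
          simp }
    exact ⟨y, φ, IsHomLift.map (CategoricalPullback.π₁ u 𝒮.p) φ⟩
  · have hl : (CategoricalPullback.π₁ u 𝒮.p).IsHomLift φ.fst φ := IsHomLift.map (CategoricalPullback.π₁ u 𝒮.p) φ
    have := h𝒮.isStronglyCartesian φ.snd
    refine ⟨fun {z} g ψ hψ => ?_⟩
    let g₀ : z.fst ⟶ y.fst := g
    have hψ1 : g₀ ≫ φ.fst = ψ.fst :=
      @IsHomLift.eq_of_isHomLift _ _ _ _ (CategoricalPullback.π₁ u 𝒮.p) _ _ _ ψ hψ
    let g₁ : 𝒮.p.obj z.snd ⟶ 𝒮.p.obj y.snd := z.iso.inv ≫ u.map g₀ ≫ y.iso.hom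
    have hg : g₁ ≫ 𝒮.p.map φ.snd = 𝒮.p.map ψ.snd := by
      simp only [g₁, assoc, ← φ.w]
      rw [← u.map_comp_assoc, hψ1, ψ.w, Iso.inv_hom_id_assoc]
    have : 𝒮.p.IsHomLift (g₁ ≫ 𝒮.p.map φ.snd) ψ.snd := by rw [hg]; exact IsHomLift.map _ _
    obtain ⟨χ, ⟨hχl, hχ⟩, hu⟩ := IsStronglyCartesian.universal_property 𝒮.p (𝒮.p.map φ.snd) φ.snd g₁
      (g₁ ≫ 𝒮.p.map φ.snd) rfl ψ.snd
    let m : z ⟶ y :=
      { fst := g₀
        snd := χ
        w := by
          rw [← IsHomLift.eq_of_isHomLift 𝒮.p g₁ χ]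
          simp [g₁] }
    refine ⟨m, ⟨IsHomLift.map (CategoricalPullback.π₁ u 𝒮.p) m,
      CategoricalPullback.hom_ext hψ1 hχ⟩, ?_⟩
    rintro m' ⟨hm', hm'c⟩
    have h1 : g = m'.fst := IsHomLift.eq_of_isHomLift (CategoricalPullback.π₁ u 𝒮.p) g m'
    refine CategoricalPullback.hom_ext h1.symm (hu m'.snd ⟨?_, congrArg CategoricalPullback.Hom.snd hm'c⟩)
    have : g₁ = 𝒮.p.map m'.snd := by
      simp only [g₁, g₀]
      rw [show (g : z.fst ⟶ y.fst) = m'.fst from h1, m'.w, Iso.inv_hom_id_assoc]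
    rw [this]; exact IsHomLift.map _ _

/-- a category over `C` as a category over `D`. -/
abbrev pushBase (u : C ⥤ D) (ℬ : BasedCategory.{v₄, u₄} C) : BasedCategory.{v₄, u₄} D :=
  BasedCategory.ofFunctor (ℬ.p ⋙ u)

theorem sandwich {a b c d : D} (r : a = b) (m : b ⟶ c) (s : c = d) (r' : b = a) :
    eqToHom r' ≫ eqToHom r ≫ m ≫ eqToHom s = m ≫ eqToHom s := by
  subst r s; simp

theorem unit_of_eq {x a b : D} (r : x = a) (s : x = b) (q : a ⟶ b)
    (h : 𝟙 x ≫ eqToHom s = eqToHom r ≫ q) : 𝟙 x = eqToHom r ≫ q ≫ eqToHom s.symm := by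
  subst r s; simpa using h

/-- sections of the fibre product. -/
def sect (ℬ : BasedCategory.{v₄, u₄} C) : (pushBase u ℬ ⥤ᵇ 𝒮) ⥤ (ℬ ⥤ᵇ pb u 𝒮) where
  obj A :=
    { toFunctor :=
        { obj := fun b => { fst := ℬ.p.obj b, snd := A.obj b, iso := eqToIso (A.w_obj b).symm }
          map := fun {b b'} f =>
            { fst := ℬ.p.map f
              snd := A.map f
              w := by
                have := CategoryTheory.Functor.congr_hom A.w f
                simp only [Functor.comp_map] at this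
                simp only [eqToIso.hom]
                rw [this]
                exact (sandwich _ _ _ _).symm }
          map_id := fun b => CategoricalPullback.hom_ext (ℬ.p.map_id b) (A.toFunctor.map_id b)
          map_comp := fun f g => CategoricalPullback.hom_ext (ℬ.p.map_comp f g) (A.toFunctor.map_comp f g) }
      w := rfl }
  map {A A'} α :=
    { toNatTrans :=
        { app := fun b =>
            { fst := 𝟙 (ℬ.p.obj b)
              snd := α.toNatTrans.app b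
              w := by
                have := α.isHomLift' b
                show u.map (𝟙 (ℬ.p.obj b)) ≫ eqToHom (A'.w_obj b).symm = eqToHom (A.w_obj b).symm ≫ 𝒮.p.map (α.toNatTrans.app b)
                rw [IsHomLift.fac' 𝒮.p (𝟙 ((pushBase u ℬ).p.obj b)) (α.toNatTrans.app b)]
                simp
                rfl }
          naturality := fun b b' f => CategoricalPullback.hom_ext
            ((comp_id (ℬ.p.map f)).trans (id_comp (ℬ.p.map f)).symm) (α.toNatTrans.naturality f) }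
      isHomLift' := fun b => IsHomLift.of_fac' (pb u 𝒮).p _ _ rfl rfl
        ((id_comp _).trans (comp_id _)).symm }
  map_id A := BasedNatTrans.homCategory.ext _ _ (by
    ext b
    exact CategoricalPullback.hom_ext rfl rfl)
  map_comp α β := BasedNatTrans.homCategory.ext _ _ (by
    ext b
    exact CategoricalPullback.hom_ext (id_comp _).symm rfl)

theorem sect_isEquivalence (h𝒮 : FibCat.IsFibGrpd 𝒮.p) (ℬ : BasedCategory.{v₄, u₄} C) :
    (sect (u := u) (𝒮 := 𝒮) ℬ).IsEquivalence := by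
  have hfaith : (sect (u := u) (𝒮 := 𝒮) ℬ).Faithful := ⟨fun {A A'} α β e => by
    refine BasedNatTrans.homCategory.ext _ _ ?_
    ext b
    exact congrArg (fun t => CategoricalPullback.Hom.snd (NatTrans.app t b))
      (congrArg (fun t : (sect ℬ).obj A ⟶ (sect ℬ).obj A' => t.toNatTrans) e)⟩
  have hfull : (sect (u := u) (𝒮 := 𝒮) ℬ).Full := ⟨fun {A A'} β => by
    have hfst : ∀ b, (β.toNatTrans.app b).fst = 𝟙 (ℬ.p.obj b) := fun b => by
      have hl := β.isHomLift' b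
      exact (@IsHomLift.fac' _ _ _ _ (pb u 𝒮).p _ _ _ _ _ _ hl).trans
        ((id_comp _).trans (comp_id _))
    let α : A ⟶ A' :=
      { toNatTrans :=
          { app := fun b => (β.toNatTrans.app b).snd
            naturality := fun b b' f => congrArg CategoricalPullback.Hom.snd (β.toNatTrans.naturality f) }
        isHomLift' := fun (b : ℬ.obj) => by
          have hw : u.map (β.toNatTrans.app b).fst ≫ eqToHom (A'.w_obj b).symm =
              eqToHom (A.w_obj b).symm ≫ 𝒮.p.map (β.toNatTrans.app b).snd := (β.toNatTrans.app b).w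
          rw [hfst b] at hw
          exact IsHomLift.of_fac 𝒮.p _ _ (A.w_obj b) (A'.w_obj b) (unit_of_eq (A.w_obj b).symm
            (A'.w_obj b).symm (𝒮.p.map (β.toNatTrans.app b).snd)
            ((congrArg (· ≫ eqToHom (A'.w_obj b).symm) (u.map_id (ℬ.p.obj b)).symm).trans hw)) }
    refine ⟨α, BasedNatTrans.homCategory.ext _ _ ?_⟩
    ext b
    exact CategoricalPullback.hom_ext (hfst b).symm rfl⟩
  refine @Functor.IsEquivalence.mk _ _ _ _ _ hfaith hfull ⟨fun A => ?_⟩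
  let At : ℬ.obj ⥤ CategoricalPullback u 𝒮.p := A.toFunctor
  have hb : ∀ b, (At.obj b).fst = ℬ.p.obj b := A.w_obj
  have hf : ∀ {b b'} (f : b ⟶ b'), (At.map f).fst = eqToHom (hb b) ≫ ℬ.p.map f ≫ eqToHom (hb b').symm :=
    fun f => CategoryTheory.Functor.congr_hom A.w f
  let j : At ⋙ CategoricalPullback.π₂ u 𝒮.p ⋙ 𝒮.p ≅ ℬ.p ⋙ u :=
    NatIso.ofComponents (fun b => (At.obj b).iso.symm ≪≫ eqToIso (congrArg u.obj (hb b))) (fun {b b'} f => by
      have h2 := (At.map f).w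
      rw [hf f, u.map_comp, u.map_comp, eqToHom_map, eqToHom_map] at h2
      show 𝒮.p.map (At.map f).snd ≫ (At.obj b').iso.inv ≫ eqToHom (congrArg u.obj (hb b')) =
        ((At.obj b).iso.inv ≫ eqToHom (congrArg u.obj (hb b))) ≫ u.map (ℬ.p.map f)
      have h3 := congrArg (fun t => (At.obj b).iso.inv ≫ t ≫ (At.obj b').iso.inv ≫
        eqToHom (congrArg u.obj (hb b'))) h2
      simp only [assoc, Iso.inv_hom_id_assoc, Iso.hom_inv_id_assoc, eqToHom_trans, eqToHom_refl, comp_id] at h3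
      rw [assoc]
      exact h3.symm)
  obtain ⟨Ā, e, he⟩ := strictify (ℬ := pushBase u ℬ) h𝒮 (At ⋙ CategoricalPullback.π₂ u 𝒮.p) j
  refine ⟨Ā, ⟨BasedNatIso.mkNatIso (NatIso.ofComponents
    (fun b => CategoricalPullback.mkIso (eqToIso (hb b).symm) (e.app b).symm ?_) ?_) ?_⟩⟩
  · show u.map (eqToHom (hb b).symm) ≫ (At.obj b).iso.hom = eqToHom (Ā.w_obj b).symm ≫ 𝒮.p.map (e.inv.app b)
    have h1 := map_inv_comp_lift 𝒮.p (e.app b) ((At.obj b).iso.inv ≫ eqToHom (congrArg u.obj (hb b))) (he b)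
    rw [← cancel_mono ((At.obj b).iso.inv ≫ eqToHom (congrArg u.obj (hb b)))]
    refine Eq.trans ?_ ((assoc _ _ _).trans (congrArg (eqToHom (Ā.w_obj b).symm ≫ ·) h1)).symm
    simp [eqToHom_map]
    rfl
  · intro b b' f
    refine CategoricalPullback.hom_ext ?_ ?_
    · show ℬ.p.map f ≫ eqToHom (hb b').symm = eqToHom (hb b).symm ≫ (At.map f).fst
      rw [hf f]; simp
    · exact e.inv.naturality f
  · intro b
    refine IsHomLift.of_fac' (pb u 𝒮).p _ _ rfl (A.w_obj b) ?_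
    show eqToHom (hb b).symm = _
    simp
    rfl

theorem isStack_pb [HasPullbacks C] (J : GrothendieckTopology C) (K : GrothendieckTopology D)
    [PreservesLimitsOfShape WalkingCospan u] (hu : CoverPreserving J K u) (h𝒮 : Stk.IsStack K 𝒮) :
    Stk.IsStack J (pb u 𝒮) := by
  refine ⟨isFibGrpd_pb h𝒮.1, fun U R hR => ?_⟩
  let ι : pushBase u (Stk.sieveCat R) ⥤ᵇ pushBase u (FibCat.overCat U) :=
    { toFunctor := (Stk.sieveIncl R).toFunctor, w := rfl }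
  have h1 : (Stk.restr ι 𝒮).IsEquivalence := by
    let E : pushBase u (FibCat.overCat U) ⥤ᵇ FibCat.overCat (u.obj U) :=
      { toFunctor := Over.post u, w := rfl }
    let E' : pushBase u (Stk.sieveCat R) ⥤ᵇ Stk.sieveCat (R.functorPushforward u) :=
      { toFunctor := sievePost u R, w := rfl }
    have : (Stk.restr E 𝒮).IsEquivalence :=
      restr_isEquivalence (ℬ := FibCat.overCat (u.obj U)) (good_post u U) h𝒮.1
    have : (Stk.restr E' 𝒮).IsEquivalence :=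
      restr_isEquivalence (ℬ := Stk.sieveCat (R.functorPushforward u)) (good_sievePost u R) h𝒮.1
    have : (Stk.restr (Stk.sieveIncl (R.functorPushforward u)) 𝒮).IsEquivalence :=
      h𝒮.2 _ (hu.cover_preserve hR)
    exact restr_square ι (Stk.sieveIncl (R.functorPushforward u)) E E' rfl
  have := sect_isEquivalence (u := u) h𝒮.1 (FibCat.overCat U)
  have := sect_isEquivalence (u := u) h𝒮.1 (Stk.sieveCat R)
  have e : sect (u := u) (𝒮 := 𝒮) (FibCat.overCat U) ⋙ Stk.resSieve R (pb u 𝒮) ≅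
      Stk.restr ι 𝒮 ⋙ sect (Stk.sieveCat R) :=
    NatIso.ofComponents (fun A => Iso.refl _) (fun α => ((comp_id _).trans (BasedNatTrans.homCategory.ext _ _ (by
      ext b
      exact CategoricalPullback.hom_ext rfl rfl))).trans (id_comp _).symm)
  have : (sect (u := u) (𝒮 := 𝒮) (FibCat.overCat U) ⋙ Stk.resSieve R (pb u 𝒮)).IsEquivalence :=
    Functor.isEquivalence_of_iso e.symm
  exact Functor.isEquivalence_of_comp_left (sect (u := u) (𝒮 := 𝒮) (FibCat.overCat U)) _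

end Pullback

end Groth.L09.StkPullback
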