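import Groth.Agent.L09.StkGlue
import Groth.Agent.L09.FibFp
import Groth.Agent.L09.FibFiberwise

/-!
Descent of faithfulness along locally essentially surjective functors.
-/

set_option autoImplicit false
universe v₄ u₄ v₃ u₃ v₂ u₂ v u

open CategoryTheory Category Functor

namespace Groth.L09.Stk

variable {C : Type u} [Category.{v} C] {𝒳 : BasedCategory.{v₂, u₂} C} {𝒴 : BasedCategory.{v₃, u₃} C}
  {𝒮 : BasedCategory.{v₄, u₄} C}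

/-- To prove that two vertical morphisms agree, it suffices to do so after pulling back along the covering
arrows over which the target object comes from `𝒳`. -/
lemma eq_of_locEssSurj (J : GrothendieckTopology C) (h𝒴 : Stk.IsPrestack J 𝒴) (h𝒮 : FibCat.IsFibGrpd 𝒮.p)
    (F : 𝒳 ⥤ᵇ 𝒮) (G : 𝒴 ⥤ᵇ 𝒮)
    (hF : ∀ y : 𝒮.obj, ∃ R ∈ J (𝒮.p.obj y), ∀ ⦃V : C⦄ (f : V ⟶ 𝒮.p.obj y), R f →
      ∃ (x : 𝒳.obj) (φ : F.obj x ⟶ y), 𝒮.p.IsHomLift f φ)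
    {U : C} {t t' : 𝒴.obj} (a b : t ⟶ t') [𝒴.p.IsHomLift (𝟙 U) a] [𝒴.p.IsHomLift (𝟙 U) b]
    (key : ∀ (V : C) (x : 𝒳.obj) (tV tV' : 𝒴.obj) (aV bV : tV ⟶ tV') (i : F.obj x ≅ G.obj tV),
      𝒳.p.obj x = V → 𝒴.p.IsHomLift (𝟙 V) aV → 𝒴.p.IsHomLift (𝟙 V) bV → 𝒮.p.IsHomLift (𝟙 V) i.hom →
      IsIso aV → IsIso bV → (G.map a = G.map b → G.map aV = G.map bV) → aV = bV) : a = b := by
  have := Fib.isFibered_of_isFibGrpd _ h𝒴.1
  have hUt : 𝒴.p.obj t = U := IsHomLift.domain_eq 𝒴.p (𝟙 U) a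
  have hUt' : 𝒴.p.obj t' = U := IsHomLift.codomain_eq 𝒴.p (𝟙 U) a
  obtain ⟨R, hR, hx⟩ := hF (G.obj t)
  have hU : 𝒮.p.obj (G.obj t) = U := (G.w_obj t).trans hUt
  subst hU
  refine eq_of_locally h𝒴.1 (h𝒴.2 R hR).2 a b fun V f hf => ?_
  obtain ⟨x, φ, hφ⟩ := hx f hf
  let π := IsPreFibered.pullbackMap (p := 𝒴.p) hUt f
  let π' := IsPreFibered.pullbackMap (p := 𝒴.p) hUt' f
  refine ⟨_, π, inferInstance, ?_⟩
  let aV := IsCartesian.map 𝒴.p f π' (π ≫ a)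
  let bV := IsCartesian.map 𝒴.p f π' (π ≫ b)
  have ha : aV ≫ π' = π ≫ a := IsCartesian.fac _ _ _ _
  have hb : bV ≫ π' = π ≫ b := IsCartesian.fac _ _ _ _
  have la : 𝒴.p.IsHomLift (𝟙 V) aV := IsCartesian.map_isHomLift _ _ _ _
  have lb : 𝒴.p.IsHomLift (𝟙 V) bV := IsCartesian.map_isHomLift _ _ _ _
  have := Fib.isIso_of_isFibGrpd 𝒴.p h𝒴.1 (𝟙 V) aV
  have := Fib.isIso_of_isFibGrpd 𝒴.p h𝒴.1 (𝟙 V) bV
  have : 𝒮.p.IsStronglyCartesian f (G.map π) := Fib.stronglyCartesian_of_isFibGrpd 𝒮.p h𝒮 f (G.map π)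
  have : 𝒮.p.IsStronglyCartesian f φ := Fib.stronglyCartesian_of_isFibGrpd 𝒮.p h𝒮 f φ
  have : 𝒮.p.IsStronglyCartesian f (G.map π') := Fib.stronglyCartesian_of_isFibGrpd 𝒮.p h𝒮 f (G.map π')
  let i := IsCartesian.domainUniqueUpToIso 𝒮.p f (G.map π) φ
  have hxV : 𝒳.p.obj x = V := (F.w_obj x).symm.trans (IsHomLift.domain_eq 𝒮.p f φ)
  have e : aV = bV := by
    refine key V x _ _ aV bV i hxV la lb inferInstance inferInstance inferInstance fun hab => ?_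
    have : 𝒮.p.IsHomLift (𝟙 V) (G.map aV) := inferInstance
    have : 𝒮.p.IsHomLift (𝟙 V) (G.map bV) := inferInstance
    apply IsCartesian.ext 𝒮.p f (G.map π')
    rw [← Functor.map_comp, ← Functor.map_comp, ha, hb, Functor.map_comp, Functor.map_comp, hab]
  rw [← ha, ← hb, e]

end Groth.L09.Stk
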