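import Groth.Agent.L09.StkBase
import Groth.Agent.L09.FibSets

/-!
Stacks over stacks: the comparison of the stack conditions over `𝒳` and over `C`.
-/

set_option autoImplicit false
universe w₂ w₁ v₄ u₄ v₃ u₃ v₂ u₂ v u

open CategoryTheory Category Functor

namespace Groth.L09.StkTower

open Groth.L09.StkBase

variable {C : Type u} [Category.{v} C] {𝒳 : BasedCategory.{v₂, u₂} C}

/-- a based natural transformation into a category fibred in groupoids is invertible -/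
theorem isIso_hom {𝒜 : BasedCategory.{v₄, u₄} C} {𝒴 : BasedCategory.{v₃, u₃} C}
    (h : FibCat.IsFibGrpd 𝒴.p) {A A' : 𝒜 ⥤ᵇ 𝒴} (α : A ⟶ A') : IsIso α := by
  have : ∀ a, IsIso (α.toNatTrans.app a) := fun a => by
    have := α.isHomLift' a
    exact Fib.isIso_of_isFibGrpd 𝒴.p h (𝟙 (𝒜.p.obj a)) (α.toNatTrans.app a)
  have : IsIso (X := A.toFunctor) α.toNatTrans := NatIso.isIso_of_isIso_app _
  exact BasedNatIso.isIso_of_toNatTrans_isIso α

section Lift

variable {A : Type u₂} [Category.{v₂} A] {B : Type u₃} [Category.{v₃} B]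

theorem lift_isEquivalence (P : ObjectProperty A) (Q : ObjectProperty B) (E : A ⥤ B) [E.IsEquivalence]
    (h : ∀ a, P a → Q (E.obj a)) (h' : ∀ a b, Q b → (E.obj a ≅ b) → P a) :
    (Q.lift (P.ι ⋙ E) (fun a => h a.obj a.property)).IsEquivalence := by
  have : (Q.lift (P.ι ⋙ E) (fun a => h a.obj a.property)).Full := ⟨fun {a b} f =>
    ⟨ObjectProperty.homMk (E.preimage f.hom), ObjectProperty.hom_ext _ (E.map_preimage f.hom)⟩⟩
  have : (Q.lift (P.ι ⋙ E) (fun a => h a.obj a.property)).Faithful := ⟨fun {a b f g} e =>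
    ObjectProperty.hom_ext _ (E.map_injective (congrArg (fun t => Q.ι.map t) e :))⟩
  have : (Q.lift (P.ι ⋙ E) (fun a => h a.obj a.property)).EssSurj := ⟨fun b => by
    let i := E.objObjPreimageIso b.obj
    exact ⟨⟨E.objPreimage b.obj, h' _ _ b.property i⟩, ⟨ObjectProperty.isoMk _ i⟩⟩⟩
  exact { }

end Lift

theorem map_sandwich {D : Type u₄} [Category.{v₄} D] (F : D ⥤ C) {a a' b' b : D} {z : C} (r : a = a')
    (s : F.obj a' = z) (t : z = F.obj b') (w : b' = b) (r' : F.obj a = z) (t' : z = F.obj b) :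
    F.map (eqToHom r) ≫ (eqToHom s ≫ 𝟙 z ≫ eqToHom t) ≫ F.map (eqToHom w) = eqToHom r' ≫ 𝟙 z ≫ eqToHom t' := by
  subst r s w; simp

theorem app_congr {𝒜 : BasedCategory.{v₄, u₄} C} {𝒴 : BasedCategory.{v₃, u₃} C} {A B : 𝒜 ⥤ᵇ 𝒴}
    {α β : A ⟶ B} (h : α = β) (a : 𝒜.obj) : α.toNatTrans.app a = β.toNatTrans.app a := by rw [h]

/-- the image of a slice of `𝒳` in the slice of `C` -/
def post (x : 𝒳.obj) : tot (FibCat.overCat x) ⥤ᵇ FibCat.overCat (𝒳.p.obj x) where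
  toFunctor := Over.post 𝒳.p
  w := rfl

theorem post_isEquivalence (h𝒳 : FibCat.IsFibGrpd 𝒳.p) (x : 𝒳.obj) :
    (Over.post (X := x) 𝒳.p).IsEquivalence := by
  have : (Over.post (X := x) 𝒳.p).Faithful := ⟨fun {a b f g} e => by
    apply Over.OverMorphism.ext
    have := h𝒳.isStronglyCartesian b.hom
    have he : 𝒳.p.map f.left = 𝒳.p.map g.left := congrArg CommaMorphism.left e
    have h1 : 𝒳.p.IsHomLift (𝒳.p.map f.left) g.left := by rw [he]; exact IsHomLift.map _ _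
    have h2 : 𝒳.p.IsHomLift (𝒳.p.map f.left) f.left := IsHomLift.map _ _
    exact IsStronglyCartesian.ext 𝒳.p (𝒳.p.map b.hom) b.hom (𝒳.p.map f.left)
      ((Over.w f).trans (Over.w g).symm)⟩
  have : (Over.post (X := x) 𝒳.p).Full := ⟨fun {a b} g => by
    have : 𝒳.p.IsStronglyCartesian (𝒳.p.map b.hom) b.hom := h𝒳.isStronglyCartesian b.hom
    let g₁ : 𝒳.p.obj a.left ⟶ 𝒳.p.obj b.left := g.left
    have hw : g₁ ≫ 𝒳.p.map b.hom = 𝒳.p.map a.hom := Over.w g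
    have : 𝒳.p.IsHomLift (g₁ ≫ 𝒳.p.map b.hom) a.hom := by rw [hw]; exact IsHomLift.map _ _
    let m := IsStronglyCartesian.map 𝒳.p (𝒳.p.map b.hom) b.hom (g := g₁) rfl a.hom
    have hm : m ≫ b.hom = a.hom := IsStronglyCartesian.fac _ _ _ _ _
    have hl : 𝒳.p.IsHomLift g₁ m := IsStronglyCartesian.map_isHomLift _ _ _ _ _
    refine ⟨Over.homMk m hm, Over.OverMorphism.ext ?_⟩
    show 𝒳.p.map m = g.left
    have := IsHomLift.fac' 𝒳.p g₁ m
    exact this.trans ((id_comp _).trans (comp_id _))⟩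
  have : (Over.post (X := x) 𝒳.p).EssSurj := ⟨fun a => by
    obtain ⟨z, ψ, hψ⟩ := h𝒳.exists_lift a.hom
    refine ⟨Over.mk ψ, ⟨Over.isoMk (eqToIso (IsHomLift.domain_eq 𝒳.p a.hom ψ)) ?_⟩⟩
    exact ((IsHomLift.fac' 𝒳.p a.hom ψ).trans
      (congrArg (eqToHom (IsHomLift.domain_eq 𝒳.p a.hom ψ) ≫ ·) (comp_id a.hom))).symm⟩
  exact { }

/-- Stack conditions for sieves in `𝒳`, computed over `C`. -/
theorem restr_tot_sieve (J : GrothendieckTopology C) (h𝒳 : FibCat.IsFibGrpd 𝒳.p)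
    {𝒵 : BasedCategory.{v₃, u₃} C} (h𝒵 : Stk.IsStack J 𝒵) {x : 𝒳.obj} (S : Sieve x)
    (hS : S.functorPushforward 𝒳.p ∈ J (𝒳.p.obj x)) :
    (Stk.restr (totMap (Stk.sieveIncl S)) 𝒵).IsEquivalence := by
  have := post_isEquivalence h𝒳 x
  let E' : tot (Stk.sieveCat S) ⥤ᵇ Stk.sieveCat (S.functorPushforward 𝒳.p) :=
    { toFunctor := ObjectProperty.lift _ (ObjectProperty.ι _ ⋙ Over.post 𝒳.p)
        (fun a => Sieve.image_mem_functorPushforward 𝒳.p S a.property)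
      w := rfl }
  have h1 : (Stk.restr (post x) 𝒵).IsEquivalence :=
    @restr_isEquivalence _ _ _ _ _ h𝒵.1 (post x) this
  have h2 : E'.toFunctor.IsEquivalence := by
    refine lift_isEquivalence _ _ (Over.post 𝒳.p)
      (fun a ha => Sieve.image_mem_functorPushforward 𝒳.p S ha) (fun a b hb i => ?_)
    have hb' : S.functorPushforward 𝒳.p (i.hom.left ≫ b.hom) := Sieve.downward_closed _ hb _
    have hw : i.hom.left ≫ b.hom = 𝒳.p.map a.hom := Over.w i.hom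
    rw [hw] at hb'
    exact (Stk.pushforward_iff h𝒳 S (𝒳.p.map a.hom) a.hom).1 hb'
  have h3 : (Stk.restr E' 𝒵).IsEquivalence := @restr_isEquivalence _ _ _ _ _ h𝒵.1 E' h2
  have h4 : (Stk.restr (Stk.sieveIncl (S.functorPushforward 𝒳.p)) 𝒵).IsEquivalence := h𝒵.2 _ hS
  exact restr_square (totMap (Stk.sieveIncl S)) (Stk.sieveIncl _) (post x) E' rfl

/-- A functor `K` over `C` into `𝒳` turns categories over `C` into categories over `𝒳`. -/
abbrev ofK {ℬ : BasedCategory.{v₄, u₄} C} (K : ℬ ⥤ᵇ 𝒳) : BasedCategory.{v₄, u₄} 𝒳.obj :=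
  BasedCategory.ofFunctor K.toFunctor

/-- the functor over `𝒳` induced by a functor over `C`. -/
abbrev mapK {𝒜 ℬ : BasedCategory.{v₄, u₄} C} (ι : 𝒜 ⥤ᵇ ℬ) (K : ℬ ⥤ᵇ 𝒳) :
    ofK (BasedFunctor.comp ι K) ⥤ᵇ ofK K where
  toFunctor := ι.toFunctor
  w := rfl

section C2

variable {𝒲 : BasedCategory.{v₃, u₃} 𝒳.obj} {ℬ : BasedCategory.{v₄, u₄} C}

/-- forget that a functor lies over `𝒳`. -/
abbrev totK {K : ℬ ⥤ᵇ 𝒳} (A : ofK K ⥤ᵇ 𝒲) : ℬ ⥤ᵇ tot 𝒲 where
  toFunctor := A.toFunctor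
  w := (congrArg (· ⋙ 𝒳.p) A.w).trans K.w

/-- forget that a morphism lies over `𝒳`. -/
def totKHom {K : ℬ ⥤ᵇ 𝒳} {A A' : ofK K ⥤ᵇ 𝒲} (φ : A ⟶ A') : totK A ⟶ totK A' where
  toNatTrans := φ.toNatTrans
  isHomLift' b := by
    have := φ.isHomLift' b
    have h : (𝒲.p ⋙ 𝒳.p).IsHomLift (𝟙 (𝒳.p.obj (K.obj b))) (φ.toNatTrans.app b) :=
      @lift_id _ _ 𝒳 _ _ 𝒲.p _ _ _ (φ.toNatTrans.app b) this
    have hb : 𝒳.p.obj (K.obj b) = ℬ.p.obj b := K.w_obj b
    exact hb ▸ h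

theorem exists_liftK (h𝒲 : FibCat.IsFibGrpd 𝒲.p) (A : ℬ ⥤ᵇ tot 𝒲) {K : ℬ ⥤ᵇ 𝒳}
    (δ : BasedFunctor.comp A (str 𝒲) ≅ K) :
    ∃ (A' : ofK K ⥤ᵇ 𝒲) (e : A ≅ totK A'),
      ∀ b, 𝒲.p.IsHomLift (δ.hom.toNatTrans.app b) (e.hom.toNatTrans.app b) := by
  obtain ⟨A', e, he⟩ := strictify (ℬ := ofK K) h𝒲 A.toFunctor ((BasedNatTrans.forgetful _ _).mapIso δ)
  refine ⟨A', BasedNatIso.mkNatIso e (fun b => ?_), he⟩
  have := he b
  have h1 := δ.hom.isHomLift' b
  refine IsHomLift.of_fac' (tot 𝒲).p _ _ (A.w_obj b) ((totK A').w_obj b) ?_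
  show 𝒳.p.map (𝒲.p.map (e.hom.app b)) = _
  refine (congrArg 𝒳.p.map (@IsHomLift.fac' _ _ _ _ 𝒲.p _ _ _ _ _ _ (he b))).trans ?_
  show 𝒳.p.map (_ ≫ δ.hom.toNatTrans.app b ≫ _) = _
  rw [Functor.map_comp, Functor.map_comp, IsHomLift.fac' 𝒳.p (𝟙 (ℬ.p.obj b)) (δ.hom.toNatTrans.app b)]
  exact map_sandwich 𝒳.p _ _ _ _ _ _

variable {𝒜 : BasedCategory.{v₄, u₄} C}

/-- C2: from restriction over `𝒳` to restriction over `C`. -/
theorem restr_tot_of_over (h𝒳 : FibCat.IsFibGrpd 𝒳.p) (h𝒲 : FibCat.IsFibGrpd 𝒲.p) (ι : 𝒜 ⥤ᵇ ℬ)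
    [(Stk.restr ι 𝒳).IsEquivalence]
    (hK : ∀ K : ℬ ⥤ᵇ 𝒳, (Stk.restr (mapK ι K) 𝒲).IsEquivalence) :
    (Stk.restr ι (tot 𝒲)).IsEquivalence := by
  have hQ : ∀ {A B : ℬ ⥤ᵇ tot 𝒲} {A' : ofK (BasedFunctor.comp B (str 𝒲)) ⥤ᵇ 𝒲} (e : A ≅ totK A')
      (α : A ⟶ B) (δ : BasedFunctor.comp A (str 𝒲) ⟶ BasedFunctor.comp B (str 𝒲)) (b : ℬ.obj),
      𝒲.p.IsHomLift (δ.toNatTrans.app b) (e.hom.toNatTrans.app b) →
      𝒲.p.map (α.toNatTrans.app b) = δ.toNatTrans.app b →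
      𝒲.p.IsHomLift (𝟙 (𝒲.p.obj (B.obj b))) (e.inv.toNatTrans.app b ≫ α.toNatTrans.app b) := by
    intro A B A' e α δ b he hα
    refine IsHomLift.of_fac' 𝒲.p _ _ (A'.w_obj b) rfl ?_
    exact (map_inv_comp 𝒲.p (((BasedNatTrans.forgetful _ _).mapIso e).app b) _ he
      (α.toNatTrans.app b) (hS := rfl) (hα.trans (comp_id _).symm)).trans
      (by rw [id_comp, eqToHom_trans]; rfl)
  have hfaith : (Stk.restr ι (tot 𝒲)).Faithful := ⟨fun {A B} α β h => by
    let δ := BasedCategory.whiskerRight α (str 𝒲)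
    have hδ : δ = BasedCategory.whiskerRight β (str 𝒲) := (Stk.restr ι 𝒳).map_injective (by
      apply BasedNatTrans.homCategory.ext
      ext a
      exact congrArg 𝒲.p.map (app_congr h a))
    have := isIso_hom h𝒳 δ
    obtain ⟨A', e, he⟩ := exists_liftK h𝒲 A (asIso δ)
    let B' : ofK (BasedFunctor.comp B (str 𝒲)) ⥤ᵇ 𝒲 := { toFunctor := B.toFunctor, w := rfl }
    let α' : A' ⟶ B' := { toNatTrans := (show A'.toFunctor ⟶ B'.toFunctor from e.inv.toNatTrans ≫ α.toNatTrans)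
                          isHomLift' := fun b => hQ e α δ b (he b) rfl }
    let β' : A' ⟶ B' := { toNatTrans := (show A'.toFunctor ⟶ B'.toFunctor from e.inv.toNatTrans ≫ β.toNatTrans)
                          isHomLift' := fun b => hQ e β δ b (he b)
                            (app_congr hδ b).symm }
    have := hK (BasedFunctor.comp B (str 𝒲))
    have hab : α' = β' := (Stk.restr (mapK ι (BasedFunctor.comp B (str 𝒲))) 𝒲).map_injective (by
      apply BasedNatTrans.homCategory.ext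
      ext a
      exact congrArg (e.inv.toNatTrans.app (ι.obj a) ≫ ·) (app_congr h a))
    have : e.inv ≫ α = e.inv ≫ β :=
      BasedNatTrans.homCategory.ext _ _ (congrArg (fun t : A' ⟶ B' => t.toNatTrans) hab :)
    exact (cancel_epi e.inv).1 this⟩
  have hfull : (Stk.restr ι (tot 𝒲)).Full := ⟨fun {A B} γ => by
    let δ := (Stk.restr ι 𝒳).preimage (X := BasedFunctor.comp A (str 𝒲)) (Y := BasedFunctor.comp B (str 𝒲))
      (BasedCategory.whiskerRight γ (str 𝒲))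
    have hδ : ∀ a, δ.toNatTrans.app (ι.obj a) = 𝒲.p.map (γ.toNatTrans.app a) := fun a =>
      app_congr ((Stk.restr ι 𝒳).map_preimage _) a
    have := isIso_hom h𝒳 δ
    obtain ⟨A', e, he⟩ := exists_liftK h𝒲 A (asIso δ)
    let B' : ofK (BasedFunctor.comp B (str 𝒲)) ⥤ᵇ 𝒲 := { toFunctor := B.toFunctor, w := rfl }
    have := hK (BasedFunctor.comp B (str 𝒲))
    let R := Stk.restr (mapK ι (BasedFunctor.comp B (str 𝒲))) 𝒲
    let γ' : R.obj A' ⟶ R.obj B' :=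
      { toNatTrans := Functor.whiskerLeft ι.toFunctor e.inv.toNatTrans ≫ γ.toNatTrans
        isHomLift' := fun a => by
          refine IsHomLift.of_fac' 𝒲.p _ _ (A'.w_obj (ι.obj a)) rfl ?_
          exact (map_inv_comp 𝒲.p (((BasedNatTrans.forgetful _ _).mapIso e).app (ι.obj a)) _ (he (ι.obj a))
            (γ.toNatTrans.app a) (hS := rfl) ((hδ a).symm.trans (comp_id _).symm)).trans
            (by rw [id_comp, eqToHom_trans]; rfl) }
    obtain ⟨φ, hφ⟩ := R.map_surjective γ'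
    refine ⟨e.hom ≫ totKHom φ, ?_⟩
    apply BasedNatTrans.homCategory.ext
    ext a
    show e.hom.toNatTrans.app (ι.obj a) ≫ φ.toNatTrans.app (ι.obj a) = γ.toNatTrans.app a
    have h2 : φ.toNatTrans.app (ι.obj a) = e.inv.toNatTrans.app (ι.obj a) ≫ γ.toNatTrans.app a :=
      congrArg (fun t => NatTrans.app t a) (congrArg (fun t : R.obj A' ⟶ R.obj B' => t.toNatTrans) hφ)
    rw [h2]
    exact (assoc _ _ _).symm.trans ((congrArg (· ≫ γ.toNatTrans.app a)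
      (app_congr e.hom_inv_id (ι.obj a))).trans (id_comp _))⟩
  refine @Functor.IsEquivalence.mk _ _ _ _ _ hfaith hfull ⟨fun L => ?_⟩
  let S := Stk.restr ι 𝒳
  let G := S.objPreimage (BasedFunctor.comp L (str 𝒲))
  let i : S.obj G ≅ BasedFunctor.comp L (str 𝒲) := S.objObjPreimageIso _
  obtain ⟨L', e, -⟩ := exists_liftK h𝒲 L (K := BasedFunctor.comp ι G) i.symm
  have := hK G
  let R := Stk.restr (mapK ι G) 𝒲
  let j : R.obj (R.objPreimage L') ≅ L' := R.objObjPreimageIso L'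
  refine ⟨totK (R.objPreimage L'), ⟨?_⟩⟩
  let j' : totK (R.obj (R.objPreimage L')) ≅ totK L' :=
    { hom := totKHom j.hom
      inv := totKHom j.inv
      hom_inv_id := BasedNatTrans.homCategory.ext _ _ (congrArg (fun t : R.obj (R.objPreimage L') ⟶ _ => BasedNatTrans.toNatTrans t) j.hom_inv_id :)
      inv_hom_id := BasedNatTrans.homCategory.ext _ _ (congrArg (fun t : L' ⟶ L' => BasedNatTrans.toNatTrans t) j.inv_hom_id :) }
  exact j' ≪≫ e.symm

end C2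

/-- sieve restrictions over `𝒳` along a functor `K : C/U ⟶ 𝒳`. -/
theorem restr_mapK_sieve (J : GrothendieckTopology C) (h𝒳 : FibCat.IsFibGrpd 𝒳.p)
    {𝒲 : BasedCategory.{v₃, u₃} 𝒳.obj} (h𝒲 : Stk.IsStack (𝒳.p.restrictedTopology J) 𝒲)
    {U : C} (R : Sieve U) (hR : R ∈ J U) (K : FibCat.overCat U ⥤ᵇ 𝒳) :
    (Stk.restr (mapK (Stk.sieveIncl R) K) 𝒲).IsEquivalence := by
  let x := K.obj (Over.mk (𝟙 U))
  have hxU : 𝒳.p.obj x = U := K.w_obj _
  have hK := Fib.preservesStronglyCartesian_of_isFibGrpd K h𝒳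
  let E₀ : Over U ⥤ Over x :=
    { obj := fun a => Over.mk (K.map (Fib.toTerm a))
      map := fun {a b} f => Over.homMk (K.map f) (by
        show K.map f ≫ K.map (Fib.toTerm b) = K.map (Fib.toTerm a)
        exact (K.toFunctor.map_comp _ _).symm.trans
          (congrArg K.map (Over.OverMorphism.ext (Over.w f) : f ≫ Fib.toTerm b = Fib.toTerm a)))
      map_id := fun a => Over.OverMorphism.ext (K.toFunctor.map_id _)
      map_comp := fun f g => Over.OverMorphism.ext (K.toFunctor.map_comp _ _) }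
  let E : ofK K ⥤ᵇ FibCat.overCat x := { toFunctor := E₀, w := rfl }
  have hfac : ∀ a : Over U, 𝒳.p.map (K.map (Fib.toTerm a)) ≫ eqToHom hxU =
      eqToHom (K.w_obj a) ≫ a.hom := fun a => by
    have := Fib.map_toTerm_sc K hK a
    rw [IsHomLift.fac' 𝒳.p a.hom (K.map (Fib.toTerm a))]
    simp
    rfl
  have : E₀.Faithful := ⟨fun {a b f g} e => by
    apply Over.OverMorphism.ext
    have he : K.map f = K.map g := congrArg CommaMorphism.left e
    have h1 := CategoryTheory.Functor.congr_hom K.w f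
    have h2 := CategoryTheory.Functor.congr_hom K.w g
    simp only [Functor.comp_map] at h1 h2
    have h3 := congrArg 𝒳.p.map he
    rw [h1, h2, cancel_epi, cancel_mono] at h3
    exact h3⟩
  have : E₀.Full := ⟨fun {a b} g => by
    let g₀ : a.left ⟶ b.left := eqToHom (K.w_obj a).symm ≫ 𝒳.p.map g.left ≫ eqToHom (K.w_obj b)
    have hg : g₀ ≫ b.hom = a.hom := by
      have hw : g.left ≫ K.map (Fib.toTerm b) = K.map (Fib.toTerm a) := Over.w g
      have h1 := congrArg (fun t => 𝒳.p.map t ≫ eqToHom hxU) hw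
      simp only [Functor.map_comp, assoc] at h1
      rw [hfac a] at h1
      have h2 := (congrArg (𝒳.p.map g.left ≫ ·) (hfac b)).symm.trans h1
      simp only [g₀, assoc]
      refine (congrArg (eqToHom (K.w_obj a).symm ≫ ·) h2).trans ?_
      simp
    refine ⟨Over.homMk g₀ hg, Over.OverMorphism.ext ?_⟩
    show K.map (Over.homMk g₀ hg) = g.left
    have := Fib.map_toTerm_sc K hK b
    have hl : (FibCat.overCat U).p.IsHomLift g₀ (Over.homMk g₀ hg : a ⟶ b) :=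
      IsHomLift.of_fac' (FibCat.overCat U).p _ _ rfl rfl ((id_comp _).trans (comp_id _)).symm
    have h4 : 𝒳.p.IsHomLift g₀ (K.map (Over.homMk g₀ hg : a ⟶ b)) := inferInstance
    have h5 : 𝒳.p.IsHomLift g₀ g.left :=
      IsHomLift.of_fac 𝒳.p _ _ (K.w_obj a) (K.w_obj b) rfl
    apply IsStronglyCartesian.ext 𝒳.p b.hom (K.map (Fib.toTerm b)) g₀
    refine ((K.toFunctor.map_comp _ _).symm.trans ?_).trans (Over.w g).symm
    exact congrArg K.map (Over.OverMorphism.ext hg)⟩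
  have : E₀.EssSurj := ⟨fun b => by
    let a : Over U := Over.mk (𝒳.p.map b.hom ≫ eqToHom hxU)
    have := Fib.map_toTerm_sc K hK a
    have h1 : 𝒳.p.IsHomLift a.hom b.hom :=
      IsHomLift.of_fac 𝒳.p _ _ rfl hxU (by simp [a])
    have := Fib.stronglyCartesian_of_isFibGrpd 𝒳.p h𝒳 a.hom b.hom
    exact ⟨a, ⟨Over.isoMk (IsCartesian.domainUniqueUpToIso 𝒳.p a.hom b.hom (K.map (Fib.toTerm a)) :)
      (IsCartesian.fac 𝒳.p a.hom b.hom (K.map (Fib.toTerm a)))⟩⟩⟩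
  have : E₀.IsEquivalence := { }
  let S : Sieve x :=
    { arrows := fun z ψ => R (𝒳.p.map ψ ≫ eqToHom hxU)
      downward_closed := fun {z w f} hf g => by
        rw [Functor.map_comp, assoc]; exact R.downward_closed hf _ }
  have hS : S.functorPushforward 𝒳.p = R.pullback (eqToHom hxU) := by
    ext V g
    obtain ⟨z, ψ, hψ⟩ := Stk.exists_map_lift h𝒳 g
    refine (Stk.pushforward_iff h𝒳 S g ψ).trans ?_
    show R (𝒳.p.map ψ ≫ eqToHom hxU) ↔ R (g ≫ eqToHom hxU)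
    obtain rfl : 𝒳.p.obj z = V := IsHomLift.domain_eq 𝒳.p g ψ
    rw [← IsHomLift.eq_of_isHomLift 𝒳.p g ψ]
  have hSJ : S ∈ 𝒳.p.restrictedTopology J x := by
    rw [Stk.mem_restrictedTopology_iff h𝒳, hS]; exact J.pullback_stable _ hR
  let E' : ofK (BasedFunctor.comp (Stk.sieveIncl R) K) ⥤ᵇ Stk.sieveCat S :=
    { toFunctor := ObjectProperty.lift _ (ObjectProperty.ι _ ⋙ E₀) (fun a => by
        show R (𝒳.p.map (K.map (Fib.toTerm a.obj)) ≫ eqToHom hxU)
        rw [hfac]; exact R.downward_closed a.property _)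
      w := rfl }
  have h2 : E'.toFunctor.IsEquivalence := by
    refine lift_isEquivalence _ _ E₀ (fun a ha => ?_) (fun a b hb i => ?_)
    · show R (𝒳.p.map (K.map (Fib.toTerm a)) ≫ eqToHom hxU)
      rw [hfac]; exact R.downward_closed ha _
    · have hb' : S (i.hom.left ≫ b.hom) := S.downward_closed hb _
      have hw : i.hom.left ≫ b.hom = K.map (Fib.toTerm a) := Over.w i.hom
      rw [hw] at hb'
      change R (𝒳.p.map (K.map (Fib.toTerm a)) ≫ eqToHom hxU) at hb'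
      rw [hfac] at hb'
      have := R.downward_closed hb' (eqToHom (K.w_obj a).symm)
      rw [← assoc, eqToHom_trans, eqToHom_refl, id_comp] at this
      exact this
  have h3 : (Stk.restr E' 𝒲).IsEquivalence := @restr_isEquivalence _ _ _ _ _ h𝒲.1 E' h2
  have h1 : (Stk.restr E 𝒲).IsEquivalence := @restr_isEquivalence _ _ _ _ _ h𝒲.1 E ‹_›
  have h4 : (Stk.restr (Stk.sieveIncl S) 𝒲).IsEquivalence := h𝒲.2 _ hSJ
  exact restr_square (mapK (Stk.sieveIncl R) K) (Stk.sieveIncl S) E E' rfl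

/-- a stack over a stack is a stack. -/
theorem isStack_tot (J : GrothendieckTopology C) (h𝒳 : Stk.IsStack J 𝒳)
    {𝒲 : BasedCategory.{v₃, u₃} 𝒳.obj} (h𝒲 : Stk.IsStack (𝒳.p.restrictedTopology J) 𝒲) :
    Stk.IsStack J (tot 𝒲) := by
  refine ⟨Fib.isFibGrpd_comp 𝒲.p 𝒳.p h𝒲.1 h𝒳.1, fun U R hR => ?_⟩
  have : (Stk.restr (Stk.sieveIncl R) 𝒳).IsEquivalence := h𝒳.2 R hR
  exact restr_tot_of_over h𝒳.1 h𝒲.1 _ (restr_mapK_sieve J h𝒳.1 h𝒲 R hR)

/-- a category fibred in groupoids over a stack whose total category is a stack is a stack. -/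
theorem isStack_over (J : GrothendieckTopology C) (h𝒳 : Stk.IsStack J 𝒳)
    {𝒲 : BasedCategory.{v₃, u₃} 𝒳.obj} (h𝒲 : FibCat.IsFibGrpd 𝒲.p) (h : Stk.IsStack J (tot 𝒲)) :
    Stk.IsStack (𝒳.p.restrictedTopology J) 𝒲 := by
  refine ⟨h𝒲, fun x S hS => ?_⟩
  rw [Stk.mem_restrictedTopology_iff h𝒳.1] at hS
  have := restr_tot_sieve J h𝒳.1 h S hS
  have := restr_tot_sieve J h𝒳.1 h𝒳 S hS
  exact restr_over_of_tot (Stk.sieveIncl S) h𝒲

end Groth.L09.StkTower
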