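import Groth.Agent.L09.Subtr

/-!
# Valuation rings realising finite chains of specializations
-/

set_option autoImplicit false
set_option backward.isDefEq.respectTransparency.types false

universe u

open CategoryTheory AlgebraicGeometry IsLocalRing Groth.L18

noncomputable section

namespace Groth.L09.Subtr

theorem exists_valuation_chain_ring (n : ℕ) : ∀ (A K : Type u) [CommRing A] [Field K] (φ : A →+* K)
    (p : Fin (n + 1) → PrimeSpectrum A), Monotone p → (p 0).asIdeal = RingHom.ker φ →
    ∃ (W : ValuationSubring K) (h : ∀ a, φ a ∈ W) (q : Fin (n + 1) → PrimeSpectrum W),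
      Monotone q ∧ ∀ i, PrimeSpectrum.comap (φ.codRestrict W.toSubring h) (q i) = p i := by
  induction n with
  | zero =>
    intro A K _ _ φ p hp h0
    refine ⟨⊤, fun _ => trivial, fun _ => ⟨⊥, Ideal.isPrime_bot⟩, monotone_const,
      fun i => PrimeSpectrum.ext ?_⟩
    rw [show i = 0 from Fin.ext (by omega), h0]
    ext a
    exact ⟨fun h => congrArg Subtype.val (Ideal.mem_bot.mp h),
      fun h => Ideal.mem_bot.mpr (Subtype.ext h)⟩
  | succ n ih =>
    intro A K _ _ φ p hp h0
    have hle : RingHom.ker φ ≤ (p 1).asIdeal := h0 ▸ hp (Fin.zero_le 1)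
    let ψ : Localization.AtPrime (p 1).asIdeal →+* K :=
      IsLocalization.lift (M := (p 1).asIdeal.primeCompl) (g := φ)
        fun s => isUnit_iff_ne_zero.mpr fun h => s.2 (hle h)
    obtain ⟨W₁, hW₁, hl⟩ := exists_factor_valuationRing ψ
    let ρ := ψ.codRestrict W₁.toSubring hW₁
    haveI : IsLocalHom ρ := hl
    let φ₁ : A →+* W₁ := ρ.comp (algebraMap A (Localization.AtPrime (p 1).asIdeal))
    let φ₂ : A →+* ResidueField W₁ := (residue W₁).comp φ₁
    have hk : (p 1).asIdeal = RingHom.ker φ₂ := by
      refine Ideal.ext fun a => ?_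
      rw [RingHom.mem_ker]
      show _ ↔ residue W₁ (ρ (algebraMap A (Localization.AtPrime (p 1).asIdeal) a)) = 0
      rw [residue_eq_zero_iff]
      show _ ↔ ¬ IsUnit (ρ (algebraMap A (Localization.AtPrime (p 1).asIdeal) a))
      rw [isUnit_map_iff ρ, IsLocalization.AtPrime.isUnit_to_map_iff _ (p 1).asIdeal a]
      exact Iff.symm not_not
    obtain ⟨W', hW', q, hq, hqp⟩ := ih A (ResidueField W₁) φ₂ (fun i => p i.succ)
      (fun i j hij => hp (Fin.succ_le_succ_iff.mpr hij)) hk
    have hmem : ∀ a, φ a ∈ composite W₁ W' := fun a => ⟨φ₁ a, hW' a, by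
      show ψ (algebraMap A _ a) = φ a
      exact IsLocalization.lift_eq _ a⟩
    let ι := φ.codRestrict (composite W₁ W').toSubring hmem
    have hι : (compositeRes W₁ W').comp ι = φ₂.codRestrict W'.toSubring hW' := by
      refine RingHom.ext fun a => Subtype.ext ?_
      show residue W₁ (compositeIncl W₁ W' (ι a)) = residue W₁ (φ₁ a)
      exact congrArg _ (Subtype.ext (IsLocalization.lift_eq _ a).symm)
    refine ⟨composite W₁ W', hmem, Fin.cons ⟨⊥, Ideal.isPrime_bot⟩
      (fun i => PrimeSpectrum.comap (compositeRes W₁ W') (q i)), ?_, ?_⟩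
    · intro i j hij
      induction i using Fin.cases with
      | zero => exact bot_le (a := (Fin.cons (α := fun _ => PrimeSpectrum (composite W₁ W'))
          ⟨⊥, Ideal.isPrime_bot⟩ (fun i => PrimeSpectrum.comap (compositeRes W₁ W') (q i)) j).asIdeal)
      | succ i =>
        induction j using Fin.cases with
        | zero => exact absurd hij (Fin.succ_pos i).not_ge
        | succ j =>
          simp only [Fin.cons_succ]
          exact Ideal.comap_mono (hq (Fin.succ_le_succ_iff.mp hij))
    · intro i
      induction i using Fin.cases with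
      | zero =>
        refine PrimeSpectrum.ext ?_
        rw [h0]
        ext a
        exact ⟨fun h => congrArg Subtype.val (Ideal.mem_bot.mp h),
          fun h => Ideal.mem_bot.mpr (Subtype.ext h)⟩
      | succ i =>
        rw [Fin.cons_succ, ← hqp i, ← hι]
        rfl

/-- A finite chain of specializations is realised by a valuation ring. -/
theorem exists_valuation_chain {Y : Scheme.{u}} {n : ℕ} (y : Fin (n + 1) → Y)
    (hy : ∀ i j : Fin (n + 1), i ≤ j → y i ⤳ y j) :
    ∃ (V : Type u) (_ : CommRing V) (_ : IsDomain V) (_ : ValuationRing V)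
      (g : Spec (CommRingCat.of V) ⟶ Y) (q : Fin (n + 1) → PrimeSpectrum V),
      Monotone q ∧ ∀ i, g (q i) = y i := by
  let z := y (Fin.last n)
  have hr : ∀ i, y i ∈ Set.range (Y.fromSpecStalk z) := fun i => by
    rw [Scheme.range_fromSpecStalk]
    exact hy i _ (Fin.le_last i)
  choose p hp using hr
  have hmono : Monotone (α := Fin (n + 1)) (β := PrimeSpectrum (Y.presheaf.stalk z)) p :=
    fun i j hij => (PrimeSpectrum.le_iff_specializes _ _).mpr
      ((Y.fromSpecStalk z).isEmbedding.isInducing.specializes_iff.mp (by rw [hp, hp]; exact hy i j hij))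
  let P : PrimeSpectrum (Y.presheaf.stalk z) := p 0
  obtain ⟨W, hW, q, hq, hqp⟩ := exists_valuation_chain_ring n (Y.presheaf.stalk z)
    P.asIdeal.ResidueField (algebraMap _ _) p hmono (Ideal.ker_algebraMap_residueField _).symm
  refine ⟨W, inferInstance, inferInstance, inferInstance,
    Spec.map (CommRingCat.ofHom ((algebraMap _ _).codRestrict W.toSubring hW)) ≫ Y.fromSpecStalk z,
    q, hq, fun i => ?_⟩
  rw [← hp i, ← hqp i]
  exact Scheme.Hom.comp_apply _ _ _

/-- Universally S-subtrusive morphisms lift finite chains of specializations. -/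
theorem exists_chain_lift {X Y : Scheme.{u}} {f : X ⟶ Y} (hf : Subtr.UnivSSubtrusive f) {n : ℕ}
    (y : Fin (n + 1) → Y) (hy : ∀ i j : Fin (n + 1), i ≤ j → y i ⤳ y j) :
    ∃ x : Fin (n + 1) → X, (∀ i j : Fin (n + 1), i ≤ j → x i ⤳ x j) ∧ ∀ i, f (x i) = y i := by
  obtain ⟨V, _, _, _, g, q, hq, hgq⟩ := exists_valuation_chain y hy
  obtain ⟨W, _, _, _, a, b, hb, hab⟩ := exists_lift_valuation g (univ_snd hf g)
  let s : PrimeSpectrum V → PrimeSpectrum W := Function.surjInv b.surjective
  have hs : ∀ v, b (s v) = v := Function.surjInv_eq b.surjective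
  refine ⟨fun i => a (s (q i)), fun i j hij => ?_, fun i => ?_⟩
  · refine Specializes.map ?_ a.continuous
    rcases (inferInstance : @Std.Total (Ideal W) (· ≤ ·)).total (s (q i)).asIdeal (s (q j)).asIdeal with h | h
    · exact (PrimeSpectrum.le_iff_specializes _ _).mp h
    · have h' : b (s (q j)) ⤳ b (s (q i)) :=
        ((PrimeSpectrum.le_iff_specializes (s (q j)) (s (q i))).mp h).map b.continuous
      rw [hs, hs] at h'
      rw [le_antisymm (hq hij) ((PrimeSpectrum.le_iff_specializes (q j) (q i)).mpr h')]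
      exact specializes_refl _
  · rw [← Scheme.Hom.comp_apply, hab, Scheme.Hom.comp_apply, hs, hgq]

end Groth.L09.Subtr
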