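import Groth.Agent.L09.Nagata
import Groth.Agent.L09.SubtrPrimePair
import Groth.Agent.L24.Alg.FlatModel
import Mathlib.RingTheory.Spectrum.Prime.Chevalley
import Mathlib.RingTheory.Flat.FaithfullyFlat.Algebra
import Mathlib.RingTheory.Ideal.GoingDown
import Mathlib.RingTheory.Flat.TorsionFree
import Mathlib.RingTheory.FiniteStability
import Mathlib.AlgebraicGeometry.Pullbacks
import Groth.Agent.L19.Limit.Dominant
import Mathlib.Order.Filter.Ultrafilter.Defs
import Mathlib.Order.Filter.AtTopBot.Basic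

/-!
# Descending the lifting of pairs of primes over valuation rings along filtered colimits

A pair of primes over a valuation ring is witnessed by a faithfully flat algebra of finite
presentation (Nagata), which is defined over a finitely presented `ℤ`-algebra; witnesses pass to
ultraproducts of valuation rings.
-/

set_option autoImplicit false
set_option linter.style.haveILetI false
set_option backward.isDefEq.respectTransparency.types false

universe u

open TensorProduct IsLocalRing CategoryTheory CategoryTheory.Limits AlgebraicGeometry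

noncomputable section

namespace Groth.L09.SubtrDescent

open Groth.L09.Subtr

variable {A₀ : Type u} [CommRing A₀] {B : Type u} [CommRing B] [Algebra A₀ B]

/-- A faithfully flat witness, defined over a finitely presented `ℤ`-algebra, for lifting pairs. -/
def HasWitness (B : Type u) [CommRing B] [Algebra A₀ B] {W : Type u} [CommRing W]
    (θ : A₀ →+* W) : Prop :=
  ∃ (R : Type u) (_ : CommRing R) (C : Type u) (_ : CommRing C) (_ : Algebra R C) (γ : R →+* W)
    (F : Finset (A₀ × R)), Algebra.FinitePresentation ℤ R ∧ Module.FaithfullyFlat R C ∧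
    (∀ x ∈ F, γ x.2 = θ x.1) ∧
    ∀ (P : Type u) [CommRing P] [Algebra A₀ P] [Algebra R P],
      (∀ x ∈ F, algebraMap R P x.2 = algebraMap A₀ P x.1) →
        ∃ f : B →+* P ⊗[R] C, f.comp (algebraMap A₀ B) =
          (Algebra.TensorProduct.includeLeftRingHom : P →+* P ⊗[R] C).comp (algebraMap A₀ P)

/-- A faithfully flat algebra receiving `B` gives pairs of primes. -/
theorem primePair_of_faithfullyFlat {V : Type u} [CommRing V] [IsDomain V] [Algebra A₀ V]
    (m : Ideal V) [m.IsPrime] (E : Type u) [CommRing E] [Algebra V E] [Module.FaithfullyFlat V E]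
    (f : B →+* E) (hf : f.comp (algebraMap A₀ B) = (algebraMap V E).comp (algebraMap A₀ V)) :
    PrimePair (A := A₀) B V m := by
  letI : Algebra A₀ E := ((algebraMap V E).comp (algebraMap A₀ V)).toAlgebra
  haveI : IsScalarTower A₀ V E := IsScalarTower.of_algebraMap_eq fun _ => rfl
  let f' : B →ₐ[A₀] E := { f with commutes' := fun a => RingHom.congr_fun hf a }
  let φ : V ⊗[A₀] B →ₐ[A₀] E :=
    Algebra.TensorProduct.lift (IsScalarTower.toAlgHom A₀ V E) f' fun _ _ => Commute.all _ _
  obtain ⟨Q, hQ⟩ := PrimeSpectrum.comap_surjective_of_faithfullyFlat (B := E) ⟨m, ‹_›⟩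
  haveI : Q.asIdeal.LiesOver m := ⟨(congrArg PrimeSpectrum.asIdeal hQ).symm⟩
  obtain ⟨P, hPQ, hP, hP0⟩ :=
    Ideal.exists_ideal_le_liesOver_of_le (p := (⊥ : Ideal V)) (q := m) Q.asIdeal bot_le
  refine ⟨P.comap φ, Q.asIdeal.comap φ, Ideal.IsPrime.comap _, Ideal.IsPrime.comap _,
    Ideal.comap_mono hPQ, ?_, ?_⟩
  · rw [hP0.over]
    ext v
    simp [φ, Ideal.mem_comap]
  · ext v
    have := SetLike.ext_iff.mp (congrArg PrimeSpectrum.asIdeal hQ) v
    simpa [φ, Ideal.mem_comap] using this

theorem comap_surjective_baseChange {R D S : Type u} [CommRing R] [CommRing D] [CommRing S]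
    [Algebra R D] [Algebra R S]
    (h : Set.range (PrimeSpectrum.comap (algebraMap R D)) ⊆
      Set.range (PrimeSpectrum.comap (algebraMap R S))) :
    Function.Surjective (PrimeSpectrum.comap (algebraMap D (D ⊗[R] S))) := by
  have hr := Groth.L19.Limit.range_of_isPullback (isPullback_SpecMap_of_isPushout _ _ _ _
    (CommRingCat.isPushout_tensorProduct R D S)).flip
  intro P
  have hP : P ∈ Set.range (Spec.map (CommRingCat.ofHom
      (Algebra.TensorProduct.includeLeftRingHom : D →+* D ⊗[R] S))) := by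
    rw [hr]
    exact h ⟨P, rfl⟩
  exact hP

/-- A map out of a finitely presented algebra, given by the values of the generators. -/
theorem exists_hom_of_relations {n : ℕ} (π : MvPolynomial (Fin n) A₀ →ₐ[A₀] B)
    (hπ : Function.Surjective π) {s : Finset (MvPolynomial (Fin n) A₀)}
    (hs : Ideal.span (s : Set (MvPolynomial (Fin n) A₀)) = RingHom.ker π.toRingHom)
    {T : Type u} [CommRing T] (j : A₀ →+* T) (y : Fin n → T)
    (h : ∀ p ∈ s, ∑ k ∈ p.support, j (p.coeff k) * ∏ l, y l ^ k l = 0) :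
    ∃ f : B →+* T, f.comp (algebraMap A₀ B) = j := by
  have hker : RingHom.ker π.toRingHom ≤ RingHom.ker (MvPolynomial.eval₂Hom j y) := by
    rw [← hs, Ideal.span_le]
    intro p hp
    show MvPolynomial.eval₂ j y p = 0
    rw [MvPolynomial.eval₂_eq']
    exact h p hp
  refine ⟨RingHom.liftOfSurjective π.toRingHom hπ ⟨_, hker⟩, RingHom.ext fun a => ?_⟩
  rw [RingHom.comp_apply, ← π.commutes a]
  exact (RingHom.liftOfRightInverse_comp_apply π.toRingHom _ _ ⟨_, hker⟩ _).trans
    (MvPolynomial.eval₂_C _ _ a)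

/-- Over a valuation ring, pairs of primes have witnesses. -/
theorem hasWitness_of_primePair [Algebra.FinitePresentation A₀ B] {W : Type u} [CommRing W]
    [IsDomain W] [ValuationRing W] [Algebra A₀ W]
    (h : PrimePair (A := A₀) B W (maximalIdeal W)) : HasWitness B (algebraMap A₀ W) := by
  classical
  obtain ⟨q, q', hq, hq', hle, h0, hm⟩ := h
  haveI := hq
  let C := (W ⊗[A₀] B) ⧸ q
  have hinj : Function.Injective (algebraMap W C) := by
    rw [injective_iff_map_eq_zero]
    intro w hw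
    have h2 : w ∈ q.comap (Algebra.TensorProduct.includeLeft (S := A₀) :
        W →ₐ[A₀] W ⊗[A₀] B) := Ideal.mem_comap.mpr (Ideal.Quotient.eq_zero_iff_mem.mp hw)
    rw [h0] at h2
    exact (Submodule.mem_bot W).mp h2
  haveI : Module.Flat W C :=
    (Module.Flat.flat_iff_torsion_eq_bot_of_isBezout (R := W) (M := C)).mpr
      (Submodule.isTorsionFree_iff_torsion_eq_bot.mp
        (Module.isTorsionFree_iff_algebraMap_injective.mpr hinj))
  haveI : Algebra.FinitePresentation W C := Groth.L09.Nagata.finitePresentation_of_flat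
  obtain ⟨W₀, C₀, _, _, hW₀, _, _, ⟨e⟩⟩ := Groth.L24.Alg.exists_subalgebra_fg_flat ℤ (B := W) C
  haveI : Algebra.FiniteType ℤ W₀ := W₀.fg_iff_finiteType.mp hW₀
  -- the closed point is in the image of `Spec C₀`
  let q'C : PrimeSpectrum C := ⟨q'.map (Ideal.Quotient.mk q),
    Ideal.map_isPrime_of_surjective Ideal.Quotient.mk_surjective (by rwa [Ideal.mk_ker])⟩
  have hq'C : PrimeSpectrum.comap (algebraMap W C) q'C = closedPoint W := by
    refine PrimeSpectrum.ext ?_
    show Ideal.comap (algebraMap W C) (q'.map (Ideal.Quotient.mk q)) = maximalIdeal W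
    rw [← hm]
    ext w
    rw [Ideal.mem_comap, Ideal.mem_comap]
    conv_rhs => rw [← Ideal.comap_map_mk hle, Ideal.mem_comap]
    rfl
  let pm : PrimeSpectrum W₀ := PrimeSpectrum.comap (algebraMap W₀ W) (closedPoint W)
  have hpm : pm ∈ Set.range (PrimeSpectrum.comap (algebraMap W₀ C₀)) := by
    refine ⟨PrimeSpectrum.comap (e.symm.toAlgHom.toRingHom.comp
      (Algebra.TensorProduct.includeRight (R := W₀) (A := W) (B := C₀)).toRingHom) q'C, ?_⟩
    rw [← PrimeSpectrum.comap_comp_apply, show pm = PrimeSpectrum.comap (algebraMap W₀ W)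
      (PrimeSpectrum.comap (algebraMap W C) q'C) by rw [hq'C], ← PrimeSpectrum.comap_comp_apply]
    congr 1
    ext w
    simp only [RingHom.comp_apply, AlgHom.toRingHom_eq_coe, RingHom.coe_coe]
    rw [← e.symm.commutes, AlgHom.commutes]
    rfl
  haveI : Algebra.HasGoingDown W₀ C₀ := Algebra.HasGoingDown.of_flat
  obtain ⟨_, ⟨_, ⟨g, rfl⟩, rfl⟩, hgm, hgle⟩ :=
    PrimeSpectrum.isBasis_basic_opens.exists_subset_of_mem_open hpm
      (PrimeSpectrum.isOpenMap_comap_of_hasGoingDown_of_finitePresentation (R := W₀) (S := C₀)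
        |>.isOpen_range)
  have hg : IsUnit (g : W) := by
    by_contra hg
    exact hgm ((IsLocalRing.mem_maximalIdeal (g : W)).mpr hg)
  obtain ⟨h', hh'⟩ := hg.exists_left_inv
  -- descend the map from `B`
  obtain ⟨n, π, hπ, s, hs⟩ := Algebra.FinitePresentation.out (R := A₀) (A := B)
  let toC : B →+* W ⊗[W₀] C₀ := e.toAlgHom.toRingHom.comp ((Ideal.Quotient.mk q).comp
    (Algebra.TensorProduct.includeRight (R := A₀) (A := W) (B := B)).toRingHom)
  have htoC : ∀ a, toC (algebraMap A₀ B a) = algebraMap W (W ⊗[W₀] C₀) (algebraMap A₀ W a) := by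
    intro a
    show e (Ideal.Quotient.mk q (1 ⊗ₜ algebraMap A₀ B a)) = _
    rw [← e.commutes]
    congr 1
    show Ideal.Quotient.mk q _ = Ideal.Quotient.mk q (algebraMap A₀ W a ⊗ₜ 1)
    rw [Algebra.algebraMap_eq_smul_one, Algebra.algebraMap_eq_smul_one, tmul_smul, smul_tmul']
  choose Dc hDc cl hcl using fun l : Fin n =>
    exists_incR (A := W₀) (R := C₀) (P := W) (toC (π (MvPolynomial.X l)))
  let coefs : Finset A₀ := s.biUnion fun p => p.support.image fun k => MvPolynomial.coeff k p
  let D₁ : Subalgebra W₀ W := Algebra.adjoin W₀ ({h'} : Set W) ⊔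
    Algebra.adjoin W₀ ((coefs.image (algebraMap A₀ W) : Finset W) : Set W) ⊔ Finset.univ.sup Dc
  have hD₁ : D₁.FG := (Subalgebra.FG.sup ⟨{h'}, by simp⟩ ⟨_, rfl⟩).sup
    (Finset.sup_induction Subalgebra.fg_bot (fun a ha b hb => ha.sup hb) fun l _ => hDc l)
  have hle₁ : ∀ l, Dc l ≤ D₁ := fun l => (Finset.le_sup (Finset.mem_univ l)).trans le_sup_right
  have hcoef : ∀ a ∈ coefs, algebraMap A₀ W a ∈ D₁ := fun a ha =>
    (le_sup_right.trans le_sup_left : _ ≤ D₁) (Algebra.subset_adjoin (by
      rw [Finset.coe_image]; exact ⟨a, ha, rfl⟩))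
  let lift₁ : A₀ → D₁ := fun a => if ha : a ∈ coefs then ⟨_, hcoef a ha⟩ else 0
  let c₁ : Fin n → D₁ ⊗[W₀] C₀ := fun l => incB C₀ (hle₁ l) (cl l)
  let t₁ : MvPolynomial (Fin n) A₀ → D₁ ⊗[W₀] C₀ := fun p =>
    ∑ k ∈ p.support, algebraMap D₁ (D₁ ⊗[W₀] C₀) (lift₁ (p.coeff k)) * ∏ l, c₁ l ^ k l
  have ht₁ : ∀ p ∈ s, incR D₁ (t₁ p) = 0 := by
    intro p hp
    have hz : toC (π p) = 0 := by
      rw [show π p = 0 from (hs ▸ Ideal.subset_span hp : p ∈ RingHom.ker π.toRingHom), map_zero]
    rw [← hz]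
    conv_rhs => rw [MvPolynomial.as_sum p]
    simp only [t₁, map_sum]
    refine Finset.sum_congr rfl fun k hk => ?_
    have hk' : p.coeff k ∈ coefs := Finset.mem_biUnion.mpr ⟨p, hp, Finset.mem_image_of_mem _ hk⟩
    rw [MvPolynomial.monomial_eq, Finsupp.prod_fintype _ _ fun _ => pow_zero _]
    simp only [map_mul, map_prod, map_pow, c₁, incR_incB, hcl]
    congr 1
    rw [← MvPolynomial.algebraMap_eq, AlgHom.commutes, htoC]
    simp only [lift₁, dif_pos hk']
    exact incR_includeLeft D₁ _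
  choose Dp hDp1 hDp hDp0 using fun p : s => exists_incB_eq_zero hD₁ (ht₁ p p.2)
  let D : Subalgebra W₀ W := D₁ ⊔ Finset.univ.sup Dp
  have hD : D.FG := hD₁.sup
    (Finset.sup_induction Subalgebra.fg_bot (fun a ha b hb => ha.sup hb) fun p _ => hDp p)
  have hD₁D : D₁ ≤ D := le_sup_left
  have hDpD : ∀ p, Dp p ≤ D := fun p => (Finset.le_sup (Finset.mem_univ p)).trans le_sup_right
  haveI : Algebra.FiniteType W₀ D := D.fg_iff_finiteType.mp hD
  haveI : Algebra.FiniteType ℤ D := Algebra.FiniteType.trans (S := W₀) inferInstance inferInstance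
  have hh'D : h' ∈ D := hD₁D
    ((le_sup_left.trans le_sup_left : _ ≤ D₁) (Algebra.subset_adjoin rfl))
  haveI : Module.FaithfullyFlat D (D ⊗[W₀] C₀) := by
    refine Module.FaithfullyFlat.of_comap_surjective (comap_surjective_baseChange ?_)
    rintro _ ⟨P, rfl⟩
    refine hgle fun hgP => P.2.ne_top ((Ideal.eq_top_iff_one _).mpr ?_)
    have h1 : (⟨h', hh'D⟩ : D) * algebraMap W₀ D g = 1 := Subtype.ext hh'
    rw [← h1]
    exact P.asIdeal.mul_mem_left _ hgP
  let liftD : A₀ → D := fun a => Subalgebra.inclusion hD₁D (lift₁ a)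
  let cD : Fin n → D ⊗[W₀] C₀ := fun l => incB C₀ hD₁D (c₁ l)
  have hsum : ∀ p ∈ s, ∑ k ∈ p.support,
      algebraMap D (D ⊗[W₀] C₀) (liftD (p.coeff k)) * ∏ l, cD l ^ k l = 0 := by
    intro p hp
    have h1 := congrArg (incB C₀ (hDpD ⟨p, hp⟩)) (hDp0 ⟨p, hp⟩)
    have e2 : ∀ x, incB C₀ (hDpD ⟨p, hp⟩) (incB C₀ (hDp1 ⟨p, hp⟩) x) = incB C₀ hD₁D x := fun x => by
      induction x with
      | zero => simp only [map_zero]
      | tmul a b => rfl
      | add x y hx hy => simp only [map_add, hx, hy]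
    rw [map_zero, e2] at h1
    rw [← h1]
    simp only [t₁, map_sum, map_mul, map_prod, map_pow]
    rfl
  refine ⟨D, inferInstance, D ⊗[W₀] C₀, inferInstance, inferInstance, D.val.toRingHom,
    coefs.image (fun a => (a, liftD a)), Algebra.FinitePresentation.of_finiteType.mp inferInstance,
    inferInstance, ?_, fun P _ _ _ hP => ?_⟩
  · intro x hx
    obtain ⟨a, ha, rfl⟩ := Finset.mem_image.mp hx
    simp only [liftD, lift₁, dif_pos ha]
    rfl
  · refine exists_hom_of_relations π hπ hs (Algebra.TensorProduct.includeLeftRingHom.comp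
      (algebraMap A₀ P)) (fun l => (1 : P) ⊗ₜ[D] cD l) fun p hp => ?_
    have h2 := congrArg (Algebra.TensorProduct.includeRight :
      D ⊗[W₀] C₀ →ₐ[D] P ⊗[D] (D ⊗[W₀] C₀)) (hsum p hp)
    rw [map_zero, map_sum] at h2
    refine Eq.trans (Finset.sum_congr rfl fun k hk => ?_) h2
    have hk' : p.coeff k ∈ coefs := Finset.mem_biUnion.mpr ⟨p, hp, Finset.mem_image_of_mem _ hk⟩
    rw [map_mul, map_prod, AlgHom.commutes]
    simp only [map_pow]
    congr 1
    rw [RingHom.comp_apply, Algebra.TensorProduct.algebraMap_apply,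
      hP (p.coeff k, liftD (p.coeff k)) (Finset.mem_image_of_mem _ hk')]
    rfl

section Stage

variable {ι : Type u} [Preorder ι] [IsDirectedOrder ι] [Nonempty ι] {G : ι → Type u}
  [∀ i, CommRing (G i)] (g : ∀ i j, i ≤ j → G i →+* G j)

/-- A finitely presented ring mapping to an ultraproduct maps to almost all factors. -/
theorem eventually_lift {V : ι → Type u} [∀ p, CommRing (V p)] (U : Ultrafilter ι)
    {I : Ideal (∀ p, V p)} (hI : ∀ x, x ∈ I ↔ ∀ᶠ p in (U : Filter ι), x p = 0)
    {R : Type u} [CommRing R] [Algebra.FinitePresentation ℤ R] (γ : R →+* (∀ p, V p) ⧸ I)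
    (θ : A₀ →+* ∀ p, V p) (F : Finset (A₀ × R))
    (hF : ∀ x ∈ F, γ x.2 = Ideal.Quotient.mk I (θ x.1)) :
    ∀ᶠ p in (U : Filter ι), ∃ χ : R →+* V p, ∀ x ∈ F, χ x.2 = θ x.1 p := by
  classical
  obtain ⟨n, π, hπ, s, hs⟩ := Algebra.FinitePresentation.out (R := ℤ) (A := R)
  choose y hy using fun l : Fin n => Ideal.Quotient.mk_surjective (γ (π (MvPolynomial.X l)))
  let φ : MvPolynomial (Fin n) ℤ →+* ∀ p, V p := MvPolynomial.eval₂Hom (Int.castRingHom _) y
  have hφ : (Ideal.Quotient.mk I).comp φ = γ.comp π.toRingHom :=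
    MvPolynomial.ringHom_ext' (RingHom.ext_int _ _) fun l => by simp [φ, hy]
  choose pre hpre using hπ
  have h1 : ∀ q ∈ s, ∀ᶠ p in (U : Filter ι), φ q p = 0 := fun q hq => by
    rw [← hI, ← Ideal.Quotient.eq_zero_iff_mem]
    refine (RingHom.congr_fun hφ q).trans ?_
    rw [RingHom.comp_apply, show π.toRingHom q = 0 from
      (hs ▸ Ideal.subset_span hq : q ∈ RingHom.ker π.toRingHom), map_zero]
  have h2 : ∀ x ∈ F, ∀ᶠ p in (U : Filter ι), φ (pre x.2) p = θ x.1 p := fun x hx => by
    have : φ (pre x.2) - θ x.1 ∈ I := by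
      rw [← Ideal.Quotient.eq]
      refine (RingHom.congr_fun hφ _).trans ?_
      rw [RingHom.comp_apply, ← hF x hx]
      exact congrArg γ (hpre x.2)
    filter_upwards [(hI _).mp this] with p hp
    exact sub_eq_zero.mp hp
  filter_upwards [(Filter.eventually_all_finset s).mpr h1, (Filter.eventually_all_finset F).mpr h2]
    with p hp hpF
  have hker : RingHom.ker π.toRingHom ≤ RingHom.ker ((Pi.evalRingHom V p).comp φ) := by
    rw [← hs, Ideal.span_le]
    exact hp
  refine ⟨RingHom.liftOfSurjective π.toRingHom (fun r => ⟨pre r, hpre r⟩) ⟨_, hker⟩,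
    fun x hx => ?_⟩
  conv_lhs => rw [← hpre x.2]
  exact (RingHom.liftOfRightInverse_comp_apply π.toRingHom _ _ ⟨_, hker⟩ _).trans (hpF x hx)

/-- **Descent**: if pairs lift over all valuation rings receiving a filtered system compatibly,
they lift over all valuation rings receiving one of its members. -/
theorem exists_stage [Algebra.FinitePresentation A₀ B]
    (gcomp : ∀ i j k (hij : i ≤ j) (hjk : j ≤ k) (x : G i),
      g j k hjk (g i j hij x) = g i k (hij.trans hjk) x)
    (α : ∀ i, A₀ →+* G i) (hα : ∀ i j h, (g i j h).comp (α i) = α j)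
    (H : ∀ (W : Type u) [CommRing W] [IsDomain W] [ValuationRing W] (θ : ∀ i, G i →+* W),
      (∀ i j h, (θ j).comp (g i j h) = θ i) → ∀ i,
        letI := ((θ i).comp (α i)).toAlgebra
        PrimePair (A := A₀) B W (maximalIdeal W)) :
    ∃ i, ∀ (V : Type u) [CommRing V] [IsDomain V] [ValuationRing V] (ψ : G i →+* V),
        letI := (ψ.comp (α i)).toAlgebra
        PrimePair (A := A₀) B V (maximalIdeal V) := by
  classical
  by_contra hcon
  push Not at hcon
  choose V _ _ _ ψ hψ using hcon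
  let U : Ultrafilter ι := Ultrafilter.of Filter.atTop
  have hU : ∀ i, ∀ᶠ p in (U : Filter ι), i ≤ p := fun i =>
    Ultrafilter.of_le Filter.atTop (Filter.eventually_ge_atTop i)
  let I : Ideal (∀ p, V p) :=
    { carrier := {x | ∀ᶠ p in (U : Filter ι), x p = 0}
      zero_mem' := Filter.Eventually.of_forall fun _ => rfl
      add_mem' := fun {a b} ha hb => by
        filter_upwards [ha, hb] with p h1 h2
        rw [Pi.add_apply, h1, h2, add_zero]
      smul_mem' := fun c {a} ha => by
        filter_upwards [ha] with p h1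
        rw [smul_eq_mul, Pi.mul_apply, h1, mul_zero] }
  have hI : ∀ x, x ∈ I ↔ ∀ᶠ p in (U : Filter ι), x p = 0 := fun _ => Iff.rfl
  haveI hIp : I.IsPrime := by
    refine ⟨fun h => ?_, fun {a b} hab => ?_⟩
    · obtain ⟨p, hp⟩ := ((hI 1).mp ((Ideal.eq_top_iff_one I).mp h)).exists
      exact one_ne_zero hp
    · rw [hI, hI, ← Ultrafilter.eventually_or]
      exact ((hI _).mp hab).mono fun p hp => mul_eq_zero.mp hp
  haveI : ValuationRing ((∀ p, V p) ⧸ I) := by
    rw [ValuationRing.iff_dvd_total]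
    refine ⟨fun a b => ?_⟩
    obtain ⟨a, rfl⟩ := Ideal.Quotient.mk_surjective a
    obtain ⟨b, rfl⟩ := Ideal.Quotient.mk_surjective b
    have aux : ∀ c d : (∀ p, V p), (∀ᶠ p in (U : Filter ι), c p ∣ d p) →
        Ideal.Quotient.mk I c ∣ Ideal.Quotient.mk I d := fun c d h => by
      refine ⟨Ideal.Quotient.mk I (fun p => if h : c p ∣ d p then h.choose else 0), ?_⟩
      rw [← map_mul, Ideal.Quotient.eq, hI]
      filter_upwards [h] with p hp
      simp only [Pi.sub_apply, Pi.mul_apply, dif_pos hp]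
      exact sub_eq_zero.mpr hp.choose_spec
    rcases (Ultrafilter.eventually_or (f := U)).mp (Filter.Eventually.of_forall fun p =>
      (ValuationRing.iff_dvd_total.mp inferInstance).total (a p) (b p)) with h | h
    · exact Or.inl (aux a b h)
    · exact Or.inr (aux b a h)
  let e : ∀ i, G i → ∀ p, V p := fun i x p => if h : i ≤ p then ψ p (g i p h x) else 0
  let θ : ∀ i, G i →+* (∀ p, V p) ⧸ I := fun i =>
    { toFun := fun x => Ideal.Quotient.mk I (e i x)
      map_one' := by
        rw [← map_one (Ideal.Quotient.mk I), Ideal.Quotient.eq, hI]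
        filter_upwards [hU i] with p hp
        simp [e, hp]
      map_mul' := fun x y => by
        rw [← map_mul, Ideal.Quotient.eq, hI]
        filter_upwards [hU i] with p hp
        simp [e, hp]
      map_zero' := by
        rw [Ideal.Quotient.eq_zero_iff_mem, hI]
        filter_upwards [hU i] with p hp
        simp [e, hp]
      map_add' := fun x y => by
        rw [← map_add, Ideal.Quotient.eq, hI]
        filter_upwards [hU i] with p hp
        simp [e, hp] }
  have hθ : ∀ i j h, (θ j).comp (g i j h) = θ i := fun i j h => RingHom.ext fun x => by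
    show Ideal.Quotient.mk I (e j (g i j h x)) = Ideal.Quotient.mk I (e i x)
    rw [Ideal.Quotient.eq, hI]
    filter_upwards [hU j] with p hp
    simp [e, hp, h.trans hp, gcomp]
  let θA : A₀ →+* ∀ p, V p := Pi.ringHom fun p => (ψ p).comp (α p)
  obtain ⟨i₀⟩ := ‹Nonempty ι›
  letI : Algebra A₀ ((∀ p, V p) ⧸ I) := ((θ i₀).comp (α i₀)).toAlgebra
  obtain ⟨R, _, C, _, _, γ, F, _, _, hγ, hf⟩ :=
    hasWitness_of_primePair (H _ θ hθ i₀)
  have hF : ∀ x ∈ F, γ x.2 = Ideal.Quotient.mk I (θA x.1) := fun x hx => by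
    rw [hγ x hx]
    show Ideal.Quotient.mk I (e i₀ (α i₀ x.1)) = _
    rw [Ideal.Quotient.eq, hI]
    filter_upwards [hU i₀] with p hp
    refine sub_eq_zero.mpr ?_
    simp only [e, dif_pos hp]
    exact congrArg (ψ p) (RingHom.congr_fun (hα i₀ p hp) x.1)
  obtain ⟨p, χ, hχ⟩ := (eventually_lift U hI γ θA F hF).exists
  letI : Algebra A₀ (V p) := ((ψ p).comp (α p)).toAlgebra
  letI : Algebra R (V p) := χ.toAlgebra
  obtain ⟨f, hf'⟩ := hf (V p) hχ
  exact hψ p (primePair_of_faithfullyFlat (maximalIdeal (V p)) (V p ⊗[R] C) f hf')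

end Stage

end Groth.L09.SubtrDescent
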