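import Groth.Agent.L09.SubtrChain
import Mathlib.AlgebraicGeometry.Fiber

/-!
# Descent of local closedness along S-subtrusive morphisms
-/

set_option autoImplicit false
set_option linter.style.haveILetI false
set_option backward.isDefEq.respectTransparency.types false

universe u

open CategoryTheory CategoryTheory.Limits AlgebraicGeometry Topology TopologicalSpace Groth.L19.Limit

noncomputable section

namespace Groth.L09.Subtr

variable {X Y : Scheme.{u}}

theorem isRetrocompact_of_cc {E : Set X} (hE : CC E) : IsRetrocompact E := by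
  intro U hU hUo
  have hloc : ∀ x : U, ∃ W : X.Opens, IsAffineOpen W ∧ x.1 ∈ W ∧ (W : Set X) ⊆ U := fun x => by
    obtain ⟨_, ⟨(W : X.Opens), hW, rfl⟩, hxW, hWU⟩ :=
      X.isBasis_affineOpens.exists_subset_of_mem_open x.2 hUo
    exact ⟨W, hW, hxW, hWU⟩
  choose W hW hxW hWU using hloc
  obtain ⟨t, ht⟩ := hU.elim_finite_subcover (fun x : U => (W x : Set X)) (fun x => (W x).2)
    fun x hx => Set.mem_iUnion.mpr ⟨⟨x, hx⟩, hxW ⟨x, hx⟩⟩
  have e : E ∩ U = ⋃ x ∈ t, (W x).ι '' ((W x).ι ⁻¹' E) := by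
    refine Set.Subset.antisymm (fun z hz => ?_) ?_
    · obtain ⟨x, hxt, hzx⟩ := Set.mem_iUnion₂.mp (ht hz.2)
      exact Set.mem_iUnion₂.mpr ⟨x, hxt, ⟨z, hzx⟩, hz.1, rfl⟩
    · rintro z hz
      obtain ⟨x, -, w, hw, rfl⟩ := Set.mem_iUnion₂.mp hz
      exact ⟨hw, hWU x w.2⟩
  rw [e]
  refine t.finite_toSet.isCompact_biUnion fun x _ => ?_
  haveI := spectralSpace_opens (hW x)
  exact (Groth.L06.Spectral.isCompact_of_isClosed_cons (hE _ (hW x))).image (W x).ι.continuous

theorem cc_of_isLocallyClosed_of_isRetrocompact {E : Set X} (hE : IsLocallyClosed E)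
    (hc : IsRetrocompact E) : CC E := by
  intro U hU
  haveI := spectralSpace_opens hU
  have hE' : IsLocallyClosed (U.ι ⁻¹' E : Set (U : Scheme.{u})) := hE.preimage U.ι.continuous
  have hc' : IsCompact (U.ι ⁻¹' E : Set (U : Scheme.{u})) := by
    rw [U.ι.isOpenEmbedding.isInducing.isCompact_iff, Set.image_preimage_eq_inter_range,
      Scheme.Opens.range_ι]
    exact hc hU.isCompact U.2
  have hloc : ∀ x : ↥(U.ι ⁻¹' E : Set (U : Scheme.{u})), ∃ W : (U : Scheme.{u}).Opens,
      x.1 ∈ W ∧ IsCompact (W : Set (U : Scheme.{u})) ∧ (W : Set _) ⊆ coborder (U.ι ⁻¹' E) := fun x => by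
    obtain ⟨_, ⟨(W : (U : Scheme.{u}).Opens), hW, rfl⟩, hxW, hWs⟩ :=
      (U : Scheme.{u}).isBasis_affineOpens.exists_subset_of_mem_open (subset_coborder x.2)
        hE'.isOpen_coborder
    exact ⟨W, hxW, hW.isCompact, hWs⟩
  choose W hxW hWc hWs using hloc
  obtain ⟨t, ht⟩ := hc'.elim_finite_subcover (fun x => (W x : Set (U : Scheme.{u})))
    (fun x => (W x).2) fun x hx => Set.mem_iUnion.mpr ⟨⟨x, hx⟩, hxW ⟨x, hx⟩⟩
  have e : (U.ι ⁻¹' E : Set (U : Scheme.{u})) =
      ⋃ x ∈ t, (W x : Set (U : Scheme.{u})) ∩ closure (U.ι ⁻¹' E) := by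
    refine Set.Subset.antisymm (fun z hz => ?_) (Set.iUnion₂_subset fun x _ z hz => ?_)
    · obtain ⟨x, hxt, hzx⟩ := Set.mem_iUnion₂.mp (ht hz)
      exact Set.mem_iUnion₂.mpr ⟨x, hxt, hzx, subset_closure hz⟩
    · exact coborder_inter_closure.le ⟨hWs x hz.1, hz.2⟩
  rw [e]
  refine @Set.Finite.isClosed_biUnion _ _ (constructibleTopology (U : Scheme.{u})) _ _
    t.finite_toSet fun x _ => ?_
  exact @IsClosed.inter _ _ _ (constructibleTopology (U : Scheme.{u}))
    (Groth.L06.Spectral.isClopen_cons_of_isConstructible ((hWc x).isConstructible (W x).2)).1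
    (Groth.L06.Spectral.isClosed_cons_of_isClosed isClosed_closure)

/-- Key lemma: local closedness descends for constructibly closed sets. -/
theorem isLocallyClosed_of_preimage (f : X ⟶ Y) [QuasiCompact f] (hf : Subtr.UnivSSubtrusive f)
    {E : Set Y} (hE : CC E) (h : IsLocallyClosed (f ⁻¹' E)) : IsLocallyClosed E := by
  rw [isLocallyClosed_iff_isOpen_coborder, coborder, isOpen_compl_iff]
  let C := closure (f ⁻¹' E)
  let O := coborder (f ⁻¹' E)
  have hCO : O ∩ C = f ⁻¹' E := coborder_inter_closure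
  have hD : closure E \ E = f '' (C ∩ Oᶜ) := by
    refine Set.Subset.antisymm (fun y hy => ?_) ?_
    · obtain ⟨e, he, hey⟩ := hE.exists_specializes_of_mem_closure hy.1
      obtain ⟨x, x', hxx, hx, hx'⟩ := univ_le hf hey
      refine ⟨x, ⟨hxx.mem_closed isClosed_closure
        (subset_closure (show f x' ∈ E by rw [hx']; exact he)), fun hO => hy.2 ?_⟩, hx⟩
      have : x ∈ f ⁻¹' E := hCO.le ⟨hO, hxx.mem_closed isClosed_closure
        (subset_closure (show f x' ∈ E by rw [hx']; exact he))⟩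
      rw [← hx]
      exact this
    · rintro _ ⟨x, ⟨hxC, hxO⟩, rfl⟩
      exact ⟨f.continuous.closure_preimage_subset E hxC, fun hxE => hxO (subset_coborder hxE)⟩
  have hcc : CC (closure E \ E) := by
    rw [hD]
    exact Groth.L06.ProCons.cc_image f
      (cc_of_isClosed (isClosed_closure.inter h.isOpen_coborder.isClosed_compl))
  refine closure_subset_iff_isClosed.mp fun y hy => ?_
  obtain ⟨d, hd, hdy⟩ := hcc.exists_specializes_of_mem_closure hy
  refine ⟨hdy.mem_closed isClosed_closure hd.1, fun hyE => ?_⟩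
  obtain ⟨e, he, hed⟩ := hE.exists_specializes_of_mem_closure hd.1
  obtain ⟨x, hx, hfx⟩ := exists_chain_lift hf ![e, d, y] (by
    intro i j hij
    fin_cases i <;> fin_cases j <;> first
      | exact specializes_refl _
      | exact hed
      | exact hdy
      | exact hed.trans hdy
      | (exact absurd hij (by decide)))
  have h0 : x 0 ∈ f ⁻¹' E := by show f (x 0) ∈ E; rw [hfx]; exact he
  have h2 : x 2 ∈ O := subset_coborder (show f (x 2) ∈ E by rw [hfx]; exact hyE)
  have h1 : x 1 ∈ f ⁻¹' E := hCO.le ⟨(hx 1 2 (by decide)).mem_open h.isOpen_coborder h2,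
    (hx 0 1 (by decide)).mem_closed isClosed_closure (subset_closure h0)⟩
  refine hd.2 ?_
  have : f (x 1) ∈ E := h1
  rwa [hfx] at this

theorem isLocallyClosed_and_isRetrocompact_iff (f : X ⟶ Y) [QuasiCompact f]
    (hf : Subtr.UnivSSubtrusive f) (E : Set Y) :
    (IsLocallyClosed E ∧ IsRetrocompact E) ↔
      (IsLocallyClosed (f ⁻¹' E) ∧ IsRetrocompact (f ⁻¹' E)) := by
  constructor
  · rintro ⟨h1, h2⟩
    exact ⟨h1.preimage f.continuous,
      isRetrocompact_of_cc ((cc_of_isLocallyClosed_of_isRetrocompact h1 h2).preimage f)⟩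
  · rintro ⟨h1, h2⟩
    have hcc : CC E := by
      rw [← Set.image_preimage_eq E (ssub_surjective (univ_le hf))]
      exact Groth.L06.ProCons.cc_image f (cc_of_isLocallyClosed_of_isRetrocompact h1 h2)
    exact ⟨isLocallyClosed_of_preimage f hf hcc h1, isRetrocompact_of_cc hcc⟩

theorem univ_morphismRestrict {f : X ⟶ Y} (hf : Subtr.UnivSSubtrusive f) (V : Y.Opens) :
    Subtr.UnivSSubtrusive (f ∣_ V) :=
  (MorphismProperty.universally_isStableUnderBaseChange _).of_isPullback
    (isPullback_morphismRestrict f V).flip hf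

/-- The affine-base case of descent along finitely presented morphisms. -/
theorem mem_interior_coborder_of_isAffine [IsAffine Y] (f : X ⟶ Y) [QuasiCompact f]
    [LocallyOfFinitePresentation f] [QuasiSeparated f] (hf : Subtr.UnivSSubtrusive f) {E : Set Y}
    (h : IsLocallyClosed (f ⁻¹' E)) {y : Y} (hy : y ∈ E) : y ∈ interior (coborder E) := by
  haveI : CompactSpace X := QuasiCompact.compactSpace_of_compactSpace f
  haveI : QuasiSeparatedSpace X := quasiSeparatedSpace_of_quasiSeparated f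
  have hloc : ∀ x : ↥(f ⁻¹' {y}), ∃ W : X.Opens,
      x.1 ∈ W ∧ IsCompact (W : Set X) ∧ (W : Set X) ⊆ coborder (f ⁻¹' E) := fun x => by
    obtain ⟨_, ⟨(W : X.Opens), hW, rfl⟩, hxW, hWs⟩ := X.isBasis_affineOpens.exists_subset_of_mem_open
      (subset_coborder (show f x.1 ∈ E by rw [show f x.1 = y from x.2]; exact hy)) h.isOpen_coborder
    exact ⟨W, hxW, hW.isCompact, hWs⟩
  choose W hxW hWc hWs using hloc
  obtain ⟨t, ht⟩ := (f.isCompact_preimage_singleton y).elim_finite_subcover
    (fun x => (W x : Set X)) (fun x => (W x).2) fun x hx => Set.mem_iUnion.mpr ⟨⟨x, hx⟩, hxW ⟨x, hx⟩⟩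
  let T : Set X := ⋃ x ∈ t, (W x : Set X)
  have hTo : IsOpen T := isOpen_biUnion fun x _ => (W x).2
  have hTc : IsConstructible T :=
    (t.finite_toSet.isCompact_biUnion fun x _ => hWc x).isConstructible hTo
  have himg : IsConstructible (f '' T) := f.isConstructible_image hTc
  have hnhd : y ∈ interior (f '' T) := by
    refine (Groth.L06.ProCons.mem_interior_iff (cc_compl_of_isConstructible himg) y).mpr
      fun y' hy' => ?_
    obtain ⟨x, x', hxx, hx, hx'⟩ := univ_le hf hy'
    exact ⟨x', hxx.mem_open hTo (ht hx), hx'⟩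
  obtain ⟨_, ⟨(V : Y.Opens), hV, rfl⟩, hyV, hVT⟩ :=
    Y.isBasis_affineOpens.exists_subset_of_mem_open hnhd isOpen_interior
  let E' : Set (V : Scheme.{u}) := V.ι ⁻¹' E
  have hE'cc : CC E' := by
    have e : E' = V.ι ⁻¹' (f '' (closure (f ⁻¹' E) ∩ T)) := by
      ext v
      refine ⟨fun hv => ?_, ?_⟩
      · obtain ⟨x, hx, hxv⟩ := interior_subset (hVT v.2)
        exact ⟨x, ⟨subset_closure (show f x ∈ E by rw [hxv]; exact hv), hx⟩, hxv⟩
      · rintro ⟨x, ⟨hx, hxT⟩, hxv⟩
        obtain ⟨z, -, hz⟩ := Set.mem_iUnion₂.mp hxT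
        have : x ∈ f ⁻¹' E := coborder_inter_closure.le ⟨hWs z hz, hx⟩
        replace this : f x ∈ E := this
        rw [hxv] at this
        exact this
    rw [e]
    exact (Groth.L06.ProCons.cc_image f
      ((cc_of_isClosed isClosed_closure).inter (cc_of_isConstructible hTc))).preimage V.ι
  have hres : Subtr.UnivSSubtrusive (f ∣_ V) := univ_morphismRestrict hf V
  haveI : QuasiCompact (f ∣_ V) :=
    MorphismProperty.of_isPullback (P := @QuasiCompact)
      (isPullback_morphismRestrict f V).flip inferInstance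
  have hlc : IsLocallyClosed ((f ∣_ V) ⁻¹' E') := by
    have : (f ∣_ V) ⁻¹' E' = (f ⁻¹ᵁ V).ι ⁻¹' (f ⁻¹' E) := by
      rw [← Set.preimage_comp, ← Set.preimage_comp]
      congr 1
      funext x
      rw [Function.comp_apply, Function.comp_apply, ← Scheme.Hom.comp_apply,
        ← Scheme.Hom.comp_apply, morphismRestrict_ι]
    rw [this]
    exact h.preimage (f ⁻¹ᵁ V).ι.continuous
  have hopen := (isLocallyClosed_of_preimage (f ∣_ V) hres hE'cc hlc).isOpen_coborder
  rw [V.ι.isOpenEmbedding.coborder_preimage] at hopen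
  refine mem_interior.mpr ⟨_, ?_, V.ι.isOpenEmbedding.isOpenMap _ hopen,
    ⟨⟨y, hyV⟩, subset_coborder hy, rfl⟩⟩
  exact Set.image_preimage_subset _ _

/-- Local closedness descends along finitely presented universally S-subtrusive morphisms. -/
theorem isLocallyClosed_iff_preimage (f : X ⟶ Y) [QuasiCompact f] [LocallyOfFinitePresentation f]
    [QuasiSeparated f] (hf : Subtr.UnivSSubtrusive f) (E : Set Y) :
    IsLocallyClosed E ↔ IsLocallyClosed (f ⁻¹' E) := by
  refine ⟨fun h => h.preimage f.continuous, fun h => ?_⟩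
  refine (((isLocallyClosed_tfae E).out 0 3 : IsLocallyClosed E ↔
    ∀ y ∈ E, ∃ U : Set Y, y ∈ U ∧ IsOpen U ∧ U ∩ closure E ⊆ E)).mpr
    fun y hy => ⟨interior (coborder E), ?_,
    isOpen_interior, fun z hz => coborder_inter_closure.le ⟨interior_subset hz.1, hz.2⟩⟩
  obtain ⟨_, ⟨(V : Y.Opens), hV, rfl⟩, hyV, -⟩ :=
    Y.isBasis_affineOpens.exists_subset_of_mem_open (Set.mem_univ y) isOpen_univ
  haveI : IsAffine (V : Scheme.{u}) := hV
  haveI : QuasiCompact (f ∣_ V) := MorphismProperty.of_isPullback (P := @QuasiCompact)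
      (isPullback_morphismRestrict f V).flip inferInstance
  haveI : QuasiSeparated (f ∣_ V) := MorphismProperty.of_isPullback (P := @QuasiSeparated)
      (isPullback_morphismRestrict f V).flip inferInstance
  haveI : LocallyOfFinitePresentation (f ∣_ V) :=
    MorphismProperty.of_isPullback (P := @LocallyOfFinitePresentation)
      (isPullback_morphismRestrict f V).flip inferInstance
  have hlc : IsLocallyClosed ((f ∣_ V) ⁻¹' (V.ι ⁻¹' E)) := by
    have : (f ∣_ V) ⁻¹' (V.ι ⁻¹' E) = (f ⁻¹ᵁ V).ι ⁻¹' (f ⁻¹' E) := by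
      rw [← Set.preimage_comp, ← Set.preimage_comp]
      congr 1
      funext x
      rw [Function.comp_apply, Function.comp_apply, ← Scheme.Hom.comp_apply,
        ← Scheme.Hom.comp_apply, morphismRestrict_ι]
    rw [this]
    exact h.preimage (f ⁻¹ᵁ V).ι.continuous
  have := mem_interior_coborder_of_isAffine (f ∣_ V)
    (univ_morphismRestrict hf V) hlc (y := ⟨y, hyV⟩) hy
  rw [V.ι.isOpenEmbedding.coborder_preimage,
    ← V.ι.isOpenEmbedding.isOpenMap.preimage_interior_eq_interior_preimage V.ι.continuous] at this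
  exact this

end Groth.L09.Subtr
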