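import Groth.Agent.L28.AWN.Weak
import Groth.Agent.L20.WeaklyEtale
import Mathlib.RingTheory.Smooth.IntegralClosure
import Mathlib.RingTheory.Etale.Weakly
import Mathlib.Algebra.Algebra.Epi
import Mathlib.RingTheory.Localization.BaseChange

/-!
# Weak subintegral closure and weakly étale base change
-/

set_option autoImplicit false

set_option backward.isDefEq.respectTransparency.types false
set_option backward.isDefEq.respectTransparency false

universe u

open scoped TensorProduct
open Groth.L28.AWN

namespace Groth.L09.Subtr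

theorem weaklyEtale_of_isLocalization {A A' : Type u} [CommRing A] [CommRing A'] [Algebra A A']
    (M : Submonoid A) [IsLocalization M A'] : Algebra.WeaklyEtale A A' where
  flat := IsLocalization.flat A' M
  flat_lmul' := by
    refine RingHom.Flat.of_bijective ⟨?_, fun a => ⟨a ⊗ₜ 1, by simp⟩⟩
    have : Algebra.IsEpi A A' := by
      refine (Algebra.isEpi_iff_forall_one_tmul_eq A A').mpr fun a => ?_
      obtain ⟨x, s, rfl⟩ := IsLocalization.exists_mk'_eq M a
      have hu : IsUnit (algebraMap A (A' ⊗[A] A') s) := by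
        rw [IsScalarTower.algebraMap_apply A A' (A' ⊗[A] A')]
        exact (IsLocalization.map_units A' s).map _
      refine hu.mul_left_cancel ?_
      rw [← Algebra.smul_def, ← Algebra.smul_def, ← TensorProduct.tmul_smul, TensorProduct.smul_tmul',
        Algebra.smul_def, IsLocalization.mk'_spec', Algebra.algebraMap_eq_smul_one,
        TensorProduct.smul_tmul]
    intro a b h
    exact this.injective_lift_mul h

theorem isUH_of_surjective {A C D : Type u} [CommRing A] [CommRing C] [CommRing D] {ψ : A →+* C}
    (hψ : IsUH ψ) (h : C →+* D) (hs : Function.Surjective h)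
    (hn : ∀ a, h (ψ a) = 0 → IsNilpotent a) : IsUH (h.comp ψ) where
  integral d := by
    obtain ⟨c, rfl⟩ := hs d
    obtain ⟨p, hp, hp'⟩ := hψ.integral c
    exact ⟨p, hp, by rw [← Polynomial.hom_eval₂, hp', map_zero]⟩
  hom_ext K _ f g e := by
    have := hψ.hom_ext K (f.comp h) (g.comp h) e
    exact RingHom.ext fun d => by
      obtain ⟨c, rfl⟩ := hs d
      exact RingHom.congr_fun this c
  nil := hn

variable {A B A' : Type u} [CommRing A] [CommRing B] [CommRing A'] [Algebra A B] [Algebra A A']

theorem mem_range_lTensor_of_isReduced [Algebra.WeaklyEtale A A'] {T0 T : Type u} [CommRing T0]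
    [CommRing T] [Algebra A T0] [Algebra A T] [_root_.IsReduced T] (f g : T0 →ₐ[A] T)
    (E : Subalgebra A T0) (hE : ∀ t, t ∈ E ↔ f t = g t)
    (z : A' ⊗[A] T0) (hz : z ∈ weakEq A' (A' ⊗[A] T0)) :
    z ∈ Set.range (E.val.toLinearMap.lTensor A') := by
  haveI : _root_.IsReduced (A' ⊗[A] T) := by
    haveI : _root_.IsReduced (T ⊗[A] A') := Groth.L20.isReduced_of_weaklyEtale T (T ⊗[A] A')
    exact isReduced_of_injective (Algebra.TensorProduct.comm A A' T)
      (Algebra.TensorProduct.comm A A' T).injective
  let F : A' ⊗[A] T0 →ₐ[A'] A' ⊗[A] T := Algebra.TensorProduct.map (AlgHom.id A' A') f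
  let G : A' ⊗[A] T0 →ₐ[A'] A' ⊗[A] T := Algebra.TensorProduct.map (AlgHom.id A' A') g
  have hFG : F z = G z := by
    have h0 := (((mem_weakEq A' _).mp hz).map
      (Algebra.TensorProduct.lift F G fun _ _ => Commute.all _ _)).eq_zero
    rwa [map_sub, Algebra.TensorProduct.lift_tmul, Algebra.TensorProduct.lift_tmul, map_one,
      map_one, mul_one, one_mul, sub_eq_zero] at h0
  have hex : Function.Exact E.val.toLinearMap (f.toLinearMap - g.toLinearMap) := by
    intro t
    rw [LinearMap.sub_apply, sub_eq_zero]
    exact ⟨fun h => ⟨⟨t, (hE t).mpr h⟩, rfl⟩, fun ⟨s, hs⟩ => hs ▸ (hE s.1).mp s.2⟩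
  refine (Module.Flat.lTensor_exact A' hex z).mp ?_
  rw [LinearMap.lTensor_sub, LinearMap.sub_apply, sub_eq_zero]
  exact hFG

theorem mem_range_lTensor_weakEq [Algebra.WeaklyEtale A A'] {T0 : Type u} [CommRing T0]
    [Algebra A T0] (z : A' ⊗[A] T0) (hz : z ∈ weakEq A' (A' ⊗[A] T0)) :
    z ∈ Set.range ((weakEq A T0).val.toLinearMap.lTensor A') := by
  haveI : _root_.IsReduced ((T0 ⊗[A] T0) ⧸ nilradical (T0 ⊗[A] T0)) :=
    (Ideal.isRadical_iff_quotient_reduced _).mp (Ideal.radical_isRadical _)
  exact mem_range_lTensor_of_isReduced _ _ (weakEq A T0) (fun t => Iff.rfl) z hz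

theorem weakClosure_baseChange (hinj : Function.Injective (algebraMap A B))
    [Algebra.WeaklyEtale A A']
    (hic : Function.Bijective (TensorProduct.toIntegralClosure A A' B))
    (C : Subalgebra A B) (hC : IsUH (algebraMap A C))
    (hmax : ∀ D : Subalgebra A B, IsUH (algebraMap A D) → D ≤ C)
    (C' : Subalgebra A' (A' ⊗[A] B)) (hC' : IsUH (algebraMap A' C'))
    (hmax' : ∀ D : Subalgebra A' (A' ⊗[A] B), IsUH (algebraMap A' D) → D ≤ C') :
    (C' : Set (A' ⊗[A] B)) = Set.range (Algebra.TensorProduct.map (AlgHom.id A A') C.val) := by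
  have hA'inj : Function.Injective (algebraMap A' (A' ⊗[A] B)) :=
    Algebra.TensorProduct.includeLeft_injective (S := A') hinj
  apply Set.Subset.antisymm
  · intro b hb
    let T0 := integralClosure A B
    let τ : A' ⊗[A] T0 →ₐ[A'] A' ⊗[A] B := Algebra.TensorProduct.map (AlgHom.id A' A') T0.val
    have hτ : Function.Injective τ :=
      Module.Flat.lTensor_preserves_injective_linearMap (M := A') T0.val.toLinearMap
        Subtype.val_injective
    have hC'int : ∀ c ∈ C', ∃ z, τ z = c := fun c hc => by
      have hint : c ∈ integralClosure A' (A' ⊗[A] B) :=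
        IsIntegral.map (R := A') C'.val (b := (⟨c, hc⟩ : C')) (hC'.integral ⟨c, hc⟩)
      obtain ⟨z, hz⟩ := hic.2 ⟨c, hint⟩
      exact ⟨z, congrArg Subtype.val hz⟩
    let C'' : Subalgebra A' (A' ⊗[A] T0) := C'.comap τ
    let e : C'' →+* C' := (τ.comp C''.val).toRingHom.codRestrict C' fun z => z.2
    have hebij : Function.Bijective e := by
      refine ⟨fun a b hab => Subtype.ext (hτ (congrArg Subtype.val hab)), fun c => ?_⟩
      obtain ⟨z, hz⟩ := hC'int c.1 c.2
      exact ⟨⟨z, show τ z ∈ C' from hz ▸ c.2⟩, Subtype.ext hz⟩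
    have hC'' : IsUH (A := A') (C := C'') (algebraMap A' C'') := by
      have he : (RingEquiv.ofBijective e hebij).symm.toRingHom.comp (algebraMap A' C') =
          algebraMap A' C'' := by
        refine RingHom.ext fun a => (RingEquiv.ofBijective e hebij).symm_apply_eq.mpr ?_
        exact Subtype.ext (τ.commutes a).symm
      rw [← he]
      refine isUH_of_surjective hC' _ (RingEquiv.ofBijective e hebij).symm.surjective fun a ha => ?_
      refine hC'.nil a ?_
      exact (RingEquiv.ofBijective e hebij).symm.injective (ha.trans (map_zero _).symm)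
    obtain ⟨z, rfl⟩ := hC'int b hb
    have hz : z ∈ weakEq A' (A' ⊗[A] T0) := le_weakEq C'' hC'' hb
    obtain ⟨w, hw⟩ := mem_range_lTensor_weakEq (A' := A') z hz
    let k : weakEq A T0 →ₗ[A] T0 := (weakEq A T0).val.toLinearMap
    have hEC : ∀ t : weakEq A T0, ((t : T0) : B) ∈ C := by
      intro t
      have hD : IsUH (algebraMap A ((weakEq A T0).map T0.val)) := by
        have hE := isUH_weakEq (A := A) (B := T0) (fun a b h => hinj (congrArg Subtype.val h))
        exact isUH_of_surjective hE
          (((weakEq A T0).equivMapOfInjective T0.val Subtype.val_injective).toRingEquiv.toRingHom)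
          ((weakEq A T0).equivMapOfInjective T0.val Subtype.val_injective).surjective
          (fun a ha => hE.nil a (((weakEq A T0).equivMapOfInjective T0.val
            Subtype.val_injective).injective (ha.trans (map_zero _).symm)))
      exact hmax _ hD ⟨t.1, t.2, rfl⟩
    let i : weakEq A T0 →ₐ[A] C := (T0.val.comp (weakEq A T0).val).codRestrict C hEC
    refine ⟨i.toLinearMap.lTensor A' w, ?_⟩
    rw [← hw]
    show (C.val.toLinearMap.lTensor A') (i.toLinearMap.lTensor A' w) =
      (T0.val.toLinearMap.lTensor A') (k.lTensor A' w)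
    rw [← LinearMap.lTensor_comp_apply, ← LinearMap.lTensor_comp_apply]
    rfl
  · let m : A' ⊗[A] C →ₐ[A'] A' ⊗[A] B := Algebra.TensorProduct.map (AlgHom.id A' A') C.val
    have hm : IsUH (algebraMap A' m.range) := by
      refine ⟨?_, fun K _ p q hpq => ?_, fun a ha => ?_⟩
      · intro d
        obtain ⟨d, hd⟩ := m.rangeRestrict_surjective d
        rw [← hd]
        haveI : Algebra.IsIntegral A C := ⟨hC.integral⟩
        exact IsIntegral.map m.rangeRestrict (Algebra.IsIntegral.isIntegral (R := A') d)
      · have hcomp : p.comp m.rangeRestrict.toRingHom = q.comp m.rangeRestrict.toRingHom := by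
          have hr : ∀ a : A', p (m.rangeRestrict (algebraMap A' _ a)) =
              q (m.rangeRestrict (algebraMap A' _ a)) := fun a => by
            rw [AlgHom.commutes]; exact RingHom.congr_fun hpq a
          refine Algebra.TensorProduct.ringHom_ext ?_ ?_
          · exact RingHom.ext fun a => hr a
          · refine hC.hom_ext K _ _ (RingHom.ext fun a => ?_)
            have e : (Algebra.TensorProduct.includeRight : C →ₐ[A] A' ⊗[A] C) (algebraMap A C a) =
                algebraMap A' (A' ⊗[A] C) (algebraMap A A' a) :=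
              (AlgHom.commutes _ a).trans (IsScalarTower.algebraMap_apply A A' _ a)
            show p (m.rangeRestrict _) = q (m.rangeRestrict _)
            erw [e]
            exact hr _
        exact RingHom.ext fun d => by
          obtain ⟨d, rfl⟩ := m.rangeRestrict_surjective d
          exact RingHom.congr_fun hcomp d
      · rw [hA'inj ((congrArg Subtype.val ha).trans (map_zero (algebraMap A' (A' ⊗[A] B))).symm)]
        exact IsNilpotent.zero
    rintro _ ⟨x, rfl⟩
    exact hmax' _ hm ⟨x, rfl⟩

end Groth.L09.Subtr
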