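import Groth.Prelude.Def_SGA4c
import Groth.Agent.L09.CoprodTopos
import Mathlib.CategoryTheory.Sites.Subsheaf
import Mathlib.CategoryTheory.Sites.EpiMono
import Mathlib.CategoryTheory.Sites.RegularEpi
import Mathlib.CategoryTheory.EffectiveEpi.Basic
import Mathlib.CategoryTheory.Limits.Types.Pullbacks

/-!
Jointly epimorphic families in a topos of sheaves of sets: local surjectivity, base change, gluing,
disjointness of coproducts.
-/

set_option autoImplicit false
universe w w' u

open CategoryTheory Category Limits Opposite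

namespace Groth.L09.Topos

variable {C : Type u} [SmallCategory C] {J : GrothendieckTopology C}

/-- Jointly epimorphic family. -/
def Covers {ι : Type w} {X : ToposFin.Sh J} {F : ι → ToposFin.Sh J} (π : ∀ i, F i ⟶ X) : Prop :=
  ∀ (Z : ToposFin.Sh J) (a b : X ⟶ Z), (∀ i, π i ≫ a = π i ≫ b) → a = b

variable {ι : Type w} {X Y : ToposFin.Sh J} {F : ι → ToposFin.Sh J} {π : ∀ i, F i ⟶ X}

lemma covers_iff_epi [HasCoproduct F] (π : ∀ i, F i ⟶ X) : Covers π ↔ Epi (Sigma.desc π) := by
  constructor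
  · refine fun h => ⟨fun {Z} a b e => h Z a b fun i => ?_⟩
    have := Sigma.ι F i ≫= e
    simpa using this
  · intro h Z a b e
    exact (cancel_epi (Sigma.desc π)).1 (Sigma.hom_ext _ _ fun i => by simpa using e i)

lemma covers_of_isColimit {c : Cofan F} (hc : IsColimit c) : Covers c.inj :=
  fun _ _ _ h => Cofan.IsColimit.hom_ext hc _ _ h

lemma covers_colimit_ι {K : Type u} [SmallCategory K] (D : K ⥤ ToposFin.Sh J) :
    Covers (fun k => colimit.ι D k) :=
  fun _ _ _ h => colimit.hom_ext h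

lemma covers_of_iso_mem (i : ι) (s : X ⟶ F i) (h : s ≫ π i = 𝟙 X) : Covers π := fun Z a b e => by
  rw [← id_comp a, ← id_comp b, ← h, assoc, assoc, e i]

lemma covers_of_epi (f : Y ⟶ X) [Epi f] : Covers (fun _ : PUnit.{w+1} => f) :=
  fun _ _ _ e => (cancel_epi f).1 (e ⟨⟩)

lemma epi_of_covers (f : Y ⟶ X) (h : Covers (fun _ : PUnit.{w+1} => f)) : Epi f :=
  ⟨fun a b e => h _ a b fun _ => e⟩

lemma covers_of_factor (h : Covers π) {κ : Type w'} {G : κ → ToposFin.Sh J} {ρ : ∀ k, G k ⟶ X}
    (hf : ∀ i, ∃ (k : κ) (l : F i ⟶ G k), l ≫ ρ k = π i) : Covers ρ := fun Z a b e => h Z a b fun i => by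
  obtain ⟨k, l, hl⟩ := hf i
  rw [← hl, assoc, assoc, e k]

lemma covers_comp (h : Covers π) {κ : ι → Type w'} {G : ∀ i, κ i → ToposFin.Sh J}
    {ρ : ∀ i k, G i k ⟶ F i} (hρ : ∀ i, Covers (ρ i)) :
    Covers (fun p : Σ i, κ i => ρ p.1 p.2 ≫ π p.1) := fun Z a b e => h Z a b fun i =>
  hρ i Z _ _ fun k => by
    have := e ⟨i, k⟩
    simpa using this

lemma covers_comp_iso (h : Covers π) (e : X ≅ Y) : Covers (fun i => π i ≫ e.hom) := fun Z a b he => by
  rw [← cancel_epi e.hom]
  exact h Z _ _ fun i => by simpa using he i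

/-- The sections which come from the family. -/
def image (π : ∀ i, F i ⟶ X) : Subfunctor X.obj where
  obj U := {x | ∃ (i : ι) (y : (F i).obj.obj U), (π i).hom.app U y = x}
  map {U V} f := by
    rintro _ ⟨i, y, rfl⟩
    exact ⟨i, (F i).obj.map f y, ConcreteCategory.congr_hom ((π i).hom.naturality f) y⟩

/-- The sieve on which a section comes from the family. -/
def sieveOf (π : ∀ i, F i ⟶ X) {U : Cᵒᵖ} (x : X.obj.obj U) : Sieve U.unop :=
  (image π).sieveOfSection x

lemma sieveOf_apply {U : Cᵒᵖ} (x : X.obj.obj U) {V : C} (f : V ⟶ U.unop) :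
    sieveOf π x f ↔ ∃ (i : ι) (y : (F i).obj.obj (op V)), (π i).hom.app _ y = X.obj.map f.op x := Iff.rfl

lemma sep (Z : ToposFin.Sh J) {U : C} {S : Sieve U} (hS : S ∈ J U) {a b : Z.obj.obj (op U)}
    (h : ∀ ⦃V : C⦄ (f : V ⟶ U), S f → Z.obj.map f.op a = Z.obj.map f.op b) : a = b :=
  (((isSheaf_iff_isSheaf_of_type _ _).1 Z.property).isSeparated S hS).ext fun _ f hf => h f hf

theorem covers_iff_sieveOf (π : ∀ i, F i ⟶ X) :
    Covers π ↔ ∀ (U : Cᵒᵖ) (x : X.obj.obj U), sieveOf π x ∈ J U.unop := by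
  constructor
  · intro h
    have hX : Presieve.IsSheaf J X.obj := (isSheaf_iff_isSheaf_of_type _ _).1 X.property
    let G := (image π).sheafify J
    let I : ToposFin.Sh J := ⟨G.toFunctor, (isSheaf_iff_isSheaf_of_type _ _).2 ((image π).sheafify_isSheaf hX)⟩
    let m : I ⟶ X := ⟨G.ι⟩
    have hm : Mono m := (sheafToPresheaf J (Type u)).mono_of_mono_map (show Mono G.ι from inferInstance)
    have he : Epi m := ⟨fun {Z} a b e => h Z a b fun i => by
      let l : F i ⟶ I := ⟨{ app := fun U => ↾fun y => ⟨(π i).hom.app U y, (image π).le_sheafify J U ⟨i, y, rfl⟩⟩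
                            naturality := fun U V f => by
                              ext y
                              refine Subtype.ext ?_
                              exact ConcreteCategory.congr_hom (x := y) ((π i).hom.naturality f) }⟩
      have hl : l ≫ m = π i := by
        refine Sheaf.hom_ext ?_
        ext U y
        rfl
      rw [← hl, assoc, assoc, e]⟩
    have : IsIso m := isIso_of_mono_of_epi m
    intro U x
    let z := (inv m).hom.app U x
    have hz : (z : G.obj U).1 = x := by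
      have := congrArg (fun (q : X ⟶ X) => (q.hom.app U) x) (IsIso.inv_hom_id m)
      exact this
    have := z.2
    rw [← hz]
    exact this
  · intro h Z a b e
    refine Sheaf.hom_ext ?_
    ext U x
    refine sep (U := U.unop) Z (h U x) fun V f hf => ?_
    obtain ⟨i, y, hy⟩ := (sieveOf_apply x f).1 hf
    refine (ConcreteCategory.congr_hom (a.hom.naturality f.op) x).symm.trans ?_
    refine Eq.trans ?_ (ConcreteCategory.congr_hom (b.hom.naturality f.op) x)
    show a.hom.app _ (X.obj.map f.op x) = b.hom.app _ (X.obj.map f.op x)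
    rw [← hy]
    exact ConcreteCategory.congr_hom (congrArg (fun (q : F i ⟶ Z) => q.hom.app (op V)) (e i)) y

lemma exists_pullback_elt {A B P : ToposFin.Sh J} {fst : P ⟶ A} {snd : P ⟶ B} {f : A ⟶ X} {g : B ⟶ X}
    (h : IsPullback fst snd f g) {U : Cᵒᵖ} (a : A.obj.obj U) (b : B.obj.obj U)
    (e : f.hom.app U a = g.hom.app U b) : ∃ p, fst.hom.app U p = a ∧ snd.hom.app U p = b :=
  Types.exists_of_isPullback (h.map (sheafToPresheaf J (Type u) ⋙ (evaluation Cᵒᵖ (Type u)).obj U)) a b e

/-- Base change of a covering family. -/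
theorem covers_of_isPullback (h : Covers π) {f : Y ⟶ X} {P : ι → ToposFin.Sh J} {a : ∀ i, P i ⟶ Y}
    {b : ∀ i, P i ⟶ F i} (hP : ∀ i, IsPullback (a i) (b i) f (π i)) : Covers a := by
  rw [covers_iff_sieveOf] at h ⊢
  intro U y
  refine J.superset_covering ?_ (h U (f.hom.app U y))
  intro V g hg
  obtain ⟨i, z, hz⟩ := (sieveOf_apply _ g).1 hg
  refine (sieveOf_apply _ g).2 ⟨i, ?_⟩
  obtain ⟨p, hp, -⟩ := exists_pullback_elt (hP i) (Y.obj.map g.op y) z
    ((ConcreteCategory.congr_hom (f.hom.naturality g.op) y).trans hz.symm)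
  exact ⟨p, hp⟩

lemma covers_pullback_fst (h : Covers π) (f : Y ⟶ X) : Covers (fun i => pullback.fst f (π i)) :=
  covers_of_isPullback h fun i => IsPullback.of_hasPullback f (π i)

lemma covers_pullback_snd (h : Covers π) (f : Y ⟶ X) : Covers (fun i => pullback.snd (π i) f) :=
  covers_of_isPullback h fun i => (IsPullback.of_hasPullback (π i) f).flip

/-- Covers of both factors give a cover of a fibre product. -/
lemma covers_pullback_map (h : Covers π) {κ : Type w'} {G : κ → ToposFin.Sh J} {ρ : ∀ k, G k ⟶ Y}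
    (hρ : Covers ρ) {S : ToposFin.Sh J} (f : X ⟶ S) (g : Y ⟶ S) :
    Covers (fun p : ι × κ => pullback.map (π p.1 ≫ f) (ρ p.2 ≫ g) f g (π p.1) (ρ p.2) (𝟙 S)
      (comp_id _) (comp_id _)) := by
  have h₁ := covers_pullback_fst h (pullback.fst f g)
  have h₂ := fun i => covers_pullback_fst hρ (pullback.fst (pullback.fst f g) (π i) ≫ pullback.snd f g)
  refine covers_of_factor (covers_comp h₁ h₂) fun ⟨i, k⟩ => ⟨⟨i, k⟩,
    pullback.lift (pullback.fst _ _ ≫ pullback.snd (pullback.fst f g) (π i))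
      (pullback.snd _ (ρ k)) ?_, ?_⟩
  · simp only [assoc]
    rw [← reassoc_of% (pullback.condition (f := pullback.fst (pullback.fst f g) (π i) ≫ pullback.snd f g)
      (g := ρ k)), ← reassoc_of% (pullback.condition (f := pullback.fst f g) (g := π i)), pullback.condition]
  · apply pullback.hom_ext
    · simp only [assoc, pullback.lift_fst, pullback.lift_fst_assoc]
      rw [pullback.condition]
    · simp only [assoc, pullback.lift_snd, pullback.lift_snd_assoc]
      exact pullback.condition.symm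

section Initial

lemma covers_of_isInitial {O : ToposFin.Sh J} (hO : IsInitial O) {G : ι → ToposFin.Sh J} (ρ : ∀ i, G i ⟶ O) :
    Covers ρ := fun _ _ _ _ => hO.hom_ext _ _

lemma mono_of_isInitial {O : ToposFin.Sh J} (hO : IsInitial O) (f : O ⟶ X) : Mono f := by
  refine ⟨fun {T} a b _ => ?_⟩
  have hc : Covers (fun i : PEmpty.{1} => (i.elim : (PEmpty.elim i : ToposFin.Sh J) ⟶ O)) :=
    covers_of_isInitial hO _
  exact covers_pullback_fst hc a O a b fun i => i.elim

lemma isInitial_of_covers (h : Covers π) (hF : ∀ i, Nonempty (IsInitial (F i))) : Nonempty (IsInitial X) := by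
  let m := (initialIsInitial : IsInitial (⊥_ ToposFin.Sh J)).to X
  have : Mono m := mono_of_isInitial (J := J) (X := X) (initialIsInitial : IsInitial (⊥_ ToposFin.Sh J)) m
  have : Epi m := ⟨fun {Z} a b _ => h Z a b fun i => (hF i).some.hom_ext _ _⟩
  have : IsIso m := isIso_of_mono_of_epi m
  exact ⟨initialIsInitial.ofIso (asIso m)⟩

lemma isInitial_of_hom {O : ToposFin.Sh J} (hO : IsInitial O) (f : X ⟶ O) : Nonempty (IsInitial X) := by
  have hc : Covers (fun i : PEmpty.{1} => (i.elim : (PEmpty.elim i : ToposFin.Sh J) ⟶ O)) :=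
    covers_of_isInitial hO _
  exact isInitial_of_covers (covers_pullback_fst hc f) fun i => i.elim

/-- Members that are initial can be dropped. -/
lemma covers_restrict (h : Covers π) (p : ι → Prop) (hp : ∀ i, ¬ p i → Nonempty (IsInitial (F i))) :
    Covers (fun i : { i // p i } => π i.1) := fun Z a b e => h Z a b fun i => by
  by_cases hi : p i
  · exact e ⟨i, hi⟩
  · exact (hp i hi).some.hom_ext _ _

end Initial

section Cofan

variable {κ : Type u} {G : κ → ToposFin.Sh J} {c : Cofan G}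

lemma cofan_mono (hc : IsColimit c) (i : κ) : Mono (c.inj i) := by
  have := CoprodTopos.shf_coproductDisjoint G
  exact Mono.of_coproductDisjoint hc i

lemma cofan_disjoint (hc : IsColimit c) {i j : κ} (hij : i ≠ j) :
    Nonempty (IsInitial (pullback (c.inj i) (c.inj j))) := by
  have := CoprodTopos.shf_coproductDisjoint G
  exact ⟨IsInitial.ofCoproductDisjointOfIsColimitOfIsLimit hij hc
    (s := PullbackCone.mk (pullback.fst (c.inj i) (c.inj j)) (pullback.snd _ _) pullback.condition)
    (pullbackIsPullback (c.inj i) (c.inj j))⟩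

/-- Pieces over distinct summands don't meet. -/
lemma cofan_pieces_disjoint (hc : IsColimit c) {i j : κ} (hij : i ≠ j) {A B T : ToposFin.Sh J}
    (a : T ⟶ A) (b : T ⟶ B) (f : A ⟶ G i) (g : B ⟶ G j)
    (h : a ≫ f ≫ c.inj i = b ≫ g ≫ c.inj j) : Nonempty (IsInitial T) := by
  obtain ⟨hI⟩ := cofan_disjoint hc hij
  exact isInitial_of_hom hI (pullback.lift (a ≫ f) (b ≫ g) (by simpa using h))

end Cofan

/-- Reindex a cofan indexed by a small type. -/
def uliftCofan {κ : Type} {G : κ → ToposFin.Sh J} (c : Cofan G) :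
    Cofan (fun i : ULift.{u} κ => G i.down) :=
  Cofan.mk c.pt fun i => c.inj i.down

noncomputable def isColimitUliftCofan {κ : Type} {G : κ → ToposFin.Sh J} {c : Cofan G} (hc : IsColimit c) :
    IsColimit (uliftCofan c) :=
  Cofan.IsColimit.mk _ (fun t => Cofan.IsColimit.desc hc fun i => t.inj ⟨i⟩)
    (fun t i => Cofan.IsColimit.fac hc (fun i => t.inj ⟨i⟩) i.down)
    (fun t m hm => Cofan.IsColimit.hom_ext hc _ _ fun i => by
      rw [Cofan.IsColimit.fac]
      exact hm ⟨i⟩)

section Glue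

variable {κ : Type u} {G : κ → ToposFin.Sh J} {ρ : ∀ k, G k ⟶ X}

/-- Morphisms glue along a jointly epimorphic family. -/
theorem exists_desc (h : Covers ρ) {Z : ToposFin.Sh J} (φ : ∀ k, G k ⟶ Z)
    (hφ : ∀ i j, pullback.fst (ρ i) (ρ j) ≫ φ i = pullback.snd (ρ i) (ρ j) ≫ φ j) :
    ∃ d : X ⟶ Z, ∀ k, ρ k ≫ d = φ k := by
  let p := Sigma.desc ρ
  let Φ := Sigma.desc φ
  have : Epi p := (covers_iff_epi ρ).1 h
  have : EffectiveEpi p := by
    have := IsRegularEpiCategory.regularEpiOfEpi p
    infer_instance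
  have key : ∀ {T : ToposFin.Sh J} (g₁ g₂ : T ⟶ ∐ G), g₁ ≫ p = g₂ ≫ p → g₁ ≫ Φ = g₂ ≫ Φ := by
    intro T g₁ g₂ e
    have hι : Covers (fun i => Sigma.ι G i) := covers_of_isColimit (coproductIsCoproduct G)
    refine covers_comp (covers_pullback_fst hι g₁)
      (fun i => covers_pullback_fst hι (pullback.fst g₁ (Sigma.ι G i) ≫ g₂)) Z _ _ fun ⟨i, j⟩ => ?_
    let q := pullback.fst g₁ (Sigma.ι G i)
    let r := pullback.fst (q ≫ g₂) (Sigma.ι G j)
    let x := r ≫ pullback.snd g₁ (Sigma.ι G i)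
    let y := pullback.snd (q ≫ g₂) (Sigma.ι G j)
    have ex : (r ≫ q) ≫ g₁ = x ≫ Sigma.ι G i := by simp [q, x, pullback.condition]
    have ey : (r ≫ q) ≫ g₂ = y ≫ Sigma.ι G j := by simp [r, y, ← pullback.condition]
    have hxy : x ≫ ρ i = y ≫ ρ j := by
      have := congrArg ((r ≫ q) ≫ ·) e
      rw [← assoc (r ≫ q) g₁, ← assoc (r ≫ q) g₂, ex, ey, assoc x, assoc y] at this
      simpa [p] using this
    show (r ≫ q) ≫ g₁ ≫ Φ = (r ≫ q) ≫ g₂ ≫ Φ
    rw [← assoc (r ≫ q) g₁, ← assoc (r ≫ q) g₂, ex, ey, assoc x, assoc y, Sigma.ι_desc, Sigma.ι_desc]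
    exact (pullback.lift_fst_assoc x y hxy (φ i)).symm.trans
      ((congrArg (pullback.lift x y hxy ≫ ·) (hφ i j)).trans (pullback.lift_snd_assoc x y hxy (φ j)))
  refine ⟨EffectiveEpi.desc p Φ key, fun k => ?_⟩
  calc ρ k ≫ EffectiveEpi.desc p Φ key = Sigma.ι G k ≫ p ≫ EffectiveEpi.desc p Φ key :=
        (Sigma.ι_desc_assoc ρ k _).symm
    _ = Sigma.ι G k ≫ Φ := by rw [EffectiveEpi.fac]
    _ = φ k := Sigma.ι_desc _ _

end Glue

section Filtered

variable {K : Type u} [SmallCategory K] [IsFiltered K] (D : K ⥤ ToposFin.Sh J)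

/-- Two sections equal in a filtered colimit are locally equal at a later stage. -/
theorem colimit_eq_locally {i : K} {U : Cᵒᵖ} (s t : (D.obj i).obj.obj U)
    (h : (colimit.ι D i).hom.app U s = (colimit.ι D i).hom.app U t) :
    ∃ S ∈ J U.unop, ∀ ⦃V : C⦄ (f : V ⟶ U.unop), S f → ∃ (k : K) (g : i ⟶ k),
      (D.map g).hom.app (op V) ((D.obj i).obj.map f.op s) =
        (D.map g).hom.app (op V) ((D.obj i).obj.map f.op t) := by
  let E := colimit.cocone (D ⋙ sheafToPresheaf J (Type u))
  let hE := Sheaf.isColimitSheafifyCocone E (colimit.isColimit _)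
  let q : colimit D ⟶ (Sheaf.sheafifyCocone E).pt := colimit.desc D _
  have hq : (colimit.ι D i).hom ≫ q.hom = E.ι.app i ≫ toSheafify J E.pt := by
    rw [← Sheaf.sheafifyCocone_ι_app_val E i, ← ObjectProperty.FullSubcategory.comp_hom]
    simp [q]
  have h' : (toSheafify J E.pt).app U ((E.ι.app i).app U s) =
      (toSheafify J E.pt).app U ((E.ι.app i).app U t) := by
    have h₁ := fun z => ConcreteCategory.congr_hom (NatTrans.congr_app hq U) z
    exact (h₁ s).symm.trans ((congrArg (q.hom.app U) h).trans (h₁ t))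
  refine ⟨_, Presheaf.equalizerSieve_mem J (toSheafify J E.pt) _ _ h', fun V f hf => ?_⟩
  have hf' : E.pt.map f.op ((E.ι.app i).app U s) = E.pt.map f.op ((E.ι.app i).app U t) := hf
  have hn := fun z => ConcreteCategory.congr_hom ((E.ι.app i).naturality f.op) z
  have hev : (E.ι.app i).app (op V) ((D.obj i).obj.map f.op s) =
      (E.ι.app i).app (op V) ((D.obj i).obj.map f.op t) :=
    ((hn s).trans hf').trans (hn t).symm
  exact (Types.FilteredColimit.isColimit_eq_iff' (isColimitOfPreserves ((evaluation Cᵒᵖ (Type u)).obj (op V))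
    (colimit.isColimit (D ⋙ sheafToPresheaf J (Type u)))) _ _).1 hev

end Filtered

end Groth.L09.Topos
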