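import Groth.Agent.L09.ToposCovers
import Groth.Prelude.Def_ToposFin2
import Mathlib.CategoryTheory.MorphismProperty.Limits
import Mathlib.CategoryTheory.Limits.Shapes.Pullback.Pasting
import Mathlib.Data.Finset.Sum
import Mathlib.Data.Fintype.Basic

/-!
Quasi-compact and quasi-separated objects and morphisms in a topos of sheaves of sets.
-/

set_option autoImplicit false
universe w w' u

open CategoryTheory Category Limits Opposite MorphismProperty ToposFin

namespace Groth.L09.Topos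

variable {C : Type u} [SmallCategory C] {J : GrothendieckTopology C}
variable {X Y Z : Sh J}

lemma isQC_iff : IsQC X ↔ ∀ (ι : Type u) (F : ι → Sh J) (π : ∀ i, F i ⟶ X), Covers π →
    ∃ s : Finset ι, Covers (fun i : s => π i) := by
  simp only [IsQC, covers_iff_epi]

lemma exists_finite_subcover (hX : IsQC X) {ι : Type u} {F : ι → Sh J} {π : ∀ i, F i ⟶ X}
    (h : Covers π) : ∃ s : Finset ι, Covers (fun i : s => π i) :=
  isQC_iff.1 hX ι F π h

lemma isQC_of_finite_cover {κ : Type w} [Finite κ] {G : κ → Sh J} {π : ∀ k, G k ⟶ X} (h : Covers π)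
    (hG : ∀ k, IsQC (G k)) : IsQC X := by
  classical
  have := Fintype.ofFinite κ
  refine isQC_iff.2 fun ι F ρ hρ => ?_
  choose s hs using fun k => exists_finite_subcover (hG k) (covers_pullback_fst hρ (π k))
  refine ⟨Finset.univ.biUnion s, fun T a b e => h T a b fun k => hs k T _ _ fun i => ?_⟩
  rw [← assoc, ← assoc, pullback.condition, assoc, assoc,
    e ⟨i.1, Finset.mem_biUnion.2 ⟨k, Finset.mem_univ _, i.2⟩⟩]

lemma isQC_of_epi (f : Y ⟶ X) [Epi f] (hY : IsQC Y) : IsQC X :=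
  isQC_of_finite_cover (covers_of_epi.{0} f) fun _ => hY

lemma isQC_of_iso (e : Y ≅ X) (hY : IsQC Y) : IsQC X := isQC_of_epi e.hom hY

lemma isQC_of_isInitial (hX : IsInitial X) : IsQC X :=
  isQC_of_finite_cover (κ := PEmpty.{1}) (G := PEmpty.elim) (π := fun i => i.elim)
    (covers_of_isInitial hX _) fun i => i.elim

lemma isQC_of_retract (i : X ⟶ Y) (p : Y ⟶ X) (h : i ≫ p = 𝟙 X) (hY : IsQC Y) : IsQC X := by
  have : IsSplitEpi p := ⟨⟨⟨i, h⟩⟩⟩
  exact isQC_of_epi p hY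

/-- Fibre products are quasi-compact if they are so on finite covers of the factors. -/
lemma isQC_pullback_of_covers {ι : Type w} [Finite ι] {F : ι → Sh J} {π : ∀ i, F i ⟶ X} (hπ : Covers π)
    {κ : Type w'} [Finite κ] {G : κ → Sh J} {ρ : ∀ k, G k ⟶ Y} (hρ : Covers ρ) (f : X ⟶ Z) (g : Y ⟶ Z)
    (h : ∀ i k, IsQC (pullback (π i ≫ f) (ρ k ≫ g))) : IsQC (pullback f g) :=
  isQC_of_finite_cover (covers_pullback_map hπ hρ f g) fun p => h p.1 p.2

lemma isQC_pullback_of_cover_right {κ : Type w'} [Finite κ] {G : κ → Sh J} {ρ : ∀ k, G k ⟶ Y} (hρ : Covers ρ)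
    (f : X ⟶ Z) (g : Y ⟶ Z) (h : ∀ k, IsQC (pullback f (ρ k ≫ g))) : IsQC (pullback f g) := by
  refine isQC_pullback_of_covers (covers_of_iso_mem (π := fun _ : PUnit.{1} => 𝟙 X) ⟨⟩ (𝟙 X) (comp_id _))
    hρ f g fun _ k => ?_
  exact isQC_of_iso (pullback.congrHom (id_comp f).symm rfl) (h k)

lemma isQC_pullback_symm {f : X ⟶ Z} {g : Y ⟶ Z} (h : IsQC (pullback f g)) : IsQC (pullback g f) :=
  isQC_of_iso (pullbackSymmetry f g) h

/-! ### Quasi-compact morphisms -/

variable (J) in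
/-- Quasi-compact morphisms as a property of morphisms. -/
abbrev qc : MorphismProperty (Sh J) := fun _ _ f => IsQCHom f

instance : (qc J).IsStableUnderBaseChange where
  of_isPullback {A B B' S f g f' g'} sq hg := fun T s hT =>
    isQC_of_iso ((IsPullback.of_hasPullback g' s).paste_horiz sq).isoPullback.symm (hg T (s ≫ f) hT)

instance : (qc J).IsMultiplicative where
  id_mem A T s hT := isQC_of_iso (asIso (pullback.snd (𝟙 A) s)).symm hT
  comp_mem {A B D} f g hf hg T s hT :=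
    isQC_of_iso ((IsPullback.of_hasPullback f (pullback.fst g s)).paste_vert
      (IsPullback.of_hasPullback g s)).isoPullback (hf _ _ (hg T s hT))

instance : (qc J).RespectsIso :=
  MorphismProperty.respectsIso_of_isStableUnderComposition fun A B f (hf : IsIso f) T s hT =>
    isQC_of_iso (asIso (pullback.snd f s)).symm hT

lemma isQCHom_of_isIso (f : X ⟶ Y) [IsIso f] : IsQCHom f := (qc J).of_isIso f

lemma isQC_of_isQCHom {f : X ⟶ Y} (hf : IsQCHom f) (hY : IsQC Y) : IsQC X :=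
  isQC_of_iso (asIso (pullback.fst f (𝟙 Y))) (hf Y (𝟙 Y) hY)

variable (J) in
/-- Quasi-separated morphisms as a property of morphisms. -/
abbrev qs : MorphismProperty (Sh J) := (qc J).diagonal

lemma isQSHom_iff (f : X ⟶ Y) : IsQSHom f ↔ qs J f := Iff.rfl

lemma isQSHom_of_mono (f : X ⟶ Y) [Mono f] : IsQSHom f := by
  have := (pullback.isIso_diagonal_iff f).2 ‹_›
  exact isQCHom_of_isIso _

lemma isQCHom_cancel_of_isQSHom {f : X ⟶ Y} {g : Y ⟶ Z} (hg : IsQSHom g) (h : IsQCHom (f ≫ g)) : IsQCHom f :=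
  have : (qc J).HasOfPostcompProperty (qs J) := hasOfPostcompProperty_iff_le_diagonal.2 le_rfl
  (qc J).of_postcomp (W' := qs J) f g hg h

lemma isQSHom_of_comp {f : X ⟶ Y} {g : Y ⟶ Z} (h : IsQSHom (f ≫ g)) : IsQSHom f := by
  rw [IsQSHom, pullback.diagonal_comp] at h
  refine isQCHom_cancel_of_isQSHom (isQSHom_of_mono _) h

/-! ### Quasi-separated objects -/

lemma isQS_iff : IsQS X ↔ ∀ (Y : Sh J) (a : Y ⟶ X), IsQC Y → IsQCHom a :=
  ⟨fun h Y a hY T b hT => h Y T a b hY hT, fun h Y T a b hY hT => h Y a hY T b hT⟩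

lemma isQCHom_of_isQC_of_isQS (f : Y ⟶ X) (hY : IsQC Y) (hX : IsQS X) : IsQCHom f := isQS_iff.1 hX Y f hY

lemma isQS_of_mono (i : X ⟶ Y) [Mono i] (hY : IsQS Y) : IsQS X := fun A B a b hA hB =>
  have sq : IsPullback (pullback.fst a b) (pullback.snd a b) (a ≫ i) (b ≫ i) :=
    IsPullback.of_isLimit' ⟨by rw [← assoc, ← assoc, pullback.condition]⟩ (pullbackIsPullbackOfCompMono a b i)
  isQC_of_iso sq.isoPullback.symm (hY A B _ _ hA hB)

lemma isQS_of_iso (e : X ≅ Y) (hY : IsQS Y) : IsQS X := isQS_of_mono e.hom hY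

lemma isCoherent_of_iso (e : X ≅ Y) (hY : IsCoherent Y) : IsCoherent X :=
  ⟨isQC_of_iso e.symm hY.1, isQS_of_iso e hY.2⟩

lemma isQS_of_isQSHom {f : X ⟶ Y} (hf : IsQSHom f) (hY : IsQS Y) : IsQS X := fun A B a b hA hB =>
  isQC_of_isQCHom ((qc J).of_isPullback (pullback_map_diagonal_isPullback a b f) hf)
    (hY A B (a ≫ f) (b ≫ f) hA hB)

lemma isCoherent_of_isCohHom {f : X ⟶ Y} (hf : IsCohHom f) (hY : IsCoherent Y) : IsCoherent X :=
  ⟨isQC_of_isQCHom hf.1 hY.1, isQS_of_isQSHom hf.2 hY.2⟩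

/-! ### Locality -/

/-- Quasi-compact objects over `Y` are covered by finitely many quasi-compact pieces factoring
through the family `g`. -/
def Refines {ι : Type w} {G : ι → Sh J} (g : ∀ i, G i ⟶ Y) : Prop :=
  ∀ (T : Sh J) (a : T ⟶ Y), IsQC T → ∃ (κ : Type u) (_ : Finite κ) (W : κ → Sh J) (π : ∀ k, W k ⟶ T),
    Covers π ∧ ∀ k, IsQC (W k) ∧ ∃ (i : ι) (l : W k ⟶ G i), l ≫ g i = π k ≫ a

lemma refines_of_isQCHom {ι : Type u} {G : ι → Sh J} {g : ∀ i, G i ⟶ Y} (hg : Covers g)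
    (h : ∀ i, IsQCHom (g i)) : Refines g := fun T a hT => by
  obtain ⟨s, hs⟩ := exists_finite_subcover hT (covers_pullback_fst hg a)
  exact ⟨s, inferInstance, _, _, hs, fun k => ⟨isQC_pullback_symm (h k.1 T a hT), k.1,
    pullback.snd a (g k.1), pullback.condition.symm⟩⟩

variable (J) in
/-- Every object is covered by a small family of objects satisfying `P`. -/
def GenBy (P : Sh J → Prop) : Prop :=
  ∀ X : Sh J, ∃ (ι : Type u) (F : ι → Sh J) (π : ∀ i, F i ⟶ X), (∀ i, P (F i)) ∧ Covers π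

lemma genBy_of_hasQCGenerators (h : HasQCGenerators J) : GenBy J IsQC := fun X => by
  obtain ⟨ι, F, π, h₁, h₂⟩ := h X
  exact ⟨ι, F, π, h₁, (covers_iff_epi π).2 h₂⟩

lemma genBy_of_hasCoherentGenerators (h : HasCoherentGenerators J) : GenBy J IsCoherent := fun X => by
  obtain ⟨ι, F, π, h₁, h₂⟩ := h X
  exact ⟨ι, F, π, h₁, (covers_iff_epi π).2 h₂⟩

lemma genBy_of_isGenerating {S : Set (Sh J)} (h : IsGenerating S) : GenBy J (· ∈ S) := fun X => h X

lemma genBy_of_family {α : Type u} (G : α → Sh J)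
    (hgen : ∀ X : Sh J, ∃ (ι : Type u) (a : ι → α) (π : ∀ i, G (a i) ⟶ X), Epi (Sigma.desc π)) :
    GenBy J (fun X => ∃ a, X = G a) := fun X => by
  obtain ⟨ι, a, π, h⟩ := hgen X
  exact ⟨ι, _, π, fun i => ⟨a i, rfl⟩, (covers_iff_epi π).2 h⟩

lemma GenBy.mono {P Q : Sh J → Prop} (h : GenBy J P) (hPQ : ∀ X, P X → Q X) : GenBy J Q := fun X => by
  obtain ⟨ι, F, π, h₁, h₂⟩ := h X
  exact ⟨ι, F, π, fun i => hPQ _ (h₁ i), h₂⟩

/-- Refine a quasi-compact object over a covered one by members of a generating class. -/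
lemma exists_gen_refine {P : Sh J → Prop} (hP : GenBy J P) {ι : Type u} {G : ι → Sh J} {g : ∀ i, G i ⟶ Y}
    (hg : Covers g) {T : Sh J} (a : T ⟶ Y) (hT : IsQC T) :
    ∃ (κ : Type u) (_ : Finite κ) (W : κ → Sh J) (π : ∀ k, W k ⟶ T),
      Covers π ∧ ∀ k, P (W k) ∧ ∃ (i : ι) (l : W k ⟶ G i), l ≫ g i = π k ≫ a := by
  choose κ W π hW hπ using fun i => hP (pullback a (g i))
  obtain ⟨s, hs⟩ := exists_finite_subcover hT (covers_comp (covers_pullback_fst hg a) hπ)
  refine ⟨s, inferInstance, _, _, hs, fun k => ⟨hW _ _, k.1.1, π _ k.1.2 ≫ pullback.snd a (g k.1.1), ?_⟩⟩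
  simp [pullback.condition]

lemma refines_of_genBy {P : Sh J → Prop} (hP : GenBy J P) (hPqc : ∀ X, P X → IsQC X) {ι : Type u}
    {G : ι → Sh J} {g : ∀ i, G i ⟶ Y} (hg : Covers g) : Refines g := fun T a hT => by
  obtain ⟨κ, hκ, W, π, hπ, h⟩ := exists_gen_refine hP hg a hT
  exact ⟨κ, hκ, W, π, hπ, fun k => ⟨hPqc _ (h k).1, (h k).2⟩⟩

lemma exists_finite_gen_cover {P : Sh J → Prop} (hP : GenBy J P) {T : Sh J} (hT : IsQC T) :
    ∃ (κ : Type u) (_ : Finite κ) (W : κ → Sh J) (π : ∀ k, W k ⟶ T), Covers π ∧ ∀ k, P (W k) := by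
  obtain ⟨ι, F, π, h₁, h₂⟩ := hP T
  obtain ⟨s, hs⟩ := exists_finite_subcover hT h₂
  exact ⟨s, inferInstance, _, _, hs, fun k => h₁ _⟩

lemma isQCHom_of_refines {ι : Type w} {G : ι → Sh J} {g : ∀ i, G i ⟶ Y} (hg : Refines g) (f : X ⟶ Y)
    (h : ∀ i, IsQCHom (pullback.snd f (g i))) : IsQCHom f := fun T a hT => by
  obtain ⟨κ, _, W, π, hπ, hW⟩ := hg T a hT
  refine isQC_pullback_of_cover_right hπ f a fun k => ?_
  obtain ⟨hk, i, l, hl⟩ := hW k
  exact isQC_of_iso (pullbackLeftPullbackSndIso f (g i) l ≪≫ pullback.congrHom rfl hl) (h i (W k) l hk)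

/-- Quasi-compactness is local on the target, in the form of arbitrary cartesian squares. -/
lemma isQCHom_of_refines' {ι : Type w} {G : ι → Sh J} {g : ∀ i, G i ⟶ Y} (hg : Refines g) (f : X ⟶ Y)
    (h : ∀ i, ∃ (P : Sh J) (p : P ⟶ X) (q : P ⟶ G i), IsPullback p q f (g i) ∧ IsQCHom q) : IsQCHom f :=
  isQCHom_of_refines hg f fun i => by
    obtain ⟨P, p, q, sq, hq⟩ := h i
    rw [← sq.isoPullback_inv_snd]
    exact ((qc J).cancel_left_of_respectsIso _ _).2 hq

lemma isQSHom_of_refines {ι : Type u} {G : ι → Sh J} {g : ∀ i, G i ⟶ Y}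
    (hg : ∀ (Y' : Sh J) (a : Y' ⟶ Y), Refines (fun i => pullback.fst a (g i))) (f : X ⟶ Y)
    (h : ∀ i, IsQSHom (pullback.snd f (g i))) : IsQSHom f := by
  refine isQCHom_of_refines' (hg _ (pullback.fst f f ≫ f)) _ fun i => ?_
  let f' := pullback.snd f (g i)
  let p := pullback.fst f (g i)
  have sq : IsPullback p f' f (g i) := IsPullback.of_hasPullback f (g i)
  let u : pullback.diagonalObj f' ⟶ pullback.diagonalObj f :=
    pullback.map f' f' f f p p (g i) sq.w.symm sq.w.symm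
  have hu₁ : u ≫ pullback.fst f f = pullback.fst f' f' ≫ p := pullback.lift_fst _ _ _
  have hu₂ : u ≫ pullback.snd f f = pullback.snd f' f' ≫ p := pullback.lift_snd _ _ _
  have hu : IsPullback u (pullback.fst f' f' ≫ f') (pullback.fst f f ≫ f) (g i) := by
    have e₀ : IsPullback (pullback.fst f' f') (pullback.snd f' f') f' f' := IsPullback.of_hasPullback _ _
    have e₁ : IsPullback u (pullback.snd f' f') (pullback.snd f f) p :=
      IsPullback.of_right (by simpa [hu₁, sq.w] using e₀.paste_horiz sq) hu₂ (IsPullback.of_hasPullback f f)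
    simpa [pullback.condition, sq.w] using e₁.paste_vert sq
  let t : pullback.diagonalObj f' ≅ pullback (pullback.fst f f ≫ f) (g i) := hu.isoPullback
  refine ⟨_, p, pullback.diagonal f' ≫ t.hom, ?_, ((qc J).cancel_right_of_respectsIso _ _).2 (h i)⟩
  refine IsPullback.of_right (h₁₂ := pullback.snd (pullback.fst f f ≫ f) (g i)) (v₁₃ := g i)
    (h₂₂ := pullback.fst f f ≫ f) ?_ ?_ (IsPullback.of_hasPullback _ _).flip |>.flip
  · simpa [t] using sq.flip
  · apply pullback.hom_ext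
    · simp only [assoc]
      rw [pullback.diagonal_fst, comp_id]
      erw [hu.isoPullback_hom_fst_assoc]
      rw [hu₁, pullback.diagonal_fst_assoc]
    · simp only [assoc]
      rw [pullback.diagonal_snd, comp_id]
      erw [hu.isoPullback_hom_fst_assoc]
      rw [hu₂, pullback.diagonal_snd_assoc]

lemma isQCHom_of_finite_cover_source {κ : Type w} [Finite κ] {G : κ → Sh J} {π : ∀ k, G k ⟶ X}
    (hπ : Covers π) (f : X ⟶ Y) (h : ∀ k, IsQCHom (π k ≫ f)) : IsQCHom f := fun T a hT => by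
  refine isQC_pullback_of_covers hπ (covers_of_iso_mem (π := fun _ : PUnit.{1} => 𝟙 T) ⟨⟩ (𝟙 T) (comp_id _))
    f a fun k _ => ?_
  exact isQC_of_iso (pullback.congrHom rfl (id_comp a).symm) (h k T a hT)

/-- Quasi-compactness of a morphism is tested on a generating class of quasi-compact objects. -/
lemma isQCHom_of_genBy {P : Sh J → Prop} (hP : GenBy J P) (f : X ⟶ Y)
    (h : ∀ (K : Sh J) (s : K ⟶ Y), P K → IsQC (pullback f s)) : IsQCHom f := fun T a hT => by
  obtain ⟨κ, _, W, π, hπ, hW⟩ := exists_finite_gen_cover hP hT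
  exact isQC_pullback_of_cover_right hπ f a fun k => h _ _ (hW k)

lemma isQS_of_genBy {P : Sh J → Prop} (hP : GenBy J P)
    (h : ∀ (K : Sh J) (s : K ⟶ X), P K → IsQCHom s) : IsQS X := isQS_iff.2 fun T a hT => by
  obtain ⟨κ, _, W, π, hπ, hW⟩ := exists_finite_gen_cover hP hT
  exact isQCHom_of_finite_cover_source hπ a fun k => h _ _ (hW k)

lemma isQS_of_genBy_pullbacks {P : Sh J → Prop} (hP : GenBy J P)
    (h : ∀ (K L : Sh J) (a : K ⟶ X) (b : L ⟶ X), P K → P L → IsQC (pullback a b)) : IsQS X :=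
  isQS_of_genBy hP fun K s hK => isQCHom_of_genBy hP s fun L b hL => h K L s b hK hL

/-- An object covered by quasi-separated objects through quasi-compact maps is quasi-separated. -/
lemma isQS_of_qs_cover {ι : Type u} {G : ι → Sh J} {g : ∀ i, G i ⟶ X} (hg : Covers g)
    (hG : ∀ i, IsQS (G i)) (h : ∀ i, IsQCHom (g i)) : IsQS X := fun A B a b hA hB => by
  obtain ⟨κ, _, W, π, hπ, hW⟩ := refines_of_isQCHom hg h A a hA
  refine isQC_pullback_symm (isQC_pullback_of_cover_right hπ b a fun k => ?_)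
  obtain ⟨hk, i, l, hl⟩ := hW k
  exact isQC_of_iso (pullbackLeftPullbackSndIso b (g i) l ≪≫ pullback.congrHom rfl hl)
    (hG i _ _ _ _ (isQC_pullback_symm (h i B b hB)) hk)

/-- Quasi-separatedness of a morphism is local on the source for covers by quasi-compact maps. -/
lemma isQSHom_of_qc_cover_source {ι : Type u} {G : ι → Sh J} {g : ∀ i, G i ⟶ X} (hg : Covers g)
    (hqc : ∀ i, IsQCHom (g i)) (f : X ⟶ Y) (h : ∀ i, IsQSHom (g i ≫ f)) : IsQSHom f := by
  refine isQCHom_of_refines' (refines_of_isQCHom (covers_pullback_map hg hg f f) fun p =>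
    (qc J).pullbackMap (hqc p.1) (hqc p.2) rfl rfl) _ fun p => ?_
  refine ⟨_, _, _, pullback_map_diagonal_isPullback (g p.1) (g p.2) f, ?_⟩
  refine isQCHom_cancel_of_isQSHom (g := pullback.snd (g p.1 ≫ f) (g p.2 ≫ f))
    ((qs J).pullback_snd (g p.1 ≫ f) (g p.2 ≫ f) (h p.1)) ?_
  simp only [pullback.map, comp_id]
  erw [pullback.lift_snd]
  exact (qc J).pullback_snd (g p.1) (g p.2) (hqc p.1)

/-- Criterion for a morphism with quasi-separated source to be quasi-separated. -/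
lemma isQSHom_of_isQS_of_cover {P : Sh J → Prop} (hP : GenBy J P) (hPqc : ∀ K, P K → IsQC K) {ι : Type u}
    {G : ι → Sh J} {g : ∀ i, G i ⟶ X} (hg : Covers g) (hqc : ∀ i, IsQC (G i)) (f : X ⟶ Y)
    (hqs : ∀ i j, IsQS (pullback (g i ≫ f) (g j ≫ f))) (hX : IsQS X) : IsQSHom f := by
  refine isQCHom_of_refines' (refines_of_genBy hP hPqc (covers_pullback_map hg hg f f)) _ fun p => ?_
  exact ⟨_, _, _, pullback_map_diagonal_isPullback (g p.1) (g p.2) f,
    isQCHom_of_isQC_of_isQS _ (hX _ _ _ _ (hqc _) (hqc _)) (hqs _ _)⟩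

/-! ### Coproducts -/

lemma isQCHom_cofan_inj {κ : Type u} {G : κ → Sh J} {c : Cofan G} (hc : IsColimit c) (i : κ) :
    IsQCHom (c.inj i) := fun T a hT => by
  classical
  let m := pullback.snd (c.inj i) a
  have := cofan_mono hc i
  refine isQC_iff.2 fun ι F ρ hρ => ?_
  let F' : ι ⊕ {j // j ≠ i} → Sh J := Sum.elim F fun j => pullback (c.inj j.1) a
  let π : ∀ x, F' x ⟶ T := fun x => match x with
    | Sum.inl k => ρ k ≫ m
    | Sum.inr j => pullback.snd (c.inj j.1) a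
  have hπ : Covers π := fun W p q e =>
    covers_pullback_snd (covers_of_isColimit hc) a W p q fun j => by
      by_cases hj : j = i
      · subst hj
        exact hρ _ _ _ fun k =>
          (assoc _ _ _).symm.trans ((e (Sum.inl k)).trans (assoc _ _ _))
      · exact e (Sum.inr ⟨j, hj⟩)
  obtain ⟨s, hs⟩ := exists_finite_subcover hT hπ
  refine ⟨s.toLeft, fun W p q e => covers_pullback_fst hs m W p q fun ⟨x, hx⟩ => ?_⟩
  rcases x with k | ⟨j, hj⟩
  · have hk : pullback.fst m (ρ k ≫ m) = pullback.snd m (ρ k ≫ m) ≫ ρ k := by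
      rw [← cancel_mono m, pullback.condition, assoc]
    show pullback.fst m (ρ k ≫ m) ≫ p = pullback.fst m (ρ k ≫ m) ≫ q
    rw [hk, assoc, assoc, e ⟨k, Finset.mem_toLeft.2 hx⟩]
  · have : Nonempty (IsInitial (pullback m (pullback.snd (c.inj j) a))) := by
      refine cofan_pieces_disjoint hc (Ne.symm hj) (pullback.fst _ _ ≫ pullback.fst (c.inj i) a)
        (pullback.snd _ _ ≫ pullback.fst (c.inj j) a) (𝟙 _) (𝟙 _) ?_
      simp only [id_comp, assoc, pullback.condition]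
      rw [← assoc, ← assoc (pullback.snd m _)]
      exact congrArg (· ≫ a) pullback.condition
    exact this.some.hom_ext _ _

lemma isQCHom_cofan_inj_fintype {κ : Type} {G : κ → Sh J} {c : Cofan G} (hc : IsColimit c) (i : κ) :
    IsQCHom (c.inj i) :=
  isQCHom_cofan_inj (isColimitUliftCofan hc) ⟨i⟩

lemma cofan_mono_fintype {κ : Type} {G : κ → Sh J} {c : Cofan G} (hc : IsColimit c) (i : κ) :
    Mono (c.inj i) :=
  cofan_mono (isColimitUliftCofan hc) ⟨i⟩

lemma isQC_cofan {κ : Type w} [Finite κ] {G : κ → Sh J} {c : Cofan G} (hc : IsColimit c)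
    (h : ∀ i, IsQC (G i)) : IsQC c.pt :=
  isQC_of_finite_cover (covers_of_isColimit hc) h

lemma isQS_cofan {κ : Type u} {G : κ → Sh J} {c : Cofan G} (hc : IsColimit c) (h : ∀ i, IsQS (G i)) :
    IsQS c.pt :=
  isQS_of_qs_cover (covers_of_isColimit hc) h (isQCHom_cofan_inj hc)

lemma isCoherent_cofan {κ : Type u} [Finite κ] {G : κ → Sh J} {c : Cofan G} (hc : IsColimit c)
    (h : ∀ i, IsCoherent (G i)) : IsCoherent c.pt :=
  ⟨isQC_cofan hc fun i => (h i).1, isQS_cofan hc fun i => (h i).2⟩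

lemma isQSHom_cofan_desc {κ : Type u} {G : κ → Sh J} {c : Cofan G} (hc : IsColimit c) (f : c.pt ⟶ Y)
    (h : ∀ i, IsQSHom (c.inj i ≫ f)) : IsQSHom f :=
  isQSHom_of_qc_cover_source (covers_of_isColimit hc) (isQCHom_cofan_inj hc) f h

/-! ### Algebraic and locally coherent topoi -/

lemma isQS_of_mem {S : Set (Sh J)} (hqc : ∀ K ∈ S, IsQC K) (hgen : IsGenerating S)
    (hpb : ClosedUnderPullbacks S) {K : Sh J} (hK : K ∈ S) : IsQS K :=
  isQS_of_genBy_pullbacks (genBy_of_isGenerating hgen) fun L M a b hL hM => by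
    obtain ⟨P, p, q, hP, sq⟩ := hpb a b hL hM hK
    exact isQC_of_iso sq.isoPullback (hqc P hP)

lemma isQS_pullback_of_mem {S : Set (Sh J)} (hqc : ∀ K ∈ S, IsQC K) (hgen : IsGenerating S)
    (hpb : ClosedUnderPullbacks S) {K L M : Sh J} (a : K ⟶ M) (b : L ⟶ M) (hK : K ∈ S) (hL : L ∈ S)
    (hM : M ∈ S) : IsQS (pullback a b) := by
  obtain ⟨P, p, q, hP, sq⟩ := hpb a b hK hL hM
  exact isQS_of_iso sq.isoPullback.symm (isQS_of_mem hqc hgen hpb hP)

/-- In an algebraic topos every fibre product of two generators is quasi-separated. -/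
lemma isQS_pullback_of_algebraic {S : Set (Sh J)} (hqc : ∀ K ∈ S, IsQC K) (hgen : IsGenerating S)
    (hpb : ClosedUnderPullbacks S) (heq : ClosedUnderEqualizers S) {K L : Sh J} (a : K ⟶ Y) (b : L ⟶ Y)
    (hK : K ∈ S) (hL : L ∈ S) : IsQS (pullback a b) := by
  refine isQS_of_genBy_pullbacks (genBy_of_isGenerating hgen) fun A B x y hA hB => ?_
  obtain ⟨Q, p, q, hQ, sq⟩ := hpb (x ≫ pullback.fst a b) (y ≫ pullback.fst a b) hA hB hK
  obtain ⟨E, e, he, hE, ⟨hlim⟩⟩ := heq (p ≫ x ≫ pullback.snd a b) (q ≫ y ≫ pullback.snd a b) hQ hL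
  have w : (e ≫ p) ≫ x = (e ≫ q) ≫ y := by
    apply pullback.hom_ext
    · simpa using congrArg (e ≫ ·) sq.w
    · simpa using he
  have lifts : ∀ s : PullbackCone x y, ∃ l : s.pt ⟶ E, l ≫ e ≫ p = s.fst ∧ l ≫ e ≫ q = s.snd := fun s => by
    let r := sq.lift s.fst s.snd (by simpa using congrArg (· ≫ pullback.fst a b) s.condition)
    obtain ⟨l, hl⟩ := Fork.IsLimit.lift' hlim r (by
      simpa [r] using congrArg (· ≫ pullback.snd a b) s.condition)
    replace hl : l ≫ e = r := hl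
    exact ⟨l, by rw [← assoc, hl]; exact sq.lift_fst _ _ _, by rw [← assoc, hl]; exact sq.lift_snd _ _ _⟩
  choose l hl₁ hl₂ using lifts
  refine isQC_of_iso (IsPullback.of_isLimit' ⟨w⟩ (PullbackCone.IsLimit.mk _ l hl₁ hl₂ fun s m h₁ h₂ => ?_)).isoPullback
    (hqc E hE)
  refine Fork.IsLimit.hom_ext hlim (show m ≫ e = l s ≫ e from ?_)
  apply sq.hom_ext
  · rw [assoc, assoc]; exact h₁.trans (hl₁ s).symm
  · rw [assoc, assoc]; exact h₂.trans (hl₂ s).symm

lemma hasQCGenerators_of_genBy {P : Sh J → Prop} (hP : GenBy J P) (hPqc : ∀ K, P K → IsQC K) :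
    HasQCGenerators J := fun X => by
  obtain ⟨ι, F, π, h₁, h₂⟩ := hP X
  exact ⟨ι, F, π, fun i => hPqc _ (h₁ i), (covers_iff_epi π).1 h₂⟩

lemma isQSHom_of_isQS_of_algebraic (hE : IsAlgebraic J) (f : X ⟶ Y) (hX : IsQS X) : IsQSHom f := by
  obtain ⟨S, hqc, hgen, hpb, heq⟩ := hE
  obtain ⟨ι, F, π, hF, hπ⟩ := genBy_of_isGenerating hgen X
  exact isQSHom_of_isQS_of_cover (genBy_of_isGenerating hgen) hqc hπ (fun i => hqc _ (hF i)) f
    (fun i j => isQS_pullback_of_algebraic hqc hgen hpb heq _ _ (hF i) (hF j)) hX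

lemma genBy_qc_of_algebraic (hE : IsAlgebraic J) : GenBy J IsQC := by
  obtain ⟨S, hqc, hgen, -, -⟩ := hE
  exact (genBy_of_isGenerating hgen).mono hqc

end Groth.L09.Topos

namespace Groth.L09.Topos

variable {C : Type u} [SmallCategory C] {J : GrothendieckTopology C} {X Y : Sh J}

/-- An object covered by coherent objects with quasi-compact overlaps is quasi-separated. -/
lemma isQS_of_coherent_cover {P : Sh J → Prop} (hP : GenBy J P) (hPqc : ∀ K, P K → IsQC K) {ι : Type u}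
    {G : ι → Sh J} {g : ∀ i, G i ⟶ X} (hg : Covers g) (hG : ∀ i, IsCoherent (G i))
    (h : ∀ i j, IsQC (pullback (g i) (g j))) : IsQS X :=
  isQS_of_qs_cover hg (fun i => (hG i).2) fun i =>
    isQCHom_of_refines (refines_of_genBy hP hPqc hg) _ fun j =>
      isQCHom_of_isQC_of_isQS _ (h i j) (hG j).2

variable {D : Type u} [SmallCategory D] {K : GrothendieckTopology D}

lemma covers_map {F : Sh K ⥤ Sh J} {R : Sh J ⥤ Sh K} (adj : F ⊣ R) {X : Sh K} {ι : Type w} {G : ι → Sh K}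
    {π : ∀ i, G i ⟶ X} (h : Covers π) : Covers (fun i => F.map (π i)) := fun Z a b e => by
  apply (adj.homEquiv X Z).injective
  refine h _ _ _ fun i => ?_
  rw [← adj.homEquiv_naturality_left, ← adj.homEquiv_naturality_left, e i]

lemma isQC_map_of_genBy {F : Sh K ⥤ Sh J} {R : Sh J ⥤ Sh K} (adj : F ⊣ R) {P : Sh K → Prop} (hP : GenBy K P)
    (h : ∀ X, P X → IsQC (F.obj X)) (X : Sh K) (hX : IsQC X) : IsQC (F.obj X) := by
  obtain ⟨κ, _, W, π, hπ, hW⟩ := exists_finite_gen_cover hP hX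
  exact isQC_of_finite_cover (covers_map adj hπ) fun k => h _ (hW k)

lemma isQS_map_of_genBy {F : Sh K ⥤ Sh J} {R : Sh J ⥤ Sh K} (adj : F ⊣ R) [PreservesFiniteLimits F]
    {P : Sh K → Prop} (hP : GenBy K P) (hPqc : ∀ X, P X → IsQC X) (hF : ∀ X, P X → IsCoherent (F.obj X))
    {Q : Sh J → Prop} (hQ : GenBy J Q) (hQqc : ∀ X, Q X → IsQC X) (X : Sh K) (hX : IsQS X) :
    IsQS (F.obj X) := by
  obtain ⟨ι, G, π, hG, hπ⟩ := hP X
  refine isQS_of_coherent_cover hQ hQqc (covers_map adj hπ) (fun i => hF _ (hG i)) fun i j => ?_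
  exact isQC_of_iso ((IsPullback.of_hasPullback (π i) (π j)).map F).isoPullback
    (isQC_map_of_genBy adj hP (fun Y hY => (hF Y hY).1) _ (hX _ _ _ _ (hPqc _ (hG i)) (hPqc _ (hG j))))

end Groth.L09.Topos
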