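import Mathlib.AlgebraicTopology.SimplicialSet.Homotopy
import Mathlib.AlgebraicTopology.SimplicialSet.CategoryWithFibrations

/-!
# Trivial fibrations have sections which are homotopy inverses
-/

set_option autoImplicit false
set_option backward.isDefEq.respectTransparency.types false
set_option backward.isDefEq.respectTransparency false

universe u

open CategoryTheory Opposite Simplicial MonoidalCategory CartesianMonoidalCategory Limits SSet

namespace Groth.L09.TrivFib

variable {X Y : SSet.{u}}

/-- Two disjoint copies of a simplicial set. -/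
def dbl (X : SSet.{u}) : SSet.{u} where
  obj k := X.obj k ⊕ X.obj k
  map φ := TypeCat.ofHom (Sum.map (X.map φ) (X.map φ))
  map_id k := by ext (x | x) <;> simp
  map_comp φ ψ := by ext (x | x) <;> simp

/-- The map from two copies. -/
def dblDesc (a b : X ⟶ Y) : dbl X ⟶ Y where
  app k := TypeCat.ofHom (Sum.elim (a.app k) (b.app k))
  naturality k l φ := by
    ext (x | x)
    · exact NatTrans.naturality_apply a φ x
    · exact NatTrans.naturality_apply b φ x

theorem exists_sect (f : X ⟶ Y) (hf : (MorphismProperty.monomorphisms SSet.{u}).rlp f) :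
    ∃ g : Y ⟶ X, g ≫ f = 𝟙 Y := by
  let E : SSet.{u} := ((⊥ : Y.Subcomplex) : SSet.{u})
  have := hf ((⊥ : Y.Subcomplex).ι) (MorphismProperty.monomorphisms.infer_property _)
  have sq : CommSq (Subcomplex.isInitialBot.to X) (⊥ : Y.Subcomplex).ι f (𝟙 Y) :=
    ⟨Subcomplex.isInitialBot.hom_ext _ _⟩
  exact ⟨sq.lift, sq.fac_right⟩

theorem nonempty_homotopy (f : X ⟶ Y) (hf : (MorphismProperty.monomorphisms SSet.{u}).rlp f)
    (a b : X ⟶ X) (e : a ≫ f = b ≫ f) : Nonempty (SSet.Homotopy a b) := by
  haveI : Mono (dblDesc (ι₀ (X := X)) ι₁) := by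
    rw [NatTrans.mono_iff_mono_app]
    intro ⟨k⟩
    obtain ⟨k⟩ := k
    rw [mono_iff_injective]
    have h01 : ∀ x x' : X _⦋k⦌, ι₀.app _ x ≠ ι₁.app _ x' := fun x x' h => by
      have h2 : (0 : Fin 2) = 1 := (ι₀_app_snd_apply x 0).symm.trans
        ((congrArg (fun z => z.2 0) h).trans (ι₁_app_snd_apply x' 0))
      exact absurd h2 (by decide)
    rintro (x | x) (x' | x') h
    · exact congrArg Sum.inl (congrArg Prod.fst h)
    · exact absurd h (h01 x x')
    · exact absurd h.symm (h01 x' x)
    · exact congrArg Sum.inr (congrArg Prod.fst h)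
  have := hf _ (MorphismProperty.monomorphisms.infer_property (dblDesc (ι₀ (X := X)) ι₁))
  have sq : CommSq (dblDesc a b) (dblDesc (ι₀ (X := X)) ι₁) f (fst X Δ[1] ≫ a ≫ f) :=
    ⟨by
      ext k (x | x)
      · rfl
      · exact (ConcreteCategory.congr_hom (NatTrans.congr_app e k) x).symm⟩
  have h := sq.fac_left
  refine ⟨{ h := sq.lift, h₀ := ?_, h₁ := ?_, rel := ?_ }⟩
  · ext k x
    exact congrArg (fun φ : dbl X ⟶ X => φ.app k (show (dbl X).obj k from Sum.inl x)) h
  · ext k x
    exact congrArg (fun φ : dbl X ⟶ X => φ.app k (show (dbl X).obj k from Sum.inr x)) h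
  · ext k ⟨⟨x, hx⟩, _⟩
    exact hx.elim

end Groth.L09.TrivFib
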