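import Groth.Agent.L09.CechBi
import Groth.Agent.S13517
import Mathlib.CategoryTheory.Limits.Shapes.Pullback.IsPullback.Basic

/-!
Maps universally of cohomological descent.
-/

set_option autoImplicit false
set_option linter.unusedSectionVars false
set_option backward.isDefEq.respectTransparency false
set_option backward.isDefEq.respectTransparency.types false
universe u
open CategoryTheory CategoryTheory.Limits Opposite

namespace Groth.L09.UnivDescent

variable {X Y Z S P : TopCat.{u}}

theorem isCohDescentMap_of_arrowIso {f : X ⟶ S} {f' : Y ⟶ Z} (e : Arrow.mk f ≅ Arrow.mk f')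
    (h : FibDesc.IsCohDescentMap f) : FibDesc.IsCohDescentMap f' :=
  CechBi.isCohDescentTop_of_iso
    (AugmentedSimplexCategory.equivAugmentedSimplicialObject.inverse.mapIso
      (SimplicialObject.augmentedCechNerve.mapIso e)) h

theorem isCohDescentMap_of_isPullback {f : X ⟶ S} (hf : FibDesc.IsUnivCohDescentMap f)
    {g : Z ⟶ S} {fst : P ⟶ X} {snd : P ⟶ Z} (sq : IsPullback fst snd f g) : FibDesc.IsCohDescentMap snd :=
  isCohDescentMap_of_arrowIso
    (Arrow.isoMk sq.isoPullback.symm (Iso.refl Z) (by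
      show sq.isoPullback.inv ≫ snd = pullback.snd f g ≫ 𝟙 _
      rw [sq.isoPullback_inv_snd, Category.comp_id]))
    (hf Z g)

theorem isUnivCohDescentMap_of_isPullback {f : X ⟶ S} (hf : FibDesc.IsUnivCohDescentMap f)
    {g : Z ⟶ S} {fst : P ⟶ X} {snd : P ⟶ Z} (sq : IsPullback fst snd f g) : FibDesc.IsUnivCohDescentMap snd :=
  fun _ h => isCohDescentMap_of_isPullback hf ((IsPullback.of_hasPullback snd h).paste_horiz sq)

/-- Universal descent can be checked after a base change universally of descent. -/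
theorem of_baseChange {S' : TopCat.{u}} {f : X ⟶ S} {g : S' ⟶ S} (hg : FibDesc.IsUnivCohDescentMap g)
    (hf : FibDesc.IsUnivCohDescentMap (pullback.snd f g)) : FibDesc.IsUnivCohDescentMap f := by
  intro T h
  refine CechBi.isCohDescentMap_of_baseChange (pullback.snd f h) (pullback.snd g h)
    (isUnivCohDescentMap_of_isPullback hg (IsPullback.of_hasPullback g h)) fun n => ?_
  let b := CechBi.aug (pullback.snd g h) ((FibDesc.toAug SimplexCategory).obj n)
  let π₀ := WidePullback.π (fun _ : Fin (n.unop.len + 1) => (Arrow.mk (pullback.snd g h)).hom) (0 : Fin (n.unop.len + 1))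
  have e : CechBi.p (op (WithInitial.of n.unop) : (WithInitial SimplexCategory)ᵒᵖ) =
      (WithInitial.starInitial.to (WithInitial.of n.unop)).op := (SpaceSite.subsingleton_toBot _).elim _ _
  have hb : b = π₀ ≫ pullback.snd g h := by
    refine Eq.trans ?_ (WidePullback.π_arrow (fun _ : Fin (n.unop.len + 1) => (Arrow.mk (pullback.snd g h)).hom)
      (0 : Fin (n.unop.len + 1))).symm
    show (FibDesc.cechAug (pullback.snd g h)).map
      (CechBi.p (op (WithInitial.of n.unop) : (WithInitial SimplexCategory)ᵒᵖ)) = _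
    rw [e]
    rfl
  have hb' : b ≫ h = (π₀ ≫ pullback.fst g h) ≫ g := by
    refine (congrArg (· ≫ h) hb).trans ?_
    exact (Category.assoc _ _ _).trans ((congrArg (π₀ ≫ ·) pullback.condition.symm).trans (Category.assoc _ _ _).symm)
  have sq : IsPullback (pullback.fst (pullback.snd f h) b ≫ pullback.fst f h) (pullback.snd (pullback.snd f h) b) f
      ((π₀ ≫ pullback.fst g h) ≫ g) := by
    rw [← hb']
    exact (IsPullback.of_hasPullback (pullback.snd f h) b).paste_horiz (IsPullback.of_hasPullback f h)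
  have sq' := IsPullback.of_right
    (h₁₁ := pullback.lift (pullback.fst (pullback.snd f h) b ≫ pullback.fst f h)
      (pullback.snd (pullback.snd f h) b ≫ (π₀ ≫ pullback.fst g h)) (sq.w.trans (Category.assoc _ _ _).symm))
    (v₁₂ := pullback.snd f g) (h₁₂ := pullback.fst f g) (v₁₃ := f) (h₂₂ := g) (h₂₁ := π₀ ≫ pullback.fst g h)
    (v₁₁ := pullback.snd (pullback.snd f h) b)
    (by rw [pullback.lift_fst]; exact sq) (pullback.lift_snd _ _ _) (IsPullback.of_hasPullback f g)
  exact isCohDescentMap_of_isPullback hf sq'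

theorem baseChange_iff {S' : TopCat.{u}} {f : X ⟶ S} {g : S' ⟶ S} (hg : FibDesc.IsUnivCohDescentMap g) :
    FibDesc.IsUnivCohDescentMap f ↔ FibDesc.IsUnivCohDescentMap (pullback.snd f g) :=
  ⟨fun hf => isUnivCohDescentMap_of_isPullback hf (IsPullback.of_hasPullback f g), of_baseChange hg⟩

theorem of_comp {f : X ⟶ Y} {g : Y ⟶ S} (h : FibDesc.IsUnivCohDescentMap (f ≫ g)) :
    FibDesc.IsUnivCohDescentMap g :=
  of_baseChange h (Groth.Agent.S13517.result (pullback.snd g (f ≫ g))
    (pullback.lift f (𝟙 X) (Category.id_comp _).symm) (pullback.lift_snd _ _ _))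

theorem comp {f : X ⟶ Y} {g : Y ⟶ S} (hf : FibDesc.IsUnivCohDescentMap f) (hg : FibDesc.IsUnivCohDescentMap g) :
    FibDesc.IsUnivCohDescentMap (f ≫ g) := by
  refine of_baseChange hg (of_comp (f := pullback.lift (𝟙 X) f (Category.id_comp _)) ?_)
  rw [pullback.lift_snd]
  exact hf

theorem pullback_map {X' Y' : TopCat.{u}} (pX : X' ⟶ S) (pY : Y' ⟶ S) (f : X ⟶ X') (g : Y ⟶ Y')
    (hf : FibDesc.IsUnivCohDescentMap f) (hg : FibDesc.IsUnivCohDescentMap g) :
    FibDesc.IsUnivCohDescentMap
      (pullback.map (f ≫ pX) (g ≫ pY) pX pY f g (𝟙 S) (Category.comp_id _) (Category.comp_id _)) := by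
  let m₁ : pullback (f ≫ pX) (g ≫ pY) ⟶ pullback pX (g ≫ pY) :=
    pullback.lift (pullback.fst _ _ ≫ f) (pullback.snd _ _) ((Category.assoc _ _ _).trans pullback.condition)
  let m₂ : pullback pX (g ≫ pY) ⟶ pullback pX pY :=
    pullback.lift (pullback.fst _ _) (pullback.snd _ _ ≫ g) (pullback.condition.trans (Category.assoc _ _ _).symm)
  have e : pullback.map (f ≫ pX) (g ≫ pY) pX pY f g (𝟙 S) (Category.comp_id _) (Category.comp_id _) = m₁ ≫ m₂ := by
    apply pullback.hom_ext <;> simp [m₁, m₂]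
  rw [e]
  refine comp ?_ ?_
  · refine isUnivCohDescentMap_of_isPullback (fst := pullback.fst (f ≫ pX) (g ≫ pY)) (g := pullback.fst pX (g ≫ pY)) hf ?_
    have h0 : IsPullback (pullback.snd (f ≫ pX) (g ≫ pY)) (pullback.fst (f ≫ pX) (g ≫ pY)) (g ≫ pY) (f ≫ pX) :=
      (IsPullback.of_hasPullback _ _).flip
    exact IsPullback.of_right (h₁₁ := m₁) (h₁₂ := pullback.snd pX (g ≫ pY)) (h₂₁ := f) (h₂₂ := pX)
      (v₁₂ := pullback.fst pX (g ≫ pY)) (v₁₃ := g ≫ pY) (by simpa [m₁] using h0) (pullback.lift_fst _ _ _)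
      (IsPullback.of_hasPullback pX (g ≫ pY)).flip |>.flip
  · refine isUnivCohDescentMap_of_isPullback (fst := pullback.snd pX (g ≫ pY)) (g := pullback.snd pX pY) hg ?_
    exact IsPullback.of_right (h₁₁ := m₂) (h₁₂ := pullback.fst pX pY) (h₂₁ := g) (h₂₂ := pY)
      (v₁₂ := pullback.snd pX pY) (v₁₃ := pX) (by simpa [m₂] using IsPullback.of_hasPullback pX (g ≫ pY))
      (pullback.lift_snd _ _ _) (IsPullback.of_hasPullback pX pY) |>.flip

end Groth.L09.UnivDescent
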