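import Groth.Agent.S12812
import Groth.Prelude.Def_W4stkalgstUpp
import Groth.Prelude.Def_FibCat2
import Mathlib.CategoryTheory.Localization.CalculusOfFractions
import Mathlib.CategoryTheory.FiberedCategory.Fibered

/-!
`u_p 𝒮` is fibred over `D`: morphisms of `u_pp 𝒮` with invertible top component become strongly
cartesian in the localisation at `uppR`.
-/

universe v₃ u₃ v₂ u₂ v u

open CategoryTheory Category Functor Limits

namespace Groth.L09.UppFib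

variable {C : Type u} [Category.{v} C] {D : Type u₂} [Category.{v₂} D] (u : C ⥤ D)
  (𝒮 : BasedCategory.{v₃, u₃} C)

abbrev L : Stk.UppObj u 𝒮 ⥤ (Stk.uppR u 𝒮).Localization := (Stk.uppR u 𝒮).Q

/-- the structure functor of `u_p 𝒮`, seen on Mathlib's localisation. -/
noncomputable abbrev P : (Stk.uppR u 𝒮).Localization ⥤ D :=
  Localization.Construction.lift (Stk.UppObj.forget u 𝒮) (Stk.uppR_isInvertedBy u 𝒮)

variable {u 𝒮}

theorem p_obj (a : Stk.UppObj u 𝒮) : (P u 𝒮).obj ((L u 𝒮).obj a) = a.V := rfl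

theorem p_map {a b : Stk.UppObj u 𝒮} (f : a ⟶ b) : (P u 𝒮).map ((L u 𝒮).map f) = f.bot :=
  (Functor.congr_hom (Localization.Construction.fac (Stk.UppObj.forget u 𝒮)
    (Stk.uppR_isInvertedBy u 𝒮)) f).trans ((id_comp _).trans (comp_id _))

theorem exists_obj (e : (Stk.uppR u 𝒮).Localization) : ∃ a, (L u 𝒮).obj a = e :=
  ⟨(Localization.Construction.objEquiv _).symm e, (Localization.Construction.objEquiv _).apply_symm_apply e⟩

variable [(Stk.uppR u 𝒮).HasRightCalculusOfFractions]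

theorem exists_frac {a b : Stk.UppObj u 𝒮} (h : (L u 𝒮).obj a ⟶ (L u 𝒮).obj b) :
    ∃ (c : Stk.UppObj u 𝒮) (s : c ⟶ a) (f : c ⟶ b), Stk.uppR u 𝒮 s ∧
      (L u 𝒮).map s ≫ h = (L u 𝒮).map f := by
  obtain ⟨φ, rfl⟩ := Localization.exists_rightFraction (L u 𝒮) (Stk.uppR u 𝒮) h
  exact ⟨_, φ.s, φ.f, φ.hs, φ.map_s_comp_map _ _⟩

theorem key_ext {a b c : Stk.UppObj u 𝒮} (σ : b ⟶ a) [IsIso σ.top]
    (χ₁ χ₂ : (L u 𝒮).obj c ⟶ (L u 𝒮).obj b)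
    (hp : (P u 𝒮).map χ₁ = (P u 𝒮).map χ₂)
    (hσ : χ₁ ≫ (L u 𝒮).map σ = χ₂ ≫ (L u 𝒮).map σ) : χ₁ = χ₂ := by
  obtain ⟨c₁, s₁, f₁, hs₁, e₁⟩ := exists_frac χ₁
  obtain ⟨c₂, s₂, f₂, hs₂, e₂⟩ := exists_frac ((L u 𝒮).map s₁ ≫ χ₂)
  have hL : (L u 𝒮).map (s₂ ≫ f₁ ≫ σ) = (L u 𝒮).map (f₂ ≫ σ) := by
    rw [Functor.map_comp, Functor.map_comp, Functor.map_comp, ← e₁, ← e₂]
    simp only [assoc, hσ]
  have hb : (s₂ ≫ f₁).bot = f₂.bot := by
    rw [← p_map (s₂ ≫ f₁), ← p_map f₂, ← e₂, Functor.map_comp (L u 𝒮), ← e₁,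
      Functor.map_comp, Functor.map_comp, Functor.map_comp, Functor.map_comp, hp]
  obtain ⟨d, t, ht, e⟩ := (MorphismProperty.map_eq_iff_precomp (L u 𝒮) (Stk.uppR u 𝒮) _ _).mp hL
  have heq : t ≫ s₂ ≫ f₁ = t ≫ f₂ := by
    apply Stk.UppObj.hom_ext
    · have := congrArg Stk.UppObj.Hom.top e
      simp only [Stk.UppObj.comp_top] at this ⊢
      simp only [← assoc] at this ⊢
      exact (cancel_mono σ.top).mp this
    · simp only [Stk.UppObj.comp_bot] at hb ⊢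
      rw [hb]
  have hL' : (L u 𝒮).map (s₂ ≫ f₁) = (L u 𝒮).map f₂ :=
    (MorphismProperty.map_eq_iff_precomp (L u 𝒮) (Stk.uppR u 𝒮) _ _).mpr ⟨d, t, ht, heq⟩
  have := Localization.inverts (L u 𝒮) (Stk.uppR u 𝒮) _ hs₁
  have := Localization.inverts (L u 𝒮) (Stk.uppR u 𝒮) _ hs₂
  rw [Functor.map_comp, ← e₁, ← e₂, cancel_epi, cancel_epi] at hL'
  exact hL'

theorem key_exists {a b c : Stk.UppObj u 𝒮} (σ : b ⟶ a) [IsIso σ.top] (k : c.V ⟶ b.V)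
    (h : (L u 𝒮).obj c ⟶ (L u 𝒮).obj a) (hh : (P u 𝒮).map h = k ≫ σ.bot) :
    ∃ χ : (L u 𝒮).obj c ⟶ (L u 𝒮).obj b,
      (P u 𝒮).map χ = k ∧ χ ≫ (L u 𝒮).map σ = h := by
  obtain ⟨c', s, f, hs, e⟩ := exists_frac h
  have hf : f.bot = s.bot ≫ k ≫ σ.bot := by
    rw [← p_map f, ← e, Functor.map_comp, hh, p_map]
    rfl
  let f' : c' ⟶ b := ⟨f.top ≫ inv σ.top, s.bot ≫ k, by
    rw [← cancel_mono (u.map (𝒮.p.map σ.top))]
    rw [assoc, ← u.map_comp, ← 𝒮.p.map_comp, assoc, IsIso.inv_hom_id, comp_id, assoc, σ.w, f.w, hf]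
    simp⟩
  have hf' : f' ≫ σ = f := by
    apply Stk.UppObj.hom_ext
    · simp [f']
    · simp [f', hf]
  have := Localization.inverts (L u 𝒮) (Stk.uppR u 𝒮) _ hs
  have := hs.2
  refine ⟨inv ((L u 𝒮).map s) ≫ (L u 𝒮).map f', ?_, ?_⟩
  · have h1 : (P u 𝒮).map ((L u 𝒮).map s ≫ inv ((L u 𝒮).map s) ≫ (L u 𝒮).map f') =
        f'.bot := by
      rw [IsIso.hom_inv_id_assoc]; exact p_map f'
    rw [Functor.map_comp, p_map] at h1
    exact (cancel_epi s.bot).mp h1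
  · rw [assoc, ← Functor.map_comp, hf', ← e, IsIso.inv_hom_id_assoc]

theorem isStronglyCartesian_map {a b : Stk.UppObj u 𝒮} (σ : b ⟶ a) [IsIso σ.top] :
    (P u 𝒮).IsStronglyCartesian σ.bot ((L u 𝒮).map σ) := by
  have hlift : (P u 𝒮).IsHomLift σ.bot ((L u 𝒮).map σ) := by
    rw [← p_map σ]; exact IsHomLift.map _ _
  constructor
  intro e g φ' hφ'
  obtain ⟨c, rfl⟩ := exists_obj e
  have hh : (P u 𝒮).map φ' = g ≫ σ.bot := by
    rw [IsHomLift.fac' (P u 𝒮) (g ≫ σ.bot) φ']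
    exact (id_comp _).trans (comp_id _)
  obtain ⟨χ, h₁, h₂⟩ := key_exists (c := c) σ g φ' hh
  refine ⟨χ, ⟨by rw [← h₁]; exact IsHomLift.map _ _, h₂⟩, ?_⟩
  rintro χ' ⟨hχ', h'⟩
  refine key_ext σ χ' χ ?_ (h'.trans h₂.symm)
  rw [h₁, IsHomLift.fac' (P u 𝒮) g χ']
  exact (id_comp _).trans (comp_id _)

theorem isFibered : (P u 𝒮).IsFibered := by
  refine IsFibered.of_exists_isStronglyCartesian fun e R g => ?_
  obtain ⟨a, rfl⟩ := exists_obj e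
  let g' : R ⟶ a.V := g
  let b : Stk.UppObj u 𝒮 := ⟨a.x, R, g' ≫ a.φ⟩
  let σ : b ⟶ a := ⟨𝟙 a.x, g', by simp [b]⟩
  have : IsIso σ.top := inferInstanceAs (IsIso (𝟙 a.x))
  exact ⟨_, _, isStronglyCartesian_map σ⟩

theorem isStronglyCartesian_of_fibGrpd (h𝒮 : FibCat.IsFibGrpd 𝒮.p) {e' e : (Stk.uppR u 𝒮).Localization}
    (h : e' ⟶ e) : (P u 𝒮).IsStronglyCartesian ((P u 𝒮).map h) h := by
  obtain ⟨a, rfl⟩ := exists_obj e
  obtain ⟨c, rfl⟩ := exists_obj e'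
  obtain ⟨c', s, f, hs, he⟩ := exists_frac h
  let b : Stk.UppObj u 𝒮 := ⟨a.x, c'.V, f.bot ≫ a.φ⟩
  let σ : b ⟶ a := ⟨𝟙 a.x, f.bot, by simp [b]⟩
  let f' : c' ⟶ b := ⟨f.top, 𝟙 c'.V, by simp [b, f.w]⟩
  have hf : f = f' ≫ σ := Stk.UppObj.hom_ext (comp_id f.top).symm (id_comp f.bot).symm
  have hf' : Stk.uppR u 𝒮 f' := ⟨h𝒮.isStronglyCartesian f.top, inferInstanceAs (IsIso (𝟙 c'.V))⟩
  have := Localization.inverts (L u 𝒮) (Stk.uppR u 𝒮) _ hs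
  have := Localization.inverts (L u 𝒮) (Stk.uppR u 𝒮) _ hf'
  have hh : h = (inv ((L u 𝒮).map s) ≫ (L u 𝒮).map f') ≫ (L u 𝒮).map σ := by
    rw [assoc, ← Functor.map_comp, ← hf, ← he, IsIso.inv_hom_id_assoc]
  have : IsIso σ.top := inferInstanceAs (IsIso (𝟙 a.x))
  have := isStronglyCartesian_map σ
  let i := inv ((L u 𝒮).map s) ≫ (L u 𝒮).map f'
  have : (P u 𝒮).IsHomLift ((P u 𝒮).map i) i := IsHomLift.map _ _
  have : (P u 𝒮).IsStronglyCartesian ((P u 𝒮).map i) i :=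
    IsStronglyCartesian.of_isIso _ _ _
  subst hh
  rw [Functor.map_comp, p_map σ]
  exact @IsStronglyCartesian.comp _ _ _ _ _ _ _ _ _ _ _ _ _ _ _ this (isStronglyCartesian_map σ)

theorem isFibGrpd (h𝒮 : FibCat.IsFibGrpd 𝒮.p) : FibCat.IsFibGrpd (P u 𝒮) where
  exists_lift := by
    intro x V g
    have := isFibered (u := u) (𝒮 := 𝒮)
    obtain ⟨b, φ, hφ⟩ := IsPreFibered.exists_isCartesian (P u 𝒮) rfl g
    exact ⟨b, φ, hφ.toIsHomLift⟩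
  isStronglyCartesian := fun h => isStronglyCartesian_of_fibGrpd h𝒮 h

end Groth.L09.UppFib
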